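import Mathlib
import Cfsg.Agent.Lib.Helper6.NilExt3
import Cfsg.Agent.Lib.Helper6.BrConj
import Cfsg.Agent.Lib.Helper6.BrPair5

/-!
# Nilpotent blocks and extensions by `p`-groups: going up

If `N ⊴ G` has `p`-power index, `c` is a `G`-stable nilpotent block of `N` and `B` is the block of
`G` with the same idempotent, then `B` is nilpotent.
-/

set_option autoImplicit false
set_option linter.unusedSectionVars false
set_option linter.style.haveILetI false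
open Cfsg

namespace Cfsg.Agent.Lib.Helper6.NilExt

open Cfsg.Agent.Lib.Helper6
open scoped ComplexConjugate

section up

variable {G : Type*} [Group G] [Fintype G] [DecidableEq G]
variable {p : ℕ} {M : Ideal Cfsg.AlgInt}

/-- an element normalizing `Q` normalizes `Q ⊓ N` for normal `N` -/
theorem mem_normalizer_inf_normal (N : Subgroup G) [hN : N.Normal] (Q : Subgroup G) {g : G}
    (hg : g ∈ Subgroup.normalizer (Q : Set G)) :
    g ∈ Subgroup.normalizer ((Q ⊓ N : Subgroup G) : Set G) := by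
  rw [Subgroup.mem_normalizer_iff] at hg ⊢
  intro h
  rw [Subgroup.mem_inf, Subgroup.mem_inf, ← hg h]
  constructor
  · rintro ⟨h1, h2⟩
    exact ⟨h1, hN.conj_mem h h2 g⟩
  · rintro ⟨h1, h2⟩
    refine ⟨h1, ?_⟩
    have := hN.conj_mem _ h2 g⁻¹
    simpa [mul_assoc] using this

theorem exists_mul_pow (C : Subgroup G) (x : G) (hx : x ∈ Subgroup.normalizer (C : Set G))
    (g : G) (hg : g ∈ C) (j : ℕ) : ∃ c ∈ C, (g * x) ^ j = c * x ^ j := by
  induction j with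
  | zero => exact ⟨1, C.one_mem, by simp⟩
  | succ j ih =>
    obtain ⟨c, hc, h⟩ := ih
    refine ⟨c * (x ^ j * g * (x ^ j)⁻¹), C.mul_mem hc ?_, ?_⟩
    · have hxj : x ^ j ∈ Subgroup.normalizer (C : Set G) := Subgroup.pow_mem _ hx j
      exact (Subgroup.mem_normalizer_iff.mp hxj g).mp hg
    · rw [pow_succ, h, pow_succ]
      group

theorem exists_good_exponent (hp : p.Prime) (t : G) (r : ℕ) (hr : 0 < r) (hpr : ¬ p ∣ r) :
    ∃ k j : ℕ, k = 1 + r * j ∧ ¬ p ∣ orderOf (t ^ k) := by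
  have ho : orderOf t ≠ 0 := (orderOf_pos t).ne'
  have hPm := Nat.ordProj_mul_ordCompl_eq_self (orderOf t) p
  have hm := Nat.not_dvd_ordCompl hp ho
  have hcop : (p ^ (orderOf t).factorization p).Coprime r :=
    Nat.Coprime.pow_left _ ((Nat.Prime.coprime_iff_not_dvd hp).mpr hpr)
  have hmod := Nat.ModEq.pow_totient hcop
  have hk1 : 1 ≤ (p ^ (orderOf t).factorization p) ^ r.totient :=
    Nat.one_le_pow _ _ (pow_pos hp.pos _)
  have hdvd : r ∣ (p ^ (orderOf t).factorization p) ^ r.totient - 1 :=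
    (Nat.modEq_iff_dvd' hk1).mp hmod.symm
  obtain ⟨j, hj⟩ := hdvd
  refine ⟨(p ^ (orderOf t).factorization p) ^ r.totient, j, by omega, ?_⟩
  have hPk : p ^ (orderOf t).factorization p ∣ (p ^ (orderOf t).factorization p) ^ r.totient :=
    dvd_pow_self _ (Nat.totient_pos.mpr hr).ne'
  have h1 : (t ^ (p ^ (orderOf t).factorization p) ^ r.totient)
      ^ (orderOf t / p ^ (orderOf t).factorization p) = 1 := by
    rw [← pow_mul]
    apply orderOf_dvd_iff_pow_eq_one.mp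
    conv_lhs => rw [← hPm]
    exact Nat.mul_dvd_mul hPk (dvd_refl _)
  intro hdiv
  exact hm (hdiv.trans (orderOf_dvd_of_pow_eq_one h1))

/-- a `p`-regular element of `N` normalizing the `p`-subgroup `Q` and centralizing `Q ⊓ N`
centralizes `Q` -/
theorem mem_centralizer_of_inf (hp : p.Prime) (N : Subgroup G) [hN : N.Normal] (Q : Subgroup G)
    (hQp : IsPGroup p Q) (x : G) (hxN : x ∈ N) (hxQ : x ∈ Subgroup.normalizer (Q : Set G))
    (hreg : ¬ p ∣ orderOf x)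
    (hcen : x ∈ Subgroup.centralizer ((Q ⊓ N : Subgroup G) : Set G)) :
    x ∈ Subgroup.centralizer (Q : Set G) := by
  rw [Subgroup.mem_centralizer_iff]
  intro q hq
  have hz1 : q⁻¹ * (x * q * x⁻¹) ∈ Q :=
    Q.mul_mem (Q.inv_mem hq) ((Subgroup.mem_normalizer_iff.mp hxQ q).mp hq)
  have hz2 : q⁻¹ * (x * q * x⁻¹) ∈ N := by
    have h1 : q⁻¹ * x * q⁻¹⁻¹ ∈ N := hN.conj_mem x hxN q⁻¹
    have := N.mul_mem h1 (N.inv_mem hxN)
    simpa [mul_assoc] using this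
  obtain ⟨z, hz⟩ : ∃ z : G, z = q⁻¹ * (x * q * x⁻¹) := ⟨_, rfl⟩
  rw [← hz] at hz1 hz2
  have hzx : z * x = x * z :=
    (Subgroup.mem_centralizer_iff.mp hcen) z (Subgroup.mem_inf.mpr ⟨hz1, hz2⟩)
  have hxq : x * q * x⁻¹ = q * z := by
    rw [hz]
    group
  have hpow : ∀ j : ℕ, x ^ j * q * (x ^ j)⁻¹ = q * z ^ j := by
    intro j
    induction j with
    | zero => simp
    | succ j ih =>
      have hc : x * z ^ j * x⁻¹ = z ^ j := by
        have h1 : Commute x z := hzx.symm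
        have h2 := (h1.pow_right j).eq
        rw [h2]
        group
      calc x ^ (j + 1) * q * (x ^ (j + 1))⁻¹ = x * (x ^ j * q * (x ^ j)⁻¹) * x⁻¹ := by
            rw [pow_succ']
            group
        _ = x * (q * z ^ j) * x⁻¹ := by rw [ih]
        _ = (x * q * x⁻¹) * (x * z ^ j * x⁻¹) := by group
        _ = q * z ^ (j + 1) := by rw [hxq, hc, pow_succ', mul_assoc]
  have h1 := hpow (orderOf x)
  rw [pow_orderOf_eq_one, inv_one, one_mul, mul_one] at h1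
  have hz1' : z ^ orderOf x = 1 := by
    have h2 : q * z ^ orderOf x = q * 1 := by rw [mul_one]; exact h1.symm
    exact mul_left_cancel h2
  obtain ⟨k, hk⟩ := hQp ⟨z, hz1⟩
  have hzk : z ^ p ^ k = 1 := by
    have := congrArg Subtype.val hk
    simpa using this
  have hd1 : orderOf z ∣ orderOf x := orderOf_dvd_of_pow_eq_one hz1'
  have hd2 : orderOf z ∣ p ^ k := orderOf_dvd_of_pow_eq_one hzk
  have hcop : Nat.Coprime (orderOf x) (p ^ k) :=
    Nat.Coprime.pow_right k ((Nat.Prime.coprime_iff_not_dvd hp).mpr hreg).symm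
  have h1z : orderOf z = 1 := Nat.eq_one_of_dvd_coprimes hcop hd1 hd2
  have hz0 : z = 1 := orderOf_eq_one_iff.mp h1z
  rw [hz0, mul_one] at hxq
  calc q * x = (x * q * x⁻¹) * x := by rw [hxq]
    _ = x * q := by group

theorem core_up (hM : Cfsg.IsPModular p M) [Fact p.Prime] (N : Subgroup G) [hN : N.Normal]
    [Fintype N] (hidx : ∃ k : ℕ, N.index = p ^ k) (c : Set (Cfsg.IrrCharacter N))
    (hc : Cfsg.IsPBlock M c) (hst : GStable N hN c) (B : Set (Cfsg.IrrCharacter G))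
    (hB : Cfsg.IsPBlock M B)
    (hBc : ∀ g : G, Cfsg.blockCoeff B g = Cfsg.subgroupBlockCoeff N c g)
    (hnil : Cfsg.IsNilpotentBlock p M c) (Q : Subgroup G)
    (e : Set (Cfsg.IrrCharacter (Subgroup.centralizer (Q : Set G))))
    (hpair : Cfsg.IsBrauerPairOf p M B Q e) (x : G)
    (hx : x ∈ Subgroup.normalizer (Q : Set G))
    (hstx : Cfsg.StabilizesBlock (Subgroup.centralizer (Q : Set G)) e x)
    (hreg : Cfsg.IsPRegular p x) : x ∈ Subgroup.centralizer (Q : Set G) := by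
  classical
  have hp := hM.1
  have hxN : x ∈ N := mem_of_pRegular_of_index N hp hidx x hreg
  have hQp : IsPGroup p Q := hpair.1.1
  haveI : Fintype (Subgroup.centralizer (Q : Set G)) := Fintype.ofFinite _
  haveI : Fintype (Subgroup.centralizer ((Q ⊓ N : Subgroup G) : Set G)) := Fintype.ofFinite _
  haveI : Fintype (cenN N (Q ⊓ N)) := Fintype.ofFinite _
  haveI : Fintype (Subgroup.centralizer (((Q ⊓ N).subgroupOf N : Subgroup N) : Set N)) :=
    Fintype.ofFinite _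
  apply mem_centralizer_of_inf hp N Q hQp x hxN hx hreg
  have hQ₀Q : Q ⊓ N ≤ Q := inf_le_left
  have hQnorm : Q ≤ Subgroup.normalizer ((Q ⊓ N : Subgroup G) : Set G) :=
    fun q hq => mem_normalizer_inf_normal N Q (Subgroup.le_normalizer hq)
  have hxQ₀ : x ∈ Subgroup.normalizer ((Q ⊓ N : Subgroup G) : Set G) :=
    mem_normalizer_inf_normal N Q hx
  obtain ⟨f, hf, hfuniq⟩ := existsUnique_isNormalSubpair Q (Q ⊓ N) hM hQ₀Q hQnorm e hpair.1
  have hfB : Cfsg.IsBrauerPairOf p M B (Q ⊓ N) f :=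
    (isBrauerPairOf_iff_of_isNormalSubpair Q (Q ⊓ N) hM e f hf B hB).mp hpair
  -- `x` stabilizes `f`
  have hxf : autIrr (nAut (Subgroup.centralizer ((Q ⊓ N : Subgroup G) : Set G)) x
      (normalizer_le_normalizer_centralizer _ hxQ₀)) '' f = f := by
    have h1 : Cfsg.NormalSubpairRel p M (conjPair x ⟨Q ⊓ N, f⟩) (conjPair x ⟨Q, e⟩) :=
      isNormalSubpair_conj Q (Q ⊓ N) x e f hf
    obtain ⟨_, himg⟩ := (stabilizesBlock_iff _ e x).mp hstx
    rw [conjPair_of_mem_normalizer (Q ⊓ N) hxQ₀ f, conjPair_of_mem_normalizer Q hx e, himg] at h1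
    exact hfuniq _ h1
  have hQ₀' : ((Q ⊓ N).subgroupOf N).map N.subtype = Q ⊓ N :=
    Subgroup.map_subgroupOf_eq_of_le inf_le_right
  have hidx₁ := cenN_index N (Q ⊓ N) hp hidx
  obtain ⟨θf, hθf⟩ := hfB.1.2
  obtain ⟨ξ, hξ⟩ := isPBlock_nonempty hM hfB.1.2
  obtain ⟨ζ, hζ⟩ := exists_constituent_restrict (cenN N (Q ⊓ N)) ξ.2
  have hξ' : autIrr (nAut (Subgroup.centralizer ((Q ⊓ N : Subgroup G) : Set G)) x
      (normalizer_le_normalizer_centralizer _ hxQ₀)) ξ ∈ f := by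
    rw [← hxf]
    exact Set.mem_image_of_mem _ hξ
  have hζx : Cfsg.classInner
      (fun y : cenN N (Q ⊓ N) => (autIrr (nAut
        (Subgroup.centralizer ((Q ⊓ N : Subgroup G) : Set G)) x
        (normalizer_le_normalizer_centralizer _ hxQ₀)) ξ :
          Subgroup.centralizer ((Q ⊓ N : Subgroup G) : Set G) → ℂ) y)
      (autIrr (tau N (Q ⊓ N) x hxQ₀) ζ : cenN N (Q ⊓ N) → ℂ) ≠ 0 := by
    rw [classInner_tau]
    exact hζ
  have hsb : Cfsg.SameBlock M (ξ : Subgroup.centralizer ((Q ⊓ N : Subgroup G) : Set G) → ℂ)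
      (autIrr (nAut (Subgroup.centralizer ((Q ⊓ N : Subgroup G) : Set G)) x
        (normalizer_le_normalizer_centralizer _ hxQ₀)) ξ :
          Subgroup.centralizer ((Q ⊓ N : Subgroup G) : Set G) → ℂ) := by
    rw [hθf] at hξ hξ'
    exact SameBlock.trans' hM (SameBlock.symm' hξ) hξ'
  obtain ⟨g, hg⟩ := exists_conj_mem_block_of_sameBlock (cenN N (Q ⊓ N)) inferInstance hM ζ ξ _
    hsb ζ (sameBlock_refl hM _) hζ _ hζx
  have hgn : ((g⁻¹ : Subgroup.centralizer ((Q ⊓ N : Subgroup G) : Set G)) : G)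
      ∈ Subgroup.normalizer ((Q ⊓ N : Subgroup G) : Set G) :=
    Subgroup.centralizer_le_normalizer _ (g⁻¹).2
  have htn : ((g⁻¹ : Subgroup.centralizer ((Q ⊓ N : Subgroup G) : Set G)) : G) * x
      ∈ Subgroup.normalizer ((Q ⊓ N : Subgroup G) : Set G) := Subgroup.mul_mem _ hgn hxQ₀
  have htζ : autIrr (tau N (Q ⊓ N)
      (((g⁻¹ : Subgroup.centralizer ((Q ⊓ N : Subgroup G) : Set G)) : G) * x) htn) ζ
      ∈ Cfsg.blockOf M (ζ : cenN N (Q ⊓ N) → ℂ) := by
    rw [tau_mul N (Q ⊓ N) _ x hgn hxQ₀ htn, autIrr_mul, autIrr_tau_of_mem, inv_inv]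
    exact hg
  have htstab := mem_stabTau_of_mem_blockOf N (Q ⊓ N) hM _ htn ζ htζ
  obtain ⟨k, j, hkj, hkreg⟩ := exists_good_exponent hp
    (((g⁻¹ : Subgroup.centralizer ((Q ⊓ N : Subgroup G) : Set G)) : G) * x) (orderOf x)
    (orderOf_pos x) hreg
  obtain ⟨c₀, hc₀, hc₀eq⟩ := exists_mul_pow
    (Subgroup.centralizer ((Q ⊓ N : Subgroup G) : Set G)) x
    (normalizer_le_normalizer_centralizer _ hxQ₀)
    ((g⁻¹ : Subgroup.centralizer ((Q ⊓ N : Subgroup G) : Set G)) : G) (g⁻¹).2 (orderOf x)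
  rw [pow_orderOf_eq_one, mul_one] at hc₀eq
  obtain ⟨t, ht⟩ : ∃ t : G,
      t = ((g⁻¹ : Subgroup.centralizer ((Q ⊓ N : Subgroup G) : Set G)) : G) * x := ⟨_, rfl⟩
  rw [← ht] at htstab hkreg hc₀eq
  have htk_stab : t ^ k ∈ stabTau N (Q ⊓ N) (Cfsg.blockOf M (ζ : cenN N (Q ⊓ N) → ℂ)) :=
    Subgroup.pow_mem _ htstab k
  obtain ⟨htkn, _⟩ := (mem_stabTau_iff _ _ _ _).mp htk_stab
  have htkN : t ^ k ∈ N := mem_of_pRegular_of_index N hp hidx _ hkreg
  have hn'' : (⟨t ^ k, htkN⟩ : N)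
      ∈ Subgroup.normalizer (((Q ⊓ N).subgroupOf N : Subgroup N) : Set N) := by
    rw [Subgroup.mem_normalizer_iff]
    intro h
    rw [Subgroup.mem_subgroupOf, Subgroup.mem_subgroupOf]
    exact (Subgroup.mem_normalizer_iff.mp htkn) (h : G)
  have himg_back : mapIrr (cenEquiv N (Q ⊓ N) ((Q ⊓ N).subgroupOf N) hQ₀') ''
      (mapIrr (cenEquiv N (Q ⊓ N) ((Q ⊓ N).subgroupOf N) hQ₀').symm ''
        Cfsg.blockOf M (ζ : cenN N (Q ⊓ N) → ℂ))
      = Cfsg.blockOf M (ζ : cenN N (Q ⊓ N) → ℂ) := by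
    ext θ
    constructor
    · rintro ⟨_, ⟨θ', hθ', rfl⟩, rfl⟩
      rw [mapIrr_mapIrr_symm]
      exact hθ'
    · intro hθ
      exact ⟨_, ⟨θ, hθ, rfl⟩, mapIrr_mapIrr_symm _ θ⟩
  have hstN : Cfsg.StabilizesBlock
      (Subgroup.centralizer (((Q ⊓ N).subgroupOf N : Subgroup N) : Set N))
      (mapIrr (cenEquiv N (Q ⊓ N) ((Q ⊓ N).subgroupOf N) hQ₀').symm ''
        Cfsg.blockOf M (ζ : cenN N (Q ⊓ N) → ℂ)) (⟨t ^ k, htkN⟩ : N) := by
    rw [stabilizesBlock_iff_mem_stabTau N (Q ⊓ N) ((Q ⊓ N).subgroupOf N) hQ₀' _ hn'', himg_back]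
    exact htk_stab
  have hpairN : Cfsg.IsBrauerPairOf p M c ((Q ⊓ N).subgroupOf N)
      (mapIrr (cenEquiv N (Q ⊓ N) ((Q ⊓ N).subgroupOf N) hQ₀').symm ''
        Cfsg.blockOf M (ζ : cenN N (Q ⊓ N) → ℂ)) := by
    refine ⟨⟨(isPGroup_rel2_iff N ((Q ⊓ N).subgroupOf N) (Q ⊓ N) hQ₀').mpr
      (hQp.to_le inf_le_left), isPBlock_mapIrr_image _ ⟨ζ, rfl⟩⟩, hc, ?_⟩
    rintro _ ⟨ζ₂, hζ₂, rfl⟩
    obtain ⟨ξ₂, hξ₂⟩ := exists_irr_over (cenN N (Q ⊓ N)) ζ₂
    have hsb2 : Cfsg.SameBlock M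
        (ξ : Subgroup.centralizer ((Q ⊓ N : Subgroup G) : Set G) → ℂ)
        (ξ₂ : Subgroup.centralizer ((Q ⊓ N : Subgroup G) : Set G) → ℂ) :=
      sameBlock_of_cover_of_index (cenN N (Q ⊓ N)) hM hidx₁ ξ ξ₂ ζ ζ₂ hζ₂ hζ hξ₂
    have hξ₂f : ξ₂ ∈ f := by
      rw [hθf] at hξ ⊢
      exact SameBlock.trans' hM hξ hsb2
    have h3 := hfB.2.2 ξ₂ hξ₂f
    rw [show Cfsg.blockCoeff B = Cfsg.subgroupBlockCoeff N c from funext hBc,
      brauerOmega_eq_of_constituent N (Q ⊓ N) ((Q ⊓ N).subgroupOf N) hQ₀' c hst ξ₂ ζ₂ hξ₂] at h3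
    exact h3
  have hregN : Cfsg.IsPRegular p (⟨t ^ k, htkN⟩ : N) := by
    unfold Cfsg.IsPRegular
    rw [Subgroup.orderOf_mk]
    exact hkreg
  have hcenN := hnil.2 _ _ hpairN ⟨t ^ k, htkN⟩ hn'' hstN hregN
  have htkC : t ^ k ∈ Subgroup.centralizer ((Q ⊓ N : Subgroup G) : Set G) := by
    rw [Subgroup.mem_centralizer_iff] at hcenN ⊢
    intro q hq
    have hq' : q ∈ Q ⊓ N := hq
    have h4 := hcenN ⟨q, (Subgroup.mem_inf.mp hq').2⟩ (by
      rw [SetLike.mem_coe, Subgroup.mem_subgroupOf]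
      exact hq')
    exact congrArg Subtype.val h4
  have htr : t ^ orderOf x ∈ Subgroup.centralizer ((Q ⊓ N : Subgroup G) : Set G) := by
    rw [hc₀eq]
    exact hc₀
  have htC : t ∈ Subgroup.centralizer ((Q ⊓ N : Subgroup G) : Set G) := by
    have h1 : t ^ k = t * (t ^ orderOf x) ^ j := by
      rw [hkj, pow_add, pow_one, pow_mul]
    have h2 : t = t ^ k * ((t ^ orderOf x) ^ j)⁻¹ := by
      rw [h1]
      group
    rw [h2]
    exact Subgroup.mul_mem _ htkC (Subgroup.inv_mem _ (Subgroup.pow_mem _ htr j))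
  have hxe : x = (g : G) * t := by
    rw [ht]
    simp
  rw [hxe]
  exact Subgroup.mul_mem _ g.2 htC

/-- **Going up.** -/
theorem nilpotent_cover (hM : Cfsg.IsPModular p M) [Fact p.Prime] (N : Subgroup G)
    [hN : N.Normal] [Fintype N] (hidx : ∃ k : ℕ, N.index = p ^ k)
    (c : Set (Cfsg.IrrCharacter N)) (hc : Cfsg.IsPBlock M c) (hst : GStable N hN c)
    (B : Set (Cfsg.IrrCharacter G)) (hB : Cfsg.IsPBlock M B)
    (hBc : ∀ g : G, Cfsg.blockCoeff B g = Cfsg.subgroupBlockCoeff N c g)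
    (hnil : Cfsg.IsNilpotentBlock p M c) : Cfsg.IsNilpotentBlock p M B :=
  ⟨hB, fun Q e hpair x hx hstx hreg =>
    core_up hM N hidx c hc hst B hB hBc hnil Q e hpair x hx hstx hreg⟩

/-- **Nilpotent blocks and extensions by `p`-groups.** -/
theorem nilpotent_iff (hM : Cfsg.IsPModular p M) [Fact p.Prime] (N : Subgroup G) [hN : N.Normal]
    (hidx : ∃ k : ℕ, N.index = p ^ k) (c : Set (Cfsg.IrrCharacter N))
    (hc : Cfsg.IsPBlock M c) (hstab : ∀ x : G, Cfsg.StabilizesBlock N c x)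
    (B : Set (Cfsg.IrrCharacter G)) (hB : Cfsg.IsPBlock M B)
    (hBc : ∀ g : G, Cfsg.blockCoeff B g = Cfsg.subgroupBlockCoeff N c g) :
    Cfsg.IsNilpotentBlock p M c ↔ Cfsg.IsNilpotentBlock p M B := by
  classical
  haveI : Fintype N := Fintype.ofFinite _
  have hst : GStable N hN c := by
    intro ψ hψ g
    obtain ⟨ψ', hψ', hconj⟩ := (hstab g⁻¹).2 ψ hψ
    have he : irrConj N hN g ψ = ψ' := by
      apply Subtype.ext
      funext n
      rw [irrConj_coe, conjFun_apply]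
      symm
      apply hconj ⟨g * n * g⁻¹, hN.conj_mem n n.2 g⟩ n
      show (n : G) = g⁻¹ * (g * (n : G) * g⁻¹) * g⁻¹⁻¹
      group
    rw [he]
    exact hψ'
  exact ⟨nilpotent_cover hM N hidx c hc hst B hB hBc,
    nilpotent_of_cover hM N hidx c hc hst B hB hBc⟩

end up

end Cfsg.Agent.Lib.Helper6.NilExt
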