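import Cfsg.Agent.Lib.Helper8.O459Defs
import Cfsg.Agent.Lib.Helper8.SN17N4a
import Cfsg.Agent.Lib.Helper6.J2T1

/-!
# S1022 farm, piece P5 (Lemma X), core with the maximality of `N(P)` as a hypothesis
-/

set_option autoImplicit false

namespace Cfsg.Agent.Lib.Helper6.O459

open Cfsg.Agent.Lib.Helper8.O459

variable {G : Type*} [Group G] [Finite G]

/-- the `p`-part of the argument: a `p`-subgroup `X` with `N_G(X)` of order `456`, Sylow
`p`-subgroups of order `p ^ k`, `|X| = p ^ a < p ^ k` and `p ^ (a+1) ∤ 456` is impossible. -/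
theorem false_of_normalizer_card (p k m a : ℕ) [Fact p.Prime] (hG : Nat.card G = p ^ k * m)
    (hm : ¬ p ∣ m) (X : Subgroup G) (hX : Nat.card X = p ^ a) (hak : a < k)
    (hN : Nat.card (Subgroup.normalizer (X : Set G)) = 456) (h456 : ¬ p ^ (a + 1) ∣ 456) :
    False := by
  have hp := (Fact.out : p.Prime)
  have hXp : IsPGroup p X := IsPGroup.of_card hX
  obtain ⟨R, hXR⟩ := hXp.exists_le_sylow
  have hR : Nat.card (R : Subgroup G) = p ^ k :=
    Cfsg.Agent.Lib.Helper8.SN17.card_sylow_of_card p k m hG hm R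
  have hne : ¬ (R : Subgroup G) ≤ X := by
    intro hle
    have := Subgroup.card_le_of_le hle
    rw [hR, hX] at this
    exact absurd (Nat.pow_lt_pow_right hp.one_lt hak) (not_lt.2 this)
  obtain ⟨y, hyR, hyX, hy⟩ := Cfsg.Agent.Lib.Helper6.J2T.exists_normalizing_not_mem R.isPGroup' hXR hne
  have hyN : y ∈ Subgroup.normalizer (X : Set G) :=
    Subgroup.mem_normalizer_fintype (S := (X : Set G)) hy
  -- the `p`-group `K = R ⊓ N_G(X)` properly contains `X`
  have hK : IsPGroup p ↥((R : Subgroup G) ⊓ Subgroup.normalizer (X : Set G)) :=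
    R.isPGroup'.to_le inf_le_left
  obtain ⟨j, hj⟩ := IsPGroup.iff_card.1 hK
  have hXK : X ≤ (R : Subgroup G) ⊓ Subgroup.normalizer (X : Set G) :=
    le_inf hXR Subgroup.le_normalizer
  have hlt : Nat.card X < Nat.card ↥((R : Subgroup G) ⊓ Subgroup.normalizer (X : Set G)) := by
    apply lt_of_le_of_ne (Subgroup.card_le_of_le hXK)
    intro heq
    have h1 : X = (R : Subgroup G) ⊓ Subgroup.normalizer (X : Set G) :=
      Subgroup.eq_of_le_of_card_ge hXK (le_of_eq heq.symm)
    apply hyX
    rw [h1]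
    exact ⟨hyR, hyN⟩
  rw [hX, hj] at hlt
  have haj : a + 1 ≤ j := by
    by_contra hcon
    have : j ≤ a := by omega
    exact absurd (Nat.pow_le_pow_right hp.pos this) (not_le.2 hlt)
  have hdvd : p ^ j ∣ 456 := by
    rw [← hj, ← hN]
    exact Subgroup.card_dvd_of_le inf_le_right
  exact h456 ((pow_dvd_pow p haj).trans hdvd)

/-- Lemma X with the maximality of `N(P)` as a hypothesis. -/
theorem lemmaX_of [IsSimpleGroup G] (hcard : Nat.card G = 459648) (P : Sylow 19 G)
    (hN : Nat.card (NP P) = 456)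
    (hmax : ∀ M : Subgroup G, NP P ≤ M → M = NP P ∨ M = ⊤) (X : Subgroup G)
    (hXN : NP P ≤ Subgroup.normalizer (X : Set G)) (hX : Nat.card X = 8 ∨ Nat.card X = 3) :
    False := by
  rcases hmax _ hXN with h | h
  · -- `N_G(X) = N(P)` of order 456
    have hNX : Nat.card (Subgroup.normalizer (X : Set G)) = 456 := by rw [h]; exact hN
    rcases hX with h8 | h3
    · haveI : Fact (Nat.Prime 2) := ⟨Nat.prime_two⟩
      exact false_of_normalizer_card 2 7 3591 3 (by rw [hcard]; norm_num) (by norm_num) X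
        (by rw [h8]; norm_num) (by norm_num) hNX (by norm_num)
    · haveI : Fact (Nat.Prime 3) := ⟨Nat.prime_three⟩
      exact false_of_normalizer_card 3 3 17024 1 (by rw [hcard]; norm_num) (by norm_num) X
        (by rw [h3]; norm_num) (by norm_num) hNX (by norm_num)
  · -- `X` is normal in the simple group `G`
    have hnorm : X.Normal := Subgroup.normalizer_eq_top_iff.1 h
    rcases hnorm.eq_bot_or_eq_top with hb | ht
    · rw [hb, Subgroup.card_bot] at hX
      omega
    · rw [ht, Subgroup.card_top, hcard] at hX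
      omega

end Cfsg.Agent.Lib.Helper6.O459
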