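import Cfsg.Agent.Lib.Helper8.O459P4
import Cfsg.Agent.Lib.Helper6.O459P5a

/-!
# S1022 farm, piece P5 (Lemma X), verbatim form
-/

set_option autoImplicit false

namespace Cfsg.Agent.Lib.Helper6.O459

open Cfsg.Agent.Lib.Helper8.O459

variable {G : Type*} [Group G] [Finite G]

/-- Lemma X: no subgroup of order `8` or `3` is normalized by `N(P)` (of order `456`). -/
theorem lemmaX [IsSimpleGroup G] (hcard : Nat.card G = 459648) (P : Sylow 19 G)
    (hN : Nat.card (NP P) = 456) (X : Subgroup G)
    (hXN : NP P ≤ Subgroup.normalizer (X : Set G)) (hX : Nat.card X = 8 ∨ Nat.card X = 3) :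
    False :=
  lemmaX_of hcard P hN
    (fun M hM => Cfsg.Agent.Lib.Helper8.O459.maximal hcard P hN M hM) X hXN hX

end Cfsg.Agent.Lib.Helper6.O459
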