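import Cfsg.Agent.Lib.Helper8.O459Defs

/-!
# S1022 farm, piece P7a: a normal 2-subgroup of `N(P)` inside `C(P)` when `|C(P)| = 19 * 2^k`
-/

set_option autoImplicit false

namespace Cfsg.Agent.Lib.Helper6.O459

open Cfsg.Agent.Lib.Helper8.O459

variable {G : Type*} [Group G] [Finite G]

/-- a Sylow 19-subgroup of a group of order 459648 has order 19. -/
theorem card_sylow19 (hcard : Nat.card G = 459648) (P : Sylow 19 G) : Nat.card P = 19 := by
  haveI : Fact (Nat.Prime 19) := ⟨by norm_num⟩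
  obtain ⟨k, hk⟩ := IsPGroup.iff_card.1 P.isPGroup'
  have h1 : 19 ∣ Nat.card P := P.dvd_card_of_dvd_card (by rw [hcard]; norm_num)
  have h2 : Nat.card P ∣ 459648 := hcard ▸ Subgroup.card_subgroup_dvd_card (P : Subgroup G)
  rw [hk] at h1 h2 ⊢
  have hk2 : k < 2 := by
    by_contra hcon
    have h3 : 19 ^ 2 ∣ 19 ^ k := pow_dvd_pow 19 (by omega)
    have h4 : 19 ^ 2 ∣ 459648 := h3.trans h2
    norm_num at h4
  interval_cases k
  · norm_num at h1
  · norm_num

/-- elements of `P` commute. -/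
theorem sylow19_comm (hcard : Nat.card G = 459648) (P : Sylow 19 G) (a b : G)
    (ha : a ∈ (P : Subgroup G)) (hb : b ∈ (P : Subgroup G)) : a * b = b * a := by
  haveI : Fact (Nat.Prime 19) := ⟨by norm_num⟩
  haveI : IsCyclic ↥(P : Subgroup G) := isCyclic_of_prime_card (card_sylow19 hcard P)
  letI := IsCyclic.commGroup (α := ↥(P : Subgroup G))
  have := mul_comm (⟨a, ha⟩ : ↥(P : Subgroup G)) ⟨b, hb⟩
  exact congrArg Subtype.val this

theorem sylow19_le_CP (hcard : Nat.card G = 459648) (P : Sylow 19 G) :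
    (P : Subgroup G) ≤ CP P := by
  intro a ha
  rw [Subgroup.mem_centralizer_iff]
  intro b hb
  exact sylow19_comm hcard P b a hb ha

/-- `N(P)` normalizes `C(P)` elementwise. -/
theorem conj_mem_CP (P : Sylow 19 G) (n : G) (hn : n ∈ NP P) (c : G) (hc : c ∈ CP P) :
    n * c * n⁻¹ ∈ CP P := by
  rw [Subgroup.mem_centralizer_iff] at hc ⊢
  intro a ha
  have ha' : n⁻¹ * a * n ∈ (P : Subgroup G) := by
    have := (Subgroup.mem_normalizer_iff.1 (Subgroup.inv_mem _ hn) a).1 ha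
    simpa using this
  have h1 := hc _ ha'
  calc a * (n * c * n⁻¹) = n * ((n⁻¹ * a * n) * c) * n⁻¹ := by group
    _ = n * (c * (n⁻¹ * a * n)) * n⁻¹ := by rw [h1]
    _ = n * c * n⁻¹ * a := by group

/-- generic version of P7a. -/
theorem exists_normal_two_pow (hcard : Nat.card G = 459648) (P : Sylow 19 G) (k : ℕ)
    (hC : Nat.card (CP P) = 19 * 2 ^ k) :
    ∃ X : Subgroup G, X ≤ CP P ∧ NP P ≤ Subgroup.normalizer (X : Set G) ∧ Nat.card X = 2 ^ k := by
  haveI : Fact (Nat.Prime 2) := ⟨Nat.prime_two⟩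
  obtain ⟨S⟩ : Nonempty (Sylow 2 ↥(CP P)) := inferInstance
  -- the order of `S`
  have hS : Nat.card S = 2 ^ k := by
    obtain ⟨j, hj⟩ := IsPGroup.iff_card.1 S.isPGroup'
    have hidx : ¬ 2 ∣ (S : Subgroup ↥(CP P)).index := S.not_dvd_index
    have hmul : Nat.card S * (S : Subgroup ↥(CP P)).index = 19 * 2 ^ k := by
      rw [← hC]; exact (S : Subgroup ↥(CP P)).card_mul_index
    rw [hj] at hmul ⊢
    have hodd : Nat.Coprime (2 ^ k) (S : Subgroup ↥(CP P)).index :=
      Nat.Coprime.pow_left k ((Nat.Prime.coprime_iff_not_dvd Nat.prime_two).2 hidx)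
    have h1 : 2 ^ k ∣ 2 ^ j := by
      apply hodd.dvd_of_dvd_mul_right
      rw [hmul]; exact Dvd.intro_left 19 rfl
    have h2 : 2 ^ j ∣ 2 ^ k := by
      have hc : Nat.Coprime (2 ^ j) 19 := Nat.Coprime.pow_left j (by norm_num)
      apply hc.dvd_of_dvd_mul_left
      rw [← hmul]; exact Dvd.intro _ rfl
    exact Nat.dvd_antisymm h2 h1
  have hSidx : (S : Subgroup ↥(CP P)).index = 19 := by
    have hmul : Nat.card S * (S : Subgroup ↥(CP P)).index = 19 * 2 ^ k := by
      rw [← hC]; exact (S : Subgroup ↥(CP P)).card_mul_index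
    rw [hS, mul_comm] at hmul
    exact Nat.eq_of_mul_eq_mul_right (pow_pos (by norm_num) k) hmul
  -- the central subgroup `Z = P ∩ C`
  have hPC := sylow19_le_CP hcard P
  have hZcard : Nat.card ((P : Subgroup G).subgroupOf (CP P)) = 19 := by
    rw [Nat.card_congr (Subgroup.subgroupOfEquivOfLe hPC).toEquiv]
    exact card_sylow19 hcard P
  have hZidx : ((P : Subgroup G).subgroupOf (CP P)).index = 2 ^ k := by
    have hmul := ((P : Subgroup G).subgroupOf (CP P)).card_mul_index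
    rw [hZcard, hC] at hmul
    exact Nat.eq_of_mul_eq_mul_left (by norm_num) hmul
  have hZcent : (P : Subgroup G).subgroupOf (CP P) ≤ Subgroup.center ↥(CP P) := by
    intro z hz
    rw [Subgroup.mem_center_iff]
    intro c
    have hz' : (z : G) ∈ (P : Subgroup G) := Subgroup.mem_subgroupOf.1 hz
    have hc := Subgroup.mem_centralizer_iff.1 c.2 (z : G) hz'
    exact Subtype.ext (by simpa using hc.symm)
  -- the number of Sylow 2-subgroups of `C` is one
  have hn1 : Nat.card (Sylow 2 ↥(CP P)) = 1 := by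
    have h1 : Nat.card (Sylow 2 ↥(CP P)) ∣ 19 := hSidx ▸ S.card_dvd_index
    have h2 : Nat.card (Sylow 2 ↥(CP P)) ∣ 2 ^ k := by
      rw [S.card_eq_index_normalizer, ← hZidx]
      exact Subgroup.index_dvd_of_le (hZcent.trans (Subgroup.center_le_normalizer _))
    have hc : Nat.Coprime (Nat.card (Sylow 2 ↥(CP P))) (2 ^ k) :=
      Nat.Coprime.coprime_dvd_left h1 (Nat.Coprime.pow_right k (by norm_num))
    exact Nat.Coprime.eq_one_of_dvd hc h2
  haveI : Subsingleton (Sylow 2 ↥(CP P)) := (Nat.card_eq_one_iff_unique.1 hn1).1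
  refine ⟨(S : Subgroup ↥(CP P)).map (CP P).subtype, ?_, ?_, ?_⟩
  · intro x hx
    obtain ⟨s, _, rfl⟩ := Subgroup.mem_map.1 hx
    exact s.2
  · -- `N(P)` normalizes `X`
    have key : ∀ n ∈ NP P, ∀ x ∈ (S : Subgroup ↥(CP P)).map (CP P).subtype,
        n * x * n⁻¹ ∈ (S : Subgroup ↥(CP P)).map (CP P).subtype := by
      intro n hn x hx
      obtain ⟨s, hs, rfl⟩ := Subgroup.mem_map.1 hx
      have hy : n * (s : G) * n⁻¹ ∈ CP P := conj_mem_CP P n hn s s.2
      obtain ⟨j, hj⟩ := (IsPGroup.iff_orderOf.1 S.isPGroup') ⟨s, hs⟩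
      have ho : orderOf (⟨n * (s : G) * n⁻¹, hy⟩ : ↥(CP P)) = 2 ^ j := by
        rw [← Subgroup.orderOf_coe, ← hj, ← Subgroup.orderOf_coe, ← Subgroup.orderOf_coe]
        show orderOf (n * (s : G) * n⁻¹) = orderOf (s : G)
        rw [← MulAut.conj_apply, MulEquiv.orderOf_eq]
      have hpg : IsPGroup 2 (Subgroup.zpowers (⟨n * (s : G) * n⁻¹, hy⟩ : ↥(CP P))) :=
        IsPGroup.of_card (n := j) (by rw [Nat.card_zpowers, ho])
      obtain ⟨Q, hQ⟩ := hpg.exists_le_sylow
      have hQS : Q = S := Subsingleton.elim _ _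
      have hmem : (⟨n * (s : G) * n⁻¹, hy⟩ : ↥(CP P)) ∈ (S : Subgroup ↥(CP P)) := by
        rw [← hQS]; exact hQ (Subgroup.mem_zpowers _)
      exact Subgroup.mem_map.2 ⟨_, hmem, rfl⟩
    intro n hn
    rw [Subgroup.mem_normalizer_iff]
    intro x
    constructor
    · exact key n hn x
    · intro hx
      have := key n⁻¹ (Subgroup.inv_mem _ hn) _ hx
      have h2 : n⁻¹ * (n * x * n⁻¹) * n⁻¹⁻¹ = x := by group
      rwa [h2] at this
  · rw [Nat.card_congr (Subgroup.equivMapOfInjective _ _ (CP P).subtype_injective).toEquiv.symm]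
    exact hS

/-- P7a -/
theorem exists_normal_of_central [IsSimpleGroup G] (hcard : Nat.card G = 459648) (P : Sylow 19 G)
    (hC : Nat.card (CP P) = 152 ∨ Nat.card (CP P) = 76) :
    ∃ X : Subgroup G, X ≤ CP P ∧ NP P ≤ Subgroup.normalizer (X : Set G) ∧
      ((Nat.card (CP P) = 152 ∧ Nat.card X = 8) ∨ (Nat.card (CP P) = 76 ∧ Nat.card X = 4)) := by
  rcases hC with h | h
  · obtain ⟨X, h1, h2, h3⟩ := exists_normal_two_pow hcard P 3 (by rw [h]; norm_num)
    exact ⟨X, h1, h2, Or.inl ⟨h, by rw [h3]; norm_num⟩⟩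
  · obtain ⟨X, h1, h2, h3⟩ := exists_normal_two_pow hcard P 2 (by rw [h]; norm_num)
    exact ⟨X, h1, h2, Or.inr ⟨h, by rw [h3]; norm_num⟩⟩

end Cfsg.Agent.Lib.Helper6.O459
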