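import Mathlib
import Cfsg.Prelude
import Cfsg.Agent.Lib.Helper6.OMMB4
import Cfsg.Agent.Lib.Helper6.OMMLevel
import Cfsg.Agent.Lib.Helper6.OMMArith
import Cfsg.Agent.Lib.Helper7.OMML2
import Cfsg.Agent.Lib.Helper5.OMMTower

set_option autoImplicit false
set_option linter.unusedSectionVars false
set_option linter.unusedVariables false
open Cfsg

/-!
Farm OMM (statement S2346), the `n = 4` branch of step 5: from `mP ρ 0 ≠ 0`, some `mP ρ z' ≠ 0`
with `z' ≠ 0`, and the constancy of `mP` on the level sets of `W'` (unit B4), the dimension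
`r₀ = mU ρ 0` of the fixed points of `U` is at least `1 + N`, `N` a lower bound for the sizes of
the level sets of `W' ∖ 0`.  For `W' = hypExt (binForm a b)`: `N = (q² + 1)(q - 1)`,
`1 + N = d₃`.
-/

namespace Cfsg.Agent.Lib.Helper6.OMMB4

open Matrix QuadraticMap Cfsg.Agent.Lib.Helper5.CartanDieudonne Cfsg.Agent.Lib.Helper5.Refl
  Cfsg.Agent.Lib.Helper5.OrthCard Cfsg.Agent.Lib.Helper5.Siegel Cfsg.Agent.Lib.Helper5.QuadIsom
  Cfsg.Agent.Lib.Helper5.ReflGen Cfsg.Agent.Lib.Helper5.Eichler Cfsg.Agent.Lib.Helper5.SingGeom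
  Cfsg.Agent.Lib.Helper5.OmegaGen Cfsg.Agent.Lib.Helper5.OmegaSimple Cfsg.Agent.Lib.Helper1.OMMG
  Cfsg.Agent.Lib.Helper1.OMMI Cfsg.Agent.Lib.Helper2.OMM

variable {F : Type*} [Field F] [Fintype F] [DecidableEq F]
variable {κ : Type} [Fintype κ] [DecidableEq κ] {Qc : QuadraticForm F (κ → F)}
variable (ψ : AddChar F ℂ) (hψ : ∃ c, ψ c ≠ 1) (hnd : (polarBilin Qc).Nondegenerate)
  (H : Hyp (Q3 Qc))
variable {V : Type*} [AddCommGroup V] [Module ℂ V]

/-- the lower bound for `r₀ = mU ρ 0` from the level sets of `W'` -/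
theorem r0_ge_of_level [FiniteDimensional ℂ V] (ρ : Representation ℂ (GG Qc) V)
    (hb : ∃ b, Qc b ≠ 0) (N : ℕ)
    (hN0 : N ≤ Nat.card {z : K1 κ → F // z ≠ 0 ∧ Q1 Qc z = 0})
    (hNc : ∀ c : F, c ≠ 0 → N ≤ Nat.card {z : K1 κ → F // Q1 Qc z = c})
    (h0 : mP ψ hψ hnd H ρ 0 ≠ 0)
    (hB : ∃ z' : K1 κ → F, z' ≠ 0 ∧ mP ψ hψ hnd H ρ z' ≠ 0) :
    ∃ r : ℕ, mU ψ hψ hnd H ρ 0 = r ∧ N + 1 ≤ r := by
  classical
  choose r' hr' using fun z => Cfsg.Agent.Lib.Helper7.OMM.mP_nat ψ hψ hnd H ρ z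
  have hsum := Cfsg.Agent.Lib.Helper7.OMM.sum_mP ψ hψ hnd H ρ
  refine ⟨∑ z, r' z, ?_, ?_⟩
  · rw [← hsum, Finset.sum_congr rfl (fun z _ => hr' z)]
    push_cast
    rfl
  · obtain ⟨z0, hz0, hm0⟩ := hB
    have hr0 : 1 ≤ r' 0 := by
      rcases Nat.eq_zero_or_pos (r' 0) with h | h
      · exfalso; apply h0; rw [hr', h, Nat.cast_zero]
      · exact h
    have hrz0 : 1 ≤ r' z0 := by
      rcases Nat.eq_zero_or_pos (r' z0) with h | h
      · exfalso; apply hm0; rw [hr', h, Nat.cast_zero]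
      · exact h
    set c0 := Q1 Qc z0 with hc0
    let S : Finset (K1 κ → F) := Finset.univ.filter (fun z => z ≠ 0 ∧ Q1 Qc z = c0)
    have hS : ∀ z ∈ S, 1 ≤ r' z := by
      intro z hz
      have hz' := (Finset.mem_filter.mp hz).2
      have h1 := mP_level ψ hψ hnd H ρ hb z z0 hz'.1 hz0 hz'.2
      rw [hr', hr'] at h1
      have h2 : r' z = r' z0 := by exact_mod_cast h1
      rw [h2]; exact hrz0
    have h0S : (0 : K1 κ → F) ∉ S := by
      intro h
      exact (Finset.mem_filter.mp h).2.1 rfl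
    have hcardS : N ≤ S.card := by
      have e1 : S.card = Nat.card {z : K1 κ → F // z ≠ 0 ∧ Q1 Qc z = c0} := by
        rw [Nat.card_eq_fintype_card, Fintype.card_subtype]
      rw [e1]
      by_cases hc : c0 = 0
      · rw [hc]; exact hN0
      · refine le_trans (hNc c0 hc) (le_of_eq ?_)
        apply Nat.card_congr
        exact Equiv.subtypeEquivRight (fun z => ⟨fun h => ⟨fun hz => hc (by rw [← h, hz, map_zero]), h⟩,
          fun h => h.2⟩)
    calc N + 1 ≤ S.card + 1 := by omega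
      _ ≤ ∑ z ∈ S, r' z + r' 0 := by
          have h3 : S.card ≤ ∑ z ∈ S, r' z := by
            have := Finset.card_nsmul_le_sum S r' 1 hS
            rw [smul_eq_mul, mul_one] at this
            exact this
          omega
      _ = ∑ z ∈ insert 0 S, r' z := by rw [Finset.sum_insert h0S, add_comm]
      _ ≤ ∑ z, r' z := Finset.sum_le_sum_of_subset (Finset.subset_univ _)


/-! ### the level sets of `W' = hypExt (genForm (binForm a b) i)` -/

section minus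

open Cfsg.Agent.Lib.Helper5.OrthPlane Cfsg.Agent.Lib.Helper6.OMMCount
  Cfsg.Agent.Lib.Helper6.OMMArith Cfsg.Agent.Lib.Helper5.OMMTower

variable (a b : F)

theorem exists_ne_zero_genForm (han : ∀ v : Fin 2 → F, binForm a b v = 0 → v = 0) (i : ℕ) :
    ∃ v, genForm (binForm a b) i v ≠ 0 := by
  refine ⟨Sum.elim 0 (Pi.single 0 1), ?_⟩
  rw [genForm_apply]
  intro h
  have h1 : ∑ x : Fin i, (Sum.elim (0 : Fin i ⊕ Fin i → F) (Pi.single (0 : Fin 2) (1 : F)) :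
      (Fin i ⊕ Fin i) ⊕ Fin 2 → F) (Sum.inl (Sum.inl x)) *
      (Sum.elim (0 : Fin i ⊕ Fin i → F) (Pi.single (0 : Fin 2) (1 : F)) :
      (Fin i ⊕ Fin i) ⊕ Fin 2 → F) (Sum.inl (Sum.inr x)) = 0 := by
    apply Finset.sum_eq_zero
    intro x _
    simp
  rw [h1, zero_add] at h
  have h2 := han _ h
  have h3 := congrFun h2 0
  simp at h3

theorem NC_Q1_minus (han : ∀ v : Fin 2 → F, binForm a b v = 0 → v = 0) (i : ℕ) (c : F) :
    NC (Q1 (genForm (binForm a b) i)) c =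
      if c = 0 then (Fintype.card F : ℂ) ^ (2 * (i + 1) + 1) - (Fintype.card F : ℂ) ^ (i + 1 + 1) +
        (Fintype.card F : ℂ) ^ (i + 1)
      else (Fintype.card F : ℂ) ^ (2 * (i + 1) + 1) + (Fintype.card F : ℂ) ^ (i + 1) := by
  rw [NC_reindex (t1 i (Fin 2)) (genForm (binForm a b) (i + 1)) (Q1 (genForm (binForm a b) i))
    (form1 (binForm a b) i) c]
  exact NC_minus a b han (i + 1) c

theorem card_level_Q1 (han : ∀ v : Fin 2 → F, binForm a b v = 0 → v = 0) (i : ℕ) (c : F)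
    (hc : c ≠ 0) :
    Nat.card {z : K1 ((Fin i ⊕ Fin i) ⊕ Fin 2) → F // Q1 (genForm (binForm a b) i) z = c} =
      Fintype.card F ^ (2 * (i + 1) + 1) + Fintype.card F ^ (i + 1) := by
  have h := NC_Q1_minus a b han i c
  rw [if_neg hc, NC_eq_card] at h
  exact_mod_cast h

theorem card_zeros_Q1 (han : ∀ v : Fin 2 → F, binForm a b v = 0 → v = 0) (i : ℕ) :
    Nat.card {z : K1 ((Fin i ⊕ Fin i) ⊕ Fin 2) → F // Q1 (genForm (binForm a b) i) z = 0} +
      Fintype.card F ^ (i + 1 + 1) =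
      Fintype.card F ^ (2 * (i + 1) + 1) + Fintype.card F ^ (i + 1) := by
  have hz := card_zeros_minus a b han (i + 1)
  rw [card_zeros_reindex (t1 i (Fin 2)) ⇑(genForm (binForm a b) (i + 1))
    ⇑(Q1 (genForm (binForm a b) i)) (form1 (binForm a b) i)] at hz
  exact hz

/-- removing the zero vector from the singular vectors -/
theorem card_sing_add_one {ι : Type} [Fintype ι] [DecidableEq ι] (Q : QuadraticForm F (ι → F)) :
    Nat.card {z : ι → F // z ≠ 0 ∧ Q z = 0} + 1 = Nat.card {z : ι → F // Q z = 0} := by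
  classical
  rw [Nat.card_eq_fintype_card, Nat.card_eq_fintype_card, Fintype.card_subtype,
    Fintype.card_subtype]
  have h1 : (Finset.univ.filter fun z : ι → F => z ≠ 0 ∧ Q z = 0) =
      (Finset.univ.filter fun z : ι → F => Q z = 0).erase 0 := by
    ext z
    simp only [Finset.mem_filter, Finset.mem_univ, true_and, Finset.mem_erase]
  have h2 : (0 : ι → F) ∈ Finset.univ.filter fun z : ι → F => Q z = 0 := by
    simp
  rw [h1, Finset.card_erase_of_mem h2]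
  have : 0 < (Finset.univ.filter fun z : ι → F => Q z = 0).card := Finset.card_pos.mpr ⟨0, h2⟩
  omega

theorem arith_four (q N0 N1 : ℕ) (hq : 2 ≤ q) (hz : N0 + q ^ 2 = q ^ 3 + q) (hs : N1 + 1 = N0) :
    (q ^ 2 + 1) * (q - 1) = N1 := by
  obtain ⟨r, rfl⟩ : ∃ r, q = r + 2 := ⟨q - 2, by omega⟩
  have e1 : r + 2 - 1 = r + 1 := rfl
  rw [e1]
  have h1 : (r + 2) ^ 3 + (r + 2) = ((r + 2) ^ 2 + 1) * (r + 1) + 1 + (r + 2) ^ 2 := by ring
  omega

theorem arith_four' (q : ℕ) (hq : 2 ≤ q) : (q ^ 2 + 1) * (q - 1) ≤ q ^ 3 + q := by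
  obtain ⟨r, rfl⟩ : ∃ r, q = r + 2 := ⟨q - 2, by omega⟩
  have e1 : r + 2 - 1 = r + 1 := rfl
  rw [e1]
  have h1 : (r + 2) ^ 3 + (r + 2) = ((r + 2) ^ 2 + 1) * (r + 1) + 1 + (r + 2) ^ 2 := by ring
  omega

/-- **the `n = 4` bound**: `r₀ ≥ d₃ = (q² + 1)(q - 1) + 1` -/
theorem r0_ge_four (han : ∀ v : Fin 2 → F, binForm a b v = 0 → v = 0)
    (hnd : (polarBilin (genForm (binForm a b) 0)).Nondegenerate)
    (H : Hyp (Q3 (genForm (binForm a b) 0))) [FiniteDimensional ℂ V]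
    (ρ : Representation ℂ (GG (genForm (binForm a b) 0)) V)
    (h0 : mP ψ hψ hnd H ρ 0 ≠ 0)
    (hB : ∃ z' : K1 ((Fin 0 ⊕ Fin 0) ⊕ Fin 2) → F, z' ≠ 0 ∧ mP ψ hψ hnd H ρ z' ≠ 0) :
    ∃ r : ℕ, mU ψ hψ hnd H ρ 0 = r ∧ dn (Fintype.card F) 3 ≤ r := by
  have hq : 2 ≤ Fintype.card F := by
    obtain ⟨x, y, hxy⟩ := exists_pair_ne F
    exact Fintype.one_lt_card_iff.mpr ⟨x, y, hxy⟩
  have hz : Nat.card {z : K1 ((Fin 0 ⊕ Fin 0) ⊕ Fin 2) → F //
      Q1 (genForm (binForm a b) 0) z = 0} + Fintype.card F ^ 2 =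
      Fintype.card F ^ 3 + Fintype.card F := by
    have := card_zeros_Q1 a b han 0
    simpa using this
  have hs := card_sing_add_one (Q1 (genForm (binForm a b) 0))
  have hN0 : (Fintype.card F ^ 2 + 1) * (Fintype.card F - 1) ≤
      Nat.card {z : K1 ((Fin 0 ⊕ Fin 0) ⊕ Fin 2) → F // z ≠ 0 ∧ Q1 (genForm (binForm a b) 0) z = 0} :=
    le_of_eq (arith_four _ _ _ hq hz hs)
  have hNc : ∀ c : F, c ≠ 0 → (Fintype.card F ^ 2 + 1) * (Fintype.card F - 1) ≤
      Nat.card {z : K1 ((Fin 0 ⊕ Fin 0) ⊕ Fin 2) → F // Q1 (genForm (binForm a b) 0) z = c} := by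
    intro c hc
    have h1 : Nat.card {z : K1 ((Fin 0 ⊕ Fin 0) ⊕ Fin 2) → F //
        Q1 (genForm (binForm a b) 0) z = c} = Fintype.card F ^ 3 + Fintype.card F := by
      have := card_level_Q1 a b han 0 c hc
      simpa using this
    rw [h1]
    exact arith_four' _ hq
  obtain ⟨r, hr, hle⟩ := r0_ge_of_level ψ hψ hnd H ρ (exists_ne_zero_genForm a b han 0) _ hN0 hNc
    h0 hB
  refine ⟨r, hr, ?_⟩
  rw [dn_three _ hq]
  exact hle

end minus

end Cfsg.Agent.Lib.Helper6.OMMB4
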