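import Mathlib
import Cfsg.Prelude
import Cfsg.Agent.Lib.Helper6.OMMB4
import Cfsg.Agent.Lib.Helper7.OMML2
import Cfsg.Agent.Lib.Helper1.OMMBlk
import Cfsg.Agent.Lib.Helper8.AbFourier
import Cfsg.Agent.Lib.Helper2.E6MNontrivFD

set_option autoImplicit false
set_option linter.unusedSectionVars false
set_option linter.unusedVariables false
open Cfsg

/-!
Farm OMM (statement S2346), unit B5: if some non-trivial character of `U'` occurs in the fixed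
points `V^U` of `U`, then `V^U` is a representation of `Ω(W)` on which `U' ≤ Ω(W)` acts
non-trivially, so its dimension `r₀ = mU ρ 0` is at least the minimal degree `D` of `Ω(W)`.
-/

namespace Cfsg.Agent.Lib.Helper6.OMMB5

open Matrix QuadraticMap Cfsg.Agent.Lib.Helper5.CartanDieudonne Cfsg.Agent.Lib.Helper5.Refl
  Cfsg.Agent.Lib.Helper5.OrthCard Cfsg.Agent.Lib.Helper5.Siegel Cfsg.Agent.Lib.Helper5.QuadIsom
  Cfsg.Agent.Lib.Helper5.ReflGen Cfsg.Agent.Lib.Helper5.Eichler Cfsg.Agent.Lib.Helper5.SingGeom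
  Cfsg.Agent.Lib.Helper5.OmegaGen Cfsg.Agent.Lib.Helper5.OmegaSimple Cfsg.Agent.Lib.Helper1.OMMG
  Cfsg.Agent.Lib.Helper1.OMMI Cfsg.Agent.Lib.Helper2.OMM

variable {F : Type*} [Field F] [Fintype F] [DecidableEq F]
variable {κ : Type} [Fintype κ] [DecidableEq κ] {Qc : QuadraticForm F (κ → F)}
variable (ψ : AddChar F ℂ) (hψ : ∃ c, ψ c ≠ 1) (hnd : (polarBilin Qc).Nondegenerate)
  (H : Hyp (Q3 Qc))
variable {V : Type*} [AddCommGroup V] [Module ℂ V]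

/-- the Levi embedding `Ω(W) → Ω(V)` -/
noncomputable abbrev levW : ↥(Omega F ⇑(Q2 Qc)) →* GG Qc :=
  Cfsg.Agent.Lib.Helper5.OMMLevi.lev (Q2 Qc)

/-- the Levi factor normalises `U` -/
theorem conj_uE_lev (h : ↥(Omega F ⇑(Q2 Qc))) (x : K2 κ → F) :
    levW (Qc := Qc) h * uE H x * (levW (Qc := Qc) h)⁻¹ = uE H (act (Q2 Qc) h.1 x) := by
  have hT : blkIsom (Q2 Qc) h.1 ∈ Omega F ⇑(hypExt (Q2 Qc)) :=
    Cfsg.Agent.Lib.Helper5.OMMLevi.blkHom_mem_Omega (Q2 Qc) h.1 h.2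
  have h1 : levW (Qc := Qc) h = ⟨blkIsom (Q2 Qc) h.1, hT⟩ := Subtype.ext rfl
  rw [h1]
  exact Cfsg.Agent.Lib.Helper1.OMML.conj_uE_blk (Qκ := Q2 Qc) H h.1 hT x

/-- the Levi factor commutes with the projector onto `V^U` -/
theorem eI0_comm_lev (ρ : Representation ℂ (GG Qc) V) (h : ↥(Omega F ⇑(Q2 Qc))) :
    ρ (levW (Qc := Qc) h) * (DU ψ hψ hnd H).eI ρ 0 =
      (DU ψ hψ hnd H).eI ρ 0 * ρ (levW (Qc := Qc) h) :=
  Cfsg.Agent.Lib.Helper6.OMMB4.eI0_comm ψ hψ hnd H ρ (levW (Qc := Qc) h) (act (Q2 Qc) h.1)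
    (fun x => conj_uE_lev H h x)

/-- `uP H z` is the image of an Eichler element of `Ω(W)` -/
theorem uP_eq_lev (HW : Hyp (Q2 Qc)) (z : K1 κ → F) :
    uP H z = levW (Qc := Qc) (eO HW (eH F (K1 κ)) (ext0 z) (hypExt_eH (Q1 Qc))
      (Cfsg.Agent.Lib.Helper5.OMMLevi.polar_eH_ext0 (Q1 Qc) z)) := by
  apply Subtype.ext
  have h1 : (uP H z).1 = eich (Q3 Qc) (e2 F κ) (em2 z) (Q3_e2 Qc) (polar_e2_em2 Qc z) := rfl
  have h2 : (levW (Qc := Qc) (eO HW (eH F (K1 κ)) (ext0 z) (hypExt_eH (Q1 Qc))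
      (Cfsg.Agent.Lib.Helper5.OMMLevi.polar_eH_ext0 (Q1 Qc) z))).1 =
      Cfsg.Agent.Lib.Helper5.OMMLevi.blkHom (Q2 Qc) (eich (Q2 Qc) (eH F (K1 κ)) (ext0 z)
        (hypExt_eH (Q1 Qc)) (Cfsg.Agent.Lib.Helper5.OMMLevi.polar_eH_ext0 (Q1 Qc) z)) := rfl
  rw [h1, h2, Cfsg.Agent.Lib.Helper5.OMMLevi.blkHom_eich]

/-- **Unit B5** -/
theorem r0_ge_of_IH [FiniteDimensional ℂ V] (ρ : Representation ℂ (GG Qc) V)
    (HW : Hyp (Q2 Qc)) (D : ℕ)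
    (IH : ∀ (k' : ℕ) (σ : Representation ℂ ↥(Omega F ⇑(Q2 Qc)) (Fin k' → ℂ)),
      σ.IsIrreducible → 2 ≤ k' → D ≤ k')
    (hB : ∃ z' : K1 κ → F, z' ≠ 0 ∧ mP ψ hψ hnd H ρ z' ≠ 0) :
    ∃ r : ℕ, mU ψ hψ hnd H ρ 0 = r ∧ D ≤ r := by
  classical
  set E : Module.End ℂ V := (DU ψ hψ hnd H).eI ρ 0 with hE
  have hidem : IsIdempotentElem E := (DU ψ hψ hnd H).eI_idem ρ 0
  have hproj := LinearMap.IsIdempotentElem.isProj_range E hidem
  have htr : LinearMap.trace ℂ V E = (Module.finrank ℂ (LinearMap.range E) : ℂ) := hproj.trace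
  have hmU : mU ψ hψ hnd H ρ 0 = (Module.finrank ℂ (LinearMap.range E) : ℂ) := by
    rw [← htr]
    exact ((DU ψ hψ hnd H).trace_eI ρ 0).symm
  refine ⟨Module.finrank ℂ (LinearMap.range E), hmU, ?_⟩
  -- the representation of `Ω(W)` on `V^U`
  let τ : Representation ℂ ↥(Omega F ⇑(Q2 Qc)) V := MonoidHom.comp ρ (levW (Qc := Qc))
  have hcomm : ∀ h, τ h * E = E * τ h := fun h => eI0_comm_lev ψ hψ hnd H ρ h
  -- some `uP z` acts non-trivially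
  have hnt : ∃ z : K1 κ → F, ρ (uP H z) * E ≠ E := by
    by_contra hcon
    push Not at hcon
    obtain ⟨z', hz', hm⟩ := hB
    apply hm
    unfold mP
    rw [Cfsg.Agent.Lib.Helper7.OMM.eI0_mul_eP_of_fix ψ hψ hnd H ρ hcon z' hz', map_zero]
  obtain ⟨z, hz⟩ := hnt
  set g : ↥(Omega F ⇑(Q2 Qc)) := eO HW (eH F (K1 κ)) (ext0 z) (hypExt_eH (Q1 Qc))
      (Cfsg.Agent.Lib.Helper5.OMMLevi.polar_eH_ext0 (Q1 Qc) z) with hg
  have hg1 : Cfsg.Agent.Lib.Helper8.AbFourier.rangeRep τ E hcomm g ≠ 1 := by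
    intro h1
    apply hz
    have h2 := (Cfsg.Agent.Lib.Helper8.AbFourier.rangeRep_eq_one_iff τ E hcomm hidem.eq g).mp h1
    rw [uP_eq_lev H HW z]
    exact h2
  have : Fintype ↥(Omega F ⇑(Q2 Qc)) := Fintype.ofFinite _
  exact Cfsg.Agent.Lib.Helper2.E6MNontriv.finrank_ge_of_acts_nontrivially
    (Cfsg.Agent.Lib.Helper5.OmegaSimple.perfect HW) D IH
    (Cfsg.Agent.Lib.Helper8.AbFourier.rangeRep τ E hcomm) g hg1

end Cfsg.Agent.Lib.Helper6.OMMB5
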