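import Mathlib
import Cfsg.Prelude
import Cfsg.Agent.Lib.Helper6.OMMTCountT
import Cfsg.Agent.Lib.Helper6.OMMB4N
import Cfsg.Agent.Lib.Helper8.OMMRootChar

set_option autoImplicit false
set_option linter.unusedSectionVars false
set_option linter.unusedVariables false
open Cfsg

/-!
Farm OMM (statement S2346), unit COUNTTOWER (request of the coordinator): the sizes of the level
sets of `W' = Q1 Qc`, `W = Q2 Qc` and the number of long root elements of `V = Q3 Qc` for the core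
`Qc = genForm (binForm a b) i`, in the tower presentation, in terms of `Ns`, `Nc`.
-/

namespace Cfsg.Agent.Lib.Helper6.OMMCountTower

open QuadraticMap Cfsg.Agent.Lib.Helper5.OrthCard Cfsg.Agent.Lib.Helper5.OMP
  Cfsg.Agent.Lib.Helper5.OrthPlane Cfsg.Agent.Lib.Helper6.OMMCount
  Cfsg.Agent.Lib.Helper6.OMMArith Cfsg.Agent.Lib.Helper2.OMM Cfsg.Agent.Lib.Helper5.OMMTower

variable {F : Type*} [Field F] [Fintype F] [DecidableEq F] (a b : F)

/-- (1) -/
theorem card_zeros_Q2 (han : ∀ v : Fin 2 → F, binForm a b v = 0 → v = 0) (i : ℕ) :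
    Nat.card {w : K2 ((Fin i ⊕ Fin i) ⊕ Fin 2) → F // Q2 (genForm (binForm a b) i) w = 0} =
      Ns (Fintype.card F) (i + 2) + 1 := by
  have hz := card_zeros_minus a b han (i + 2)
  rw [card_zeros_reindex (t2 i (Fin 2)) ⇑(genForm (binForm a b) (i + 2))
    ⇑(Q2 (genForm (binForm a b) i)) (form2 (binForm a b) i)] at hz
  have h := Ns_eq (Fintype.card F) (i + 2) Fintype.card_pos
  omega

/-- (2) -/
theorem card_level_Q2 (han : ∀ v : Fin 2 → F, binForm a b v = 0 → v = 0) (i : ℕ) (c : F)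
    (hc : c ≠ 0) :
    Nat.card {w : K2 ((Fin i ⊕ Fin i) ⊕ Fin 2) → F // Q2 (genForm (binForm a b) i) w = c} =
      Nc (Fintype.card F) (i + 2) := by
  have h : NC (Q2 (genForm (binForm a b) i)) c = NC (genForm (binForm a b) (i + 2)) c :=
    NC_reindex (t2 i (Fin 2)) (genForm (binForm a b) (i + 2)) (Q2 (genForm (binForm a b) i))
      (form2 (binForm a b) i) c
  rw [NC_minus a b han (i + 2) c, if_neg hc, NC_eq_card] at h
  unfold Nc
  exact_mod_cast h

/-- (3) -/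
theorem card_zeros_Q1 (han : ∀ v : Fin 2 → F, binForm a b v = 0 → v = 0) (i : ℕ) :
    Nat.card {z : K1 ((Fin i ⊕ Fin i) ⊕ Fin 2) → F // Q1 (genForm (binForm a b) i) z = 0} =
      Ns (Fintype.card F) (i + 1) + 1 := by
  have hz := Cfsg.Agent.Lib.Helper6.OMMB4.card_zeros_Q1 a b han i
  have h := Ns_eq (Fintype.card F) (i + 1) Fintype.card_pos
  omega

/-- (4) -/
theorem card_level_Q1 (han : ∀ v : Fin 2 → F, binForm a b v = 0 → v = 0) (i : ℕ) (c : F)
    (hc : c ≠ 0) :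
    Nat.card {z : K1 ((Fin i ⊕ Fin i) ⊕ Fin 2) → F // Q1 (genForm (binForm a b) i) z = c} =
      Nc (Fintype.card F) (i + 1) :=
  Cfsg.Agent.Lib.Helper6.OMMB4.card_level_Q1 a b han i c hc

/-- (5): the `hT` of helper8's `levelOne_ne` with `j = i + 2` -/
theorem card_rootClass_Q3 (han : ∀ v : Fin 2 → F, binForm a b v = 0 → v = 0) (i : ℕ) :
    Nat.card {x : ↥(isometryGroup F ⇑(Q3 (genForm (binForm a b) i))) //
        x ∈ rootClass (e1 F ((Fin i ⊕ Fin i) ⊕ Fin 2)) (e2 F ((Fin i ⊕ Fin i) ⊕ Fin 2))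
          (Cfsg.Agent.Lib.Helper8.OMMRootChar.isTS_e1_e2 (Qc := genForm (binForm a b) i))} *
        (Fintype.card F ^ 2 - 1) =
      Ns (Fintype.card F) (i + 3) * Ns (Fintype.card F) (i + 2) :=
  Cfsg.Agent.Lib.Helper6.OMMTCount.card_rootClass_tower a b han i _ _ _

/-- (6) for `W` -/
theorem card_sing_Q2 (han : ∀ v : Fin 2 → F, binForm a b v = 0 → v = 0) (i : ℕ) :
    Nat.card {w : K2 ((Fin i ⊕ Fin i) ⊕ Fin 2) → F //
        w ≠ 0 ∧ Q2 (genForm (binForm a b) i) w = 0} = Ns (Fintype.card F) (i + 2) := by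
  have h1 := Cfsg.Agent.Lib.Helper6.OMMB4.card_sing_add_one (Q2 (genForm (binForm a b) i))
  have h2 := card_zeros_Q2 a b han i
  omega

/-- (6) for `W'` -/
theorem card_sing_Q1 (han : ∀ v : Fin 2 → F, binForm a b v = 0 → v = 0) (i : ℕ) :
    Nat.card {z : K1 ((Fin i ⊕ Fin i) ⊕ Fin 2) → F //
        z ≠ 0 ∧ Q1 (genForm (binForm a b) i) z = 0} = Ns (Fintype.card F) (i + 1) := by
  have h1 := Cfsg.Agent.Lib.Helper6.OMMB4.card_sing_add_one (Q1 (genForm (binForm a b) i))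
  have h2 := card_zeros_Q1 a b han i
  omega

/-- `Ns ≤ Nc`: the common lower bound `N := Ns q j` for the hypotheses of `dich` -/
theorem Ns_le_Nc (q j : ℕ) (hq : 1 ≤ q) : Ns q j ≤ Nc q j := by
  have := Nc_eq q j hq
  omega

end Cfsg.Agent.Lib.Helper6.OMMCountTower
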