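import Mathlib
import Cfsg.Prelude
import Cfsg.Agent.Lib.Helper2.OMMDefs

set_option autoImplicit false
set_option linter.unusedSectionVars false
set_option linter.unusedVariables false
open Cfsg

/-!
Farm OMM (statement S2346): in a multiplicity-one configuration on the level set `c`, the degree is
`k = r₀ + #{w ≠ 0 | Q w = c}`, `r₀ = mU ρ 0`.
-/

namespace Cfsg.Agent.Lib.Helper6.OMMDeg

open Matrix QuadraticMap Cfsg.Agent.Lib.Helper5.CartanDieudonne Cfsg.Agent.Lib.Helper5.Refl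
  Cfsg.Agent.Lib.Helper5.OrthCard Cfsg.Agent.Lib.Helper5.Siegel Cfsg.Agent.Lib.Helper5.QuadIsom
  Cfsg.Agent.Lib.Helper5.ReflGen Cfsg.Agent.Lib.Helper5.Eichler Cfsg.Agent.Lib.Helper5.SingGeom
  Cfsg.Agent.Lib.Helper5.OmegaGen Cfsg.Agent.Lib.Helper5.OmegaSimple Cfsg.Agent.Lib.Helper1.OMMG
  Cfsg.Agent.Lib.Helper1.OMMI Cfsg.Agent.Lib.Helper2.OMM

variable {F : Type*} [Field F] [Fintype F] [DecidableEq F]
variable {κ : Type} [Fintype κ] [DecidableEq κ] {Qc : QuadraticForm F (κ → F)}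
variable (ψ : AddChar F ℂ) (hψ : ∃ c, ψ c ≠ 1) (hnd : (polarBilin Qc).Nondegenerate)
  (H : Hyp (Q3 Qc))
variable {V : Type*} [AddCommGroup V] [Module ℂ V]

/-- the degree in a multiplicity-one configuration -/
theorem finrank_of_levelOne [FiniteDimensional ℂ V] (ρ : Representation ℂ (GG Qc) V) (c : F)
    (hL : LevelOne ψ hψ hnd H ρ c) (r : ℕ) (hr : mU ψ hψ hnd H ρ 0 = r) :
    Module.finrank ℂ V = r + Nat.card {w : K2 κ → F // w ≠ 0 ∧ Q2 Qc w = c} := by
  classical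
  have h1 : ∑ w : K2 κ → F, mU ψ hψ hnd H ρ w = (Module.finrank ℂ V : ℂ) := by
    unfold mU
    rw [(DU ψ hψ hnd H).sum_mult ρ, Representation.char_one]
  have h2 : ∑ w : K2 κ → F, mU ψ hψ hnd H ρ w =
      mU ψ hψ hnd H ρ 0 + ∑ w ∈ Finset.univ.erase (0 : K2 κ → F),
        (if Q2 Qc w = c then (1 : ℂ) else 0) := by
    rw [← Finset.add_sum_erase Finset.univ _ (Finset.mem_univ (0 : K2 κ → F))]
    congr 1
    refine Finset.sum_congr rfl fun w hw => ?_
    have hw0 : w ≠ 0 := Finset.ne_of_mem_erase hw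
    by_cases hc : Q2 Qc w = c
    · rw [if_pos hc, hL.1 w hw0 hc]
    · rw [if_neg hc, hL.2 w hw0 hc]
  have h3 : ∑ w ∈ Finset.univ.erase (0 : K2 κ → F), (if Q2 Qc w = c then (1 : ℂ) else 0) =
      (Nat.card {w : K2 κ → F // w ≠ 0 ∧ Q2 Qc w = c} : ℂ) := by
    rw [Finset.sum_boole, Nat.card_eq_fintype_card, Fintype.card_subtype]
    congr 2
    ext w
    simp only [Finset.mem_filter, Finset.mem_erase, Finset.mem_univ, and_true, true_and]
  rw [h2, h3, hr] at h1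
  exact_mod_cast h1.symm

/-- the same with the level set itself for `c ≠ 0` -/
theorem finrank_of_levelOne_ne [FiniteDimensional ℂ V] (ρ : Representation ℂ (GG Qc) V) (c : F)
    (hc : c ≠ 0) (hL : LevelOne ψ hψ hnd H ρ c) (r : ℕ) (hr : mU ψ hψ hnd H ρ 0 = r) :
    Module.finrank ℂ V = r + Nat.card {w : K2 κ → F // Q2 Qc w = c} := by
  rw [finrank_of_levelOne ψ hψ hnd H ρ c hL r hr]
  congr 1
  apply Nat.card_congr
  exact Equiv.subtypeEquivRight (fun w => ⟨fun h => h.2,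
    fun h => ⟨fun hw => hc (by rw [← h, hw, map_zero]), h⟩⟩)

end Cfsg.Agent.Lib.Helper6.OMMDeg
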