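import Mathlib
import Cfsg.Agent.Lib.Helper5.OS.Defs
import Cfsg.Agent.Lib.Helper5.OS.Basic
import Cfsg.Agent.Lib.Helper1.DihedralRecognition

set_option autoImplicit false
set_option linter.unusedSectionVars false
set_option linter.unusedVariables false
set_option linter.unusedSimpArgs false
set_option linter.style.haveILetI false
set_option maxHeartbeats 1000000

/-! # S3421 piece P8a: the Sylow 2-subgroup `T` is dihedral of order `2 |T ∩ A0|`. -/

open Cfsg.Agent.Lib.Helper5.OS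

namespace Cfsg.Agent.Lib.Helper6.OS

variable {G : Type*} [Group G] [Finite G] {p q n m : ℕ}

/-- a subgroup contained in a cyclic subgroup `⟨a⟩` has a generator -/
theorem exists_generator_of_le_zpowers {a : G} (K : Subgroup G) (hK : K ≤ Subgroup.zpowers a) :
    ∃ x ∈ K, orderOf x = Nat.card K ∧ K = Subgroup.zpowers x := by
  haveI : IsCyclic ↥(K.subgroupOf (Subgroup.zpowers a)) := inferInstance
  haveI : IsCyclic ↥K :=
    isCyclic_of_surjective (Subgroup.subgroupOfEquivOfLe hK).toMonoidHom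
      (Subgroup.subgroupOfEquivOfLe hK).surjective
  obtain ⟨g, hg⟩ := IsCyclic.exists_generator (α := ↥K)
  refine ⟨(g : G), g.2, ?_, ?_⟩
  · rw [Subgroup.orderOf_coe]
    exact orderOf_eq_card_of_forall_mem_zpowers hg
  · apply le_antisymm
    · intro y hy
      obtain ⟨i, hi⟩ := Subgroup.mem_zpowers_iff.1 (hg ⟨y, hy⟩)
      rw [Subgroup.mem_zpowers_iff]
      refine ⟨i, ?_⟩
      have := congrArg Subtype.val hi
      simpa using this
    · rw [Subgroup.zpowers_le]; exact g.2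

theorem sylow_dihedral (h : Hyp G p q n m)
    {t a0 : G} {T : Sylow 2 G} (hC : CData G n t a0 T) {u : G} (huT : u ∈ (T : Subgroup G))
    (huA : u ∉ Subgroup.zpowers a0) (hu : orderOf u = 2)
    (hinvT : ∀ x ∈ (T : Subgroup G) ⊓ Subgroup.zpowers a0, u * x * u⁻¹ = x⁻¹) :
    2 ≤ Nat.card ↥((T : Subgroup G) ⊓ Subgroup.zpowers a0) ∧
    Nonempty (↥(T : Subgroup G) ≃* DihedralGroup (Nat.card ↥((T : Subgroup G) ⊓ Subgroup.zpowers a0))) := by
  refine ⟨hC.two_le_card_inf, ?_⟩
  obtain ⟨x, hxK, hxo, hKx⟩ :=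
    exists_generator_of_le_zpowers ((T : Subgroup G) ⊓ Subgroup.zpowers a0) inf_le_right
  haveI : NeZero (Nat.card ↥((T : Subgroup G) ⊓ Subgroup.zpowers a0)) := ⟨Nat.card_pos.ne'⟩
  have hxT : x ∈ (T : Subgroup G) := hxK.1
  have hxA : x ∈ Subgroup.zpowers a0 := hxK.2
  refine Cfsg.Agent.Lib.Helper1.nonempty_mulEquiv_dihedralGroup
    (Y := ↥(T : Subgroup G)) (Nat.card ↥((T : Subgroup G) ⊓ Subgroup.zpowers a0))
    ⟨x, hxT⟩ ⟨u, huT⟩ ?_ ?_ ?_ ?_ ?_
  · rw [Subgroup.orderOf_mk, hxo]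
  · intro hmem
    obtain ⟨i, hi⟩ := Subgroup.mem_zpowers_iff.1 hmem
    apply huA
    have h1 : x ^ i = u := by
      have := congrArg Subtype.val hi
      simpa using this
    rw [← h1]
    exact Subgroup.zpow_mem _ hxA i
  · apply Subtype.ext
    show u * u = 1
    rw [← pow_two, ← hu]; exact pow_orderOf_eq_one u
  · apply Subtype.ext
    show u * x * u⁻¹ = x⁻¹
    exact hinvT x hxK
  · rw [← hC.TA]; ring

end Cfsg.Agent.Lib.Helper6.OS
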