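import Mathlib
import Cfsg.Agent.Lib.Helper5.OrthPrime.Cancel
import Cfsg.Agent.Lib.Helper2.UkfE

set_option autoImplicit false
set_option maxHeartbeats 1000000
set_option linter.unusedVariables false
set_option linter.unusedSectionVars false
set_option linter.style.longLine false
set_option linter.unusedSimpArgs false
set_option linter.deprecated false

/-! Field-extension subgroups of orthogonal groups (part A): self-adjoint square roots `J` of a
nonsquare `ε` on a quadratic space, the `F[√ε]`-valued form, normalised vectors. -/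

namespace Cfsg.Agent.Lib.Helper6.Ofx

open Module Polynomial Cfsg.Agent.Lib.Helper5.OrthPrime Cfsg.Agent.Lib.Helper2.Ukf

universe u v

section Basic

variable {F : Type u} [Field F] {V : Type v} [AddCommGroup V] [Module F V]
variable (B : V →ₗ[F] V →ₗ[F] F)

/-- `J` is a self-adjoint square root of `ε` -/
def IsJs (ε : F) (J : Module.End F V) : Prop :=
  (∀ v, J (J v) = ε • v) ∧ ∀ u v, B (J u) v = B u (J v)

theorem IsJs.BJJ {B : V →ₗ[F] V →ₗ[F] F} {ε : F} {J : Module.End F V} (hJ : IsJs B ε J)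
    (u v : V) : B (J u) (J v) = ε * B u v := by
  rw [hJ.2, hJ.1, map_smul, smul_eq_mul]

theorem IsJs.injective {B : V →ₗ[F] V →ₗ[F] F} {ε : F} {J : Module.End F V} (hJ : IsJs B ε J)
    (hε0 : ε ≠ 0) : Function.Injective J := by
  intro a b hab
  have h1 := congrArg J hab
  rw [hJ.1, hJ.1] at h1
  exact smul_right_injective V hε0 h1

theorem IsJs.restrict {B : V →ₗ[F] V →ₗ[F] F} {ε : F} {J : Module.End F V} (hJ : IsJs B ε J)
    (W : Submodule F V) (hW : ∀ w ∈ W, J w ∈ W) : IsJs (resForm B W) ε (J.restrict hW) := by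
  constructor
  · intro v
    apply Subtype.ext
    show J (J (v : V)) = ε • (v : V)
    exact hJ.1 v
  · intro u v
    show B (J (u : V)) (v : V) = B (u : V) (J (v : V))
    exact hJ.2 u v

theorem disc_ne_zero {ε : F} (hε : ∀ e : F, e * e ≠ ε) {a b : F} (h : a ≠ 0 ∨ b ≠ 0) :
    ε * a ^ 2 - b ^ 2 ≠ 0 := by
  intro h0
  by_cases ha : a = 0
  · subst ha
    have hb : b ≠ 0 := h.resolve_left (fun h => h rfl)
    apply hb
    have h1 : b ^ 2 = 0 := by linear_combination -h0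
    exact pow_eq_zero_iff (two_ne_zero) |>.mp h1
  · apply hε (b / a)
    rw [div_mul_div_comm, div_eq_iff (mul_ne_zero ha ha)]
    linear_combination -h0

/-- the values of the form on the `J`-span of a vector -/
theorem form_span {ε : F} (hS : Symm B) {J : Module.End F V} (hJ : IsJs B ε J) (u : V) (s t : F) :
    B (s • u + t • J u) (s • u + t • J u) = (s ^ 2 + ε * t ^ 2) * B u u + 2 * s * t * B u (J u) ∧
    B (s • u + t • J u) (J (s • u + t • J u)) =
      (s ^ 2 + ε * t ^ 2) * B u (J u) + 2 * s * t * ε * B u u := by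
  have h1 : B (J u) u = B u (J u) := hJ.2 u u
  have h2 : B (J u) (J u) = ε * B u u := hJ.BJJ u u
  have h3 : J (J u) = ε • u := hJ.1 u
  constructor
  · simp only [map_add, map_smul, LinearMap.add_apply, LinearMap.smul_apply, smul_eq_mul, h1, h2]
    ring
  · simp only [map_add, map_smul, LinearMap.add_apply, LinearMap.smul_apply, smul_eq_mul, h1, h2,
      h3]
    ring

/-- splitting off the `J`-span of a vector -/
theorem decomp_plane {ε : F} (hε : ∀ e : F, e * e ≠ ε) (hS : Symm B) {J : Module.End F V}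
    (hJ : IsJs B ε J) (u : V) (hu : B u u ≠ 0 ∨ B u (J u) ≠ 0) (x : V) :
    ∃ (s t : F) (w : V), x = s • u + t • J u + w ∧ B u w = 0 ∧ B (J u) w = 0 := by
  obtain ⟨a, ha⟩ : ∃ a : F, a = B u u := ⟨_, rfl⟩
  obtain ⟨b, hb⟩ : ∃ b : F, b = B u (J u) := ⟨_, rfl⟩
  rw [← ha, ← hb] at hu
  have hD := disc_ne_zero hε hu
  have h1 : B (J u) u = b := by rw [hb]; exact hJ.2 u u
  have h2 : B (J u) (J u) = ε * a := by rw [ha]; exact hJ.BJJ u u
  obtain ⟨s, hs⟩ : ∃ s : F, s = (ε * a * B u x - b * B (J u) x) / (ε * a ^ 2 - b ^ 2) := ⟨_, rfl⟩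
  obtain ⟨t, ht⟩ : ∃ t : F, t = (a * B (J u) x - b * B u x) / (ε * a ^ 2 - b ^ 2) := ⟨_, rfl⟩
  refine ⟨s, t, x - (s • u + t • J u), (add_sub_cancel _ _).symm, ?_, ?_⟩
  · rw [map_sub, map_add, map_smul, map_smul, smul_eq_mul, smul_eq_mul, ← ha, ← hb, hs, ht]
    field_simp
    ring
  · rw [map_sub, map_add, map_smul, map_smul, smul_eq_mul, smul_eq_mul, h1, h2, hs, ht]
    field_simp
    ring

end Basic

section EForm

variable {F : Type u} [Field F] {V : Type v} [AddCommGroup V] [Module F V]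
variable (B : V →ₗ[F] V →ₗ[F] F) (ε : F) (J : Module.End F V)

/-- the value of the `F[√ε]`-valued form -/
def kap (u v : V) : QuadraticAlgebra F ε 0 := ⟨B u v, ε⁻¹ * B u (J v)⟩

/-- the action of `F[√ε]` -/
def kact (k : QuadraticAlgebra F ε 0) (u : V) : V := k.re • u + k.im • J u

theorem kap_add_left (u u' v : V) : kap B ε J (u + u') v = kap B ε J u v + kap B ε J u' v := by
  ext
  · simp [kap]
  · simp [kap, mul_add]

theorem kap_add_right (u v v' : V) : kap B ε J u (v + v') = kap B ε J u v + kap B ε J u v' := by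
  ext
  · simp [kap]
  · simp [kap, mul_add]

variable {B ε J}

theorem kap_symm (hS : Symm B) (hJ : IsJs B ε J) (u v : V) : kap B ε J u v = kap B ε J v u := by
  ext
  · exact hS u v
  · show ε⁻¹ * B u (J v) = ε⁻¹ * B v (J u)
    rw [hS u (J v), hJ.2]

theorem kap_kact_left (hε0 : ε ≠ 0) (hJ : IsJs B ε J) (k : QuadraticAlgebra F ε 0) (u v : V) :
    kap B ε J (kact ε J k u) v = k * kap B ε J u v := by
  ext
  · show B (k.re • u + k.im • J u) v = k.re * B u v + ε * k.im * (ε⁻¹ * B u (J v))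
    rw [map_add, map_smul, map_smul, LinearMap.add_apply, LinearMap.smul_apply,
      LinearMap.smul_apply, smul_eq_mul, smul_eq_mul, hJ.2]
    field_simp
  · show ε⁻¹ * B (k.re • u + k.im • J u) (J v) =
      k.re * (ε⁻¹ * B u (J v)) + k.im * B u v + 0 * k.im * (ε⁻¹ * B u (J v))
    rw [map_add, map_smul, map_smul, LinearMap.add_apply, LinearMap.smul_apply,
      LinearMap.smul_apply, smul_eq_mul, smul_eq_mul, hJ.BJJ]
    field_simp
    ring

theorem kap_kact_right (hε0 : ε ≠ 0) (hS : Symm B) (hJ : IsJs B ε J)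
    (k : QuadraticAlgebra F ε 0) (u v : V) :
    kap B ε J u (kact ε J k v) = k * kap B ε J u v := by
  rw [kap_symm hS hJ, kap_kact_left hε0 hJ, kap_symm hS hJ]

theorem kap_comb (hε0 : ε ≠ 0) (hS : Symm B) (hJ : IsJs B ε J) (k₁ k₂ : QuadraticAlgebra F ε 0)
    (u₁ u₂ : V) :
    kap B ε J (kact ε J k₁ u₁ + kact ε J k₂ u₂) (kact ε J k₁ u₁ + kact ε J k₂ u₂) =
      k₁ * k₁ * kap B ε J u₁ u₁ + k₂ * k₂ * kap B ε J u₂ u₂ + 2 * k₁ * k₂ * kap B ε J u₁ u₂ := by
  rw [kap_add_left, kap_add_right, kap_add_right, kap_kact_left hε0 hJ, kap_kact_left hε0 hJ,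
    kap_kact_left hε0 hJ, kap_kact_left hε0 hJ, kap_kact_right hε0 hS hJ,
    kap_kact_right hε0 hS hJ, kap_kact_right hε0 hS hJ, kap_kact_right hε0 hS hJ,
    kap_symm hS hJ u₂ u₁]
  ring

end EForm

section Unit

variable {F : Type u} [Field F] [Fintype F] {V : Type v} [AddCommGroup V] [Module F V]
  [FiniteDimensional F V]
variable (B : V →ₗ[F] V →ₗ[F] F)

/-- **normalised vectors**: in dimension at least three there is `u` with `B u u = 1` and
`B u (J u) = 0` -/
theorem exists_unit (hodd : Odd (Fintype.card F)) {ε : F} (hε : ∀ e : F, e * e ≠ ε)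
    (hS : Symm B) (hB : Nondeg B) {J : Module.End F V} (hJ : IsJs B ε J)
    (hdim : 3 ≤ finrank F V) : ∃ u : V, B u u = 1 ∧ B u (J u) = 0 := by
  classical
  have h2F : (2 : F) ≠ 0 := two_ne_zero_of_odd hodd
  have hε0 : ε ≠ 0 := by
    rintro rfl
    exact hε 0 (mul_zero 0)
  haveI : Fact (∀ r : F, r ^ 2 ≠ ε + 0 * r) := ⟨fun r h => hε r (by rw [← sq, h]; ring)⟩
  letI : Fintype (QuadraticAlgebra F ε 0) :=
    Fintype.ofEquiv (F × F) (QuadraticAlgebra.equivProd ε 0).symm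
  have hcardE : Fintype.card (QuadraticAlgebra F ε 0) % 2 = 1 := by
    rw [Fintype.card_congr (QuadraticAlgebra.equivProd ε 0), Fintype.card_prod]
    exact Nat.odd_iff.mp (Nat.odd_mul.mpr ⟨hodd, hodd⟩)
  haveI : Nontrivial V := Module.nontrivial_of_finrank_pos (R := F) (by omega)
  obtain ⟨u₁, hu₁⟩ := exists_anisotropic h2F B hS hB
  obtain ⟨W, hW⟩ : ∃ W : Submodule F V, W = LinearMap.ker (B u₁) ⊓ LinearMap.ker (B (J u₁)) :=
    ⟨_, rfl⟩
  have hWmem : ∀ w, w ∈ W ↔ B u₁ w = 0 ∧ B (J u₁) w = 0 := by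
    intro w
    rw [hW, Submodule.mem_inf, LinearMap.mem_ker, LinearMap.mem_ker]
  have hker : ∀ f : V →ₗ[F] F, finrank F V ≤ finrank F (LinearMap.ker f) + 1 := by
    intro f
    have h1 := LinearMap.finrank_range_add_finrank_ker f
    have h2 : finrank F (LinearMap.range f) ≤ 1 := by
      have h3 := Submodule.finrank_le (LinearMap.range f)
      rwa [Module.finrank_self] at h3
    omega
  have hWpos : W ≠ ⊥ := by
    intro h
    have h1 := Submodule.finrank_sup_add_finrank_inf_eq (LinearMap.ker (B u₁))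
      (LinearMap.ker (B (J u₁)))
    rw [← hW, h, finrank_bot] at h1
    have h2 := Submodule.finrank_le (LinearMap.ker (B u₁) ⊔ LinearMap.ker (B (J u₁)))
    have h3 := hker (B u₁)
    have h4 := hker (B (J u₁))
    omega
  have hex : ∃ u₂ ∈ W, B u₂ u₂ ≠ 0 := by
    by_contra hcon
    push Not at hcon
    obtain ⟨w₀, hw₀, hw₀0⟩ := Submodule.exists_mem_ne_zero_of_ne_bot hWpos
    apply hw₀0
    apply hB
    intro x
    obtain ⟨s, t, w, rfl, h1, h2⟩ := decomp_plane B hε hS hJ u₁ (Or.inl hu₁) x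
    have hw : w ∈ W := (hWmem w).2 ⟨h1, h2⟩
    have hpol : B w w₀ = 0 := by
      have h3 := hcon (w + w₀) (W.add_mem hw hw₀)
      simp only [map_add, LinearMap.add_apply, hcon w hw, hcon w₀ hw₀, zero_add, add_zero] at h3
      rw [hS w₀ w, ← two_mul] at h3
      exact (mul_eq_zero.1 h3).resolve_left h2F
    rw [map_add, map_add, map_smul, map_smul, LinearMap.add_apply, LinearMap.add_apply,
      LinearMap.smul_apply, LinearMap.smul_apply, ((hWmem w₀).1 hw₀).1, ((hWmem w₀).1 hw₀).2,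
      hpol, smul_zero, smul_zero, add_zero, add_zero]
  obtain ⟨u₂, hu₂W, hu₂⟩ := hex
  have hk₁ : kap B ε J u₁ u₁ ≠ 0 := by
    intro h
    exact hu₁ (congrArg QuadraticAlgebra.re h)
  have hk₂ : kap B ε J u₂ u₂ ≠ 0 := by
    intro h
    exact hu₂ (congrArg QuadraticAlgebra.re h)
  have hk₁₂ : kap B ε J u₁ u₂ = 0 := by
    ext
    · exact ((hWmem u₂).1 hu₂W).1
    · show ε⁻¹ * B u₁ (J u₂) = 0
      rw [← hJ.2, ((hWmem u₂).1 hu₂W).2, mul_zero]
  obtain ⟨k₁, k₂, hk⟩ := FiniteField.exists_root_sum_quadratic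
    (f := C (kap B ε J u₁ u₁) * X ^ 2 + C 0 * X + C (-1))
    (g := C (kap B ε J u₂ u₂) * X ^ 2 + C 0 * X + C 0)
    (degree_quadratic hk₁) (degree_quadratic hk₂) hcardE
  simp only [eval_add, eval_mul, eval_C, eval_pow, eval_X] at hk
  have hkk : kap B ε J (kact ε J k₁ u₁ + kact ε J k₂ u₂) (kact ε J k₁ u₁ + kact ε J k₂ u₂) = 1 := by
    rw [kap_comb hε0 hS hJ, hk₁₂]
    linear_combination hk
  refine ⟨kact ε J k₁ u₁ + kact ε J k₂ u₂, congrArg QuadraticAlgebra.re hkk, ?_⟩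
  have him := congrArg QuadraticAlgebra.im hkk
  have him' : ε⁻¹ * B (kact ε J k₁ u₁ + kact ε J k₂ u₂) (J (kact ε J k₁ u₁ + kact ε J k₂ u₂)) = 0 :=
    him
  exact (mul_eq_zero.mp him').resolve_left (inv_ne_zero hε0)

end Unit

section Sqrt

variable {F : Type u} [Field F] [Fintype F]

theorem sq_or_eps_sq (hodd : Odd (Fintype.card F)) {ε : F} (hε : ∀ e : F, e * e ≠ ε) (x : F)
    (hx : x ≠ 0) : (∃ s, x = s * s) ∨ ∃ t, x = ε * (t * t) := by
  by_cases h : IsSquare x
  · obtain ⟨s, hs⟩ := h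
    exact Or.inl ⟨s, hs⟩
  · right
    have hch : ringChar F ≠ 2 := ringChar_ne_two_of_odd hodd
    have hε0 : ε ≠ 0 := by
      rintro rfl
      exact hε 0 (mul_zero 0)
    have h1 : ε ^ (Fintype.card F / 2) = -1 := nonsq_pow_half hodd ε hε
    have h2 : x ^ (Fintype.card F / 2) = -1 :=
      nonsq_pow_half hodd x (fun e he => h ⟨e, he.symm⟩)
    have h3 : IsSquare (x * ε⁻¹) := by
      rw [FiniteField.isSquare_iff hch (mul_ne_zero hx (inv_ne_zero hε0)), mul_pow, inv_pow, h1,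
        h2]
      norm_num
    obtain ⟨t, ht⟩ := h3
    refine ⟨t, ?_⟩
    rw [← ht]
    field_simp

/-- an element of `F[√ε]` with square norm is a square (in coordinates) -/
theorem exists_sqrt_pair (hodd : Odd (Fintype.card F)) {ε : F} (hε : ∀ e : F, e * e ≠ ε)
    (m₁ m₂ c : F) (hc : c ≠ 0) (h : m₁ ^ 2 - ε * m₂ ^ 2 = c ^ 2) :
    ∃ s t : F, s ^ 2 + ε * t ^ 2 = m₁ ∧ 2 * s * t = m₂ := by
  have h2F : (2 : F) ≠ 0 := two_ne_zero_of_odd hodd
  have hε0 : ε ≠ 0 := by
    rintro rfl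
    exact hε 0 (mul_zero 0)
  by_cases hm₂ : m₂ = 0
  · subst hm₂
    have hm₁ : m₁ ≠ 0 := by
      rintro rfl
      apply hc
      have : c ^ 2 = 0 := by rw [← h]; ring
      exact pow_eq_zero_iff two_ne_zero |>.mp this
    rcases sq_or_eps_sq hodd hε m₁ hm₁ with ⟨s, hs⟩ | ⟨t, ht⟩
    · exact ⟨s, 0, by rw [hs]; ring, by ring⟩
    · exact ⟨0, t, by rw [ht]; ring, by ring⟩
  · obtain ⟨A, hA⟩ : ∃ A : F, A = (m₁ + c) / 2 := ⟨_, rfl⟩
    obtain ⟨A', hA'⟩ : ∃ A' : F, A' = (m₁ - c) / 2 := ⟨_, rfl⟩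
    have hAA : A * A' = ε * (m₂ / 2) ^ 2 := by
      rw [hA, hA']
      field_simp
      linear_combination h
    have hAA0 : A * A' ≠ 0 := by
      rw [hAA]
      exact mul_ne_zero hε0 (pow_ne_zero 2 (div_ne_zero hm₂ h2F))
    have hA0 : A ≠ 0 := left_ne_zero_of_mul hAA0
    have hsum : A + A' = m₁ := by
      rw [hA, hA']
      field_simp
      ring
    rcases sq_or_eps_sq hodd hε A hA0 with ⟨s, hs⟩ | ⟨t, ht⟩
    · have hs0 : s ≠ 0 := by
        rintro rfl
        exact hA0 (by rw [hs]; ring)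
      refine ⟨s, m₂ / (2 * s), ?_, ?_⟩
      · have h1 : ε * (m₂ / (2 * s)) ^ 2 = A' := by
          have h2 : A' = ε * (m₂ / 2) ^ 2 / A := by
            rw [← hAA]
            field_simp
          rw [h2, hs]
          field_simp
        rw [h1, ← hsum, hs]
        ring
      · field_simp
    · have ht0 : t ≠ 0 := by
        rintro rfl
        exact hA0 (by rw [ht]; ring)
      refine ⟨m₂ / (2 * t), t, ?_, ?_⟩
      · have h1 : (m₂ / (2 * t)) ^ 2 = A' := by
          have h2 : A' = ε * (m₂ / 2) ^ 2 / A := by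
            rw [← hAA]
            field_simp
          rw [h2, ht]
          field_simp
        rw [h1, ← hsum, ht]
        ring
      · field_simp

end Sqrt

section Rescale

variable {F : Type u} [Field F] [Fintype F] {V : Type v} [AddCommGroup V] [Module F V]
variable (B : V →ₗ[F] V →ₗ[F] F)

/-- rescaling a vector by an element of `F[√ε]` to prescribed values with the same
discriminant class -/
theorem exists_rescale (hodd : Odd (Fintype.card F)) {ε : F} (hε : ∀ e : F, e * e ≠ ε)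
    (hS : Symm B) {J : Module.End F V} (hJ : IsJs B ε J) (u : V) (a' b' c : F) (hc : c ≠ 0)
    (hu : B u u ≠ 0 ∨ B u (J u) ≠ 0)
    (h : ε * a' ^ 2 - b' ^ 2 = c ^ 2 * (ε * (B u u) ^ 2 - (B u (J u)) ^ 2)) :
    ∃ s t : F, B (s • u + t • J u) (s • u + t • J u) = a' ∧
      B (s • u + t • J u) (J (s • u + t • J u)) = b' := by
  obtain ⟨a, ha⟩ : ∃ a : F, a = B u u := ⟨_, rfl⟩
  obtain ⟨b, hb⟩ : ∃ b : F, b = B u (J u) := ⟨_, rfl⟩
  rw [← ha, ← hb] at hu h
  have hD := disc_ne_zero hε hu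
  obtain ⟨s, t, h1, h2⟩ := exists_sqrt_pair hodd hε
    ((ε * a * a' - b * b') / (ε * a ^ 2 - b ^ 2)) ((a * b' - a' * b) / (ε * a ^ 2 - b ^ 2)) c hc
    (by
      field_simp
      linear_combination (ε * a ^ 2 - b ^ 2) * h)
  refine ⟨s, t, ?_, ?_⟩
  · rw [(form_span B hS hJ u s t).1, ← ha, ← hb, h1]
    have h3 : 2 * s * t * b = (a * b' - a' * b) / (ε * a ^ 2 - b ^ 2) * b := by rw [← h2]
    rw [h3]
    field_simp
    ring
  · rw [(form_span B hS hJ u s t).2, ← ha, ← hb, h1]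
    have h3 : 2 * s * t * ε * a = (a * b' - a' * b) / (ε * a ^ 2 - b ^ 2) * ε * a := by rw [← h2]
    rw [h3]
    field_simp
    ring

end Rescale

end Cfsg.Agent.Lib.Helper6.Ofx
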