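import Mathlib
import Cfsg.Agent.Lib.Helper6.OfxA

set_option autoImplicit false
set_option maxHeartbeats 1000000
set_option linter.unusedVariables false
set_option linter.unusedSectionVars false
set_option linter.style.longLine false
set_option linter.unusedSimpArgs false
set_option linter.deprecated false
set_option linter.style.haveILetI false

/-! Field-extension subgroups of orthogonal groups (part B): gluing along orthogonal
decompositions, existence of self-adjoint square roots of `ε`, and their conjugacy under the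
isometry group. -/

namespace Cfsg.Agent.Lib.Helper6.Ofx

open Module Polynomial Cfsg.Agent.Lib.Helper5.OrthPrime Cfsg.Agent.Lib.Helper2.Ukf

universe u v

section Glue

variable {F : Type u} [Field F] {V : Type v} [AddCommGroup V] [Module F V]
variable (B : V →ₗ[F] V →ₗ[F] F)

theorem exists_decomp {U W : Submodule F V} (h : IsCompl U W) (v : V) :
    ∃ u ∈ U, ∃ w ∈ W, v = u + w := by
  have hv : v ∈ U ⊔ W := by
    rw [h.sup_eq_top]
    exact Submodule.mem_top
  obtain ⟨u, hu, w, hw, rfl⟩ := Submodule.mem_sup.mp hv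
  exact ⟨u, hu, w, hw, rfl⟩

/-- gluing endomorphisms of two complementary subspaces -/
noncomputable def glueEnd {U W : Submodule F V} (h : IsCompl U W) (f : Module.End F U)
    (g : Module.End F W) : Module.End F V :=
  LinearMap.ofIsCompl h (U.subtype ∘ₗ f) (W.subtype ∘ₗ g)

theorem glueEnd_left {U W : Submodule F V} (h : IsCompl U W) (f : Module.End F U)
    (g : Module.End F W) (u : V) (hu : u ∈ U) : glueEnd h f g u = (f ⟨u, hu⟩ : V) :=
  LinearMap.ofIsCompl_apply_left h ⟨u, hu⟩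

theorem glueEnd_right {U W : Submodule F V} (h : IsCompl U W) (f : Module.End F U)
    (g : Module.End F W) (w : V) (hw : w ∈ W) : glueEnd h f g w = (g ⟨w, hw⟩ : V) :=
  LinearMap.ofIsCompl_apply_right h ⟨w, hw⟩

theorem glue_isJs {ε : F} (hS : Symm B) {U W : Submodule F V} (h : IsCompl U W)
    (horth : ∀ u ∈ U, ∀ w ∈ W, B u w = 0) {f : Module.End F U} {g : Module.End F W}
    (hf : IsJs (resForm B U) ε f) (hg : IsJs (resForm B W) ε g) : IsJs B ε (glueEnd h f g) := by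
  have horth' : ∀ w ∈ W, ∀ u ∈ U, B w u = 0 := fun w hw u hu => by
    rw [hS]
    exact horth u hu w hw
  constructor
  · intro v
    obtain ⟨u, hu, w, hw, rfl⟩ := exists_decomp h v
    have e1 : ((f (f ⟨u, hu⟩) : U) : V) = ε • u := congrArg Subtype.val (hf.1 ⟨u, hu⟩)
    have e2 : ((g (g ⟨w, hw⟩) : W) : V) = ε • w := congrArg Subtype.val (hg.1 ⟨w, hw⟩)
    rw [map_add, map_add, glueEnd_left h f g u hu, glueEnd_right h f g w hw,
      glueEnd_left h f g _ (f ⟨u, hu⟩).2, glueEnd_right h f g _ (g ⟨w, hw⟩).2, smul_add]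
    exact congrArg₂ (· + ·) e1 e2
  · intro x y
    obtain ⟨u₁, hu₁, w₁, hw₁, rfl⟩ := exists_decomp h x
    obtain ⟨u₂, hu₂, w₂, hw₂, rfl⟩ := exists_decomp h y
    have e1 : B (f ⟨u₁, hu₁⟩ : V) u₂ = B u₁ (f ⟨u₂, hu₂⟩ : V) := hf.2 ⟨u₁, hu₁⟩ ⟨u₂, hu₂⟩
    have e2 : B (g ⟨w₁, hw₁⟩ : V) w₂ = B w₁ (g ⟨w₂, hw₂⟩ : V) := hg.2 ⟨w₁, hw₁⟩ ⟨w₂, hw₂⟩
    have o1 := horth _ (f ⟨u₁, hu₁⟩).2 w₂ hw₂
    have o2 := horth' _ (g ⟨w₁, hw₁⟩).2 u₂ hu₂
    have o3 := horth u₁ hu₁ _ (g ⟨w₂, hw₂⟩).2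
    have o4 := horth' w₁ hw₁ _ (f ⟨u₂, hu₂⟩).2
    have hx : glueEnd h f g (u₁ + w₁) = (f ⟨u₁, hu₁⟩ : V) + (g ⟨w₁, hw₁⟩ : V) := by
      rw [map_add, glueEnd_left h f g u₁ hu₁, glueEnd_right h f g w₁ hw₁]
    have hy : glueEnd h f g (u₂ + w₂) = (f ⟨u₂, hu₂⟩ : V) + (g ⟨w₂, hw₂⟩ : V) := by
      rw [map_add, glueEnd_left h f g u₂ hu₂, glueEnd_right h f g w₂ hw₂]
    rw [hx, hy]
    simp only [map_add, LinearMap.add_apply]
    rw [e1, e2, o1, o2, o3, o4]

end Glue

section Perp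

variable {F : Type u} [Field F] {V : Type v} [AddCommGroup V] [Module F V]
  [FiniteDimensional F V]
variable (B : V →ₗ[F] V →ₗ[F] F)

theorem nondegenerate_of_nondeg (hS : Symm B) (hB : Nondeg B) :
    LinearMap.BilinForm.Nondegenerate B :=
  ⟨fun x hx => hB x (fun w => by rw [hS]; exact hx w), fun y hy => hB y hy⟩

/-- the orthogonal complement of a nondegenerate subspace -/
theorem perp_data (hS : Symm B) (hB : Nondeg B) (U : Submodule F V)
    (hU : Nondeg (resForm B U)) :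
    IsCompl U (LinearMap.BilinForm.orthogonal B U) ∧
    Nondeg (resForm B (LinearMap.BilinForm.orthogonal B U)) ∧
    (∀ u ∈ U, ∀ w ∈ LinearMap.BilinForm.orthogonal B U, B u w = 0) := by
  have hrefl : LinearMap.BilinForm.IsRefl B := fun x y h => by
    rw [hS]
    exact h
  have hnd : (LinearMap.BilinForm.restrict B U).Nondegenerate :=
    ⟨fun x hx => hU x (fun w => by
      have h1 := hx w
      have h2 : B (x : V) (w : V) = 0 := h1
      show B (w : V) (x : V) = 0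
      rw [hS]
      exact h2), fun y hy => hU y (fun w => hy w)⟩
  have hc := LinearMap.BilinForm.isCompl_orthogonal_of_restrict_nondegenerate hrefl hnd
  have horth : ∀ u ∈ U, ∀ w ∈ LinearMap.BilinForm.orthogonal B U, B u w = 0 :=
    fun u hu w hw => hw u hu
  exact ⟨hc, nondeg_of_isCompl hS hB hc.symm (fun w hw u hu => by
    rw [hS]
    exact horth u hu w hw), horth⟩

end Perp

section Exist

variable {F : Type u} [Field F] [Fintype F]

theorem exists_orth_pair {V : Type v} [AddCommGroup V] [Module F V] [FiniteDimensional F V]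
    (B : V →ₗ[F] V →ₗ[F] F) (hodd : Odd (Fintype.card F)) (hS : Symm B) (hB : Nondeg B)
    (hdim : 2 ≤ finrank F V) :
    ∃ v₁ v₂ : V, B v₁ v₁ ≠ 0 ∧ B v₂ v₂ ≠ 0 ∧ B v₁ v₂ = 0 ∧ LinearIndependent F ![v₁, v₂] := by
  have h2F := two_ne_zero_of_odd hodd
  haveI : Nontrivial V := Module.nontrivial_of_finrank_pos (R := F) (by omega)
  obtain ⟨v₁, hv₁⟩ := exists_anisotropic h2F B hS hB
  have hk := finrank_ker_add_one B v₁ hv₁
  haveI : Nontrivial (LinearMap.ker (B v₁)) :=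
    Module.nontrivial_of_finrank_pos (R := F) (by omega)
  obtain ⟨v₂', hv₂'⟩ := exists_anisotropic h2F (resForm B (LinearMap.ker (B v₁)))
    (symm_resForm hS _) (nondeg_ker hB v₁ hv₁)
  obtain ⟨v₂, hv₂⟩ : ∃ v₂ : V, v₂ = (v₂' : V) := ⟨_, rfl⟩
  have h12 : B v₁ v₂ = 0 := by
    rw [hv₂]
    exact LinearMap.mem_ker.mp v₂'.2
  have h22 : B v₂ v₂ ≠ 0 := by
    rw [hv₂]
    exact hv₂'
  have h21 : B v₂ v₁ = 0 := by
    rw [hS]
    exact h12
  refine ⟨v₁, v₂, hv₁, h22, h12, ?_⟩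
  rw [LinearIndependent.pair_iff]
  intro s t hst
  have e1 := congrArg (B v₁) hst
  have e2 := congrArg (B v₂) hst
  simp only [map_add, map_smul, smul_eq_mul, h12, h21, map_zero, mul_zero, add_zero,
    zero_add] at e1 e2
  exact ⟨(mul_eq_zero.mp e1).resolve_right hv₁, (mul_eq_zero.mp e2).resolve_right h22⟩

theorem span_pair_mem {V : Type v} [AddCommGroup V] [Module F V] (v₁ v₂ x : V)
    (hx : x ∈ Submodule.span F (Set.range ![v₁, v₂])) : ∃ s t : F, x = s • v₁ + t • v₂ := by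
  obtain ⟨c, hc⟩ := (Submodule.mem_span_range_iff_exists_fun F).mp hx
  refine ⟨c 0, c 1, ?_⟩
  rw [← hc, Fin.sum_univ_two]
  rfl

theorem exists_nd_plane {V : Type v} [AddCommGroup V] [Module F V] [FiniteDimensional F V]
    (B : V →ₗ[F] V →ₗ[F] F) (hodd : Odd (Fintype.card F)) (hS : Symm B) (hB : Nondeg B)
    (hdim : 2 ≤ finrank F V) :
    ∃ P : Submodule F V, finrank F P = 2 ∧ Nondeg (resForm B P) := by
  obtain ⟨v₁, v₂, h11, h22, h12, hli⟩ := exists_orth_pair B hodd hS hB hdim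
  have h21 : B v₂ v₁ = 0 := by
    rw [hS]
    exact h12
  refine ⟨Submodule.span F (Set.range ![v₁, v₂]), ?_, ?_⟩
  · rw [finrank_span_eq_card hli]
    rfl
  · intro x hx
    obtain ⟨s, t, hst⟩ := span_pair_mem v₁ v₂ (x : V) x.2
    have m1 : v₁ ∈ Submodule.span F (Set.range ![v₁, v₂]) :=
      Submodule.subset_span ⟨0, rfl⟩
    have m2 : v₂ ∈ Submodule.span F (Set.range ![v₁, v₂]) :=
      Submodule.subset_span ⟨1, rfl⟩
    have e1 : B v₁ (x : V) = 0 := hx ⟨v₁, m1⟩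
    have e2 : B v₂ (x : V) = 0 := hx ⟨v₂, m2⟩
    rw [hst] at e1 e2
    simp only [map_add, map_smul, smul_eq_mul, h12, h21, mul_zero, add_zero, zero_add] at e1 e2
    have hs : s = 0 := (mul_eq_zero.mp e1).resolve_right h11
    have ht : t = 0 := (mul_eq_zero.mp e2).resolve_right h22
    apply Subtype.ext
    rw [hst, hs, ht, zero_smul, zero_smul, add_zero]
    rfl

/-- existence in dimension two -/
theorem exists_Js_two {V : Type v} [AddCommGroup V] [Module F V] [FiniteDimensional F V]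
    (B : V →ₗ[F] V →ₗ[F] F) (hodd : Odd (Fintype.card F)) {ε : F} (hε : ∀ e : F, e * e ≠ ε)
    (hS : Symm B) (hB : Nondeg B) (hdim : finrank F V = 2) :
    ∃ J : Module.End F V, IsJs B ε J := by
  classical
  obtain ⟨v₁, v₂, h11, h22, h12, hli⟩ := exists_orth_pair B hodd hS hB (by omega)
  have h21 : B v₂ v₁ = 0 := by
    rw [hS]
    exact h12
  have hspan : ∀ x : V, ∃ s t : F, x = s • v₁ + t • v₂ := by
    intro x
    apply span_pair_mem v₁ v₂ x
    rw [hli.span_eq_top_of_card_eq_finrank' (by rw [hdim]; rfl)]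
    exact Submodule.mem_top
  obtain ⟨a₁, ha₁⟩ : ∃ a₁ : F, a₁ = B v₁ v₁ := ⟨_, rfl⟩
  obtain ⟨a₂, ha₂⟩ : ∃ a₂ : F, a₂ = B v₂ v₂ := ⟨_, rfl⟩
  rw [← ha₁] at h11
  rw [← ha₂] at h22
  obtain ⟨x, w, hxw⟩ := FiniteField.exists_root_sum_quadratic
    (f := C (1 : F) * X ^ 2 + C 0 * X + C (-ε))
    (g := C (a₁ * a₂) * X ^ 2 + C 0 * X + C 0)
    (degree_quadratic one_ne_zero) (degree_quadratic (mul_ne_zero h11 h22))
    (Nat.odd_iff.mp hodd)
  simp only [eval_add, eval_mul, eval_C, eval_pow, eval_X] at hxw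
  have hxw' : ε = x ^ 2 + a₁ * a₂ * w ^ 2 := by linear_combination -hxw
  obtain ⟨y₁, hy₁⟩ : ∃ y₁ : V, y₁ = x • v₁ + (a₁ * w) • v₂ := ⟨_, rfl⟩
  obtain ⟨y₂, hy₂⟩ : ∃ y₂ : V, y₂ = (a₂ * w) • v₁ - x • v₂ := ⟨_, rfl⟩
  obtain ⟨J, hJdef⟩ : ∃ J : Module.End F V,
      J = (B v₁).smulRight (a₁⁻¹ • y₁) + (B v₂).smulRight (a₂⁻¹ • y₂) := ⟨_, rfl⟩
  have hJv : ∀ s t : F, J (s • v₁ + t • v₂) = s • y₁ + t • y₂ := by
    intro s t
    rw [hJdef, LinearMap.add_apply, LinearMap.smulRight_apply, LinearMap.smulRight_apply]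
    simp only [map_add, map_smul, smul_eq_mul, h12, h21, ← ha₁, ← ha₂, mul_zero, add_zero,
      zero_add]
    rw [smul_smul, smul_smul, mul_assoc, mul_assoc, mul_inv_cancel₀ h11, mul_inv_cancel₀ h22,
      mul_one, mul_one]
  have hy₁' : y₁ = x • v₁ + (a₁ * w) • v₂ := hy₁
  have hy₂' : y₂ = (a₂ * w) • v₁ + (-x) • v₂ := by
    rw [hy₂, neg_smul, sub_eq_add_neg]
  refine ⟨J, ?_, ?_⟩
  · intro v
    obtain ⟨s, t, rfl⟩ := hspan v
    have h1 : s • y₁ + t • y₂ = (s * x + t * (a₂ * w)) • v₁ + (s * (a₁ * w) + t * (-x)) • v₂ := by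
      rw [hy₁', hy₂']
      module
    rw [hJv, h1, hJv, hy₁', hy₂', hxw']
    module
  · intro p q
    obtain ⟨s, t, rfl⟩ := hspan p
    obtain ⟨s', t', rfl⟩ := hspan q
    rw [hJv, hJv, hy₁, hy₂]
    simp only [map_add, map_smul, map_sub, LinearMap.add_apply, LinearMap.smul_apply,
      LinearMap.sub_apply, smul_eq_mul, h12, h21, ← ha₁, ← ha₂]
    ring

/-- **existence** of self-adjoint square roots of `ε` in every even dimension -/
theorem exists_Js (hodd : Odd (Fintype.card F)) {ε : F} (hε : ∀ e : F, e * e ≠ ε) :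
    ∀ (n : ℕ) (V : Type v) [AddCommGroup V] [Module F V] [FiniteDimensional F V]
      (B : V →ₗ[F] V →ₗ[F] F), Symm B → Nondeg B → finrank F V = 2 * n →
      ∃ J : Module.End F V, IsJs B ε J := by
  intro n
  induction n with
  | zero =>
    intro V _ _ _ B hS hB hdim
    haveI : Subsingleton V := Module.finrank_zero_iff.mp (by simpa using hdim)
    refine ⟨0, fun v => Subsingleton.elim _ _, fun u v => ?_⟩
    rw [Subsingleton.elim u 0]
    simp
  | succ n ih =>
    intro V _ _ _ B hS hB hdim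
    obtain ⟨P, hP2, hPnd⟩ := exists_nd_plane B hodd hS hB (by omega)
    obtain ⟨hc, hWnd, horth⟩ := perp_data B hS hB P hPnd
    have hfin := Submodule.finrank_add_eq_of_isCompl hc
    obtain ⟨f, hf⟩ := exists_Js_two (resForm B P) hodd hε (symm_resForm hS P) hPnd hP2
    obtain ⟨g, hg⟩ := ih ↥(LinearMap.BilinForm.orthogonal B P) (resForm B _) (symm_resForm hS _)
      hWnd (by omega)
    exact ⟨glueEnd hc f g, glue_isJs B hS hc horth hf hg⟩

end Exist

end Cfsg.Agent.Lib.Helper6.Ofx
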