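import Mathlib
import Cfsg.Agent.Lib.Helper6.OfxB

set_option autoImplicit false
set_option maxHeartbeats 1000000
set_option linter.unusedVariables false
set_option linter.unusedSectionVars false
set_option linter.style.longLine false
set_option linter.unusedSimpArgs false
set_option linter.deprecated false
set_option linter.style.haveILetI false

/-! Field-extension subgroups of orthogonal groups (part C): the isometry group is transitive on
the self-adjoint square roots of a nonsquare `ε`. -/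

namespace Cfsg.Agent.Lib.Helper6.Ofx

open Module Polynomial Cfsg.Agent.Lib.Helper5.OrthPrime Cfsg.Agent.Lib.Helper2.Ukf

universe u v

section Pair

variable {F : Type u} [Field F] {V : Type v} [AddCommGroup V] [Module F V]

theorem li_pair {ε : F} (hε : ∀ e : F, e * e ≠ ε) {J : Module.End F V}
    (hJ2 : ∀ v, J (J v) = ε • v) (u : V) (hu : u ≠ 0) (s t : F) (h : s • u + t • J u = 0) :
    s = 0 ∧ t = 0 := by
  have h1 : s • J u + (t * ε) • u = 0 := by
    have h0 := congrArg J h
    rw [map_add, map_smul, map_smul, hJ2, smul_smul, map_zero] at h0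
    exact h0
  have h2 : (s * s - t * t * ε) • u = 0 := by
    have h3 : (s * s - t * t * ε) • u =
        s • (s • u + t • J u) - t • (s • J u + (t * ε) • u) := by module
    rw [h3, h, h1, smul_zero, smul_zero, sub_zero]
  have h4 : s * s - t * t * ε = 0 := (smul_eq_zero.mp h2).resolve_right hu
  by_cases ht : t = 0
  · subst ht
    have h5 : s * s = 0 := by linear_combination h4
    exact ⟨mul_self_eq_zero.mp h5, rfl⟩
  · exfalso
    apply hε (s / t)
    rw [div_mul_div_comm, div_eq_iff (mul_ne_zero ht ht)]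
    linear_combination h4

/-- the parametrisation of the span of two vectors -/
noncomputable def planeMap (u w : V) : F × F →ₗ[F] V :=
  (LinearMap.fst F F F).smulRight u + (LinearMap.snd F F F).smulRight w

theorem planeMap_apply (u w : V) (x : F × F) : planeMap u w x = x.1 • u + x.2 • w := rfl

variable (B : V →ₗ[F] V →ₗ[F] F)

theorem planeMap_form {ε : F} {J : Module.End F V} (hJ : IsJs B ε J) (u : V) (x y : F × F) :
    B (planeMap u (J u) x) (planeMap u (J u) y) =
      x.1 * y.1 * B u u + (x.1 * y.2 + x.2 * y.1) * B u (J u) + x.2 * y.2 * (ε * B u u) := by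
  have h1 : B (J u) u = B u (J u) := hJ.2 u u
  have h2 : B (J u) (J u) = ε * B u u := hJ.BJJ u u
  rw [planeMap_apply, planeMap_apply]
  simp only [map_add, map_smul, LinearMap.add_apply, LinearMap.smul_apply, smul_eq_mul, h1, h2]
  ring

theorem planeMap_J {ε : F} {J : Module.End F V} (hJ : IsJs B ε J) (u : V) (x : F × F) :
    J (planeMap u (J u) x) = planeMap u (J u) (x.2 * ε, x.1) := by
  rw [planeMap_apply, planeMap_apply, map_add, map_smul, map_smul, hJ.1, smul_smul, add_comm]

theorem planeMap_nondeg {ε : F} (hε : ∀ e : F, e * e ≠ ε) {J : Module.End F V}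
    (hJ : IsJs B ε J) (u : V) (hu : B u u ≠ 0 ∨ B u (J u) ≠ 0) :
    Nondeg (resForm B (LinearMap.range (planeMap u (J u)))) := by
  have hD := disc_ne_zero hε hu
  rintro ⟨p, x, rfl⟩ hp
  have e1 : B (planeMap u (J u) ((1 : F), (0 : F))) (planeMap u (J u) x) = 0 :=
    hp ⟨planeMap u (J u) ((1 : F), (0 : F)), ⟨((1 : F), (0 : F)), rfl⟩⟩
  have e2 : B (planeMap u (J u) ((0 : F), (1 : F))) (planeMap u (J u) x) = 0 :=
    hp ⟨planeMap u (J u) ((0 : F), (1 : F)), ⟨((0 : F), (1 : F)), rfl⟩⟩
  rw [planeMap_form B hJ] at e1 e2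
  simp only [one_mul, zero_mul, zero_add, add_zero] at e1 e2
  have h1 : x.1 * (ε * B u u ^ 2 - B u (J u) ^ 2) = 0 := by
    linear_combination (ε * B u u) * e1 - B u (J u) * e2
  have h2 : x.2 * (ε * B u u ^ 2 - B u (J u) ^ 2) = 0 := by
    linear_combination B u u * e2 - B u (J u) * e1
  have hx1 : x.1 = 0 := (mul_eq_zero.mp h1).resolve_right hD
  have hx2 : x.2 = 0 := (mul_eq_zero.mp h2).resolve_right hD
  apply Subtype.ext
  show planeMap u (J u) x = 0
  rw [planeMap_apply, hx1, hx2, zero_smul, zero_smul, add_zero]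

end Pair

section Conj

variable {F : Type u} [Field F] [Fintype F]

/-- **transitivity**: two self-adjoint square roots of `ε` are conjugate under an isometry -/
theorem conj_Js (hodd : Odd (Fintype.card F)) {ε : F} (hε : ∀ e : F, e * e ≠ ε) :
    ∀ (n : ℕ) (V : Type v) [AddCommGroup V] [Module F V] [FiniteDimensional F V]
      (B : V →ₗ[F] V →ₗ[F] F), Symm B → Nondeg B → ∀ J J' : Module.End F V, IsJs B ε J →
      IsJs B ε J' → finrank F V = n →
      ∃ g : V ≃ₗ[F] V, (∀ u v, B (g u) (g v) = B u v) ∧ ∀ v, g (J v) = J' (g v) := by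
  intro n
  induction n using Nat.strong_induction_on with
  | _ n ih =>
    intro V _ _ _ B hS hB J J' hJ hJ' hn
    classical
    have h2F := two_ne_zero_of_odd hodd
    have hodd' : Fintype.card F % 2 = 1 := Nat.odd_iff.mp hodd
    have hε0 : ε ≠ 0 := by
      rintro rfl
      exact hε 0 (mul_zero 0)
    by_cases hn0 : n = 0
    · subst hn0
      haveI : Subsingleton V := Module.finrank_zero_iff.mp hn
      exact ⟨LinearEquiv.refl F V, fun u v => rfl, fun v => Subsingleton.elim _ _⟩
    haveI : Nontrivial V := Module.nontrivial_of_finrank_pos (R := F) (by omega)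
    -- matching vectors
    have hmatch : ∃ u u' : V, (B u u ≠ 0 ∨ B u (J u) ≠ 0) ∧ B u' u' = B u u ∧
        B u' (J' u') = B u (J u) := by
      by_cases h3 : 3 ≤ n
      · obtain ⟨u, h1, h2⟩ := exists_unit B hodd hε hS hB hJ (by omega)
        obtain ⟨u', h1', h2'⟩ := exists_unit B hodd hε hS hB hJ' (by omega)
        exact ⟨u, u', Or.inl (by rw [h1]; exact one_ne_zero), by rw [h1, h1'], by rw [h2, h2']⟩
      · obtain ⟨u, hu⟩ := exists_anisotropic h2F B hS hB
        have hu0 : u ≠ 0 := by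
          rintro rfl
          apply hu
          simp
        have hli : LinearIndependent F ![u, J u] :=
          LinearIndependent.pair_iff.mpr (li_pair hε hJ.1 u hu0)
        have hli' : LinearIndependent F ![u, J' u] :=
          LinearIndependent.pair_iff.mpr (li_pair hε hJ'.1 u hu0)
        have hn2 : finrank F V = 2 := by
          have h4 := hli.fintype_card_le_finrank
          rw [Fintype.card_fin] at h4
          omega
        obtain ⟨b, hb⟩ : ∃ b : Basis (Fin 2) F V, ⇑b = ![u, J u] :=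
          ⟨basisOfLinearIndependentOfCardEqFinrank hli (by rw [hn2]; rfl),
            coe_basisOfLinearIndependentOfCardEqFinrank _ _⟩
        obtain ⟨b', hb'⟩ : ∃ b' : Basis (Fin 2) F V, ⇑b' = ![u, J' u] :=
          ⟨basisOfLinearIndependentOfCardEqFinrank hli' (by rw [hn2]; rfl),
            coe_basisOfLinearIndependentOfCardEqFinrank _ _⟩
        have hd : IsDisc B (ε * B u u ^ 2 - B u (J u) ^ 2) := by
          refine ⟨2, b, ?_⟩
          rw [Matrix.det_fin_two, gram_apply, gram_apply, gram_apply, gram_apply, hb]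
          simp only [Matrix.cons_val_zero, Matrix.cons_val_one, Matrix.head_cons]
          rw [hJ.BJJ, hJ.2 u u]
          ring
        have hd' : IsDisc B (ε * B u u ^ 2 - B u (J' u) ^ 2) := by
          refine ⟨2, b', ?_⟩
          rw [Matrix.det_fin_two, gram_apply, gram_apply, gram_apply, gram_apply, hb']
          simp only [Matrix.cons_val_zero, Matrix.cons_val_one, Matrix.head_cons]
          rw [hJ'.BJJ, hJ'.2 u u]
          ring
        obtain ⟨s, hs0, hs⟩ := hd'.unique hd
        obtain ⟨s₀, t₀, h1, h2⟩ := exists_rescale B hodd hε hS hJ' u (B u u) (B u (J u)) s hs0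
          (Or.inl hu) (by rw [hs]; ring)
        exact ⟨u, s₀ • u + t₀ • J' u, Or.inl hu, h1, h2⟩
    obtain ⟨u, u', hu, haa, hbb⟩ := hmatch
    have hu' : B u' u' ≠ 0 ∨ B u' (J' u') ≠ 0 := by
      rw [haa, hbb]
      exact hu
    have hu0 : u ≠ 0 := by
      rintro rfl
      rcases hu with h | h
      · apply h
        simp
      · apply h
        simp
    have hu'0 : u' ≠ 0 := by
      rintro rfl
      rcases hu' with h | h
      · apply h
        simp
      · apply h
        simp
    obtain ⟨e, he_def⟩ : ∃ e : F × F →ₗ[F] V, e = planeMap u (J u) := ⟨_, rfl⟩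
    obtain ⟨e', he'_def⟩ : ∃ e' : F × F →ₗ[F] V, e' = planeMap u' (J' u') := ⟨_, rfl⟩
    have he : Function.Injective e := by
      rw [← LinearMap.ker_eq_bot, LinearMap.ker_eq_bot']
      intro x hx
      rw [he_def, planeMap_apply] at hx
      obtain ⟨h1, h2⟩ := li_pair hε hJ.1 u hu0 _ _ hx
      exact Prod.ext h1 h2
    have he' : Function.Injective e' := by
      rw [← LinearMap.ker_eq_bot, LinearMap.ker_eq_bot']
      intro x hx
      rw [he'_def, planeMap_apply] at hx
      obtain ⟨h1, h2⟩ := li_pair hε hJ'.1 u' hu'0 _ _ hx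
      exact Prod.ext h1 h2
    have hee : ∀ x y, B (e' x) (e' y) = B (e x) (e y) := by
      intro x y
      rw [he_def, he'_def, planeMap_form B hJ, planeMap_form B hJ', haa, hbb]
    have hJe : ∀ x, J (e x) = e (x.2 * ε, x.1) := by
      intro x
      rw [he_def]
      exact planeMap_J B hJ u x
    have hJe' : ∀ x, J' (e' x) = e' (x.2 * ε, x.1) := by
      intro x
      rw [he'_def]
      exact planeMap_J B hJ' u' x
    have hPnd : Nondeg (resForm B (LinearMap.range e)) := by
      rw [he_def]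
      exact planeMap_nondeg B hε hJ u hu
    have hP'nd : Nondeg (resForm B (LinearMap.range e')) := by
      rw [he'_def]
      exact planeMap_nondeg B hε hJ' u' hu'
    obtain ⟨hc, hWnd, horth⟩ := perp_data B hS hB (LinearMap.range e) hPnd
    obtain ⟨hc', hW'nd, horth'⟩ := perp_data B hS hB (LinearMap.range e') hP'nd
    obtain ⟨W, hWdef⟩ : ∃ W : Submodule F V, W = LinearMap.BilinForm.orthogonal B (LinearMap.range e) :=
      ⟨_, rfl⟩
    obtain ⟨W', hW'def⟩ : ∃ W' : Submodule F V,
        W' = LinearMap.BilinForm.orthogonal B (LinearMap.range e') := ⟨_, rfl⟩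
    rw [← hWdef] at hc hWnd horth
    rw [← hW'def] at hc' hW'nd horth'
    have hWmem : ∀ w, w ∈ W ↔ ∀ x, B (e x) w = 0 := by
      intro w
      rw [hWdef]
      constructor
      · intro h x
        exact h (e x) ⟨x, rfl⟩
      · rintro h _ ⟨x, rfl⟩
        exact h x
    have hW'mem : ∀ w, w ∈ W' ↔ ∀ x, B (e' x) w = 0 := by
      intro w
      rw [hW'def]
      constructor
      · intro h x
        exact h (e' x) ⟨x, rfl⟩
      · rintro h _ ⟨x, rfl⟩
        exact h x
    -- the isometry between the planes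
    obtain ⟨ψ, hψdef⟩ : ∃ ψ : ↥(LinearMap.range e) ≃ₗ[F] ↥(LinearMap.range e'),
        ψ = (LinearEquiv.ofInjective e he).symm ≪≫ₗ LinearEquiv.ofInjective e' he' := ⟨_, rfl⟩
    have hψe : ∀ x, ((ψ ⟨e x, ⟨x, rfl⟩⟩ : ↥(LinearMap.range e')) : V) = e' x := by
      intro x
      have h1 : (LinearEquiv.ofInjective e he).symm ⟨e x, ⟨x, rfl⟩⟩ = x := by
        rw [LinearEquiv.symm_apply_eq]
        apply Subtype.ext
        rfl
      rw [hψdef, LinearEquiv.trans_apply, h1]
      rfl
    have hψ : ∀ x y : ↥(LinearMap.range e), B (ψ x : V) (ψ y : V) = B (x : V) (y : V) := by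
      rintro ⟨_, x, rfl⟩ ⟨_, y, rfl⟩
      rw [hψe, hψe]
      exact hee x y
    obtain ⟨φ, hφ⟩ := exists_isometry_compl h2F hodd' B hS hB hc.symm hc'.symm
      (fun w hw p hp => by rw [hS]; exact horth p hp w hw)
      (fun w hw p hp => by rw [hS]; exact horth' p hp w hw) ψ hψ
    have hWinv : ∀ w ∈ W, J w ∈ W := by
      intro w hw
      rw [hWmem] at hw ⊢
      intro x
      rw [← hJ.2, hJe]
      exact hw _
    have hW'inv : ∀ w ∈ W', J' w ∈ W' := by
      intro w hw
      rw [hW'mem] at hw ⊢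
      intro x
      rw [← hJ'.2, hJe']
      exact hw _
    obtain ⟨J₁, hJ₁def⟩ : ∃ J₁ : Module.End F W, J₁ = J.restrict hWinv := ⟨_, rfl⟩
    obtain ⟨J₂, hJ₂def⟩ : ∃ J₂ : Module.End F W,
        J₂ = (φ.symm : ↥W' →ₗ[F] ↥W) ∘ₗ (J'.restrict hW'inv) ∘ₗ (φ : ↥W →ₗ[F] ↥W') := ⟨_, rfl⟩
    have hJ₁ : IsJs (resForm B W) ε J₁ := by
      rw [hJ₁def]
      exact hJ.restrict W hWinv
    have hJ'r := hJ'.restrict W' hW'inv
    have hJ₂app : ∀ w : W, J₂ w = φ.symm ((J'.restrict hW'inv) (φ w)) := by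
      intro w
      rw [hJ₂def]
      rfl
    have hφJ₂ : ∀ w : W, φ (J₂ w) = (J'.restrict hW'inv) (φ w) := by
      intro w
      rw [hJ₂app, LinearEquiv.apply_symm_apply]
    have hJ₂ : IsJs (resForm B W) ε J₂ := by
      constructor
      · intro w
        apply φ.injective
        rw [hφJ₂, hφJ₂, hJ'r.1, map_smul]
      · intro w₁ w₂
        show B (J₂ w₁ : V) (w₂ : V) = B (w₁ : V) (J₂ w₂ : V)
        rw [← hφ (J₂ w₁) w₂, ← hφ w₁ (J₂ w₂), hφJ₂, hφJ₂]
        exact hJ'r.2 (φ w₁) (φ w₂)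
    have hfinP : finrank F (LinearMap.range e) = 2 := by
      rw [LinearMap.finrank_range_of_inj he, Module.finrank_prod, Module.finrank_self]
    have hfin := Submodule.finrank_add_eq_of_isCompl hc
    obtain ⟨g₁, hg₁, hg₁J⟩ := ih (finrank F W) (by omega) W (resForm B W) (symm_resForm hS W)
      hWnd J₁ J₂ hJ₁ hJ₂ rfl
    obtain ⟨glin, hglin⟩ : ∃ glin : V →ₗ[F] V, glin = LinearMap.ofIsCompl hc
        (e' ∘ₗ ((LinearEquiv.ofInjective e he).symm : ↥(LinearMap.range e) →ₗ[F] F × F))
        (W'.subtype ∘ₗ (φ : ↥W →ₗ[F] ↥W') ∘ₗ (g₁ : ↥W →ₗ[F] ↥W)) := ⟨_, rfl⟩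
    have hgP : ∀ x, glin (e x) = e' x := by
      intro x
      have h1 : (LinearEquiv.ofInjective e he).symm ⟨e x, ⟨x, rfl⟩⟩ = x := by
        rw [LinearEquiv.symm_apply_eq]
        apply Subtype.ext
        rfl
      have h2 := LinearMap.ofIsCompl_apply_left hc
        (φ := e' ∘ₗ ((LinearEquiv.ofInjective e he).symm : ↥(LinearMap.range e) →ₗ[F] F × F))
        (ψ := W'.subtype ∘ₗ (φ : ↥W →ₗ[F] ↥W') ∘ₗ (g₁ : ↥W →ₗ[F] ↥W)) ⟨e x, ⟨x, rfl⟩⟩
      rw [hglin]
      refine h2.trans ?_
      show e' ((LinearEquiv.ofInjective e he).symm ⟨e x, ⟨x, rfl⟩⟩) = e' x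
      rw [h1]
    have hgW : ∀ (w : V) (hw : w ∈ W), glin w = (φ (g₁ ⟨w, hw⟩) : V) := by
      intro w hw
      rw [hglin]
      exact LinearMap.ofIsCompl_apply_right hc ⟨w, hw⟩
    have hgsum : ∀ (x : F × F) (w : V) (hw : w ∈ W),
        glin (e x + w) = e' x + (φ (g₁ ⟨w, hw⟩) : V) := by
      intro x w hw
      rw [map_add, hgP, hgW w hw]
    have hgiso : ∀ v v', B (glin v) (glin v') = B v v' := by
      intro v v'
      obtain ⟨_, ⟨x, rfl⟩, w, hw, rfl⟩ := exists_decomp hc v
      obtain ⟨_, ⟨x', rfl⟩, w', hw', rfl⟩ := exists_decomp hc v'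
      rw [hgsum x w hw, hgsum x' w' hw']
      simp only [map_add, LinearMap.add_apply]
      have c1 : B (e' x) (φ (g₁ ⟨w', hw'⟩) : V) = 0 :=
        (hW'mem _).1 (φ (g₁ ⟨w', hw'⟩)).2 x
      have c2 : B (φ (g₁ ⟨w, hw⟩) : V) (e' x') = 0 := by
        rw [hS]
        exact (hW'mem _).1 (φ (g₁ ⟨w, hw⟩)).2 x'
      have c3 : B (φ (g₁ ⟨w, hw⟩) : V) (φ (g₁ ⟨w', hw'⟩) : V) = B w w' := by
        rw [hφ]
        exact hg₁ ⟨w, hw⟩ ⟨w', hw'⟩
      have c4 : B (e x) w' = 0 := (hWmem _).1 hw' x
      have c5 : B w (e x') = 0 := by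
        rw [hS]
        exact (hWmem _).1 hw x'
      rw [c1, c2, c3, c4, c5, hee]
    have hginj : Function.Injective glin := by
      rw [← LinearMap.ker_eq_bot, LinearMap.ker_eq_bot']
      intro v hv
      apply hB
      intro z
      rw [← hgiso z v, hv, map_zero]
    refine ⟨LinearEquiv.ofInjectiveEndo glin hginj, fun v v' => hgiso v v', ?_⟩
    intro v
    show glin (J v) = J' (glin v)
    obtain ⟨_, ⟨x, rfl⟩, w, hw, rfl⟩ := exists_decomp hc v
    have h1 : (⟨J w, hWinv w hw⟩ : W) = J₁ ⟨w, hw⟩ := by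
      rw [hJ₁def]
      rfl
    have h2 : glin (J (e x + w)) = e' (x.2 * ε, x.1) + (φ (g₁ ⟨J w, hWinv w hw⟩) : V) := by
      rw [map_add, hJe, hgsum _ _ (hWinv w hw)]
    have h3 : J' (e' x + (φ (g₁ ⟨w, hw⟩) : V)) =
        e' (x.2 * ε, x.1) + J' (φ (g₁ ⟨w, hw⟩) : V) := by
      rw [map_add, hJe']
    rw [hgsum x w hw, h2, h3, h1, hg₁J, hφJ₂]
    rfl

end Conj

end Cfsg.Agent.Lib.Helper6.Ofx
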