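import Mathlib
import Cfsg.Agent.Lib.Helper6.OfxC
import Cfsg.Agent.Lib.Helper2.UkfF
import Cfsg.Agent.Lib.Helper5.OElus.Grow

set_option autoImplicit false
set_option maxHeartbeats 1000000
set_option linter.unusedVariables false
set_option linter.unusedSectionVars false
set_option linter.style.longLine false
set_option linter.unusedSimpArgs false
set_option linter.deprecated false
set_option linter.style.haveILetI false

/-! Field-extension subgroups of orthogonal groups (part D): isometries of odd prime order with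
minimal moving part; they do not commute with a self-adjoint square root of a nonsquare when the
order of `q` modulo `r` is odd or twice an odd number. -/

namespace Cfsg.Agent.Lib.Helper6.Ofx

open Module Polynomial Cfsg.Agent.Lib.Helper5.OrthPrime Cfsg.Agent.Lib.Helper2.Ukf
  Cfsg.Agent.Lib.Helper2 Cfsg.Agent.Lib.Helper5.OElus

universe u v

section Cases

variable {F : Type u} [Field F] [Fintype F] {V : Type v} [AddCommGroup V] [Module F V]
  [FiniteDimensional F V]
variable (B : LinearMap.BilinForm F V)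

/-- order of `q` mod `r` twice an odd number: an isometry of order `r` whose moving part has the
minimal possible dimension does not commute with a self-adjoint square root of `ε` -/
theorem no_comm_two_mod_four {p : ℕ} [hp : Fact p.Prime] [CharP F p]
    (hodd : Odd (Fintype.card F)) (ε : F) (hε : ∀ e : F, e * e ≠ ε) (hS : Symm B)
    (hB : Nondeg B) (J : Module.End F V) (hJ : IsJs B ε J) (r : ℕ) [hr : Fact r.Prime]
    (hrp : r ≠ p) (m : ℕ) (hm : orderOf ((Fintype.card F : ℕ) : ZMod r) = m + m) (hmo : Odd m)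
    (y : Module.End F V) (hyB : SpImp.IsIsom B y) (hy : y ^ r = 1)
    (hJy : ∀ v, y (J v) = J (y v))
    (hk : finrank F (LinearMap.ker (y - 1)) + (m + m) = finrank F V) : False := by
  have hrq : ¬ r ∣ Fintype.card F := Elus.not_dvd_card_of_ne (F := F) r hrp
  have hrF : (r : F) ≠ 0 := natCast_ne_zero_of_ne r hrp
  have h2F := two_ne_zero_of_odd hodd
  have hε0 : ε ≠ 0 := by
    rintro rfl
    exact hε 0 (mul_zero 0)
  have hm0 : 0 < m := by
    obtain ⟨k, hk'⟩ := hmo
    omega
  obtain ⟨M, hMdef⟩ : ∃ M : Submodule F V, M = LinearMap.ker (nrm y r) := ⟨_, rfl⟩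
  have hfinM : finrank F M = m + m := by
    have h1 := finrank_ker_nrm hrF hy
    rw [hMdef]
    omega
  have hM0 : M ≠ ⊥ := by
    intro h
    rw [h, finrank_bot] at hfinM
    omega
  have hMi : Elus.Inv y M := by
    rw [hMdef]
    exact inv_ker_nrm y r
  have hMC : Disjoint M (LinearMap.ker (y - 1)) := by
    rw [hMdef]
    exact disj_ker_nrm hrF
  have hmin : ∀ X : Submodule F V, X ≤ M → Elus.Inv y X → X = ⊥ ∨ X = M := by
    rw [hMdef]
    exact ker_nrm_minimal r hrF hrq y hy (by rw [hm]; exact hk)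
  obtain ⟨P, hP⟩ := exists_rho hodd ε hε r (by rw [hm]; exact ⟨m, rfl⟩) y hy M hMi hM0 hmin hMC
  obtain ⟨ρ, hρdef⟩ : ∃ ρ : Module.End F V, ρ = aeval y P := ⟨_, rfl⟩
  have hρy : ∀ v, y (ρ v) = ρ (y v) := by
    intro v
    rw [hρdef]
    exact (SpImp.aeval_comm y P v).symm
  have hJρ : ∀ v, J (ρ v) = ρ (J v) := by
    intro v
    rw [hρdef]
    exact (aeval_comm_of_comm hJy P v).symm
  have hρM : Elus.Inv ρ M := by
    rw [hρdef]
    exact SpImp.inv_aeval hMi P
  have hJM : Elus.Inv J M := by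
    rw [hMdef]
    exact inv_ker_nrm_of_comm hJy r
  have hadj : ∀ u ∈ M, ∀ v, B u (ρ v) = -B (ρ u) v := by
    intro u hu v
    rw [hρdef, adj_rho B hodd ε hε r hrq m hm y hyB hy M hMi P hP u hu v, hmo.neg_one_pow,
      neg_one_mul]
  have hρ2 : ∀ v ∈ M, ρ (ρ v) = ε • v := by
    rw [hρdef]
    exact hP
  have key : ∀ u ∈ M, ∀ v ∈ M, B (J u) v = 0 := by
    intro u hu v hv
    have hself := hJ.2 u v
    have h1 : B (J u) v = -B u (J v) := by
      rcases eq_or_neg_of_comm ε y M hmin ρ J hρy hJy hMi hρM hJM (fun v _ => hJρ v) hρ2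
        (fun v _ => hJ.1 v) with h | h
      · rw [h u hu, h v hv, hadj u hu v, neg_neg]
      · rw [h u hu, h v hv, map_neg, LinearMap.neg_apply, map_neg, hadj u hu v, neg_neg]
    have h3 : (2 : F) * B (J u) v = 0 := by linear_combination hself + h1
    exact (mul_eq_zero.mp h3).resolve_left h2F
  have hiso : ∀ u ∈ M, ∀ v ∈ M, B u v = 0 := by
    intro u hu v hv
    have h1 : J (ε⁻¹ • J u) = u := by
      rw [map_smul, hJ.1, smul_smul, inv_mul_cancel₀ hε0, one_smul]
    rw [← h1]
    exact key _ (M.smul_mem _ (hJM u hu)) v hv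
  subst hMdef
  exact moving_not_isotropic B (nondegenerate_of_nondeg B hS hB) hrF hy hyB hM0 hiso

/-- order of `q` mod `r` odd: an isometry of order `r` whose moving part has the minimal possible
dimension does not commute with a self-adjoint square root of `ε` -/
theorem no_comm_odd_ord {p : ℕ} [hp : Fact p.Prime] [CharP F p] (hodd : Odd (Fintype.card F))
    (ε : F) (hε : ∀ e : F, e * e ≠ ε) (hS : Symm B) (hB : Nondeg B)
    (J : Module.End F V) (hJ : IsJs B ε J) (r : ℕ) [hr : Fact r.Prime] (hr2 : r ≠ 2)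
    (hrp : r ≠ p) (i : ℕ) (hi : i = orderOf ((Fintype.card F : ℕ) : ZMod r)) (hio : Odd i)
    (y : Module.End F V) (hyB : SpImp.IsIsom B y) (hy : y ^ r = 1)
    (hJy : ∀ v, y (J v) = J (y v))
    (hk : finrank F (LinearMap.ker (y - 1)) + 2 * i = finrank F V) : False := by
  have hrq : ¬ r ∣ Fintype.card F := Elus.not_dvd_card_of_ne (F := F) r hrp
  have hrF : (r : F) ≠ 0 := natCast_ne_zero_of_ne r hrp
  have hr0 : 0 < r := hr.out.pos
  have hrodd : Odd r := hr.out.odd_of_ne_two hr2
  have hε0 : ε ≠ 0 := by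
    rintro rfl
    exact hε 0 (mul_zero 0)
  have hy1 : y ≠ 1 := by
    intro h
    rw [h, sub_self, LinearMap.ker_zero, finrank_top] at hk
    obtain ⟨k, hk'⟩ := hio
    omega
  obtain ⟨M₁, hM₁i, hM₁0, hM₁min, hM₁C, hM₁fin⟩ := exists_min_inv_disj r hrp y hy hy1
  rw [← hi] at hM₁fin
  have hJinj : Function.Injective J := hJ.injective hε0
  -- an isometry of odd order without fixed points lives in even dimension
  have hevenkey : ∀ (Φ : LinearMap.BilinForm F M₁), (∀ u v, Φ u v = Φ v u) →
      (∀ u, (∀ v, Φ u v = 0) → u = 0) →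
      (∀ u v : M₁, Φ ((y.restrict hM₁i) u) ((y.restrict hM₁i) v) = Φ u v) → False := by
    intro Φ hsymm hnd hgiso
    obtain ⟨g, hgdef⟩ : ∃ g : Module.End F M₁, g = y.restrict hM₁i := ⟨_, rfl⟩
    have hgapp : ∀ x : M₁, ((g x : M₁) : V) = y x := by
      intro x
      rw [hgdef]
      rfl
    have hgr : g ^ r = 1 := by
      have h1 : y ^ r = (1 : F) • 1 := by rw [hy, one_smul]
      rw [hgdef, Elus.restrict_pow_smul h1 hM₁i, one_smul]
    have hev := Tsp.even_moving_of_isom Φ hsymm hnd g (by rw [hgdef]; exact hgiso) r hrodd hgr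
    have hker : LinearMap.ker (g - 1) = ⊥ := by
      rw [eq_bot_iff]
      intro x hx
      rw [Elus.mem_ker_sub_one] at hx
      have h1 : (x : V) ∈ M₁ ⊓ LinearMap.ker (y - 1) := by
        refine Submodule.mem_inf.mpr ⟨x.2, ?_⟩
        rw [Elus.mem_ker_sub_one]
        have h2 := congrArg Subtype.val hx
        rwa [hgapp] at h2
      rw [hM₁C.eq_bot] at h1
      exact (Submodule.mem_bot F).mpr (Subtype.ext ((Submodule.mem_bot F).mp h1))
    rw [hker, finrank_bot, Nat.sub_zero, hM₁fin] at hev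
    exact (Nat.not_even_iff_odd.mpr hio) hev
  obtain ⟨JM, hJMdef⟩ : ∃ JM : Submodule F V, JM = M₁.map J := ⟨_, rfl⟩
  have hJMi : Elus.Inv y JM := by
    rw [hJMdef]
    rintro _ ⟨x, hx, rfl⟩
    exact ⟨y x, hM₁i x hx, (hJy x).symm⟩
  have hJMfin : finrank F JM = i := by
    rw [hJMdef, ← hM₁fin]
    exact (LinearEquiv.finrank_eq (Submodule.equivMapOfInjective J hJinj M₁)).symm
  have hX : Elus.Inv y (M₁ ⊓ JM) := SpImp.inv_inf' hM₁i hJMi
  rcases hM₁min _ inf_le_left hX with hcase | hcase
  · -- `M₁` and `J M₁` are disjoint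
    have hiso : ∀ u ∈ M₁, ∀ v ∈ M₁, B u v = 0 := by
      have hR : Elus.Inv y (M₁ ⊓ LinearMap.BilinForm.orthogonal B M₁) :=
        SpImp.inv_inf' hM₁i (SpImp.inv_perp B hyB hr0 hy hM₁i)
      rcases hM₁min _ inf_le_left hR with h | h
      · exfalso
        apply hevenkey (resForm B M₁) (fun u v => hS u v)
        · intro u hu
          have hu' : (u : V) ∈ M₁ ⊓ LinearMap.BilinForm.orthogonal B M₁ := by
            refine Submodule.mem_inf.mpr ⟨u.2, ?_⟩
            rw [SpImp.mem_perp]
            intro w hw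
            rw [hS]
            exact hu ⟨w, hw⟩
          rw [h] at hu'
          exact Subtype.ext ((Submodule.mem_bot F).mp hu')
        · intro u v
          exact hyB u v
      · intro u hu v hv
        have hv' : v ∈ M₁ ⊓ LinearMap.BilinForm.orthogonal B M₁ := by
          rw [h]
          exact hv
        exact (SpImp.mem_perp B).mp hv'.2 u hu
    have hM₁M : M₁ ≤ LinearMap.ker (nrm y r) := le_ker_nrm hy hM₁i hM₁C
    have hJMM : JM ≤ LinearMap.ker (nrm y r) := by
      rw [hJMdef]
      rintro _ ⟨x, hx, rfl⟩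
      exact inv_ker_nrm_of_comm hJy r x (hM₁M hx)
    have hsup : M₁ ⊔ JM = LinearMap.ker (nrm y r) := by
      apply Submodule.eq_of_le_of_finrank_eq (sup_le hM₁M hJMM)
      have h3 := Submodule.finrank_sup_add_finrank_inf_eq M₁ JM
      rw [hcase, finrank_bot, add_zero, hM₁fin, hJMfin] at h3
      have h4 := finrank_ker_nrm hrF hy
      omega
    obtain ⟨Φ, hΦ⟩ : ∃ Φ : LinearMap.BilinForm F M₁, ∀ u v : M₁, Φ u v = B (J u) v :=
      ⟨(B.compLeft J).restrict M₁, fun u v => rfl⟩
    have hsymm : ∀ u v, Φ u v = Φ v u := by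
      intro u v
      rw [hΦ, hΦ, hJ.2, hS]
    have hnd : ∀ u, (∀ v, Φ u v = 0) → u = 0 := by
      intro u hu
      have hJu0 : J (u : V) = 0 := by
        apply hB (J u)
        intro z
        have hz : z ∈ LinearMap.ker (y - 1) ⊔ LinearMap.ker (nrm y r) := by
          rw [(isCompl_ker_nrm hrF hy).sup_eq_top]
          exact Submodule.mem_top
        obtain ⟨c, hc, mm, hmm, rfl⟩ := Submodule.mem_sup.mp hz
        rw [← hsup] at hmm
        obtain ⟨a, ha, b', hb', rfl⟩ := Submodule.mem_sup.mp hmm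
        rw [hJMdef] at hb'
        obtain ⟨b, hb, rfl⟩ := hb'
        have hJuM : J (u : V) ∈ LinearMap.ker (nrm y r) :=
          hJMM (by rw [hJMdef]; exact ⟨u, u.2, rfl⟩)
        have e1 : B c (J u) = 0 := orth_ker_nrm B hrF hyB c hc _ hJuM
        have e2 : B a (J u) = 0 := by
          have h1 := hu ⟨a, ha⟩
          rw [hΦ] at h1
          rw [hS]
          exact h1
        have e3 : B (J b) (J u) = 0 := by
          rw [hJ.BJJ, hiso b hb u u.2, mul_zero]
        rw [map_add, map_add, LinearMap.add_apply, LinearMap.add_apply, e1, e2, e3, add_zero,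
          add_zero]
      exact Subtype.ext (hJinj (hJu0.trans (map_zero J).symm))
    apply hevenkey Φ hsymm hnd
    intro u v
    rw [hΦ, hΦ]
    show B (J (y u)) (y v) = B (J u) v
    rw [← hJy, hyB]
  · -- `J` preserves `M₁`
    have hle : M₁ ≤ JM := by
      rw [← hcase]
      exact inf_le_right
    have heq : M₁ = JM := Submodule.eq_of_le_of_finrank_eq hle (by rw [hM₁fin, hJMfin])
    have hJM₁ : ∀ x ∈ M₁, J x ∈ M₁ := by
      intro x hx
      have h1 : J x ∈ JM := by
        rw [hJMdef]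
        exact ⟨x, hx, rfl⟩
      rw [heq]
      exact h1
    obtain ⟨J', hJ'⟩ : ∃ J' : Module.End F M₁, J' = J.restrict hJM₁ := ⟨_, rfl⟩
    have hJ'2 : J' * J' = ε • 1 := by
      apply LinearMap.ext
      intro x
      apply Subtype.ext
      rw [Module.End.mul_apply, hJ', LinearMap.restrict_coe_apply, LinearMap.restrict_coe_apply,
        hJ.1]
      rfl
    have hdet := congrArg LinearMap.det hJ'2
    rw [map_mul, LinearMap.det_smul, map_one, mul_one, hM₁fin] at hdet
    obtain ⟨k, hk'⟩ := hio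
    rw [hk'] at hdet
    have hεk : ε ^ k ≠ 0 := pow_ne_zero k hε0
    have h7 : ε ^ (2 * k + 1) = ε ^ k * ε ^ k * ε := by ring
    apply hε (LinearMap.det J' * (ε ^ k)⁻¹)
    rw [mul_mul_mul_comm, hdet, h7]
    field_simp

end Cases

section MinElt

variable {F : Type u} [Field F] [Fintype F] {V : Type v} [AddCommGroup V] [Module F V]
  [FiniteDimensional F V]
variable (B : LinearMap.BilinForm F V)

/-- gluing an isometry of a nondegenerate subspace with the identity of its orthogonal
complement -/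
theorem exists_glue_id (hS : Symm B) (hB : Nondeg B) (U : Submodule F V)
    (hU : Nondeg (resForm B U)) (y₀ : Module.End F V) (hy₀B : SpImp.IsIsom B y₀)
    (hUi : ∀ x ∈ U, y₀ x ∈ U) (r : ℕ) (hy₀ : y₀ ^ r = 1)
    (hfix : ∀ x ∈ U, y₀ x = x → x = 0) :
    ∃ y : Module.End F V, SpImp.IsIsom B y ∧ y ^ r = 1 ∧
      finrank F (LinearMap.ker (y - 1)) + finrank F U = finrank F V := by
  obtain ⟨hc, hWnd, horth⟩ := perp_data B hS hB U hU
  obtain ⟨W, hWdef⟩ : ∃ W : Submodule F V, W = LinearMap.BilinForm.orthogonal B U := ⟨_, rfl⟩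
  rw [← hWdef] at hc hWnd horth
  obtain ⟨y, hydef⟩ : ∃ y : Module.End F V, y = glueEnd hc (y₀.restrict hUi) LinearMap.id :=
    ⟨_, rfl⟩
  have hyU : ∀ u ∈ U, y u = y₀ u := by
    intro u hu
    rw [hydef, glueEnd_left hc _ _ u hu]
    rfl
  have hyW : ∀ w ∈ W, y w = w := by
    intro w hw
    rw [hydef, glueEnd_right hc _ _ w hw]
    rfl
  have hpowU : ∀ k : ℕ, ∀ u ∈ U, (y₀ ^ k) u ∈ U ∧ (y ^ k) u = (y₀ ^ k) u := by
    intro k
    induction k with
    | zero =>
      intro u hu
      exact ⟨by simpa using hu, by simp⟩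
    | succ k ih =>
      intro u hu
      obtain ⟨h1, h2⟩ := ih u hu
      refine ⟨?_, ?_⟩
      · rw [pow_succ', Module.End.mul_apply]
        exact hUi _ h1
      · rw [pow_succ', Module.End.mul_apply, h2, hyU _ h1, pow_succ', Module.End.mul_apply]
  have hpowW : ∀ k : ℕ, ∀ w ∈ W, (y ^ k) w = w := by
    intro k
    induction k with
    | zero =>
      intro w hw
      simp
    | succ k ih =>
      intro w hw
      rw [pow_succ', Module.End.mul_apply, ih w hw, hyW w hw]
  refine ⟨y, ?_, ?_, ?_⟩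
  · intro v v'
    obtain ⟨u, hu, w, hw, rfl⟩ := exists_decomp hc v
    obtain ⟨u', hu', w', hw', rfl⟩ := exists_decomp hc v'
    have e1 : y (u + w) = y₀ u + w := by rw [map_add, hyU u hu, hyW w hw]
    have e2 : y (u' + w') = y₀ u' + w' := by rw [map_add, hyU u' hu', hyW w' hw']
    rw [e1, e2]
    simp only [map_add, LinearMap.add_apply]
    have c1 : B (y₀ u) w' = 0 := horth _ (hUi u hu) w' hw'
    have c2 : B w (y₀ u') = 0 := by
      rw [hS]
      exact horth _ (hUi u' hu') w hw
    have c3 : B u w' = 0 := horth u hu w' hw'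
    have c4 : B w u' = 0 := by
      rw [hS]
      exact horth u' hu' w hw
    rw [c1, c2, c3, c4, hy₀B u u']
  · apply LinearMap.ext
    intro v
    obtain ⟨u, hu, w, hw, rfl⟩ := exists_decomp hc v
    rw [map_add, (hpowU r u hu).2, hpowW r w hw, hy₀]
    rfl
  · have hker : LinearMap.ker (y - 1) = W := by
      apply le_antisymm
      · intro v hv
        rw [Elus.mem_ker_sub_one] at hv
        obtain ⟨u, hu, w, hw, rfl⟩ := exists_decomp hc v
        rw [map_add, hyU u hu, hyW w hw] at hv
        have h1 : y₀ u = u := add_right_cancel hv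
        rw [hfix u hu h1, zero_add]
        exact hw
      · intro w hw
        rw [Elus.mem_ker_sub_one]
        exact hyW w hw
    rw [hker, add_comm]
    exact Submodule.finrank_add_eq_of_isCompl hc

/-- **isometries with minimal moving part**: if `r` divides the order of the isometry group,
some isometry of order `r` moves a space of dimension exactly `c` -/
theorem exists_iso_min {p f₀ : ℕ} [hp : Fact p.Prime] (hq : Fintype.card F = p ^ f₀)
    (hodd : Odd (Fintype.card F)) (hS : Symm B) (hB : Nondeg B) (r : ℕ) [hr : Fact r.Prime]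
    (hr2 : r ≠ 2) (hrp : r ≠ p) (hrq : ¬ r ∣ Fintype.card F) (hrF : (r : F) ≠ 0) (i c : ℕ)
    (hi : i = orderOf ((Fintype.card F : ℕ) : ZMod r)) (hc : c = if Even i then i else 2 * i)
    (hdvd : r ∣ Nat.card (SpImp.isoGroup B)) :
    ∃ y : Module.End F V, SpImp.IsIsom B y ∧ y ^ r = 1 ∧
      finrank F (LinearMap.ker (y - 1)) + c = finrank F V := by
  have h2F := two_ne_zero_of_odd hodd
  have hr0 : 0 < r := hr.out.pos
  have hrodd : Odd r := hr.out.odd_of_ne_two hr2
  obtain ⟨y₀, hy₀B, hy₀, hy₀1⟩ := SpImp.exists_order_r B r hdvd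
  have hyy : ∀ x, y₀ ((y₀ ^ (r - 1)) x) = x := by
    intro x
    rw [← Module.End.mul_apply, ← pow_succ', Nat.sub_add_cancel hr0, hy₀, Module.End.one_apply]
  have hyy' : ∀ x, (y₀ ^ (r - 1)) (y₀ x) = x := by
    intro x
    rw [← Module.End.mul_apply, ← pow_succ, Nat.sub_add_cancel hr0, hy₀, Module.End.one_apply]
  let D : OData F V := ⟨B, y₀, y₀ ^ (r - 1), r, hS, hB, hy₀B, hyy', hyy, hy₀, hrodd, hrF, h2F⟩
  haveI : Fact D.r.Prime := hr
  have h1 := dvd_finrank_sub_fix B hS y₀ (y₀ ^ (r - 1)) hy₀B hyy r hr2 hrq hy₀ i c hi hc ⊤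
    (fun _ _ => Submodule.mem_top) (fun _ _ => Submodule.mem_top)
    (fun w _ hw => hB w (fun u => by
      have := hw u Submodule.mem_top
      rwa [hS] at this))
  rw [top_inf_eq, finrank_top] at h1
  have hcompl := Submodule.finrank_add_eq_of_isCompl D.isCompl
  have hV1 : D.V1 = LinearMap.ker (y₀ - 1) := rfl
  have h2 : finrank F (LinearMap.ker (y₀ - 1)) < finrank F V := by
    by_contra hcon
    push Not at hcon
    have h3 : LinearMap.ker (y₀ - 1) = ⊤ :=
      Submodule.eq_top_of_finrank_eq (le_antisymm (Submodule.finrank_le _) hcon)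
    apply hy₀1
    apply LinearMap.ext
    intro x
    have h4 : x ∈ LinearMap.ker (y₀ - 1) := by
      rw [h3]
      exact Submodule.mem_top
    rw [Elus.mem_ker_sub_one] at h4
    rw [h4, Module.End.one_apply]
  have hcW : c * 1 ≤ finrank F D.W := by
    rw [hV1] at hcompl
    have h5 := Nat.le_of_dvd (by omega) h1
    omega
  obtain ⟨U, hUW, hUfin, hUg, hUgi, hUnd⟩ := exists_inv_nd_sub D hq hr2 hrp hrq i c hi hc 1 hcW
  have hUnd' : Nondeg (resForm B U) := by
    intro x hx
    exact Subtype.ext (hUnd x x.2 (fun w hw => hx ⟨w, hw⟩))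
  have hfix : ∀ x ∈ U, y₀ x = x → x = 0 := by
    intro x hx hyx
    have h5 : x ∈ D.V1 ⊓ D.W := by
      refine Submodule.mem_inf.mpr ⟨?_, hUW hx⟩
      rw [hV1, Elus.mem_ker_sub_one]
      exact hyx
    rw [D.disjoint.eq_bot] at h5
    exact (Submodule.mem_bot F).mp h5
  obtain ⟨y, hyB, hyr, hyfin⟩ := exists_glue_id B hS hB U hUnd' y₀ hy₀B hUg r hy₀ hfix
  refine ⟨y, hyB, hyr, ?_⟩
  rw [hUfin, mul_one] at hyfin
  exact hyfin

end MinElt

end Cfsg.Agent.Lib.Helper6.Ofx
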