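import Mathlib
import Cfsg.Agent.Lib.Helper6.OfxD

set_option autoImplicit false
set_option maxHeartbeats 1000000
set_option linter.unusedVariables false
set_option linter.unusedSectionVars false
set_option linter.style.longLine false
set_option linter.unusedSimpArgs false
set_option linter.deprecated false
set_option linter.style.haveILetI false

/-! Field-extension subgroups of orthogonal groups (part E): the isometry group acts on the
self-adjoint square roots of a nonsquare `ε`; when the order of `q` modulo `r` is divisible by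
four, `r` does not divide their number (fixed-point recursion). -/

namespace Cfsg.Agent.Lib.Helper6.Ofx

open Module Polynomial Cfsg.Agent.Lib.Helper5.OrthPrime Cfsg.Agent.Lib.Helper2.Ukf
  Cfsg.Agent.Lib.Helper2 Cfsg.Agent.Lib.Helper5.OElus

universe u v

section Act

variable {F : Type u} [Field F] {V : Type v} [AddCommGroup V] [Module F V] [FiniteDimensional F V]
variable (B : LinearMap.BilinForm F V)

theorem isJs_conj (ε : F) {g : V ≃ₗ[F] V} (hg : ∀ u v, B (g u) (g v) = B u v)
    {J : Module.End F V} (hJ : IsJs B ε J) : IsJs B ε (conjEnd g J) := by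
  constructor
  · intro v
    rw [conjEnd_apply, conjEnd_apply, inv_apply_self, hJ.1, map_smul, self_apply_inv]
  · intro u v
    rw [conjEnd_apply, conjEnd_apply]
    have h1 := hg (J ((g⁻¹ : V ≃ₗ[F] V) u)) ((g⁻¹ : V ≃ₗ[F] V) v)
    rw [self_apply_inv] at h1
    have h2 := hg ((g⁻¹ : V ≃ₗ[F] V) u) (J ((g⁻¹ : V ≃ₗ[F] V) v))
    rw [self_apply_inv] at h2
    rw [h1, h2, hJ.2]

/-- the isometry group acts by conjugation on the self-adjoint square roots of `ε` -/
noncomputable def conjActionJs (ε : F) :
    MulAction (SpImp.isoGroup B) {J : Module.End F V // IsJs B ε J} where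
  smul g J := ⟨conjEnd g.1 J.1, isJs_conj B ε g.2 J.2⟩
  one_smul J := by
    apply Subtype.ext
    apply LinearMap.ext
    intro v
    show conjEnd (1 : V ≃ₗ[F] V) J.1 v = J.1 v
    rw [conjEnd_apply, inv_one]
    rfl
  mul_smul g h J := by
    apply Subtype.ext
    apply LinearMap.ext
    intro v
    show conjEnd (g.1 * h.1) J.1 v = conjEnd g.1 (conjEnd h.1 J.1) v
    rw [conjEnd_apply, conjEnd_apply, conjEnd_apply, mul_inv_rev]
    rfl

theorem smul_val_s (ε : F) (g : SpImp.isoGroup B) (J : {J : Module.End F V // IsJs B ε J}) :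
    (letI := conjActionJs B ε; (g • J).1) = conjEnd g.1 J.1 := rfl

theorem smul_eq_iff_s (ε : F) (g : SpImp.isoGroup B) (J : {J : Module.End F V // IsJs B ε J}) :
    (letI := conjActionJs B ε; g • J = J) ↔ ∀ v, g.1 (J.1 v) = J.1 (g.1 v) := by
  letI := conjActionJs B ε
  constructor
  · intro h v
    have h1 : (g • J).1 (g.1 v) = J.1 (g.1 v) := by rw [h]
    rw [smul_val_s, conjEnd_apply, inv_apply_self] at h1
    exact h1
  · intro h
    apply Subtype.ext
    apply LinearMap.ext
    intro v
    rw [smul_val_s, conjEnd_apply, h, self_apply_inv]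

end Act

section Card

variable {F : Type u} [Field F] [Fintype F] {V : Type v} [AddCommGroup V] [Module F V]
  [FiniteDimensional F V]
variable (B : LinearMap.BilinForm F V)

theorem finite_Js (ε : F) : Finite {J : Module.End F V // IsJs B ε J} := by
  haveI : Finite V := Module.finite_of_finite F
  haveI : Finite (Module.End F V) :=
    Finite.of_injective (fun f : Module.End F V => (f : V → V)) DFunLike.coe_injective
  exact Subtype.finite

/-- the isometry group is transitive on the self-adjoint square roots of `ε` -/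
theorem orbit_Js_eq_univ (hodd : Odd (Fintype.card F)) (ε : F) (hε : ∀ e : F, e * e ≠ ε)
    (hS : Symm B) (hB : Nondeg B) (J₀ : {J : Module.End F V // IsJs B ε J}) :
    (letI := conjActionJs B ε; MulAction.orbit (SpImp.isoGroup B) J₀) = Set.univ := by
  letI := conjActionJs B ε
  rw [Set.eq_univ_iff_forall]
  intro J
  obtain ⟨g, hg, hgJ⟩ := conj_Js hodd hε _ V B hS hB J₀.1 J.1 J₀.2 J.2 rfl
  refine ⟨⟨g, hg⟩, ?_⟩
  apply Subtype.ext
  apply LinearMap.ext
  intro v
  show conjEnd g J₀.1 v = J.1 v
  rw [conjEnd_apply, hgJ, self_apply_inv]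

/-- the number of self-adjoint square roots of `ε` divides the order of the isometry group -/
theorem card_Js_dvd (hodd : Odd (Fintype.card F)) (ε : F) (hε : ∀ e : F, e * e ≠ ε)
    (hS : Symm B) (hB : Nondeg B) (J₀ : {J : Module.End F V // IsJs B ε J}) :
    Nat.card {J : Module.End F V // IsJs B ε J} ∣ Nat.card (SpImp.isoGroup B) := by
  classical
  letI := conjActionJs B ε
  have hset := orbit_Js_eq_univ B hodd ε hε hS hB J₀
  have h1 : Nat.card (MulAction.orbit (SpImp.isoGroup B) J₀) =
      Nat.card {J : Module.End F V // IsJs B ε J} := by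
    rw [hset]
    exact Nat.card_congr (Equiv.Set.univ _)
  rw [← h1, Nat.card_congr (MulAction.orbitEquivQuotientStabilizer (SpImp.isoGroup B) _),
    Subgroup.card_eq_card_quotient_mul_card_subgroup (MulAction.stabilizer (SpImp.isoGroup B) J₀)]
  exact dvd_mul_right _ _

end Card

section Glue

variable {F : Type u} [Field F] {V : Type v} [AddCommGroup V] [Module F V] [FiniteDimensional F V]
variable (B : LinearMap.BilinForm F V)

/-- self-adjoint square roots of `ε` preserving `C` and equal to `± ρ` on `M` -/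
def IsGluedS (ε : F) (C M : Submodule F V) (ρ J : Module.End F V) : Prop :=
  IsJs B ε J ∧ (∀ c ∈ C, J c ∈ C) ∧ ((∀ m ∈ M, J m = ρ m) ∨ (∀ m ∈ M, J m = -ρ m))

theorem card_gluedS (h2F : (2 : F) ≠ 0) (ε : F) (hε0 : ε ≠ 0) (hS : Symm B)
    (C M : Submodule F V) (hCM : IsCompl C M) (horth : ∀ c ∈ C, ∀ m ∈ M, B c m = 0)
    (hM0 : M ≠ ⊥) (ρ : Module.End F V) (hρM : ∀ m ∈ M, ρ m ∈ M)
    (hρ2 : ∀ m ∈ M, ρ (ρ m) = ε • m) (hρs : ∀ u ∈ M, ∀ v ∈ M, B (ρ u) v = B u (ρ v)) :
    Nat.card {J : Module.End F V // IsGluedS B ε C M ρ J} =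
      2 * Nat.card {J' : Module.End F C // IsJs (resForm B C) ε J'} := by
  classical
  have hdec : ∀ v : V, ∃ c ∈ C, ∃ m ∈ M, v = c + m := fun v => exists_decomp hCM v
  have hneg : ¬ (∀ m ∈ M, -ρ m = ρ m) := by
    intro h
    obtain ⟨m, hm, hm0⟩ := Submodule.exists_mem_ne_zero_of_ne_bot hM0
    apply hm0
    have h1 := h m hm
    have h2 : (2 : F) • ρ m = 0 := by
      rw [two_smul]
      nth_rewrite 1 [← h1]
      exact neg_add_cancel _
    have h3 : ρ m = 0 := (smul_eq_zero.mp h2).resolve_left h2F
    have h4 := hρ2 m hm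
    rw [h3, map_zero] at h4
    exact (smul_eq_zero.mp h4.symm).resolve_left hε0
  obtain ⟨f, hf⟩ : ∃ f : {J : Module.End F V // IsGluedS B ε C M ρ J} →
      Bool × {J' : Module.End F C // IsJs (resForm B C) ε J'}, ∀ J, f J =
      (decide (∀ m ∈ M, J.1 m = ρ m),
        ⟨J.1.restrict J.2.2.1, J.2.1.restrict C J.2.2.1⟩) := ⟨_, fun _ => rfl⟩
  have hbij : Function.Bijective f := by
    constructor
    · intro J J' hJJ'
      rw [hf, hf] at hJJ'
      have h1 : decide (∀ m ∈ M, J.1 m = ρ m) = decide (∀ m ∈ M, J'.1 m = ρ m) :=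
        congrArg Prod.fst hJJ'
      have h2 : J.1.restrict J.2.2.1 = J'.1.restrict J'.2.2.1 :=
        congrArg (fun x : Bool × {J' : Module.End F C // IsJs (resForm B C) ε J'} => x.2.1) hJJ'
      have hC : ∀ c ∈ C, J.1 c = J'.1 c := by
        intro c hc
        have h3 : (((J.1.restrict J.2.2.1) ⟨c, hc⟩ : C) : V) =
            (((J'.1.restrict J'.2.2.1) ⟨c, hc⟩ : C) : V) := by rw [h2]
        exact h3
      have hM : ∀ m ∈ M, J.1 m = J'.1 m := by
        have h1' : (∀ m ∈ M, J.1 m = ρ m) ↔ (∀ m ∈ M, J'.1 m = ρ m) := by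
          constructor
          · intro h
            exact of_decide_eq_true (h1 ▸ decide_eq_true h)
          · intro h
            exact of_decide_eq_true (h1.symm ▸ decide_eq_true h)
        rcases J.2.2.2 with h | h
        · intro m hm
          rw [h m hm, (h1'.mp h) m hm]
        · have hn : ¬ (∀ m ∈ M, J.1 m = ρ m) := by
            intro h'
            apply hneg
            intro m hm
            rw [← h m hm, h' m hm]
          have hn' : ¬ (∀ m ∈ M, J'.1 m = ρ m) := fun h' => hn (h1'.mpr h')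
          rcases J'.2.2.2 with h' | h'
          · exact absurd h' hn'
          · intro m hm
            rw [h m hm, h' m hm]
      apply Subtype.ext
      apply LinearMap.ext
      intro v
      obtain ⟨c, hc, m, hm, rfl⟩ := hdec v
      rw [map_add, map_add, hC c hc, hM m hm]
    · rintro ⟨b, ⟨J', hJ'⟩⟩
      obtain ⟨s, hs⟩ : ∃ s : F, s = if b then 1 else -1 := ⟨_, rfl⟩
      have hss : s * s = 1 := by
        rw [hs]
        split_ifs <;> ring
      obtain ⟨J, hJdef⟩ : ∃ J : Module.End F V, J =
          LinearMap.ofIsCompl hCM (C.subtype ∘ₗ J') ((s • ρ) ∘ₗ M.subtype) := ⟨_, rfl⟩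
      have hJc : ∀ c (hc : c ∈ C), J c = (J' ⟨c, hc⟩ : V) := by
        intro c hc
        rw [hJdef]
        exact LinearMap.ofIsCompl_apply_left hCM ⟨c, hc⟩
      have hJm : ∀ m ∈ M, J m = s • ρ m := by
        intro m hm
        rw [hJdef]
        exact LinearMap.ofIsCompl_apply_right hCM ⟨m, hm⟩
      have hJC : ∀ c ∈ C, J c ∈ C := by
        intro c hc
        rw [hJc c hc]
        exact (J' ⟨c, hc⟩).2
      have hJM : ∀ m ∈ M, J m ∈ M := by
        intro m hm
        rw [hJm m hm]
        exact M.smul_mem _ (hρM m hm)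
      have horth' : ∀ m ∈ M, ∀ c ∈ C, B m c = 0 := by
        intro m hm c hc
        rw [hS]
        exact horth c hc m hm
      have hJ : IsJs B ε J := by
        constructor
        · intro v
          obtain ⟨c, hc, m, hm, rfl⟩ := hdec v
          have e1 : J (J c) = ε • c := by
            rw [hJc c hc, hJc _ (J' ⟨c, hc⟩).2]
            have h3 := congrArg Subtype.val (hJ'.1 ⟨c, hc⟩)
            exact h3
          have e2 : J (J m) = ε • m := by
            rw [hJm m hm, map_smul, hJm _ (hρM m hm), hρ2 m hm, smul_smul, smul_smul, hss, one_mul]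
          rw [map_add, map_add, e1, e2, smul_add]
        · intro u v
          obtain ⟨c₁, hc₁, m₁, hm₁, rfl⟩ := hdec u
          obtain ⟨c₂, hc₂, m₂, hm₂, rfl⟩ := hdec v
          have e1 : B (J c₁) c₂ = B c₁ (J c₂) := by
            rw [hJc c₁ hc₁, hJc c₂ hc₂]
            exact hJ'.2 ⟨c₁, hc₁⟩ ⟨c₂, hc₂⟩
          have e2 : B (J m₁) m₂ = B m₁ (J m₂) := by
            rw [hJm m₁ hm₁, hJm m₂ hm₂, map_smul, LinearMap.smul_apply, map_smul,
              hρs m₁ hm₁ m₂ hm₂]
          have o1 := horth _ (hJC c₁ hc₁) m₂ hm₂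
          have o2 := horth' _ (hJM m₁ hm₁) c₂ hc₂
          have o3 := horth c₁ hc₁ _ (hJM m₂ hm₂)
          have o4 := horth' m₁ hm₁ _ (hJC c₂ hc₂)
          simp only [map_add, LinearMap.add_apply]
          rw [e1, e2, o1, o2, o3, o4]
      have hdich : (∀ m ∈ M, J m = ρ m) ∨ (∀ m ∈ M, J m = -ρ m) := by
        cases b
        · right
          intro m hm
          rw [hJm m hm, hs]
          simp
        · left
          intro m hm
          rw [hJm m hm, hs]
          simp
      refine ⟨⟨J, hJ, hJC, hdich⟩, ?_⟩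
      rw [hf]
      apply Prod.ext
      · show decide (∀ m ∈ M, J m = ρ m) = b
        cases b
        · rw [decide_eq_false_iff_not]
          intro h
          apply hneg
          intro m hm
          have h5 := h m hm
          rw [hJm m hm, hs] at h5
          simpa using h5
        · rw [decide_eq_true_iff]
          intro m hm
          rw [hJm m hm, hs]
          simp
      · apply Subtype.ext
        apply LinearMap.ext
        intro c
        apply Subtype.ext
        show J c = J' c
        exact hJc c.1 c.2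
  rw [Nat.card_eq_of_bijective f hbij, Nat.card_prod, Nat.card_eq_fintype_card (α := Bool),
    Fintype.card_bool]

theorem glued_iff_comm_s (ε : F) (y : Module.End F V) (r : ℕ) (hrF : (r : F) ≠ 0)
    (hy : y ^ r = 1) (ρ : Module.End F V) (hρy : ∀ v, y (ρ v) = ρ (y v))
    (hdich : ∀ J : Module.End F V, IsJs B ε J → (∀ v, y (J v) = J (y v)) →
      (∀ m ∈ LinearMap.ker (nrm y r), J m = ρ m) ∨ (∀ m ∈ LinearMap.ker (nrm y r), J m = -ρ m))
    (J : Module.End F V) :
    IsGluedS B ε (LinearMap.ker (y - 1)) (LinearMap.ker (nrm y r)) ρ J ↔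
      IsJs B ε J ∧ ∀ v, y (J v) = J (y v) := by
  constructor
  · rintro ⟨hJ, hC, hd⟩
    refine ⟨hJ, ?_⟩
    intro v
    have hv : v ∈ LinearMap.ker (y - 1) ⊔ LinearMap.ker (nrm y r) := by
      rw [(isCompl_ker_nrm hrF hy).sup_eq_top]
      exact Submodule.mem_top
    obtain ⟨c, hc, m, hm, rfl⟩ := Submodule.mem_sup.mp hv
    have e1 : y (J c) = J (y c) := by
      rw [Elus.mem_ker_sub_one.mp (hC c hc), Elus.mem_ker_sub_one.mp hc]
    have e2 : y (J m) = J (y m) := by
      have hym := inv_ker_nrm y r m hm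
      rcases hd with h | h
      · rw [h m hm, h _ hym, hρy]
      · rw [h m hm, h _ hym, map_neg, hρy]
    rw [map_add, map_add, map_add, map_add, e1, e2]
  · rintro ⟨hJ, hcomm⟩
    exact ⟨hJ, inv_ker_fix_of_comm hcomm, hdich J hJ hcomm⟩

end Glue

section Main

variable {F : Type u} [Field F] [Fintype F]

/-- **order of `q` modulo `r` divisible by four**: `r` does not divide the number of self-adjoint
square roots of `ε` -/
theorem not_dvd_card_Js {p : ℕ} [hp : Fact p.Prime] [CharP F p] (hodd : Odd (Fintype.card F))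
    (ε : F) (hε : ∀ e : F, e * e ≠ ε) (r : ℕ) [hr : Fact r.Prime] (hr2 : r ≠ 2) (hrp : r ≠ p)
    (m : ℕ) (hm : orderOf ((Fintype.card F : ℕ) : ZMod r) = m + m) (hme : Even m) :
    ∀ (n : ℕ) (V : Type v) [AddCommGroup V] [Module F V] [FiniteDimensional F V]
      (B : LinearMap.BilinForm F V), Symm B → Nondeg B → finrank F V = 2 * n →
      ¬ r ∣ Nat.card {J : Module.End F V // IsJs B ε J} := by
  intro n
  induction n using Nat.strong_induction_on with
  | _ n ih =>
    intro V _ _ _ B hS hB hn hdvd
    classical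
    obtain ⟨f₀, -, hf₀⟩ := FiniteField.card F p
    have hrq : ¬ r ∣ Fintype.card F := Elus.not_dvd_card_of_ne (F := F) r hrp
    have hrF : (r : F) ≠ 0 := natCast_ne_zero_of_ne r hrp
    have hr0 : 0 < r := hr.out.pos
    have h2F := two_ne_zero_of_odd hodd
    have hε0 : ε ≠ 0 := by
      rintro rfl
      exact hε 0 (mul_zero 0)
    have hm0 : 0 < m := by
      have h1 := Elus.ord_pos r (Fintype.card F) hrq
      omega
    haveI := finite_Js B ε
    letI := conjActionJs B ε
    obtain ⟨J₀, hJ₀⟩ := exists_Js hodd hε n V B hS hB hn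
    have hdvdG : r ∣ Nat.card (SpImp.isoGroup B) :=
      dvd_trans hdvd (card_Js_dvd B hodd ε hε hS hB ⟨J₀, hJ₀⟩)
    have hie : Even (m + m) := ⟨m, rfl⟩
    obtain ⟨y, hyB, hy, hyfin⟩ := exists_iso_min B hf₀ hodd hS hB r hr2 hrp hrq hrF (m + m) (m + m)
      hm.symm (by rw [if_pos hie]) hdvdG
    -- the group element
    obtain ⟨g, hg⟩ := SpImp.exists_equiv_of_pow hr0 hy
    have hgy : ∀ v, g v = y v := by
      intro v
      rw [← hg]
      rfl
    have hgiso : g ∈ SpImp.isoGroup B := by
      intro u v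
      rw [hgy, hgy]
      exact hyB u v
    have hgr : g ^ r = 1 := by
      apply LinearEquiv.toLinearMap_injective
      rw [SpImp.coe_pow_equiv, hg, hy]
      rfl
    obtain ⟨g', hg'⟩ : ∃ g' : SpImp.isoGroup B, g' = ⟨g, hgiso⟩ := ⟨_, rfl⟩
    have hg'r : g' ^ r = 1 := by
      rw [hg']
      apply Subtype.ext
      exact hgr
    have hPg : IsPGroup r (Subgroup.zpowers g') := by
      intro z
      refine ⟨1, ?_⟩
      obtain ⟨k, hk⟩ := Subgroup.mem_zpowers_iff.mp z.2
      apply Subtype.ext
      rw [pow_one, Subgroup.coe_pow, ← hk, ← zpow_natCast, ← zpow_mul, mul_comm, zpow_mul,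
        zpow_natCast, hg'r, one_zpow]
      rfl
    have hmod := hPg.card_modEq_card_fixedPoints {J : Module.End F V // IsJs B ε J}
    have hdvdFix : r ∣ Nat.card (MulAction.fixedPoints (Subgroup.zpowers g')
        {J : Module.End F V // IsJs B ε J}) := (hmod.dvd_iff dvd_rfl).mp hdvd
    -- the structure of `y`
    obtain ⟨M, hMdef⟩ : ∃ M : Submodule F V, M = LinearMap.ker (nrm y r) := ⟨_, rfl⟩
    have hfinM : finrank F M = m + m := by
      have h1 := finrank_ker_nrm hrF hy
      rw [hMdef]
      omega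
    have hM0 : M ≠ ⊥ := by
      intro h
      rw [h, finrank_bot] at hfinM
      omega
    have hMi : Elus.Inv y M := by
      rw [hMdef]
      exact inv_ker_nrm y r
    have hMC : Disjoint M (LinearMap.ker (y - 1)) := by
      rw [hMdef]
      exact disj_ker_nrm hrF
    have hmin : ∀ X : Submodule F V, X ≤ M → Elus.Inv y X → X = ⊥ ∨ X = M := by
      rw [hMdef]
      exact ker_nrm_minimal r hrF hrq y hy (by rw [hm]; exact hyfin)
    obtain ⟨P, hP⟩ := exists_rho hodd ε hε r (by rw [hm]; exact hie) y hy M hMi hM0 hmin hMC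
    obtain ⟨ρ, hρdef⟩ : ∃ ρ : Module.End F V, ρ = aeval y P := ⟨_, rfl⟩
    have hρy : ∀ v, y (ρ v) = ρ (y v) := by
      intro v
      rw [hρdef]
      exact (SpImp.aeval_comm y P v).symm
    have hρM : Elus.Inv ρ M := by
      rw [hρdef]
      exact SpImp.inv_aeval hMi P
    have hρ2 : ∀ v ∈ M, ρ (ρ v) = ε • v := by
      rw [hρdef]
      exact hP
    have hadj : ∀ u ∈ M, ∀ v, B u (ρ v) = B (ρ u) v := by
      intro u hu v
      rw [hρdef, adj_rho B hodd ε hε r hrq m hm y hyB hy M hMi P hP u hu v, hme.neg_one_pow,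
        one_mul]
    have hρs : ∀ u ∈ M, ∀ v ∈ M, B (ρ u) v = B u (ρ v) := by
      intro u hu v hv
      rw [hadj u hu v]
    have hdich : ∀ J : Module.End F V, IsJs B ε J → (∀ v, y (J v) = J (y v)) →
        (∀ m ∈ M, J m = ρ m) ∨ (∀ m ∈ M, J m = -ρ m) := by
      intro J hJ hJy
      refine eq_or_neg_of_comm ε y M hmin ρ J hρy hJy hMi hρM ?_ ?_ hρ2 (fun v _ => hJ.1 v)
      · rw [hMdef]
        exact inv_ker_nrm_of_comm hJy r
      · intro v _
        rw [hρdef]
        exact (aeval_comm_of_comm hJy P v).symm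
    -- counting the fixed points
    have hfixiff : ∀ J : {J : Module.End F V // IsJs B ε J},
        J ∈ MulAction.fixedPoints (Subgroup.zpowers g') {J : Module.End F V // IsJs B ε J} ↔
        ∀ v, y (J.1 v) = J.1 (y v) := by
      intro J
      have h1 : (g' • J = J) ↔ ∀ v, y (J.1 v) = J.1 (y v) := by
        rw [smul_eq_iff_s B ε g' J, hg']
        constructor
        · intro h v
          have h2 := h v
          rw [hgy, hgy] at h2
          exact h2
        · intro h v
          rw [hgy, hgy]
          exact h v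
      rw [← h1, MulAction.mem_fixedPoints]
      constructor
      · intro h
        exact h ⟨g', Subgroup.mem_zpowers g'⟩
      · intro h z
        have h3 : Subgroup.zpowers g' ≤ MulAction.stabilizer (SpImp.isoGroup B) J :=
          Subgroup.zpowers_le.mpr (MulAction.mem_stabilizer_iff.mpr h)
        exact MulAction.mem_stabilizer_iff.mp (h3 z.2)
    have hcard1 : Nat.card (MulAction.fixedPoints (Subgroup.zpowers g')
        {J : Module.End F V // IsJs B ε J}) =
        Nat.card {J : Module.End F V // IsGluedS B ε (LinearMap.ker (y - 1)) M ρ J} := by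
      apply Nat.card_congr
      refine (Equiv.subtypeEquivRight hfixiff).trans
        ((Equiv.subtypeSubtypeEquivSubtypeInter (IsJs B ε)
          (fun J : Module.End F V => ∀ v, y (J v) = J (y v))).trans
          (Equiv.subtypeEquivRight ?_))
      intro J
      rw [hMdef]
      exact (glued_iff_comm_s B ε y r hrF hy ρ hρy (by rw [← hMdef]; exact hdich) J).symm
    have hCM : IsCompl (LinearMap.ker (y - 1)) M := by
      rw [hMdef]
      exact isCompl_ker_nrm hrF hy
    have horth : ∀ c ∈ LinearMap.ker (y - 1), ∀ m ∈ M, B c m = 0 := by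
      rw [hMdef]
      exact orth_ker_nrm B hrF hyB
    have hcard2 := card_gluedS B h2F ε hε0 hS (LinearMap.ker (y - 1)) M hCM horth hM0 ρ hρM hρ2 hρs
    rw [hcard1, hcard2] at hdvdFix
    have hcop : Nat.Coprime r 2 := (Nat.coprime_primes hr.out Nat.prime_two).mpr hr2
    have hdvdC := hcop.dvd_of_dvd_mul_left hdvdFix
    -- induction
    have hCnd : Nondeg (resForm B (LinearMap.ker (y - 1))) := nondeg_of_isCompl hS hB hCM horth
    obtain ⟨m', hm'⟩ := hme
    have hCfin : finrank F (LinearMap.ker (y - 1)) = 2 * (n - m) := by omega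
    exact ih (n - m) (by omega) (LinearMap.ker (y - 1)) (resForm B (LinearMap.ker (y - 1)))
      (symm_resForm hS _) hCnd hCfin hdvdC

end Main

end Cfsg.Agent.Lib.Helper6.Ofx
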