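import Mathlib
import Cfsg.Prelude.Def_GeometricClasses
import Cfsg.Agent.Lib.Helper6.OfxE
import Cfsg.Agent.Lib.Helper6.OrthInv2
import Cfsg.Agent.Lib.Helper5.SpinorNorm
import Cfsg.Agent.Lib.Helper5.QuadTwo.QMat2
import Cfsg.Agent.Lib.Helper2.UkfG

set_option autoImplicit false
set_option maxHeartbeats 1000000
set_option linter.unusedVariables false
set_option linter.unusedSectionVars false
set_option linter.style.longLine false
set_option linter.unusedSimpArgs false
set_option linter.deprecated false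
set_option linter.style.haveILetI false

/-! Field-extension subgroups of orthogonal groups (part F): the bridge between matrices
preserving a quadratic form on `ι → F` and the abstract isometries of its polar form; the index
of the normalizer of the field subalgebra in `Ω` divides the number of self-adjoint square roots
of `ε`; elements of odd order lie in `Ω`. -/

namespace Cfsg.Agent.Lib.Helper6.Ofx

open Module Cfsg Cfsg.Agent.Lib.Helper5.OrthPrime Cfsg.Agent.Lib.Helper2.Ukf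
  Cfsg.Agent.Lib.Helper2 Cfsg.Agent.Lib.Helper5.CartanDieudonne Cfsg.Agent.Lib.Helper5.Refl
open scoped Matrix MatrixGroups

universe u

section Grp

theorem relIndex_dvd_index_right {G : Type*} [Group G] [Finite G] (S N : Subgroup G)
    [N.Normal] : S.relIndex N ∣ S.index := by
  have h1 : (S ⊓ N).relIndex N * N.index = (S ⊓ N).index :=
    Subgroup.relIndex_mul_index inf_le_right
  have h2 : (S ⊓ N).relIndex S * S.index = (S ⊓ N).index :=
    Subgroup.relIndex_mul_index inf_le_left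
  rw [Subgroup.inf_relIndex_right] at h1
  rw [Subgroup.inf_relIndex_left] at h2
  obtain ⟨t, ht⟩ := Subgroup.relIndex_dvd_index_of_normal N S
  have h3 : N.relIndex S ≠ 0 := by
    unfold Subgroup.relIndex
    exact Subgroup.index_ne_zero_of_finite
  refine ⟨t, ?_⟩
  apply Nat.eq_of_mul_eq_mul_left (Nat.pos_of_ne_zero h3)
  rw [h2, ← h1, ht]
  ring

theorem sq_eq_one_units (t : ℤˣ × ℤˣ) : t ^ 2 = 1 := by
  apply Prod.ext
  · rw [Prod.pow_fst, Prod.fst_one]
    exact Int.units_sq t.1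
  · rw [Prod.pow_snd, Prod.snd_one]
    exact Int.units_sq t.2

end Grp

section Bridge

variable {F : Type u} [Field F] {ι : Type} [Fintype ι] [DecidableEq ι]
variable (Q : QuadraticForm F (ι → F))

theorem symmQ : Symm (QuadraticMap.polarBilin Q) := fun x y => by
  rw [QuadraticMap.polarBilin_apply_apply, QuadraticMap.polarBilin_apply_apply,
    QuadraticMap.polar_comm]

theorem nondegQ (hQ : (QuadraticMap.polarBilin Q).Nondegenerate) :
    Nondeg (QuadraticMap.polarBilin Q) := fun v hv => hQ.2 v hv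

theorem polar_self_two (x : ι → F) : QuadraticMap.polar (⇑Q) x x = 2 * Q x := by
  rw [QuadraticMap.polar_self, two_smul, two_mul]

theorem finrank_fun (n : ℕ) (hcard : Fintype.card ι = n) : finrank F (ι → F) = n := by
  rw [Module.finrank_fintype_fun_eq_card, hcard]

/-- the isometries as abstract isometries of the polar form -/
noncomputable def isoHom :
    ↥(isometryGroup F ⇑Q) →* ↥(SpImp.isoGroup (QuadraticMap.polarBilin Q)) where
  toFun g := ⟨OrthInv2.glEquiv g.1, fun u v => polar_act Q g u v⟩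
  map_one' := by
    apply Subtype.ext
    apply LinearEquiv.ext
    intro v
    show OrthInv2.glEquiv (1 : GL ι F) v = v
    rw [OrthInv2.glEquiv_apply, Units.val_one, Matrix.one_mulVec]
  map_mul' g h := by
    apply Subtype.ext
    apply LinearEquiv.ext
    intro v
    show OrthInv2.glEquiv (g.1 * h.1) v = OrthInv2.glEquiv g.1 (OrthInv2.glEquiv h.1 v)
    rw [OrthInv2.glEquiv_apply, OrthInv2.glEquiv_apply, OrthInv2.glEquiv_apply, Units.val_mul,
      Matrix.mulVec_mulVec]

theorem isoHom_apply (g : ↥(isometryGroup F ⇑Q)) (v : ι → F) :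
    (isoHom Q g).1 v = ((g : GL ι F) : Matrix ι ι F) *ᵥ v := rfl

theorem mulVec_inv_mulVec (ω : GL ι F) (u : ι → F) :
    ((ω⁻¹ : GL ι F) : Matrix ι ι F) *ᵥ ((ω : Matrix ι ι F) *ᵥ u) = u := by
  rw [Matrix.mulVec_mulVec, ← Units.val_mul, inv_mul_cancel, Units.val_one, Matrix.one_mulVec]

theorem mulVec_mulVec_inv (ω : GL ι F) (u : ι → F) :
    (ω : Matrix ι ι F) *ᵥ (((ω⁻¹ : GL ι F) : Matrix ι ι F) *ᵥ u) = u := by
  rw [Matrix.mulVec_mulVec, ← Units.val_mul, mul_inv_cancel, Units.val_one, Matrix.one_mulVec]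

/-- lifting an abstract isometry to a matrix -/
theorem exists_mat_of_equiv (h2 : (2 : F) ≠ 0) (hQ : (QuadraticMap.polarBilin Q).Nondegenerate)
    (γ : (ι → F) ≃ₗ[F] (ι → F))
    (hγ : ∀ x y, QuadraticMap.polarBilin Q (γ x) (γ y) = QuadraticMap.polarBilin Q x y) :
    ∃ A : ↥(isometryGroup F ⇑Q), ∀ v, ((A : GL ι F) : Matrix ι ι F) *ᵥ v = γ v :=
  (Cfsg.Agent.Lib.Helper5.QuadTwo.qsOf Q (fun v hv => hQ.2 v hv)).exists_of_isometry h2 γ hγ

theorem exists_mat_of_isom (h2 : (2 : F) ≠ 0) (hQ : (QuadraticMap.polarBilin Q).Nondegenerate)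
    (y : Module.End F (ι → F)) (hy : SpImp.IsIsom (QuadraticMap.polarBilin Q) y) :
    ∃ x : ↥(isometryGroup F ⇑Q), Matrix.toLin' ((x : GL ι F) : Matrix ι ι F) = y := by
  have hinj : Function.Injective y := by
    rw [← LinearMap.ker_eq_bot, eq_bot_iff]
    intro v hv
    rw [LinearMap.mem_ker] at hv
    rw [Submodule.mem_bot]
    apply nondegQ Q hQ v
    intro w
    rw [← hy w v, hv, map_zero]
  obtain ⟨A, hA⟩ := exists_mat_of_equiv Q h2 hQ (LinearEquiv.ofInjectiveEndo y hinj)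
    (fun a b => hy a b)
  refine ⟨A, ?_⟩
  apply LinearMap.ext
  intro v
  rw [Matrix.toLin'_apply, hA]
  rfl

theorem toLin'_smul_one (c : F) :
    Matrix.toLin' (c • (1 : Matrix ι ι F)) = c • (1 : Module.End F (ι → F)) := by
  rw [map_smul, Matrix.toLin'_one]
  rfl

theorem mem_omegaGL_iff (x : GL ι F) :
    x ∈ Cfsg.Geo.omegaGL ⇑Q ↔ ∃ x' : ↥(isometryGroup F ⇑Q),
      x' ∈ commutator ↥(isometryGroup F ⇑Q) ∧ (x' : GL ι F) = x := by
  unfold Cfsg.Geo.omegaGL
  rw [Subgroup.mem_map]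
  rfl

/-- the generator of the field subalgebra is a self-adjoint square root -/
theorem isJs_of_K (K : Subalgebra F (Matrix ι ι F)) (Jm : Matrix ι ι F) (ε : F) (hJ : Jm ∈ K)
    (hJJ : Jm * Jm = ε • 1)
    (hKf : Cfsg.Geo.IsSelfAdjointFor (QuadraticMap.polar (⇑Q)) K) :
    IsJs (QuadraticMap.polarBilin Q) ε (Matrix.toLin' Jm) := by
  constructor
  · intro v
    rw [Matrix.toLin'_apply, Matrix.toLin'_apply, Matrix.mulVec_mulVec, hJJ, Matrix.smul_mulVec,
      Matrix.one_mulVec]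
  · intro u v
    rw [Matrix.toLin'_apply, Matrix.toLin'_apply]
    exact hKf Jm hJ u v

end Bridge

section Index

variable {F : Type u} [Field F] [Fintype F] {ι : Type} [Fintype ι] [DecidableEq ι]
variable (Q : QuadraticForm F (ι → F))

/-- elements of odd order lie in `Ω` -/
theorem mem_commutator_of_pow_odd (h2 : (2 : F) ≠ 0)
    (hQ : (QuadraticMap.polarBilin Q).Nondegenerate) (hn : 2 ≤ Fintype.card ι)
    (g : ↥(isometryGroup F ⇑Q)) (r : ℕ) (hr : Odd r) (hg : g ^ r = 1) :
    g ∈ commutator ↥(isometryGroup F ⇑Q) := by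
  rw [← Cfsg.Agent.Lib.Helper5.SpinorNorm.ker_theta Q h2 hQ hn, MonoidHom.mem_ker]
  obtain ⟨k, hk⟩ := hr
  have h1 : (Cfsg.Agent.Lib.Helper5.SpinorNorm.theta Q h2 hQ g) ^ r = 1 := by
    rw [← map_pow, hg, map_one]
  rw [hk, pow_succ, pow_mul, sq_eq_one_units, one_pow, one_mul] at h1
  exact h1

/-- every self-adjoint square root of `ε` is a conjugate of the given one under a matrix
isometry -/
theorem exists_conj_mat (hodd : Odd (Fintype.card F))
    (hQ : (QuadraticMap.polarBilin Q).Nondegenerate) (Jm : Matrix ι ι F) (ε : F)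
    (hε : ∀ e : F, e * e ≠ ε) (hIsJ : IsJs (QuadraticMap.polarBilin Q) ε (Matrix.toLin' Jm))
    (J' : Module.End F (ι → F)) (hJ' : IsJs (QuadraticMap.polarBilin Q) ε J') :
    ∃ g : ↥(isometryGroup F ⇑Q), ∀ v, ((g : GL ι F) : Matrix ι ι F) *ᵥ (Jm *ᵥ v) =
      J' (((g : GL ι F) : Matrix ι ι F) *ᵥ v) := by
  have h2F := two_ne_zero_of_odd hodd
  obtain ⟨γ, hγ, hγJ⟩ := conj_Js hodd hε _ (ι → F) (QuadraticMap.polarBilin Q) (symmQ Q)
    (nondegQ Q hQ) (Matrix.toLin' Jm) J' hIsJ hJ' rfl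
  obtain ⟨A, hA⟩ := exists_mat_of_equiv Q h2F hQ γ hγ
  refine ⟨A, ?_⟩
  intro v
  rw [hA, hA, ← Matrix.toLin'_apply, hγJ]

theorem relIndex_dvd_card_Js (hodd : Odd (Fintype.card F))
    (hQ : (QuadraticMap.polarBilin Q).Nondegenerate)
    (K : Subalgebra F (Matrix ι ι F)) (Jm : Matrix ι ι F) (ε : F) (hJ : Jm ∈ K)
    (hspan : ∀ k ∈ K, ∃ α β : F, k = α • 1 + β • Jm) (hε : ∀ e : F, e * e ≠ ε)
    (hIsJ : IsJs (QuadraticMap.polarBilin Q) ε (Matrix.toLin' Jm)) :
    (Cfsg.Geo.subalgebraNormalizer K).relIndex (Cfsg.Geo.omegaGL ⇑Q) ∣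
      Nat.card {J : Module.End F (ι → F) // IsJs (QuadraticMap.polarBilin Q) ε J} := by
  classical
  have hS := symmQ Q
  have hB := nondegQ Q hQ
  have h2F := two_ne_zero_of_odd hodd
  letI act0 := conjActionJs (QuadraticMap.polarBilin Q) ε
  letI act : MulAction ↥(isometryGroup F ⇑Q)
      {J : Module.End F (ι → F) // IsJs (QuadraticMap.polarBilin Q) ε J} :=
    MulAction.compHom _ (isoHom Q)
  obtain ⟨J₀, hJ₀⟩ : ∃ J₀ : {J : Module.End F (ι → F) // IsJs (QuadraticMap.polarBilin Q) ε J},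
      J₀ = ⟨Matrix.toLin' Jm, hIsJ⟩ := ⟨_, rfl⟩
  have hsmul : ∀ (g : ↥(isometryGroup F ⇑Q))
      (J : {J : Module.End F (ι → F) // IsJs (QuadraticMap.polarBilin Q) ε J}),
      g • J = isoHom Q g • J := fun g J => rfl
  have hstab : MulAction.stabilizer ↥(isometryGroup F ⇑Q) J₀ ≤
      (Cfsg.Geo.subalgebraNormalizer K).comap (isometryGroup F ⇑Q).subtype := by
    intro g hg
    rw [MulAction.mem_stabilizer_iff, hsmul, smul_eq_iff_s] at hg
    rw [Subgroup.mem_comap]
    show (g.1 : GL ι F) ∈ Cfsg.Geo.subalgebraNormalizer K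
    apply mem_normalizer_J K Jm hJ hspan
    left
    apply Matrix.toLin'.injective
    apply LinearMap.ext
    intro v
    have h1 := hg v
    rw [hJ₀] at h1
    rw [Matrix.toLin'_mul, Matrix.toLin'_mul, LinearMap.comp_apply, LinearMap.comp_apply,
      Matrix.toLin'_apply (g.1 : Matrix ι ι F), Matrix.toLin'_apply (g.1 : Matrix ι ι F)]
    exact h1
  have htrans : MulAction.orbit ↥(isometryGroup F ⇑Q) J₀ = Set.univ := by
    rw [Set.eq_univ_iff_forall]
    intro J
    obtain ⟨γ, hγ, hγJ⟩ := conj_Js hodd hε _ (ι → F) (QuadraticMap.polarBilin Q) hS hB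
      (Matrix.toLin' Jm) J.1 hIsJ J.2 rfl
    obtain ⟨A, hAγ⟩ := exists_mat_of_equiv Q h2F hQ γ hγ
    refine ⟨A, ?_⟩
    show A • J₀ = J
    rw [hsmul]
    have hAγ' : (isoHom Q A).1 = γ := by
      apply LinearEquiv.ext
      intro v
      exact hAγ v
    apply Subtype.ext
    apply LinearMap.ext
    intro v
    rw [smul_val_s, conjEnd_apply, hAγ', hJ₀]
    simp only []
    rw [hγJ, self_apply_inv]
  have h1 : (MulAction.stabilizer ↥(isometryGroup F ⇑Q) J₀).index =
      Nat.card {J : Module.End F (ι → F) // IsJs (QuadraticMap.polarBilin Q) ε J} := by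
    rw [Subgroup.index,
      ← Nat.card_congr (MulAction.orbitEquivQuotientStabilizer ↥(isometryGroup F ⇑Q) J₀), htrans]
    exact Nat.card_congr (Equiv.Set.univ _)
  rw [← h1]
  have h2 : (Cfsg.Geo.subalgebraNormalizer K).relIndex (Cfsg.Geo.omegaGL ⇑Q) =
      ((Cfsg.Geo.subalgebraNormalizer K).comap (isometryGroup F ⇑Q).subtype).relIndex
        (commutator ↥(isometryGroup F ⇑Q)) := by
    rw [Subgroup.relIndex_comap]
    rfl
  rw [h2]
  exact dvd_trans (Subgroup.relIndex_dvd_of_le_left _ hstab) (relIndex_dvd_index_right _ _)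

end Index

end Cfsg.Agent.Lib.Helper6.Ofx
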