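import Mathlib
import Cfsg.Agent.Lib.Helper6.OfxF
import Cfsg.Agent.Lib.Helper5.Siegel
import Cfsg.Agent.Lib.Helper2.UkfH

set_option autoImplicit false
set_option maxHeartbeats 1000000
set_option linter.unusedVariables false
set_option linter.unusedSectionVars false
set_option linter.style.longLine false
set_option linter.unusedSimpArgs false
set_option linter.deprecated false
set_option linter.style.haveILetI false

/-! Field-extension subgroups of orthogonal groups (part G): if every element of order `r` of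
`Ω` has a conjugate normalizing the field subalgebra and `r` divides the index, then `r = 2`. -/

namespace Cfsg.Agent.Lib.Helper6.Ofx

open Module Cfsg Cfsg.Agent.Lib.Helper5.OrthPrime Cfsg.Agent.Lib.Helper2.Ukf
  Cfsg.Agent.Lib.Helper2 Cfsg.Agent.Lib.Helper5.CartanDieudonne Cfsg.Agent.Lib.Helper5.Refl
  Cfsg.Agent.Lib.Helper5.Siegel
open scoped Matrix MatrixGroups

universe u v

section NoSiegel

variable {F : Type u} [Field F] {V : Type v} [AddCommGroup V] [Module F V]
variable (B : V →ₗ[F] V →ₗ[F] F)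

/-- a long root element does not commute with a self-adjoint square root of a nonsquare -/
theorem no_siegel_comm (h2F : (2 : F) ≠ 0) {ε : F} (hε : ∀ e : F, e * e ≠ ε)
    (J : Module.End F V) (hJ : IsJs B ε J) (u w v : V) (huv : B u v = 1) (hwv : B w v = 0)
    (hw0 : w ≠ 0) (y : Module.End F V) (hy : ∀ x, y x = x + B u x • w - B w x • u)
    (hJy : ∀ x, y (J x) = J (y x)) : False := by
  have h1 := hJy v
  rw [hy (J v), hy v, huv, hwv, one_smul, zero_smul, sub_zero, map_add] at h1
  have h3 : J w = B u (J v) • w - B w (J v) • u := by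
    have h := h1
    rw [add_sub_assoc] at h
    exact (add_left_cancel h).symm
  have h4 : B w (J v) = -B w (J v) := by
    have e1 : B (J w) v = B w (J v) := hJ.2 w v
    rw [h3] at e1
    simp only [map_sub, map_smul, LinearMap.sub_apply, LinearMap.smul_apply, smul_eq_mul, huv,
      hwv, mul_zero, mul_one, zero_sub] at e1
    exact e1.symm
  have h5 : B w (J v) = 0 := by
    have h : (2 : F) * B w (J v) = 0 := by linear_combination h4
    exact (mul_eq_zero.mp h).resolve_left h2F
  have h6 : J w = B u (J v) • w := by rw [h3, h5, zero_smul, sub_zero]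
  have h7 := hJ.1 w
  rw [h6, map_smul, h6, smul_smul] at h7
  have h8 : (B u (J v) * B u (J v) - ε) • w = 0 := by rw [sub_smul, h7, sub_self]
  rcases smul_eq_zero.mp h8 with h | h
  · exact hε _ (sub_eq_zero.mp h)
  · exact hw0 h

end NoSiegel

section SiegelPow

variable {F : Type u} [Field F] {ι : Type} [Fintype ι] [DecidableEq ι]
variable (Q : QuadraticForm F (ι → F))

theorem siegel_zero_eq_one (u w : ι → F) (hu : Q u = 0) (hw : Q w = 0)
    (huw : QuadraticMap.polar (⇑Q) u w = 0) : siegel Q u w hu hw huw 0 = 1 := by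
  apply Subtype.ext
  apply Units.ext
  rw [siegel_coe, siegelMatrix_zero]
  rfl

theorem siegel_pow (u w : ι → F) (hu : Q u = 0) (hw : Q w = 0)
    (huw : QuadraticMap.polar (⇑Q) u w = 0) (c : F) (k : ℕ) :
    siegel Q u w hu hw huw c ^ k = siegel Q u w hu hw huw ((k : F) * c) := by
  induction k with
  | zero => rw [pow_zero, Nat.cast_zero, zero_mul, siegel_zero_eq_one]
  | succ k ih =>
    have h : ((k + 1 : ℕ) : F) * c = (k : F) * c + c := by
      push_cast
      ring
    rw [pow_succ, ih, siegel_mul_siegel, h]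

end SiegelPow

section Nec

variable {F : Type u} [Field F] [Fintype F] {ι : Type} [Fintype ι] [DecidableEq ι]

theorem necessity_ofx {p : ℕ} [hp : Fact p.Prime] [CharP F p] (hodd : Odd (Fintype.card F))
    (Q : QuadraticForm F (ι → F)) (hQ : (QuadraticMap.polarBilin Q).Nondegenerate) (n : ℕ)
    (hcard : Fintype.card ι = 2 * n) (hn : 2 ≤ n)
    (u w v : ι → F) (hu : Q u = 0) (hw : Q w = 0) (huw : QuadraticMap.polar (⇑Q) u w = 0)
    (huv : QuadraticMap.polar (⇑Q) u v = 1) (hwv : QuadraticMap.polar (⇑Q) w v = 0)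
    (hw0 : w ≠ 0)
    (K : Subalgebra F (Matrix ι ι F)) (hK : Cfsg.Geo.IsFieldSubalgebra 2 K)
    (hKf : Cfsg.Geo.IsSelfAdjointFor (QuadraticMap.polar (⇑Q)) K) (r : ℕ) [hr : Fact r.Prime]
    (hΩ : r ∣ (Cfsg.Geo.subalgebraNormalizer K).relIndex (Cfsg.Geo.omegaGL ⇑Q))
    (hall : ∀ x ∈ Cfsg.Geo.omegaGL ⇑Q,
      (∃ z : F, ((x ^ r : GL ι F) : Matrix ι ι F) = z • (1 : Matrix ι ι F)) →
      (∀ z : F, (x : Matrix ι ι F) ≠ z • (1 : Matrix ι ι F)) →
      ∃ g ∈ Cfsg.Geo.omegaGL ⇑Q, g⁻¹ * x * g ∈ Cfsg.Geo.subalgebraNormalizer K) : r = 2 := by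
  classical
  by_contra hr2
  have hrodd : Odd r := hr.out.odd_of_ne_two hr2
  have h2F : (2 : F) ≠ 0 := two_ne_zero_of_odd hodd
  have hS := symmQ Q
  have hB := nondegQ Q hQ
  haveI : Nonempty ι := by
    apply Fintype.card_pos_iff.mp
    omega
  obtain ⟨Jm, ε, hJ, hJJ, hspan, hε, hns⟩ := exists_gen_sq h2F K hK
  have hIsJ := isJs_of_K Q K Jm ε hJ hJJ hKf
  have hfinV : finrank F (ι → F) = 2 * n := finrank_fun (2 * n) hcard
  have hcard2 : 2 ≤ Fintype.card ι := by omega
  -- an element of `Ω` of order `r` commutes with a self-adjoint square root of `ε`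
  have hkey : ∀ (x : ↥(isometryGroup F ⇑Q)), x ∈ commutator ↥(isometryGroup F ⇑Q) →
      x ^ r = 1 → (∀ c : F, ((x : GL ι F) : Matrix ι ι F) ≠ c • 1) →
      ∃ J' : Module.End F (ι → F), IsJs (QuadraticMap.polarBilin Q) ε J' ∧
        ∀ v, ((x : GL ι F) : Matrix ι ι F) *ᵥ (J' v) =
          J' (((x : GL ι F) : Matrix ι ι F) *ᵥ v) := by
    intro x hx hxr hxns
    have hxr' : (x : GL ι F) ^ r = 1 := by
      rw [← Subgroup.coe_pow, hxr, Subgroup.coe_one]
    obtain ⟨g, hg, hmem⟩ := hall x.1 ((mem_omegaGL_iff Q x.1).mpr ⟨x, hx, rfl⟩) ⟨1, by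
      rw [hxr', Units.val_one, one_smul]⟩ hxns
    obtain ⟨g', hg', hgg'⟩ := (mem_omegaGL_iff Q g).mp hg
    subst hgg'
    obtain ⟨x', hx'def⟩ : ∃ x' : GL ι F, x' = (g' : GL ι F)⁻¹ * x.1 * (g' : GL ι F) := ⟨_, rfl⟩
    rw [← hx'def] at hmem
    have hx'r : ((x' ^ r : GL ι F) : Matrix ι ι F) = (1 : F) • 1 := by
      have e1 : x' ^ r = (g' : GL ι F)⁻¹ * (x : GL ι F) ^ r * (g' : GL ι F) := by
        rw [hx'def]
        have h := conj_pow (a := (g' : GL ι F)⁻¹) (b := (x : GL ι F)) (i := r)
        rw [inv_inv] at h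
        exact h
      rw [e1, hxr', mul_one, inv_mul_cancel, Units.val_one, one_smul]
    have hcomm := comm_of_mem_odd K Jm h2F ε hJ hJJ hspan hε hns x' hmem r hrodd 1 hx'r
    refine ⟨conjEnd (OrthInv2.glEquiv (g' : GL ι F)) (Matrix.toLin' Jm),
      isJs_conj (QuadraticMap.polarBilin Q) ε (fun a b => polar_act Q g' a b) hIsJ, ?_⟩
    intro v
    have e := congrArg (fun M : Matrix ι ι F => ((g' : GL ι F) : Matrix ι ι F) *ᵥ
      (M *ᵥ ((((g' : GL ι F)⁻¹ : GL ι F) : Matrix ι ι F) *ᵥ v))) hcomm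
    rw [hx'def, Units.val_mul, Units.val_mul] at e
    simp only [← Matrix.mulVec_mulVec] at e
    rw [mulVec_mulVec_inv, mulVec_mulVec_inv] at e
    exact e
  by_cases hrp : r = p
  · subst hrp
    obtain ⟨y, hydef⟩ : ∃ y : ↥(isometryGroup F ⇑Q), y = siegel Q u w hu hw huw 1 := ⟨_, rfl⟩
    have hyΩ : y ∈ commutator ↥(isometryGroup F ⇑Q) := by
      rw [commutator_eq_closure]
      apply Subgroup.subset_closure
      apply siegel_mem_commutatorSet h2F Q hQ u w hu hw huw 1 y
      rw [hydef]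
      rfl
    have hyr : y ^ r = 1 := by
      rw [hydef, siegel_pow, mul_one, CharP.cast_eq_zero, siegel_zero_eq_one]
    have hyact : ∀ x : ι → F, ((y : GL ι F) : Matrix ι ι F) *ᵥ x =
        x + QuadraticMap.polar (⇑Q) u x • w - QuadraticMap.polar (⇑Q) w x • u := by
      intro x
      have e1 := act_siegel Q u w hu hw huw 1 x
      rw [← hydef, one_mul, one_mul] at e1
      exact e1
    have hyns : ∀ c : F, ((y : GL ι F) : Matrix ι ι F) ≠ c • 1 := by
      intro c hc
      have e1 := hyact v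
      rw [hc, Matrix.smul_mulVec, Matrix.one_mulVec, huv, hwv, one_smul, zero_smul,
        sub_zero] at e1
      have e2 : w = (c - 1) • v := by
        rw [sub_smul, one_smul, e1]
        abel
      have e3 := huw
      rw [e2, QuadraticMap.polar_smul_right, huv, smul_eq_mul, mul_one] at e3
      apply hw0
      rw [e2, e3, zero_smul]
    obtain ⟨J', hJ's, hJ'c⟩ := hkey y hyΩ hyr hyns
    exact no_siegel_comm (QuadraticMap.polarBilin Q) h2F hε J' hJ's u w v huv hwv hw0
      (Matrix.toLin' ((y : GL ι F) : Matrix ι ι F))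
      (fun x => by
        rw [Matrix.toLin'_apply]
        exact hyact x)
      (fun x => by
        rw [Matrix.toLin'_apply, Matrix.toLin'_apply]
        exact hJ'c x)
  · have hrq : ¬ r ∣ Fintype.card F := Elus.not_dvd_card_of_ne (F := F) r hrp
    obtain ⟨i, hi⟩ : ∃ i, i = orderOf ((Fintype.card F : ℕ) : ZMod r) := ⟨_, rfl⟩
    have hipos : 0 < i := by
      rw [hi]
      exact Elus.ord_pos r (Fintype.card F) hrq
    obtain ⟨c, hc⟩ : ∃ c, c = if Even i then i else 2 * i := ⟨_, rfl⟩
    have hJs : r ∣ Nat.card {J : Module.End F (ι → F) // IsJs (QuadraticMap.polarBilin Q) ε J} :=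
      dvd_trans hΩ (relIndex_dvd_card_Js Q hodd hQ K Jm ε hJ hspan hε hIsJ)
    have hiso : r ∣ Nat.card (SpImp.isoGroup (QuadraticMap.polarBilin Q)) :=
      dvd_trans hJs (card_Js_dvd (QuadraticMap.polarBilin Q) hodd ε hε hS hB ⟨_, hIsJ⟩)
    have hi1 : i ≠ 1 → ¬ r ∣ Fintype.card F - 1 := by
      intro hne h
      have h1 := (Elus.ord_eq_one_iff r (Fintype.card F) Fintype.card_pos).mpr h
      rw [← hi] at h1
      exact hne h1
    obtain ⟨f₀, -, hf₀⟩ := FiniteField.card F p
    have hrF : (r : F) ≠ 0 := natCast_ne_zero_of_ne r hrp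
    have hss : ∃ (J' y : Module.End F (ι → F)), IsJs (QuadraticMap.polarBilin Q) ε J' ∧
        SpImp.IsIsom (QuadraticMap.polarBilin Q) y ∧ y ^ r = 1 ∧
        finrank F (LinearMap.ker (y - 1)) + c = finrank F (ι → F) ∧
        ∀ v, y (J' v) = J' (y v) := by
      obtain ⟨y, hyiso, hyr, hker⟩ := exists_iso_min (QuadraticMap.polarBilin Q) hf₀ hodd hS hB r
        hr2 hrp hrq hrF i c hi hc hiso
      have hc0 : 0 < c := by
        rw [hc]
        split_ifs <;> omega
      haveI : Nontrivial (ι → F) := Module.nontrivial_of_finrank_pos (R := F) (by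
        rw [hfinV]
        omega)
      have hyns : ∀ c' : F, y ≠ c' • 1 := by
        apply nonscalar_of_ss r y hyr c hc0 hker
        by_cases hi1' : i = 1
        · left
          rw [hfinV, hc, hi1']
          have h1 : ¬ Even 1 := by decide
          rw [if_neg h1]
          omega
        · right
          exact hi1 hi1'
      obtain ⟨x, hxy⟩ := exists_mat_of_isom Q h2F hQ y hyiso
      have hxr : x ^ r = 1 := by
        apply Subtype.ext
        apply Units.ext
        apply Matrix.toLin'.injective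
        rw [Subgroup.coe_pow, Units.val_pow_eq_pow_val, Matrix.toLin'_pow, hxy, hyr,
          Subgroup.coe_one, Units.val_one, Matrix.toLin'_one]
        rfl
      have hxΩ := mem_commutator_of_pow_odd Q h2F hQ hcard2 x r hrodd hxr
      have hxns : ∀ c' : F, ((x : GL ι F) : Matrix ι ι F) ≠ c' • 1 := by
        intro c' h
        apply hyns c'
        rw [← hxy, h, toLin'_smul_one]
      obtain ⟨J', hJ's, hJ'c⟩ := hkey x hxΩ hxr hxns
      refine ⟨J', y, hJ's, hyiso, hyr, hker, ?_⟩
      intro v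
      rw [← hxy, Matrix.toLin'_apply, Matrix.toLin'_apply]
      exact hJ'c v
    obtain ⟨J', y', hJ's, hy'iso, hy'r, hy'k, hy'J⟩ := hss
    by_cases hio : Odd i
    · have hce : c = 2 * i := by
        rw [hc, if_neg (Nat.not_even_iff_odd.mpr hio)]
      rw [hce] at hy'k
      exact no_comm_odd_ord (QuadraticMap.polarBilin Q) hodd ε hε hS hB J' hJ's r hr2 hrp i hi
        hio y' hy'iso hy'r hy'J hy'k
    · have hie : Even i := Nat.not_odd_iff_even.mp hio
      obtain ⟨m, hm⟩ := hie
      have hm' : orderOf ((Fintype.card F : ℕ) : ZMod r) = m + m := by rw [← hi, hm]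
      by_cases hme : Even m
      · exact not_dvd_card_Js hodd ε hε r hr2 hrp m hm' hme n (ι → F)
          (QuadraticMap.polarBilin Q) hS hB hfinV hJs
      · have hmo : Odd m := Nat.not_even_iff_odd.mp hme
        have hce : c = m + m := by
          rw [hc, if_pos ⟨m, hm⟩, hm]
        rw [hce] at hy'k
        exact no_comm_two_mod_four (QuadraticMap.polarBilin Q) hodd ε hε hS hB J' hJ's r hrp m
          hm' hmo y' hy'iso hy'r hy'J hy'k

end Nec

end Cfsg.Agent.Lib.Helper6.Ofx
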