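import Mathlib
import Cfsg.Agent.Lib.Helper6.OfxF
import Cfsg.Agent.Lib.Helper5.MinusGraph.InvolDet
import Cfsg.Agent.Lib.Helper5.SumTwoSq

set_option autoImplicit false
set_option maxHeartbeats 1000000
set_option linter.unusedVariables false
set_option linter.unusedSectionVars false
set_option linter.style.longLine false
set_option linter.unusedSimpArgs false
set_option linter.deprecated false
set_option linter.style.haveILetI false

/-! Field-extension subgroups of orthogonal groups (part H): every element of `Ω` whose square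
is a scalar has a conjugate under `Ω` normalizing the field subalgebra. -/

namespace Cfsg.Agent.Lib.Helper6.Ofx

open Module Cfsg Cfsg.Agent.Lib.Helper5.OrthPrime Cfsg.Agent.Lib.Helper2.Ukf
  Cfsg.Agent.Lib.Helper2 Cfsg.Agent.Lib.Helper5.CartanDieudonne Cfsg.Agent.Lib.Helper5.Refl
  Cfsg.Agent.Lib.Helper5.OAut Cfsg.Agent.Lib.Helper5.MinusGraph Cfsg.Agent.Lib.Helper5.SpinorNorm
open scoped Matrix MatrixGroups

universe u v

section Skew

variable {F : Type u} [Field F] {V : Type v} [AddCommGroup V] [Module F V]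
variable (B : LinearMap.BilinForm F V)

theorem skew_of_sq_neg (T : Module.End F V) (hT : SpImp.IsIsom B T) (hTT : ∀ w, T (T w) = -w)
    (x y : V) : B x (T y) = -B (T x) y := by
  have h := hT x (T y)
  rw [hTT, map_neg] at h
  rw [← h]

theorem orth_self_T (h2F : (2 : F) ≠ 0) (hS : Symm B) (T : Module.End F V)
    (hT : SpImp.IsIsom B T) (hTT : ∀ w, T (T w) = -w) (v : V) : B v (T v) = 0 := by
  have h := skew_of_sq_neg B T hT hTT v v
  rw [hS (T v) v] at h
  have h' : (2 : F) * B v (T v) = 0 := by linear_combination h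
  exact (mul_eq_zero.mp h').resolve_left h2F

theorem li_v_Tv (h2F : (2 : F) ≠ 0) (hS : Symm B) (T : Module.End F V)
    (hT : SpImp.IsIsom B T) (hTT : ∀ w, T (T w) = -w) (v : V) (hv : B v v ≠ 0) :
    LinearIndependent F ![v, T v] := by
  have hvT := orth_self_T B h2F hS T hT hTT v
  have hTv : B (T v) v = 0 := by
    rw [hS]
    exact hvT
  have hTvTv : B (T v) (T v) = B v v := hT v v
  rw [LinearIndependent.pair_iff]
  intro α β hαβ
  have e1 := congrArg (B v) hαβ
  have e2 := congrArg (B (T v)) hαβ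
  simp only [map_add, map_smul, smul_eq_mul, hvT, hTv, hTvTv, map_zero, mul_zero, add_zero,
    zero_add] at e1 e2
  exact ⟨(mul_eq_zero.mp e1).resolve_right hv, (mul_eq_zero.mp e2).resolve_right hv⟩

/-- conjugating by the reflection in `v` keeps the anticommutation with `T` -/
theorem refl_conj_neg (h2F : (2 : F) ≠ 0) (hS : Symm B) (T J : Module.End F V)
    (hT : SpImp.IsIsom B T) (hTT : ∀ w, T (T w) = -w)
    (hJ2 : ∀ a b, B (J a) b = B a (J b)) (hTJ : ∀ w, T (J w) = -J (T w)) (v : V) (s t : F)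
    (hJv : J v = s • v + t • T v) (c : F) (hc : c * B v v = 2) (R : V → V)
    (hR : ∀ x, R x = x - (c * B v x) • v) (w : V) :
    T (R (J (R w))) = -R (J (R (T w))) := by
  have hsk := skew_of_sq_neg B T hT hTT
  have hvT := orth_self_T B h2F hS T hT hTT v
  have hRJR : ∀ w, R (J (R w)) = J w - (c * t) • (B v w • T v + B (T v) w • v) := by
    intro w
    have e1 : B v (J w) = s * B v w + t * B (T v) w := by
      rw [← hJ2 v w, hJv]
      simp only [map_add, map_smul, LinearMap.add_apply, LinearMap.smul_apply, smul_eq_mul]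
    have hBvX : B v (J w - (c * B v w) • (s • v + t • T v)) = t * B (T v) w - s * B v w := by
      simp only [map_sub, map_smul, map_add, smul_eq_mul, e1, hvT, mul_zero, add_zero]
      linear_combination (-(B v w * s)) * hc
    rw [hR w, map_sub, map_smul, hJv, hR, hBvX]
    module
  rw [hRJR w, hRJR (T w)]
  simp only [map_sub, map_smul, map_add, hTJ, hTT, hsk v w, hT v w]
  module

end Skew

section Plane

variable {F : Type u} [Field F] [Fintype F]

theorem plane_neg {V : Type v} [AddCommGroup V] [Module F V] [FiniteDimensional F V]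
    (B : LinearMap.BilinForm F V) (h2F : (2 : F) ≠ 0) (hS : Symm B) (hdim : finrank F V = 2)
    (T : Module.End F V) (hT : SpImp.IsIsom B T) (hTT : ∀ w, T (T w) = -w) (v : V)
    (hv : B v v ≠ 0) {ε : F} (s t : F) (hst : s ^ 2 + t ^ 2 = ε) :
    ∃ J : Module.End F V, IsJs B ε J ∧ (∀ w, T (J w) = -J (T w)) ∧ J v = s • v + t • T v := by
  classical
  have hvT := orth_self_T B h2F hS T hT hTT v
  have hTv : B (T v) v = 0 := by
    rw [hS]
    exact hvT
  have hli := li_v_Tv B h2F hS T hT hTT v hv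
  obtain ⟨a, ha⟩ : ∃ a : F, a = B v v := ⟨_, rfl⟩
  have hTvTv : B (T v) (T v) = a := by rw [hT, ha]
  rw [← ha] at hv
  have hspan : ∀ x : V, ∃ α β : F, x = α • v + β • T v := by
    intro x
    apply span_pair_mem v (T v) x
    rw [hli.span_eq_top_of_card_eq_finrank' (by rw [hdim]; rfl)]
    exact Submodule.mem_top
  obtain ⟨y₁, hy₁⟩ : ∃ y₁ : V, y₁ = s • v + t • T v := ⟨_, rfl⟩
  obtain ⟨y₂, hy₂⟩ : ∃ y₂ : V, y₂ = t • v + (-s) • T v := ⟨_, rfl⟩
  obtain ⟨J, hJdef⟩ : ∃ J : Module.End F V,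
      J = (B v).smulRight (a⁻¹ • y₁) + (B (T v)).smulRight (a⁻¹ • y₂) := ⟨_, rfl⟩
  have hJv : ∀ α β : F, J (α • v + β • T v) = α • y₁ + β • y₂ := by
    intro α β
    rw [hJdef, LinearMap.add_apply, LinearMap.smulRight_apply, LinearMap.smulRight_apply]
    simp only [map_add, map_smul, smul_eq_mul, hvT, hTv, hTvTv, ← ha, mul_zero, add_zero,
      zero_add]
    rw [smul_smul, smul_smul, mul_assoc, mul_assoc, mul_inv_cancel₀ hv, mul_one, mul_one]
  have hTx : ∀ α β : F, T (α • v + β • T v) = (-β) • v + α • T v := by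
    intro α β
    rw [map_add, map_smul, map_smul, hTT]
    module
  refine ⟨J, ⟨?_, ?_⟩, ?_, ?_⟩
  · intro x
    obtain ⟨α, β, rfl⟩ := hspan x
    have h1 : α • y₁ + β • y₂ = (α * s + β * t) • v + (α * t - β * s) • T v := by
      rw [hy₁, hy₂]
      module
    rw [hJv, h1, hJv, hy₁, hy₂, ← hst]
    module
  · intro p q
    obtain ⟨α, β, rfl⟩ := hspan p
    obtain ⟨α', β', rfl⟩ := hspan q
    rw [hJv, hJv, hy₁, hy₂]
    simp only [map_add, map_smul, map_neg, LinearMap.add_apply, LinearMap.smul_apply,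
      LinearMap.neg_apply, smul_eq_mul, hvT, hTv, hTvTv, ← ha]
    ring
  · intro x
    obtain ⟨α, β, rfl⟩ := hspan x
    rw [hTx, hJv, hJv, hy₁, hy₂]
    simp only [map_add, map_smul, map_neg, hTT]
    module
  · have h := hJv 1 0
    rw [one_smul, zero_smul, add_zero, one_smul, zero_smul, add_zero] at h
    rw [h, hy₁]

theorem neg_step {V : Type v} [AddCommGroup V] [Module F V] [FiniteDimensional F V]
    (B : LinearMap.BilinForm F V) (h2F : (2 : F) ≠ 0) (hS : Symm B) (hB : Nondeg B)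
    (T : Module.End F V) (hT : SpImp.IsIsom B T) (hTT : ∀ w, T (T w) = -w) (v : V)
    (hv : B v v ≠ 0) {ε : F} (s t : F) (hst : s ^ 2 + t ^ 2 = ε)
    (hrec : ∀ (W : Submodule F V) (hW : ∀ x ∈ W, T x ∈ W), Nondeg (resForm B W) →
      finrank F W + 2 = finrank F V →
      ∃ J₂ : Module.End F W, IsJs (resForm B W) ε J₂ ∧
        ∀ x, (T.restrict hW) (J₂ x) = -J₂ ((T.restrict hW) x)) :
    ∃ J : Module.End F V, IsJs B ε J ∧ (∀ w, T (J w) = -J (T w)) ∧ J v = s • v + t • T v := by
  classical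
  have hsk := skew_of_sq_neg B T hT hTT
  have hvT := orth_self_T B h2F hS T hT hTT v
  have hTv : B (T v) v = 0 := by
    rw [hS]
    exact hvT
  have hTvTv : B (T v) (T v) = B v v := hT v v
  have hli := li_v_Tv B h2F hS T hT hTT v hv
  obtain ⟨P, hPdef⟩ : ∃ P : Submodule F V, P = Submodule.span F (Set.range ![v, T v]) :=
    ⟨_, rfl⟩
  have mv : v ∈ P := by
    rw [hPdef]
    exact Submodule.subset_span ⟨0, rfl⟩
  have mTv : T v ∈ P := by
    rw [hPdef]
    exact Submodule.subset_span ⟨1, rfl⟩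
  have hPspan : ∀ x ∈ P, ∃ α β : F, x = α • v + β • T v := by
    intro x hx
    rw [hPdef] at hx
    exact span_pair_mem v (T v) x hx
  have hTP : ∀ x ∈ P, T x ∈ P := by
    intro x hx
    obtain ⟨α, β, rfl⟩ := hPspan x hx
    rw [map_add, map_smul, map_smul, hTT]
    exact P.add_mem (P.smul_mem _ mTv) (P.smul_mem _ (P.neg_mem mv))
  have hPdim : finrank F P = 2 := by
    rw [hPdef, finrank_span_eq_card hli]
    rfl
  have hPnd : Nondeg (resForm B P) := by
    intro x hx
    obtain ⟨α, β, hαβ⟩ := hPspan (x : V) x.2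
    have e1 : B v (x : V) = 0 := hx ⟨v, mv⟩
    have e2 : B (T v) (x : V) = 0 := hx ⟨T v, mTv⟩
    rw [hαβ] at e1 e2
    simp only [map_add, map_smul, smul_eq_mul, hvT, hTv, hTvTv, mul_zero, add_zero,
      zero_add] at e1 e2
    have hα : α = 0 := (mul_eq_zero.mp e1).resolve_right hv
    have hβ : β = 0 := (mul_eq_zero.mp e2).resolve_right hv
    apply Subtype.ext
    rw [hαβ, hα, hβ, zero_smul, zero_smul, add_zero]
    rfl
  obtain ⟨hcompl, hperpnd, horth⟩ := perp_data B hS hB P hPnd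
  obtain ⟨W, hWdef⟩ : ∃ W : Submodule F V, W = LinearMap.BilinForm.orthogonal B P := ⟨_, rfl⟩
  rw [← hWdef] at hcompl hperpnd horth
  have hTW : ∀ x ∈ W, T x ∈ W := by
    intro x hx
    rw [hWdef] at hx ⊢
    refine (LinearMap.BilinForm.mem_orthogonal_iff).mpr ?_
    intro n hn
    show B n (T x) = 0
    have h : B (T n) x = 0 := hx (T n) (hTP n hn)
    rw [hsk, h, neg_zero]
  have hWdim : finrank F W + 2 = finrank F V := by
    have h := Submodule.finrank_add_eq_of_isCompl hcompl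
    omega
  obtain ⟨J₂, hJ₂s, hJ₂T⟩ := hrec W hTW hperpnd hWdim
  obtain ⟨f, hfs, hfT, hfv⟩ := plane_neg (resForm B P) h2F (symm_resForm hS P) hPdim
    (T.restrict hTP) (fun x y => hT (x : V) (y : V)) (fun x => Subtype.ext (hTT (x : V)))
    ⟨v, mv⟩ hv s t hst
  obtain ⟨J, hJdef⟩ : ∃ J : Module.End F V, J = glueEnd hcompl f J₂ := ⟨_, rfl⟩
  refine ⟨J, ?_, ?_, ?_⟩
  · rw [hJdef]
    exact glue_isJs B hS hcompl horth hfs hJ₂s
  · intro x
    obtain ⟨p, hp, w, hw, rfl⟩ := exists_decomp hcompl x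
    have e1 : T (f ⟨p, hp⟩ : V) = -((f ⟨T p, hTP p hp⟩ : P) : V) :=
      congrArg Subtype.val (hfT ⟨p, hp⟩)
    have e2 : T (J₂ ⟨w, hw⟩ : V) = -((J₂ ⟨T w, hTW w hw⟩ : W) : V) :=
      congrArg Subtype.val (hJ₂T ⟨w, hw⟩)
    simp only [map_add]
    rw [hJdef, glueEnd_left hcompl f J₂ p hp, glueEnd_right hcompl f J₂ w hw,
      glueEnd_left hcompl f J₂ (T p) (hTP p hp), glueEnd_right hcompl f J₂ (T w) (hTW w hw),
      e1, e2, neg_add]
  · rw [hJdef, glueEnd_left hcompl f J₂ v mv]
    exact congrArg Subtype.val hfv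

end Plane

section NegInd

variable {F : Type u} [Field F] [Fintype F]

theorem neg_exists (hodd : Odd (Fintype.card F)) {ε : F} :
    ∀ (n : ℕ) (V : Type v) [AddCommGroup V] [Module F V] [FiniteDimensional F V]
      (B : LinearMap.BilinForm F V), Symm B → Nondeg B → ∀ T : Module.End F V,
      SpImp.IsIsom B T → (∀ w, T (T w) = -w) → finrank F V = 2 * n →
      ∃ J : Module.End F V, IsJs B ε J ∧ ∀ w, T (J w) = -J (T w) := by
  have h2F := two_ne_zero_of_odd hodd
  intro n
  induction n with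
  | zero =>
    intro V _ _ _ B hS hB T hT hTT hdim
    haveI : Subsingleton V := Module.finrank_zero_iff.mp (by rw [hdim])
    exact ⟨0, ⟨fun v => Subsingleton.elim _ _, fun a b => by simp⟩,
      fun w => Subsingleton.elim _ _⟩
  | succ n ih =>
    intro V _ _ _ B hS hB T hT hTT hdim
    haveI : Nontrivial V := Module.nontrivial_of_finrank_pos (R := F) (by omega)
    obtain ⟨v, hv⟩ := exists_anisotropic h2F B hS hB
    obtain ⟨s, t, hst⟩ := Cfsg.Agent.Lib.Helper5.SumTwoSq.exists_sq_add_sq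
      (Nat.odd_iff.mp hodd) ε
    obtain ⟨J, hJ, hJT, -⟩ := neg_step B h2F hS hB T hT hTT v hv s t hst
      (fun W hW hWnd hWdim => ih ↥W (resForm B W) (symm_resForm hS W) hWnd (T.restrict hW)
        (fun x y => hT (x : V) (y : V)) (fun x => Subtype.ext (hTT (x : V))) (by omega))
    exact ⟨J, hJ, hJT⟩

theorem neg_core (hodd : Odd (Fintype.card F)) {ε : F} (n : ℕ) (V : Type v) [AddCommGroup V]
    [Module F V] [FiniteDimensional F V] (B : LinearMap.BilinForm F V) (hS : Symm B)
    (hB : Nondeg B) (T : Module.End F V) (hT : SpImp.IsIsom B T) (hTT : ∀ w, T (T w) = -w)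
    (hdim : finrank F V = 2 * (n + 1)) :
    ∃ (J : Module.End F V) (v : V) (s t : F), IsJs B ε J ∧ (∀ w, T (J w) = -J (T w)) ∧
      B v v ≠ 0 ∧ J v = s • v + t • T v := by
  have h2F := two_ne_zero_of_odd hodd
  haveI : Nontrivial V := Module.nontrivial_of_finrank_pos (R := F) (by omega)
  obtain ⟨v, hv⟩ := exists_anisotropic h2F B hS hB
  obtain ⟨s, t, hst⟩ := Cfsg.Agent.Lib.Helper5.SumTwoSq.exists_sq_add_sq
    (Nat.odd_iff.mp hodd) ε
  obtain ⟨J, hJ, hJT, hJv⟩ := neg_step B h2F hS hB T hT hTT v hv s t hst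
    (fun W hW hWnd hWdim => neg_exists hodd n ↥W (resForm B W) (symm_resForm hS W) hWnd
      (T.restrict hW) (fun x y => hT (x : V) (y : V)) (fun x => Subtype.ext (hTT (x : V)))
      (by omega))
  exact ⟨J, v, s, t, hJ, hJT, hv, hJv⟩

end NegInd

end Cfsg.Agent.Lib.Helper6.Ofx
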