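import Mathlib
import Cfsg.Agent.Lib.Helper6.OfxH

set_option autoImplicit false
set_option maxHeartbeats 1000000
set_option linter.unusedVariables false
set_option linter.unusedSectionVars false
set_option linter.style.longLine false
set_option linter.unusedSimpArgs false
set_option linter.deprecated false
set_option linter.style.haveILetI false

/-! Field-extension subgroups of orthogonal groups (part I): the case `r = 2`, assembled at the
level of matrices. -/

namespace Cfsg.Agent.Lib.Helper6.Ofx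

open Module Cfsg Cfsg.Agent.Lib.Helper5.OrthPrime Cfsg.Agent.Lib.Helper2.Ukf
  Cfsg.Agent.Lib.Helper2 Cfsg.Agent.Lib.Helper5.CartanDieudonne Cfsg.Agent.Lib.Helper5.Refl
  Cfsg.Agent.Lib.Helper5.OAut Cfsg.Agent.Lib.Helper5.MinusGraph Cfsg.Agent.Lib.Helper5.SpinorNorm
open scoped Matrix MatrixGroups

universe u

section Transfer

variable {F : Type u} [Field F] {ι : Type} [Fintype ι] [DecidableEq ι]

theorem ca_transfer (ω : GL ι F) (M Jm : Matrix ι ι F) (J'' : (ι → F) → (ι → F))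
    (hω : ∀ w, (ω : Matrix ι ι F) *ᵥ (Jm *ᵥ w) = J'' ((ω : Matrix ι ι F) *ᵥ w))
    (hca : (∀ w, M *ᵥ (J'' w) = J'' (M *ᵥ w)) ∨ (∀ w, M *ᵥ (J'' w) = -J'' (M *ᵥ w))) :
    ((ω⁻¹ : GL ι F) : Matrix ι ι F) * M * (ω : Matrix ι ι F) * Jm =
      Jm * (((ω⁻¹ : GL ι F) : Matrix ι ι F) * M * (ω : Matrix ι ι F)) ∨
    ((ω⁻¹ : GL ι F) : Matrix ι ι F) * M * (ω : Matrix ι ι F) * Jm =
      -(Jm * (((ω⁻¹ : GL ι F) : Matrix ι ι F) * M * (ω : Matrix ι ι F))) := by
  have hω' : ∀ u, Jm *ᵥ (((ω⁻¹ : GL ι F) : Matrix ι ι F) *ᵥ u) =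
      ((ω⁻¹ : GL ι F) : Matrix ι ι F) *ᵥ (J'' u) := by
    intro u
    have h := hω (((ω⁻¹ : GL ι F) : Matrix ι ι F) *ᵥ u)
    rw [mulVec_mulVec_inv] at h
    rw [← h, mulVec_inv_mulVec]
  rcases hca with h | h
  · left
    apply Matrix.toLin'.injective
    apply LinearMap.ext
    intro w
    simp only [Matrix.toLin'_apply, ← Matrix.mulVec_mulVec]
    rw [hω, h, hω']
  · right
    apply Matrix.toLin'.injective
    apply LinearMap.ext
    intro w
    simp only [Matrix.toLin'_apply, Matrix.neg_mulVec, ← Matrix.mulVec_mulVec]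
    rw [hω, h, hω', Matrix.mulVec_neg]

end Transfer

section Corr

variable {F : Type u} [Field F] [Fintype F] {ι : Type} [Fintype ι] [DecidableEq ι]

/-- a product of two reflections commuting with `Jm`, of nonsquare spinor norm -/
theorem exists_comm_correction (hodd : Odd (Fintype.card F)) (Q : QuadraticForm F (ι → F))
    (hQ : (QuadraticMap.polarBilin Q).Nondegenerate) (hn3 : 3 ≤ Fintype.card ι)
    (Jm : Matrix ι ι F) (ε : F) (hε : ∀ e : F, e * e ≠ ε)
    (hIsJ : IsJs (QuadraticMap.polarBilin Q) ε (Matrix.toLin' Jm)) :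
    ∃ (c : ↥(isometryGroup F ⇑Q)) (ws : List (ι → F)),
      ((c : GL ι F) : Matrix ι ι F) * Jm = Jm * ((c : GL ι F) : Matrix ι ι F) ∧
      IsRep Q c ws ∧ Even ws.length ∧ ¬ IsSquare (ws.map Q).prod := by
  classical
  have h2F := two_ne_zero_of_odd hodd
  have hS := symmQ Q
  have hB := nondegQ Q hQ
  obtain ⟨u, hu1, hu2⟩ := exists_unit (QuadraticMap.polarBilin Q) hodd hε hS hB hIsJ (by
    rw [finrank_fun (F := F) (Fintype.card ι) rfl]
    exact hn3)
  have hu1' : QuadraticMap.polar (⇑Q) u u = 1 := hu1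
  have hu2' : QuadraticMap.polar (⇑Q) u (Jm *ᵥ u) = 0 := hu2
  have hJJu : Jm *ᵥ (Jm *ᵥ u) = ε • u := hIsJ.1 u
  have hsa : ∀ x y, QuadraticMap.polar (⇑Q) (Jm *ᵥ x) y = QuadraticMap.polar (⇑Q) x (Jm *ᵥ y) :=
    fun x y => hIsJ.2 x y
  have hbb : QuadraticMap.polar (⇑Q) (Jm *ᵥ u) (Jm *ᵥ u) = ε := by
    rw [hsa, hJJu, QuadraticMap.polar_smul_right, hu1', smul_eq_mul, mul_one]
  have hqa : 2 * Q u = 1 := by rw [← polar_self_two, hu1']
  have hqb : 2 * Q (Jm *ᵥ u) = ε := by rw [← polar_self_two, hbb]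
  obtain ⟨b, hbdef⟩ : ∃ b : ι → F, b = Jm *ᵥ u := ⟨_, rfl⟩
  rw [← hbdef] at hu2' hJJu hqb
  have hε0 : ε ≠ 0 := by
    rintro rfl
    exact hε 0 (mul_zero 0)
  have hQa : Q u ≠ 0 := by
    intro h
    rw [h, mul_zero] at hqa
    exact zero_ne_one hqa
  have hQb : Q b ≠ 0 := by
    intro h
    rw [h, mul_zero] at hqb
    exact hε0 hqb.symm
  have hia : (Q u)⁻¹ = 2 := inv_eq_of_mul_eq_one_left hqa
  have hib : (Q b)⁻¹ = 2 * ε⁻¹ := by
    apply inv_eq_of_mul_eq_one_left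
    rw [mul_assoc, mul_comm ε⁻¹, ← mul_assoc, hqb, mul_inv_cancel₀ hε0]
  obtain ⟨c, hcdef⟩ : ∃ c : ↥(isometryGroup F ⇑Q),
      c = reflection Q u hQa * reflection Q b hQb := ⟨_, rfl⟩
  have hact : ∀ y : ι → F, ((c : GL ι F) : Matrix ι ι F) *ᵥ y =
      y - (2 * QuadraticMap.polar (⇑Q) u y) • u - (2 * ε⁻¹ * QuadraticMap.polar (⇑Q) b y) • b := by
    intro y
    have hc : ((c : GL ι F) : Matrix ι ι F) = reflectionMatrix (⇑Q) u * reflectionMatrix (⇑Q) b := by
      rw [hcdef]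
      rfl
    rw [hc, ← Matrix.mulVec_mulVec, reflectionMatrix_mulVec Q b y, Matrix.mulVec_sub,
      Matrix.mulVec_smul, reflectionMatrix_mulVec Q u y, reflectionMatrix_mulVec Q u b, hu2',
      mul_zero, zero_smul, sub_zero, hia, hib]
  refine ⟨c, [u] ++ [b], ?_, ?_, ⟨1, rfl⟩, ?_⟩
  · apply Matrix.toLin'.injective
    apply LinearMap.ext
    intro w
    simp only [Matrix.toLin'_apply, ← Matrix.mulVec_mulVec]
    have e1 : QuadraticMap.polar (⇑Q) u (Jm *ᵥ w) = QuadraticMap.polar (⇑Q) b w := by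
      rw [← hsa, ← hbdef]
    have e2 : QuadraticMap.polar (⇑Q) b (Jm *ᵥ w) = ε * QuadraticMap.polar (⇑Q) u w := by
      rw [← hsa, hJJu, QuadraticMap.polar_smul_left, smul_eq_mul]
    rw [hact, hact, Matrix.mulVec_sub, Matrix.mulVec_sub, Matrix.mulVec_smul, Matrix.mulVec_smul,
      ← hbdef, hJJu, e1, e2]
    have k1 : 2 * ε⁻¹ * (ε * QuadraticMap.polar (⇑Q) u w) = 2 * QuadraticMap.polar (⇑Q) u w := by
      field_simp
    have k2 : (2 * ε⁻¹ * QuadraticMap.polar (⇑Q) b w) • ε • u =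
        (2 * QuadraticMap.polar (⇑Q) b w) • u := by
      rw [smul_smul]
      congr 1
      field_simp
    rw [k1, k2]
    abel
  · rw [hcdef]
    exact isRep_mul Q (isRep_reflection Q u hQa) (isRep_reflection Q b hQb)
  · rw [List.map_append, List.prod_append, List.map_singleton, List.map_singleton,
      List.prod_singleton, List.prod_singleton]
    rintro ⟨e, he⟩
    exact hε (2 * e) (by linear_combination (-4) * he + (2 * Q b) * hqa + hqb)

end Corr

section Cores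

variable {F : Type u} [Field F] [Fintype F] {ι : Type} [Fintype ι] [DecidableEq ι]

theorem polar_mulVec (Q : QuadraticForm F (ι → F)) (M : Matrix ι ι F)
    (hM : ∀ v, Q (M *ᵥ v) = Q v) (a b : ι → F) :
    QuadraticMap.polar (⇑Q) (M *ᵥ a) (M *ᵥ b) = QuadraticMap.polar (⇑Q) a b := by
  unfold QuadraticMap.polar
  rw [← Matrix.mulVec_add, hM, hM, hM]

/-- involutions of determinant one: a commuting self-adjoint square root of `ε`, compatible with a
reflection -/
theorem core_pos (hodd : Odd (Fintype.card F)) (Q : QuadraticForm F (ι → F))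
    (hQ : (QuadraticMap.polarBilin Q).Nondegenerate) (n : ℕ) (hcard : Fintype.card ι = 2 * n)
    (hn : 1 ≤ n) {ε : F} (hε : ∀ e : F, e * e ≠ ε) (M : Matrix ι ι F)
    (hM : ∀ v, Q (M *ᵥ v) = Q v) (hMM : M * M = 1) (hdet : M.det = 1) :
    ∃ (J' : Module.End F (ι → F)) (v : ι → F), IsJs (QuadraticMap.polarBilin Q) ε J' ∧
      Q v ≠ 0 ∧ (∀ w, M *ᵥ (J' w) = J' (M *ᵥ w)) ∧
      (∀ w, M *ᵥ (reflectionMatrix (⇑Q) v *ᵥ J' (reflectionMatrix (⇑Q) v *ᵥ w)) =
        reflectionMatrix (⇑Q) v *ᵥ J' (reflectionMatrix (⇑Q) v *ᵥ (M *ᵥ w))) := by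
  classical
  have h2F := two_ne_zero_of_odd hodd
  have hS := symmQ Q
  have hB := nondegQ Q hQ
  obtain ⟨U, hUdef⟩ : ∃ U : Submodule F (ι → F), U = eigSub M 1 := ⟨_, rfl⟩
  obtain ⟨W, hWdef⟩ : ∃ W : Submodule F (ι → F), W = eigSub M (-1) := ⟨_, rfl⟩
  have hc : IsCompl U W := by
    rw [hUdef, hWdef]
    exact eigSub_isCompl h2F M hMM
  have hmU : ∀ a ∈ U, M *ᵥ a = a := by
    intro a ha
    rw [hUdef] at ha
    rw [(mem_eigSub M 1 a).1 ha, one_smul]
  have hmW : ∀ b ∈ W, M *ᵥ b = -b := by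
    intro b hb
    rw [hWdef] at hb
    rw [(mem_eigSub M (-1) b).1 hb, neg_one_smul]
  have horth : ∀ a ∈ U, ∀ b ∈ W, QuadraticMap.polarBilin Q a b = 0 := by
    intro a ha b hb
    rw [hUdef] at ha
    rw [hWdef] at hb
    exact polar_eig h2F M hM (by ring : (1 : F) * (-1) = -1) ha hb
  have horth' : ∀ b ∈ W, ∀ a ∈ U, QuadraticMap.polarBilin Q b a = 0 := by
    intro b hb a ha
    rw [hS]
    exact horth a ha b hb
  have hUnd : Nondeg (resForm (QuadraticMap.polarBilin Q) U) := nondeg_of_isCompl hS hB hc horth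
  have hWnd : Nondeg (resForm (QuadraticMap.polarBilin Q) W) :=
    nondeg_of_isCompl hS hB hc.symm horth'
  have hsum : finrank F U + finrank F W = Fintype.card ι := by
    rw [hUdef, hWdef]
    exact finrank_eig_add h2F M hMM
  have hne : (-1 : F) ≠ 1 := by
    intro h
    apply h2F
    linear_combination (-1 : F) * h
  have hWe : Even (finrank F W) := by
    have h := det_involution h2F M hMM
    rw [hdet, ← hWdef] at h
    exact (neg_one_pow_eq_one_iff_even hne).mp h.symm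
  obtain ⟨kW, hkW⟩ := hWe
  obtain ⟨f, hf⟩ := exists_Js hodd hε (n - kW) ↥U (resForm (QuadraticMap.polarBilin Q) U)
    (symm_resForm hS U) hUnd (by omega)
  obtain ⟨g, hg⟩ := exists_Js hodd hε kW ↥W (resForm (QuadraticMap.polarBilin Q) W)
    (symm_resForm hS W) hWnd (by omega)
  obtain ⟨J', hJ'def⟩ : ∃ J' : Module.End F (ι → F), J' = glueEnd hc f g := ⟨_, rfl⟩
  have hJ's : IsJs (QuadraticMap.polarBilin Q) ε J' := by
    rw [hJ'def]
    exact glue_isJs (QuadraticMap.polarBilin Q) hS hc horth hf hg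
  have hcomm : ∀ w, M *ᵥ (J' w) = J' (M *ᵥ w) := by
    intro w
    obtain ⟨a, ha, b, hb, rfl⟩ := exists_decomp hc w
    have eJa : M *ᵥ (J' a) = J' a := by
      rw [hJ'def, glueEnd_left hc f g a ha]
      exact hmU _ (f ⟨a, ha⟩).2
    have eJb : M *ᵥ (J' b) = -J' b := by
      rw [hJ'def, glueEnd_right hc f g b hb]
      exact hmW _ (g ⟨b, hb⟩).2
    rw [map_add, Matrix.mulVec_add, Matrix.mulVec_add, hmU a ha, hmW b hb, eJa, eJb, map_add,
      map_neg]
  obtain ⟨v, κ, hκ, hMv, hvv⟩ : ∃ (v : ι → F) (κ : F), κ * κ = 1 ∧ M *ᵥ v = κ • v ∧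
      QuadraticMap.polarBilin Q v v ≠ 0 := by
    by_cases hU0 : finrank F U = 0
    · haveI : Nontrivial ↥W := Module.nontrivial_of_finrank_pos (R := F) (by omega)
      obtain ⟨v', hv'⟩ := exists_anisotropic h2F (resForm (QuadraticMap.polarBilin Q) W)
        (symm_resForm hS W) hWnd
      refine ⟨(v' : ι → F), -1, by ring, ?_, hv'⟩
      rw [hmW _ v'.2, neg_one_smul]
    · haveI : Nontrivial ↥U := Module.nontrivial_of_finrank_pos (R := F) (by omega)
      obtain ⟨v', hv'⟩ := exists_anisotropic h2F (resForm (QuadraticMap.polarBilin Q) U)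
        (symm_resForm hS U) hUnd
      refine ⟨(v' : ι → F), 1, by ring, ?_, hv'⟩
      rw [hmU _ v'.2, one_smul]
  have hQv : Q v ≠ 0 := by
    intro h
    apply hvv
    show QuadraticMap.polar (⇑Q) v v = 0
    rw [polar_self_two, h, mul_zero]
  have hpol : ∀ x, QuadraticMap.polar (⇑Q) v (M *ᵥ x) = κ * QuadraticMap.polar (⇑Q) v x := by
    intro x
    have h := polar_mulVec Q M hM v x
    rw [hMv, QuadraticMap.polar_smul_left, smul_eq_mul] at h
    calc QuadraticMap.polar (⇑Q) v (M *ᵥ x)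
        = (κ * κ) * QuadraticMap.polar (⇑Q) v (M *ᵥ x) := by rw [hκ, one_mul]
      _ = κ * QuadraticMap.polar (⇑Q) v x := by rw [mul_assoc, h]
  have hMR : ∀ x, M *ᵥ (reflectionMatrix (⇑Q) v *ᵥ x) = reflectionMatrix (⇑Q) v *ᵥ (M *ᵥ x) := by
    intro x
    rw [reflectionMatrix_mulVec Q v x, reflectionMatrix_mulVec Q v (M *ᵥ x), Matrix.mulVec_sub,
      Matrix.mulVec_smul, hMv, hpol, smul_smul]
    congr 2
    ring
  refine ⟨J', v, hJ's, hQv, hcomm, ?_⟩
  intro w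
  rw [hMR (J' (reflectionMatrix (⇑Q) v *ᵥ w)), hcomm (reflectionMatrix (⇑Q) v *ᵥ w), hMR w]

/-- isometries of square `-1`: an anticommuting self-adjoint square root of `ε`, compatible with a
reflection -/
theorem core_neg (hodd : Odd (Fintype.card F)) (Q : QuadraticForm F (ι → F))
    (hQ : (QuadraticMap.polarBilin Q).Nondegenerate) (n : ℕ) (hcard : Fintype.card ι = 2 * n)
    (hn : 1 ≤ n) {ε : F} (M : Matrix ι ι F)
    (hM : ∀ v, Q (M *ᵥ v) = Q v) (hMM : M * M = -1) :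
    ∃ (J' : Module.End F (ι → F)) (v : ι → F), IsJs (QuadraticMap.polarBilin Q) ε J' ∧
      Q v ≠ 0 ∧ (∀ w, M *ᵥ (J' w) = -J' (M *ᵥ w)) ∧
      (∀ w, M *ᵥ (reflectionMatrix (⇑Q) v *ᵥ J' (reflectionMatrix (⇑Q) v *ᵥ w)) =
        -(reflectionMatrix (⇑Q) v *ᵥ J' (reflectionMatrix (⇑Q) v *ᵥ (M *ᵥ w)))) := by
  classical
  have h2F := two_ne_zero_of_odd hodd
  have hS := symmQ Q
  have hB := nondegQ Q hQ
  obtain ⟨T, hTdef⟩ : ∃ T : Module.End F (ι → F), T = Matrix.toLin' M := ⟨_, rfl⟩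
  have hTa : ∀ w, T w = M *ᵥ w := by
    intro w
    rw [hTdef, Matrix.toLin'_apply]
  have hT : SpImp.IsIsom (QuadraticMap.polarBilin Q) T := by
    intro a b
    rw [hTa, hTa]
    exact polar_mulVec Q M hM a b
  have hTT : ∀ w, T (T w) = -w := by
    intro w
    rw [hTa, hTa, Matrix.mulVec_mulVec, hMM, Matrix.neg_mulVec, Matrix.one_mulVec]
  obtain ⟨J, v, s, t, hJ, hJT, hv, hJv⟩ := neg_core hodd (ε := ε) (n - 1) (ι → F)
    (QuadraticMap.polarBilin Q) hS hB T hT hTT (by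
      rw [finrank_fun (F := F) (2 * n) hcard]
      omega)
  have hQv : Q v ≠ 0 := by
    intro h
    apply hv
    show QuadraticMap.polar (⇑Q) v v = 0
    rw [polar_self_two, h, mul_zero]
  have hc : (Q v)⁻¹ * QuadraticMap.polarBilin Q v v = 2 := by
    show (Q v)⁻¹ * QuadraticMap.polar (⇑Q) v v = 2
    rw [polar_self_two]
    field_simp
  have hR : ∀ x, reflectionMatrix (⇑Q) v *ᵥ x =
      x - ((Q v)⁻¹ * QuadraticMap.polarBilin Q v x) • v := fun x => reflectionMatrix_mulVec Q v x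
  refine ⟨J, v, hJ, hQv, ?_, ?_⟩
  · intro w
    rw [← hTa, ← hTa]
    exact hJT w
  · intro w
    have h := refl_conj_neg (QuadraticMap.polarBilin Q) h2F hS T J hT hTT hJ.2 hJT v s t hJv
      (Q v)⁻¹ hc (fun x => reflectionMatrix (⇑Q) v *ᵥ x) hR w
    rw [hTa, hTa] at h
    exact h

end Cores

end Cfsg.Agent.Lib.Helper6.Ofx
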