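import Mathlib
import Cfsg.Agent.Lib.Helper6.OfxI

set_option autoImplicit false
set_option maxHeartbeats 1000000
set_option linter.unusedVariables false
set_option linter.unusedSectionVars false
set_option linter.style.longLine false
set_option linter.unusedSimpArgs false
set_option linter.deprecated false
set_option linter.style.haveILetI false

/-! Field-extension subgroups of orthogonal groups (part J): sufficiency of `r = 2`. -/

namespace Cfsg.Agent.Lib.Helper6.Ofx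

open Module Cfsg Cfsg.Agent.Lib.Helper5.OrthPrime Cfsg.Agent.Lib.Helper2.Ukf
  Cfsg.Agent.Lib.Helper2 Cfsg.Agent.Lib.Helper5.CartanDieudonne Cfsg.Agent.Lib.Helper5.Refl
  Cfsg.Agent.Lib.Helper5.OAut Cfsg.Agent.Lib.Helper5.MinusGraph Cfsg.Agent.Lib.Helper5.SpinorNorm
open scoped Matrix MatrixGroups

universe u

section Suff

variable {F : Type u} [Field F] [Fintype F] {ι : Type} [Fintype ι] [DecidableEq ι]

theorem sufficiency_ofx (hodd : Odd (Fintype.card F)) (Q : QuadraticForm F (ι → F))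
    (hQ : (QuadraticMap.polarBilin Q).Nondegenerate) (n : ℕ) (hcard : Fintype.card ι = 2 * n)
    (hn : 2 ≤ n) (K : Subalgebra F (Matrix ι ι F)) (hK : Cfsg.Geo.IsFieldSubalgebra 2 K)
    (hKf : Cfsg.Geo.IsSelfAdjointFor (QuadraticMap.polar (⇑Q)) K)
    (x : GL ι F) (hx : x ∈ Cfsg.Geo.omegaGL ⇑Q) (z : F)
    (hxz : ((x ^ 2 : GL ι F) : Matrix ι ι F) = z • (1 : Matrix ι ι F)) :
    ∃ g ∈ Cfsg.Geo.omegaGL ⇑Q, g⁻¹ * x * g ∈ Cfsg.Geo.subalgebraNormalizer K := by
  classical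
  have h2F := two_ne_zero_of_odd hodd
  have hS := symmQ Q
  have hB := nondegQ Q hQ
  haveI : Nonempty ι := by
    apply Fintype.card_pos_iff.mp
    omega
  have hcard2 : 2 ≤ Fintype.card ι := by omega
  have hcard3 : 3 ≤ Fintype.card ι := by omega
  obtain ⟨Jm, ε, hJ, hJJ, hspan, hε, hns⟩ := exists_gen_sq h2F K hK
  have hIsJ := isJs_of_K Q K Jm ε hJ hJJ hKf
  obtain ⟨x', hx'Ω, hx'x⟩ := (mem_omegaGL_iff Q x).mp hx
  subst hx'x
  obtain ⟨M, hMdef⟩ : ∃ M : Matrix ι ι F, M = ((x' : GL ι F) : Matrix ι ι F) := ⟨_, rfl⟩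
  have hM : ∀ v, Q (M *ᵥ v) = Q v := by
    intro v
    rw [hMdef]
    exact quad_act Q x' v
  have hMM : M * M = z • 1 := by
    rw [hMdef, ← Units.val_mul, ← pow_two]
    exact hxz
  have hzz : z * z = 1 := by
    obtain ⟨v₁, hv₁⟩ := exists_quad_eq Q hQ hcard2 1 one_ne_zero
    have h := hM (M *ᵥ v₁)
    rw [Matrix.mulVec_mulVec, hMM, Matrix.smul_mulVec, Matrix.one_mulVec, hM,
      QuadraticMap.map_smul, hv₁, smul_eq_mul, mul_one] at h
    exact h
  have hdet : M.det = 1 := by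
    obtain ⟨us, hus⟩ := exists_rep Q h2F hQ x'
    have he := ((mem_commutator_iff Q h2F hQ hcard2 x' us hus).mp hx'Ω).1
    rw [hMdef, hus.2, rprod_det Q us hus.1, he.neg_one_pow]
  have hfinal : ∀ (J' : Module.End F (ι → F)) (v : ι → F),
      IsJs (QuadraticMap.polarBilin Q) ε J' → Q v ≠ 0 →
      ((∀ w, M *ᵥ (J' w) = J' (M *ᵥ w)) ∨ (∀ w, M *ᵥ (J' w) = -J' (M *ᵥ w))) →
      ((∀ w, M *ᵥ (reflectionMatrix (⇑Q) v *ᵥ J' (reflectionMatrix (⇑Q) v *ᵥ w)) =
          reflectionMatrix (⇑Q) v *ᵥ J' (reflectionMatrix (⇑Q) v *ᵥ (M *ᵥ w))) ∨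
        (∀ w, M *ᵥ (reflectionMatrix (⇑Q) v *ᵥ J' (reflectionMatrix (⇑Q) v *ᵥ w)) =
          -(reflectionMatrix (⇑Q) v *ᵥ J' (reflectionMatrix (⇑Q) v *ᵥ (M *ᵥ w))))) →
      ∃ g ∈ Cfsg.Geo.omegaGL ⇑Q, g⁻¹ * (x' : GL ι F) * g ∈ Cfsg.Geo.subalgebraNormalizer K := by
    intro J' v hJ's hv hca1 hca2
    obtain ⟨g, hg⟩ := exists_conj_mat Q hodd hQ Jm ε hε hIsJ J' hJ's
    obtain ⟨vs, hvs⟩ := exists_rep Q h2F hQ g
    obtain ⟨c, ws, hcJ, hws, hwe, hwns⟩ := exists_comm_correction hodd Q hQ hcard3 Jm ε hε hIsJ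
    have hfix : ∀ (g₂ : ↥(isometryGroup F ⇑Q)) (vs₂ : List (ι → F)), IsRep Q g₂ vs₂ →
        Even vs₂.length →
        ∃ c₂ : ↥(isometryGroup F ⇑Q),
          ((c₂ : GL ι F) : Matrix ι ι F) * Jm = Jm * ((c₂ : GL ι F) : Matrix ι ι F) ∧
          g₂ * c₂ ∈ commutator ↥(isometryGroup F ⇑Q) := by
      intro g₂ vs₂ hrep heven
      by_cases hsq : IsSquare (vs₂.map Q).prod
      · refine ⟨1, ?_, ?_⟩
        · rw [Subgroup.coe_one, Units.val_one, one_mul, mul_one]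
        · rw [mul_one]
          exact (mem_commutator_iff Q h2F hQ hcard2 g₂ vs₂ hrep).mpr ⟨heven, hsq⟩
      · refine ⟨c, hcJ, ?_⟩
        apply (mem_commutator_iff Q h2F hQ hcard2 (g₂ * c) (vs₂ ++ ws)
          (isRep_mul Q hrep hws)).mpr
        refine ⟨?_, ?_⟩
        · rw [List.length_append]
          exact heven.add hwe
        · rw [List.map_append, List.prod_append, ← sgn_eq_one_iff,
            sgn_mul (prodQ_ne_zero Q vs₂ hrep.1) (prodQ_ne_zero Q ws hws.1),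
            sgn_of_not_isSquare hsq, sgn_of_not_isSquare hwns]
          simp
    have hdone : ∀ (ω : ↥(isometryGroup F ⇑Q)), ω ∈ commutator ↥(isometryGroup F ⇑Q) →
        ∀ J'' : (ι → F) → (ι → F),
        (∀ w, ((ω : GL ι F) : Matrix ι ι F) *ᵥ (Jm *ᵥ w) =
          J'' (((ω : GL ι F) : Matrix ι ι F) *ᵥ w)) →
        ((∀ w, M *ᵥ (J'' w) = J'' (M *ᵥ w)) ∨ (∀ w, M *ᵥ (J'' w) = -J'' (M *ᵥ w))) →
        ∃ g ∈ Cfsg.Geo.omegaGL ⇑Q,
          g⁻¹ * (x' : GL ι F) * g ∈ Cfsg.Geo.subalgebraNormalizer K := by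
      intro ω hωΩ J'' hωJ hca
      refine ⟨(ω : GL ι F), (mem_omegaGL_iff Q _).mpr ⟨ω, hωΩ, rfl⟩, ?_⟩
      apply mem_normalizer_J K Jm hJ hspan
      rw [Units.val_mul, Units.val_mul, ← hMdef]
      exact ca_transfer (ω : GL ι F) M Jm J'' hωJ hca
    rcases Nat.even_or_odd vs.length with heven | hoddl
    · obtain ⟨c₂, hc₂J, hmem⟩ := hfix g vs hvs heven
      refine hdone (g * c₂) hmem (fun w => J' w) ?_ hca1
      intro w
      have hval : (((g * c₂ : ↥(isometryGroup F ⇑Q)) : GL ι F) : Matrix ι ι F) =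
          ((g : GL ι F) : Matrix ι ι F) * ((c₂ : GL ι F) : Matrix ι ι F) := by
        rw [Subgroup.coe_mul, Units.val_mul]
      have e : ((c₂ : GL ι F) : Matrix ι ι F) *ᵥ (Jm *ᵥ w) =
          Jm *ᵥ (((c₂ : GL ι F) : Matrix ι ι F) *ᵥ w) := by
        rw [Matrix.mulVec_mulVec, hc₂J, ← Matrix.mulVec_mulVec]
      rw [hval, ← Matrix.mulVec_mulVec, ← Matrix.mulVec_mulVec, e, hg]
    · have hrep : IsRep Q (reflection Q v hv * g) ([v] ++ vs) :=
        isRep_mul Q (isRep_reflection Q v hv) hvs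
      have heven' : Even ([v] ++ vs).length := by
        rw [List.length_append, List.length_singleton]
        exact odd_one.add_odd hoddl
      obtain ⟨c₂, hc₂J, hmem⟩ := hfix _ _ hrep heven'
      refine hdone (reflection Q v hv * g * c₂) hmem
        (fun w => reflectionMatrix (⇑Q) v *ᵥ J' (reflectionMatrix (⇑Q) v *ᵥ w)) ?_ hca2
      intro w
      have hval : (((reflection Q v hv * g * c₂ : ↥(isometryGroup F ⇑Q)) : GL ι F) :
          Matrix ι ι F) = reflectionMatrix (⇑Q) v * ((g : GL ι F) : Matrix ι ι F) *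
            ((c₂ : GL ι F) : Matrix ι ι F) := by
        rw [Subgroup.coe_mul, Subgroup.coe_mul, Units.val_mul, Units.val_mul]
        rfl
      have e : ((c₂ : GL ι F) : Matrix ι ι F) *ᵥ (Jm *ᵥ w) =
          Jm *ᵥ (((c₂ : GL ι F) : Matrix ι ι F) *ᵥ w) := by
        rw [Matrix.mulVec_mulVec, hc₂J, ← Matrix.mulVec_mulVec]
      have hRR : ∀ u : ι → F, reflectionMatrix (⇑Q) v *ᵥ (reflectionMatrix (⇑Q) v *ᵥ u) = u := by
        intro u
        rw [Matrix.mulVec_mulVec, reflection_mul_self Q v hv, Matrix.one_mulVec]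
      rw [hval]
      simp only [← Matrix.mulVec_mulVec]
      rw [e, hg, hRR]
  have hz : z = 1 ∨ z = -1 := by
    have h1 : (z - 1) * (z + 1) = 0 := by linear_combination hzz
    rcases mul_eq_zero.mp h1 with h | h
    · left
      linear_combination h
    · right
      linear_combination h
  rcases hz with rfl | rfl
  · rw [one_smul] at hMM
    obtain ⟨J', v, hJ's, hQv, hc1, hc2⟩ := core_pos hodd Q hQ n hcard (by omega) hε M hM hMM hdet
    exact hfinal J' v hJ's hQv (Or.inl hc1) (Or.inl hc2)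
  · rw [neg_one_smul] at hMM
    obtain ⟨J', v, hJ's, hQv, hc1, hc2⟩ := core_neg hodd Q hQ n hcard (by omega) (ε := ε) M hM hMM
    exact hfinal J' v hJ's hQv (Or.inr hc1) (Or.inr hc2)

end Suff

end Cfsg.Agent.Lib.Helper6.Ofx
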