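import Mathlib
import Cfsg.Agent.Lib.Helper1.Fusion
import Cfsg.Agent.Lib.Helper4.ConjClass

set_option autoImplicit false
set_option linter.unusedSectionVars false

/-! Classes of `p'`-size when the Sylow normalizer equals the Sylow centralizer. -/

namespace Cfsg.Agent.Lib.Helper6

open Pointwise

/-- If `N_G(P) ≤ C_G(P)` for a Sylow `p`-subgroup `P`, the conjugacy classes of `G` of size prime
to `p` correspond to the conjugacy classes of `N_G(P)`. -/
theorem card_pPrime_classes_eq {G : Type*} [Group G] [Finite G] (p : ℕ) [Fact p.Prime]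
    (P : Sylow p G)
    (hNC : Subgroup.normalizer ((P : Subgroup G) : Set G)
      ≤ Subgroup.centralizer ((P : Subgroup G) : Set G)) :
    Nat.card {K : ConjClasses G // ¬ p ∣ Nat.card K.carrier}
      = Nat.card (ConjClasses ↥(Subgroup.normalizer ((P : Subgroup G) : Set G))) := by
  classical
  obtain ⟨M, hM⟩ : ∃ M : Subgroup G, M = Subgroup.normalizer ((P : Subgroup G) : Set G) :=
    ⟨_, rfl⟩
  rw [← hM]
  symm
  have hcomm : ∀ x : M, ∀ y ∈ (P : Subgroup G), y * (x : G) = (x : G) * y := by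
    intro x y hy
    have hx : (x : G) ∈ Subgroup.centralizer ((P : Subgroup G) : Set G) := by
      apply hNC; rw [← hM]; exact x.2
    rw [Subgroup.mem_centralizer_iff] at hx
    exact hx y hy
  have hwell : ∀ x : M, ¬ p ∣ Nat.card (ConjClasses.mk (x : G)).carrier := by
    intro x
    rw [Cfsg.Agent.Lib.Helper4.card_carrier_eq_index]
    have hle : (P : Subgroup G) ≤ Subgroup.centralizer ({(x : G)} : Set G) := by
      intro y hy
      rw [Subgroup.mem_centralizer_singleton_iff]
      exact hcomm x y hy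
    intro hdvd
    exact P.not_dvd_index (dvd_trans hdvd (Subgroup.index_dvd_of_le hle))
  have hfwell : ∀ c : ConjClasses M, ¬ p ∣ Nat.card (ConjClasses.map M.subtype c).carrier := by
    intro c
    obtain ⟨x, rfl⟩ := ConjClasses.mk_surjective c
    exact hwell x
  apply Nat.card_congr
  refine Equiv.ofBijective (fun c => ⟨ConjClasses.map M.subtype c, hfwell c⟩) ⟨?_, ?_⟩
  · intro c₁ c₂ h
    obtain ⟨x₁, rfl⟩ := ConjClasses.mk_surjective c₁
    obtain ⟨x₂, rfl⟩ := ConjClasses.mk_surjective c₂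
    have h1 : ConjClasses.mk (x₁ : G) = ConjClasses.mk (x₂ : G) := congrArg Subtype.val h
    rw [ConjClasses.mk_eq_mk_iff_isConj, isConj_iff] at h1
    obtain ⟨g, hg⟩ := h1
    have hsing : ∀ (u z : G), MulAut.conj u • ({z} : Set G) = {u * z * u⁻¹} := by
      intro u z
      rw [Set.smul_set_singleton, MulAut.smul_def, MulAut.conj_apply]
    obtain ⟨n, hn, hnx⟩ := Cfsg.Agent.Lib.Helper1.burnside_fusion_sets P ({(x₁ : G)} : Set G)
      ({(x₂ : G)} : Set G)
      (fun u hu => by
        rw [hsing, hcomm x₁ u hu, mul_inv_cancel_right])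
      (fun u hu => by
        rw [hsing, hcomm x₂ u hu, mul_inv_cancel_right])
      g (by rw [hsing, hg])
    rw [hsing, Set.singleton_eq_singleton_iff] at hnx
    have hnM : n ∈ M := by rw [hM]; exact hn
    rw [ConjClasses.mk_eq_mk_iff_isConj, isConj_iff]
    exact ⟨⟨n, hnM⟩, Subtype.ext hnx⟩
  · rintro ⟨K, hK⟩
    obtain ⟨g, rfl⟩ := ConjClasses.mk_surjective K
    rw [Cfsg.Agent.Lib.Helper4.card_carrier_eq_index] at hK
    obtain ⟨q, hq⟩ := (P.2).nonempty_fixed_point_of_prime_not_dvd_card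
      (G ⧸ Subgroup.centralizer ({g} : Set G)) hK
    obtain ⟨y, rfl⟩ := QuotientGroup.mk_surjective q
    have hfix : ∀ u ∈ (P : Subgroup G), y⁻¹ * u * y ∈ Subgroup.centralizer ({g} : Set G) := by
      intro u hu
      have h1 := hq ⟨u, hu⟩
      have h2 : ((u * y : G) : G ⧸ Subgroup.centralizer ({g} : Set G)) = (y : G ⧸ _) := h1
      rw [QuotientGroup.eq] at h2
      have h3 := inv_mem h2
      have h4 : ((u * y)⁻¹ * y)⁻¹ = y⁻¹ * u * y := by group
      rwa [h4] at h3
    have hmem : y * g * y⁻¹ ∈ M := by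
      rw [hM]
      apply Subgroup.centralizer_le_normalizer
      rw [Subgroup.mem_centralizer_iff]
      intro u hu
      have h1 := hfix u hu
      rw [Subgroup.mem_centralizer_singleton_iff] at h1
      calc u * (y * g * y⁻¹) = y * ((y⁻¹ * u * y) * g) * y⁻¹ := by group
        _ = y * (g * (y⁻¹ * u * y)) * y⁻¹ := by rw [h1]
        _ = y * g * y⁻¹ * u := by group
    refine ⟨ConjClasses.mk ⟨y * g * y⁻¹, hmem⟩, ?_⟩
    apply Subtype.ext
    show ConjClasses.mk (y * g * y⁻¹) = ConjClasses.mk g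
    rw [ConjClasses.mk_eq_mk_iff_isConj, isConj_iff]
    exact ⟨y⁻¹, by group⟩

end Cfsg.Agent.Lib.Helper6
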