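import Mathlib
import Cfsg.Agent.Lib.Helper6.OnePSing1
import Cfsg.Agent.Lib.Helper2.ExtraspecialCard
import Cfsg.Agent.Lib.Helper3.GallagherMul
import Cfsg.Agent.Lib.Helper8.McK1
import Cfsg.Agent.Lib.Helper6.CliffordStab
import Cfsg.Agent.Lib.Helper6.BlkCover3
import Cfsg.Agent.Lib.Helper6.BrWeight
import Cfsg.Agent.Lib.Helper6.Ito
import Cfsg.Agent.Lib.Helper6.Regular
import Cfsg.Agent.Lib.Helper6.Orthogonality

set_option autoImplicit false
set_option linter.unusedSectionVars false
open Cfsg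

/-! Groups with a normal `p`-complement and a unique irreducible character of degree divisible by
`p`: the quotient by the complement is abelian. -/

namespace Cfsg.Agent.Lib.Helper6

theorem quotient_comm_of_unique_pSingular {G : Type*} [Group G] [Finite G] (p : ℕ)
    [Fact p.Prime] (hnil : ¬ Group.IsNilpotent G) (N : Subgroup G) [hN : N.Normal]
    (hNp : (Nat.card N).Coprime p) (hidx : ∃ k : ℕ, N.index = p ^ k)
    (hone : Nat.card {χ : Cfsg.IrrCharacter G // p ∣ Cfsg.charDegree (χ : G → ℂ)} = 1) :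
    ∀ a b : G ⧸ N, a * b = b * a := by
  classical
  haveI : Fintype G := Fintype.ofFinite G
  haveI : Fintype N := Fintype.ofFinite N
  have hp : p.Prime := Fact.out
  obtain ⟨k, hk⟩ := hidx
  by_contra hnc
  have hnc' : ¬ IsMulCommutative (G ⧸ N) := fun h => hnc (fun a b => h.is_comm.comm a b)
  obtain ⟨βq, hβq, hβq1⟩ := Cfsg.Agent.Lib.Helper2.exists_nonlinear_irrCharacter hnc'
  obtain ⟨β, hβdef⟩ : ∃ β : G → ℂ, β = fun g => βq (QuotientGroup.mk' N g) := ⟨_, rfl⟩
  have hβ : Cfsg.IsIrrCharacter G β := by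
    rw [hβdef]
    exact isIrrCharacter_comp_surj (QuotientGroup.mk' N) (QuotientGroup.mk'_surjective N) hβq
  have hβ1 : β 1 = βq 1 := by rw [hβdef]; simp
  have hβN : ∀ n : N, β n = β 1 := by
    intro n
    rw [hβ1, hβdef]
    simp only [QuotientGroup.mk'_apply]
    rw [(QuotientGroup.eq_one_iff (n : G)).mpr n.2]
  have hβdeg : p ∣ Cfsg.charDegree β := by
    have h2 : Cfsg.charDegree β = Cfsg.charDegree βq := by unfold Cfsg.charDegree; rw [hβ1]
    rw [h2]
    have h3 := IsIrrCharacter.charDegree_dvd_card hβq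
    have h4 : Nat.card (G ⧸ N) = p ^ k := by rw [← hk]; rfl
    rw [h4] at h3
    obtain ⟨j, _, hj⟩ := (Nat.dvd_prime_pow hp).mp h3
    have hj0 : j ≠ 0 := by
      intro h0
      rw [h0, pow_zero] at hj
      apply hβq1
      rw [IsCharacter.apply_one_eq_charDegree (IsIrrCharacter.isCharacter hβq), hj, Nat.cast_one]
    rw [hj]; exact dvd_pow_self p hj0
  have huniq : ∀ χ : Cfsg.IrrCharacter G, p ∣ Cfsg.charDegree (χ : G → ℂ) →
      (χ : G → ℂ) = β := by
    intro χ hχ
    haveI := (Nat.card_eq_one_iff_unique.mp hone).1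
    have := Subsingleton.elim
      (⟨χ, hχ⟩ : {χ : Cfsg.IrrCharacter G // p ∣ Cfsg.charDegree (χ : G → ℂ)})
      ⟨⟨β, hβ⟩, hβdeg⟩
    exact congrArg (fun x => (x.1 : G → ℂ)) this
  have hN1 : N ≠ ⊥ := by
    intro h
    apply hnil
    have hc1 : Nat.card N = 1 := by rw [h]; exact Subgroup.card_bot
    have hcard : Nat.card G = p ^ k := by
      rw [← Subgroup.card_mul_index N, hk, hc1, one_mul]
    exact (IsPGroup.of_card hcard).isNilpotent
  haveI : Fintype (Cfsg.IrrCharacter N) := Fintype.ofFinite _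
  obtain ⟨θ, hθ1⟩ : ∃ θ : Cfsg.IrrCharacter N, (θ : N → ℂ) ≠ fun _ => 1 := by
    by_contra hcon
    push Not at hcon
    have h1 := sum_sq_degree (G := N)
    have h2 : ∑ χ : Cfsg.IrrCharacter N, (χ : N → ℂ) 1 ^ 2 = 1 := by
      rw [Finset.sum_eq_single (⟨fun _ => 1, isIrrCharacter_one⟩ : Cfsg.IrrCharacter N)]
      · simp
      · intro b _ hb; exact absurd (Subtype.ext (hcon b)) hb
      · intro h; exact absurd (Finset.mem_univ _) h
    rw [h2] at h1
    have h3 : Nat.card N = 1 := by exact_mod_cast h1.symm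
    exact hN1 (Subgroup.eq_bot_of_card_eq N h3)
  by_cases hinv : Cfsg.Agent.Lib.Helper8.McK.InvK N (θ : N → ℂ)
  · have hcop : (Nat.card N).Coprime N.index := by rw [hk]; exact Nat.Coprime.pow_right k hNp
    obtain ⟨η, hη⟩ := Cfsg.Agent.Lib.Helper8.McK.exists_extension N hcop θ hinv
    have hηN : Cfsg.IsIrrCharacter N (fun n : N => (η : G → ℂ) n) := by
      have : (fun n : N => (η : G → ℂ) n) = (θ : N → ℂ) := funext hη
      rw [this]; exact θ.2
    have hprod := Cfsg.Agent.Lib.Helper3.GallagherMul.isIrrCharacter_mul N (η : G → ℂ) η.2 hηN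
      β hβ hβN
    have hdeg : p ∣ Cfsg.charDegree (β * (η : G → ℂ)) := by
      have h1 := IsCharacter.apply_one_eq_charDegree (IsIrrCharacter.isCharacter hβ)
      have h2 := IsCharacter.apply_one_eq_charDegree (IsIrrCharacter.isCharacter η.2)
      have h3 := IsCharacter.apply_one_eq_charDegree (IsIrrCharacter.isCharacter hprod)
      rw [Pi.mul_apply, h1, h2] at h3
      have h4 : Cfsg.charDegree (β * (η : G → ℂ))
          = Cfsg.charDegree β * Cfsg.charDegree (η : G → ℂ) := by exact_mod_cast h3.symm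
      rw [h4]; exact Dvd.dvd.mul_right hβdeg _
    have heq := huniq ⟨β * (η : G → ℂ), hprod⟩ hdeg
    apply hθ1
    funext n
    have h5 := congrFun heq (n : G)
    simp only [Pi.mul_apply] at h5
    rw [hη n, hβN n] at h5
    have hβ10 : β 1 ≠ 0 := IsIrrCharacter.apply_one_ne_zero hβ
    have : β 1 * (θ : N → ℂ) n = β 1 * 1 := by rw [mul_one]; exact h5
    exact mul_left_cancel₀ hβ10 this
  · obtain ⟨χ, hχ⟩ := exists_irr_over N θ
    obtain ⟨T, hT⟩ : ∃ T : Subgroup G, T = inertia N hN (θ : N → ℂ) := ⟨_, rfl⟩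
    haveI : Fintype T := Fintype.ofFinite T
    have hNT : N ≤ T := by
      rw [hT]; exact le_inertia N hN (IsIrrCharacter.isClassFunction θ.2)
    have hstab : ∀ g : G, conjFun N hN (θ : N → ℂ) g = (θ : N → ℂ) → g ∈ T := by
      intro g hg; rw [hT]; exact hg
    obtain ⟨ψ, hψc, hψ⟩ := exists_indFun_eq_of_stab N hN T hNT θ hstab χ hχ
    have hTtop : T ≠ ⊤ := by
      intro h
      apply hinv
      intro g n
      have hg : g ∈ T := by rw [h]; exact Subgroup.mem_top g
      rw [hT] at hg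
      have := congrFun ((mem_inertia N hN _ g).mp hg) n
      rwa [conjFun_apply] at this
    have hpT : p ∣ T.index := by
      have h1 : T.index ∣ p ^ k := by rw [← hk]; exact Subgroup.index_dvd_of_le hNT
      obtain ⟨j, _, hj⟩ := (Nat.dvd_prime_pow hp).mp h1
      have hj0 : j ≠ 0 := by
        intro h0; rw [h0, pow_zero] at hj
        exact hTtop (Subgroup.index_eq_one.mp hj)
      rw [hj]; exact dvd_pow_self p hj0
    have hdeg : p ∣ Cfsg.charDegree (χ : G → ℂ) := by
      have h1 := IsCharacter.apply_one_eq_charDegree (IsIrrCharacter.isCharacter χ.2)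
      have h2 := IsCharacter.apply_one_eq_charDegree (IsIrrCharacter.isCharacter ψ.2)
      rw [← hψ, indFun_one, h2] at h1
      have h3 : Cfsg.charDegree (Cfsg.indFun T (ψ : T → ℂ))
          = T.index * Cfsg.charDegree (ψ : T → ℂ) := by exact_mod_cast h1.symm
      rw [← hψ, h3]; exact Dvd.dvd.mul_right hpT _
    have heq := huniq χ hdeg
    apply hχ
    rw [heq]
    have : (fun n : N => β n) = (β 1) • (fun _ : N => (1 : ℂ)) := by
      funext n; simp [hβN n]
    rw [this, classInner_smul_left, classInner_isIrrCharacter isIrrCharacter_one θ.2,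
      if_neg (Ne.symm hθ1), mul_zero]

end Cfsg.Agent.Lib.Helper6
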