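import Mathlib
import Cfsg.Agent.Lib.Helper1.UoA7

/-!
# Orthogonal subfield groups (part A): existence lemmas in a nondegenerate quadratic space over a
finite field (totally singular pairs, partners, hyperbolic pairs in orthogonal complements)
-/

set_option autoImplicit false
set_option maxHeartbeats 1000000
set_option linter.unusedSimpArgs false
set_option linter.unusedVariables false
set_option linter.unusedSectionVars false

namespace Cfsg.Agent.Lib.Helper6.Oqs

open Module QuadraticMap
open Cfsg.Agent.Lib.Helper5.MaxTS Cfsg.Agent.Lib.Helper5.SingGeom Cfsg.Agent.Lib.Helper1.UoA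

variable {K : Type*} [Field K] [Finite K] {V : Type*} [AddCommGroup V] [Module K V]
  [FiniteDimensional K V] (Q : QuadraticForm K V)

/-- a totally singular pair of independent vectors -/
structure TS (u y : V) : Prop where
  qu : Q u = 0
  qy : Q y = 0
  uy : polar Q u y = 0
  ne : u ≠ 0
  ind : y ∉ Submodule.span K {u}

variable {Q}

theorem TS.ne' {u y : V} (h : TS Q u y) : y ≠ 0 := by
  rintro rfl
  exact h.ind (Submodule.zero_mem _)

theorem TS.yu {u y : V} (h : TS Q u y) : polar Q y u = 0 := by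
  rw [polar_comm]; exact h.uy

theorem TS.symm {u y : V} (h : TS Q u y) : TS Q y u := by
  refine ⟨h.qy, h.qu, h.yu, h.ne', ?_⟩
  intro hu
  rw [Submodule.mem_span_singleton] at hu
  obtain ⟨a, ha⟩ := hu
  have ha0 : a ≠ 0 := by
    rintro rfl
    rw [zero_smul] at ha
    exact h.ne ha.symm
  apply h.ind
  rw [Submodule.mem_span_singleton]
  refine ⟨a⁻¹, ?_⟩
  rw [← ha, smul_smul, inv_mul_cancel₀ ha0, one_smul]

theorem not_mem_span_pair_swap {u y z : V} (hy : y ∉ Submodule.span K {u})
    (hz : z ∉ Submodule.span K {u, y}) : y ∉ Submodule.span K {u, z} := by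
  intro h
  rw [Submodule.mem_span_pair] at h
  obtain ⟨a, b, hab⟩ := h
  by_cases hb : b = 0
  · subst hb
    apply hy
    rw [Submodule.mem_span_singleton]
    exact ⟨a, by rw [← hab]; simp⟩
  · apply hz
    rw [Submodule.mem_span_pair]
    refine ⟨-(b⁻¹ * a), b⁻¹, ?_⟩
    rw [← hab, smul_add, smul_smul, smul_smul, inv_mul_cancel₀ hb, one_smul, neg_smul]
    abel

theorem finrank_span_singleton_le' (u : V) : finrank K ↥(Submodule.span K ({u} : Set V)) ≤ 1 := by
  classical
  have h3 : finrank K ↥(Submodule.span K ((({u} : Finset V)) : Set V)) ≤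
      ({u} : Finset V).card := finrank_span_finset_le_card _
  rw [Finset.coe_singleton] at h3
  simpa using h3

theorem finrank_span_pair_le' (u w : V) : finrank K ↥(Submodule.span K ({u, w} : Set V)) ≤ 2 := by
  classical
  have h3 : finrank K ↥(Submodule.span K ((({u, w} : Finset V)) : Set V)) ≤
      ({u, w} : Finset V).card := finrank_span_finset_le_card _
  rw [Finset.coe_pair] at h3
  have h2 : ({u, w} : Finset V).card ≤ 2 := Finset.card_le_two
  omega

variable (hQ : (polarBilin Q).Nondegenerate)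

include hQ in
theorem orth_top' : orth Q (⊤ : Submodule K V) = ⊥ := by
  have h := orth_orth' Q hQ (⊥ : Submodule K V)
  rwa [orth_bot] at h

include hQ in
/-- a singular partner of a nonzero singular vector -/
theorem exists_partner {u : V} (hu0 : u ≠ 0) (hu : Q u = 0) :
    ∃ u', Q u' = 0 ∧ polar Q u u' = 1 := by
  obtain ⟨f, -, hf, h1⟩ := exists_partner_in Q ⊤ u Submodule.mem_top hu
    (by rw [orth_top' hQ, Submodule.mem_bot]; exact hu0)
  exact ⟨f, hf, h1⟩

include hQ in
/-- a singular partner of `y` orthogonal to `u` and `z` -/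
theorem exists_partner_perp2 {u z y : V} (hyu : polar Q u y = 0) (hyz : polar Q z y = 0)
    (hy : Q y = 0) (hind : y ∉ Submodule.span K {u, z}) :
    ∃ y', Q y' = 0 ∧ polar Q u y' = 0 ∧ polar Q z y' = 0 ∧ polar Q y y' = 1 := by
  obtain ⟨f, hfW, hf, h1⟩ := exists_partner_in Q (orth Q (Submodule.span K {u, z})) y
    (mem_orth_pair.mpr ⟨hyu, hyz⟩) hy (by rw [orth_orth' Q hQ]; exact hind)
  rw [mem_orth_pair] at hfW
  exact ⟨f, hf, hfW.1, hfW.2, h1⟩

include hQ in
/-- a hyperbolic pair in the orthogonal complement of a small subspace -/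
theorem exists_hyp_perp (D : Submodule K V) (hD : 2 * finrank K D + 3 ≤ finrank K V) :
    ∃ b b', b ∈ orth Q D ∧ b' ∈ orth Q D ∧ Q b = 0 ∧ Q b' = 0 ∧ polar Q b b' = 1 := by
  have h1 : finrank K D + 3 ≤ finrank K ↥(orth Q D) := by
    rw [finrank_orth Q hQ]
    have : finrank K D ≤ finrank K V := Submodule.finrank_le D
    omega
  obtain ⟨b, hbW, hbD, hb⟩ := exists_sing_avoid Q (orth Q D) D h1
  obtain ⟨f, hfW, hf, h2⟩ := exists_partner_in Q (orth Q D) b hbW hb
    (by rw [orth_orth' Q hQ]; exact hbD)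
  exact ⟨b, f, hbW, hfW, hb, hf, h2⟩

include hQ in
/-- a hyperbolic pair orthogonal to two given vectors -/
theorem exists_hyp_perp2 (h7 : 7 ≤ finrank K V) (u z : V) :
    ∃ b b', Q b = 0 ∧ Q b' = 0 ∧ polar Q b b' = 1 ∧ polar Q u b = 0 ∧ polar Q z b = 0 ∧
      polar Q u b' = 0 ∧ polar Q z b' = 0 := by
  have h2 := finrank_span_pair_le' (K := K) u z
  obtain ⟨b, b', hb, hb', hqb, hqb', h1⟩ := exists_hyp_perp hQ (Submodule.span K {u, z}) (by omega)
  rw [mem_orth_pair] at hb hb'
  exact ⟨b, b', hqb, hqb', h1, hb.1, hb.2, hb'.1, hb'.2⟩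

include hQ in
/-- a hyperbolic frame around a totally singular pair -/
theorem exists_frame {u y : V} (h : TS Q u y) :
    ∃ u' y', Q u' = 0 ∧ Q y' = 0 ∧ polar Q u u' = 1 ∧ polar Q y u' = 0 ∧ polar Q u y' = 0 ∧
      polar Q y y' = 1 ∧ polar Q u' y' = 0 := by
  -- u' : partner of u orthogonal to y
  have hu_ind : u ∉ Submodule.span K {y, y} := by
    intro hu
    have : Submodule.span K ({y, y} : Set V) = Submodule.span K {y} := by
      congr 1; simp
    rw [this] at hu
    exact h.symm.ind hu
  obtain ⟨u', hu', h1, -, h2⟩ := exists_partner_perp2 hQ (u := y) (z := y) (y := u) h.yu h.yu h.qu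
    hu_ind
  have hy_ind : y ∉ Submodule.span K {u, u'} := by
    intro hy
    rw [Submodule.mem_span_pair] at hy
    obtain ⟨a, b, hab⟩ := hy
    have e : polar Q u y = b := by
      rw [← hab, polar_add_right, polar_smul_right, polar_smul_right, polar_self_sing Q h.qu, h2]
      simp
    rw [h.uy] at e
    subst e
    apply h.ind
    rw [Submodule.mem_span_singleton]
    exact ⟨a, by rw [← hab]; simp⟩
  obtain ⟨y', hy', h3, h4, h5⟩ := exists_partner_perp2 hQ (u := u) (z := u') (y := y) h.uy
    (by rw [polar_comm]; exact h1) h.qy hy_ind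
  exact ⟨u', y', hu', hy', h2, h1, h3, h5, h4⟩

include hQ in
/-- two auxiliary singular vectors used to connect two totally singular pairs -/
theorem exists_connect (h13 : 13 ≤ finrank K V) (u y u' y' : V) :
    ∃ z z', Q z = 0 ∧ Q z' = 0 ∧ polar Q z z' = 0 ∧
      polar Q u z = 0 ∧ polar Q y z = 0 ∧ polar Q u' z = 0 ∧ polar Q y' z = 0 ∧
      polar Q u z' = 0 ∧ polar Q y z' = 0 ∧ polar Q u' z' = 0 ∧ polar Q y' z' = 0 ∧
      z ∉ Submodule.span K {u, y} ∧ z ∉ Submodule.span K {u', y'} ∧
      z' ∉ Submodule.span K {u, z} ∧ z' ∉ Submodule.span K {u', y'} ∧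
      z' ∉ Submodule.span K {u, y} ∧ z ∉ Submodule.span K {u', z'} := by
  set D1 : Submodule K V := Submodule.span K {u, y} ⊔ Submodule.span K {u', y'} with hD1
  have hD1f : finrank K D1 ≤ 4 := by
    have h1 : finrank K D1 ≤ finrank K ↥(Submodule.span K ({u, y} : Set V)) +
        finrank K ↥(Submodule.span K ({u', y'} : Set V)) :=
      Submodule.finrank_add_le_finrank_add_finrank (Submodule.span K {u, y})
        (Submodule.span K {u', y'})
    have h2 := finrank_span_pair_le' (K := K) u y
    have h3 := finrank_span_pair_le' (K := K) u' y'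
    omega
  have hW1 : finrank K D1 + 3 ≤ finrank K ↥(orth Q D1) := by
    rw [finrank_orth Q hQ]; omega
  obtain ⟨z, hzW, hzD, hz⟩ := exists_sing_avoid Q (orth Q D1) D1 hW1
  set D2 : Submodule K V := D1 ⊔ Submodule.span K {z} with hD2
  have hD2f : finrank K D2 ≤ 5 := by
    have h1 : finrank K D2 ≤ finrank K D1 + finrank K ↥(Submodule.span K ({z} : Set V)) :=
      Submodule.finrank_add_le_finrank_add_finrank D1 (Submodule.span K {z})
    have h2 := finrank_span_singleton_le' (K := K) z
    omega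
  have hW2 : finrank K D2 + 3 ≤ finrank K ↥(orth Q D2) := by
    rw [finrank_orth Q hQ]; omega
  obtain ⟨z', hzW', hzD', hz'⟩ := exists_sing_avoid Q (orth Q D2) D2 hW2
  rw [hD1, orth_sup, Submodule.mem_inf, mem_orth_pair, mem_orth_pair] at hzW
  rw [hD2, orth_sup, Submodule.mem_inf, hD1, orth_sup, Submodule.mem_inf, mem_orth_pair,
    mem_orth_pair, mem_orth_span_singleton] at hzW'
  have huD1 : u ∈ D1 := Submodule.mem_sup_left (Submodule.subset_span (by simp))
  have hyD1 : y ∈ D1 := Submodule.mem_sup_left (Submodule.subset_span (by simp))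
  have hu'D1 : u' ∈ D1 := Submodule.mem_sup_right (Submodule.subset_span (by simp))
  have hy'D1 : y' ∈ D1 := Submodule.mem_sup_right (Submodule.subset_span (by simp))
  have hzD2 : z ∈ D2 := Submodule.mem_sup_right (Submodule.subset_span (by simp))
  have hD12 : D1 ≤ D2 := le_sup_left
  refine ⟨z, z', hz, hz', hzW'.2, hzW.1.1, hzW.1.2, hzW.2.1, hzW.2.2, hzW'.1.1.1, hzW'.1.1.2,
    hzW'.1.2.1, hzW'.1.2.2, ?_, ?_, ?_, ?_, ?_, ?_⟩
  · intro h; exact hzD (Submodule.mem_sup_left h)
  · intro h; exact hzD (Submodule.mem_sup_right h)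
  · intro h
    apply hzD'
    have : Submodule.span K {u, z} ≤ D2 := by
      rw [Submodule.span_le]
      rintro x (rfl | rfl)
      · exact hD12 huD1
      · exact hzD2
    exact this h
  · intro h; exact hzD' (hD12 (Submodule.mem_sup_right h))
  · intro h; exact hzD' (hD12 (Submodule.mem_sup_left h))
  · intro h
    rw [Submodule.mem_span_pair] at h
    obtain ⟨a, b, hab⟩ := h
    by_cases hb : b = 0
    · subst hb
      apply hzD
      rw [← hab]
      simp only [zero_smul, add_zero]
      exact D1.smul_mem _ hu'D1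
    · apply hzD'
      have e : z' = b⁻¹ • z - (b⁻¹ * a) • u' := by
        rw [← hab, smul_add, smul_smul, smul_smul, inv_mul_cancel₀ hb, one_smul]
        abel
      rw [e]
      exact D2.sub_mem (D2.smul_mem _ hzD2) (D2.smul_mem _ (hD12 hu'D1))

end Cfsg.Agent.Lib.Helper6.Oqs
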