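import Mathlib
import Cfsg.Prelude
import Cfsg.Agent.Lib.Helper6.OqsA
import Cfsg.Agent.Lib.Helper1.UoA6
import Cfsg.Agent.Lib.Helper2.SsfA

/-!
# Orthogonal subfield groups (part B): the standard rational structure `F₀^n ⊆ F^n` for a quadratic
form taking values in `F₀` on rational vectors; the rational form `Q0`; rational Eichler elements
-/

set_option autoImplicit false
set_option maxHeartbeats 1000000
set_option linter.unusedSimpArgs false
set_option linter.unusedVariables false
set_option linter.unusedSectionVars false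

namespace Cfsg.Agent.Lib.Helper6.Oqs

open Module QuadraticMap Matrix
open Cfsg
open Cfsg.Agent.Lib.Helper5.CartanDieudonne Cfsg.Agent.Lib.Helper5.Siegel
  Cfsg.Agent.Lib.Helper5.QuadIsom Cfsg.Agent.Lib.Helper5.Eichler
  Cfsg.Agent.Lib.Helper5.OmegaSimple Cfsg.Agent.Lib.Helper5.OrthSingularMax
open Cfsg.Agent.Lib.Helper5.MaxTS Cfsg.Agent.Lib.Helper1.UoA

variable {F : Type*} [Field F] [Fintype F] {n : ℕ} (F₀ : Subfield F)

/-- rational vectors -/
def IsRat (v : Fin n → F) : Prop := ∀ i, v i ∈ F₀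

/-- the inclusion `F₀^n → F^n` -/
def lift (u : Fin n → F₀) : Fin n → F := fun i => (u i : F)

variable {F₀}

theorem isRat_lift (u : Fin n → F₀) : IsRat F₀ (lift F₀ u) := fun i => (u i).2

theorem exists_lift {v : Fin n → F} (hv : IsRat F₀ v) : ∃ u : Fin n → F₀, lift F₀ u = v :=
  ⟨fun i => ⟨v i, hv i⟩, rfl⟩

theorem lift_add (u v : Fin n → F₀) : lift F₀ (u + v) = lift F₀ u + lift F₀ v := by
  ext i; simp [lift]

theorem lift_sub (u v : Fin n → F₀) : lift F₀ (u - v) = lift F₀ u - lift F₀ v := by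
  ext i; simp [lift]

theorem lift_neg (u : Fin n → F₀) : lift F₀ (-u) = -lift F₀ u := by
  ext i; simp [lift]

theorem lift_zero : lift F₀ (0 : Fin n → F₀) = 0 := by
  ext i; simp [lift]

theorem lift_smul (c : F₀) (u : Fin n → F₀) : lift F₀ (c • u) = (c : F) • lift F₀ u := by
  ext i; simp [lift]

theorem lift_single (i : Fin n) :
    lift F₀ (Pi.single i (1 : F₀)) = (Pi.single i (1 : F) : Fin n → F) := by
  ext j
  by_cases h : j = i
  · subst h; simp [lift]
  · simp [lift, Pi.single_apply, h]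

theorem lift_injective : Function.Injective (lift F₀ : (Fin n → F₀) → Fin n → F) := by
  intro u v h
  ext i
  have := congrFun h i
  exact this

theorem lift_eq_zero {u : Fin n → F₀} (h : lift F₀ u = 0) : u = 0 := by
  apply lift_injective
  rw [h, lift_zero]

theorem lift_ne_zero {u : Fin n → F₀} (h : u ≠ 0) : lift F₀ u ≠ 0 := fun e => h (lift_eq_zero e)

theorem IsRat.add {u v : Fin n → F} (hu : IsRat F₀ u) (hv : IsRat F₀ v) : IsRat F₀ (u + v) :=
  fun i => F₀.add_mem (hu i) (hv i)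

theorem IsRat.sub {u v : Fin n → F} (hu : IsRat F₀ u) (hv : IsRat F₀ v) : IsRat F₀ (u - v) :=
  fun i => F₀.sub_mem (hu i) (hv i)

theorem IsRat.neg {u : Fin n → F} (hu : IsRat F₀ u) : IsRat F₀ (-u) :=
  fun i => F₀.neg_mem (hu i)

theorem IsRat.smul {u : Fin n → F} {c : F} (hc : c ∈ F₀) (hu : IsRat F₀ u) : IsRat F₀ (c • u) :=
  fun i => F₀.mul_mem hc (hu i)

theorem isRat_zero : IsRat F₀ (0 : Fin n → F) := fun _ => F₀.zero_mem

theorem isRat_single (i : Fin n) : IsRat F₀ (Pi.single i (1 : F) : Fin n → F) := by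
  rw [← lift_single]; exact isRat_lift _

/-- a scalar carrying a nonzero rational vector to a rational vector is rational -/
theorem IsRat.scalar_mem {v : Fin n → F} (hv : IsRat F₀ v) (hv0 : v ≠ 0) {c : F}
    (h : IsRat F₀ (c • v)) : c ∈ F₀ := by
  obtain ⟨i, hi⟩ : ∃ i, v i ≠ 0 := by
    by_contra hcon
    push Not at hcon
    exact hv0 (funext hcon)
  have h1 : c * v i ∈ F₀ := h i
  have h2 : c = c * v i * (v i)⁻¹ := by field_simp
  rw [h2]
  exact F₀.mul_mem h1 (F₀.inv_mem (hv i))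

variable (Q : QuadraticForm F (Fin n → F))

/-- `Q` is rational -/
def RatQ (F₀ : Subfield F) (Q : QuadraticForm F (Fin n → F)) : Prop :=
  ∀ u : Fin n → F, IsRat F₀ u → Q u ∈ F₀

variable {Q}

theorem RatQ.polar_mem (hrat : RatQ F₀ Q) {u v : Fin n → F} (hu : IsRat F₀ u)
    (hv : IsRat F₀ v) : polar Q u v ∈ F₀ := by
  unfold polar
  exact F₀.sub_mem (F₀.sub_mem (hrat _ (hu.add hv)) (hrat _ hu)) (hrat _ hv)

/-- the underlying function of the rational form -/
def q0fun (hrat : RatQ F₀ Q) (u : Fin n → F₀) : F₀ := ⟨Q (lift F₀ u), hrat _ (isRat_lift u)⟩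

theorem coe_polar_q0fun (hrat : RatQ F₀ Q) (u v : Fin n → F₀) :
    ((polar (q0fun hrat) u v : F₀) : F) = polar Q (lift F₀ u) (lift F₀ v) := by
  unfold polar
  rw [Subfield.coe_sub, Subfield.coe_sub]
  show Q (lift F₀ (u + v)) - Q (lift F₀ u) - Q (lift F₀ v) = _
  rw [lift_add]

/-- the rational quadratic form -/
noncomputable def Q0 (hrat : RatQ F₀ Q) : QuadraticForm F₀ (Fin n → F₀) :=
  QuadraticMap.ofPolar (q0fun hrat)
    (by
      intro a x
      apply Subtype.ext
      show Q (lift F₀ (a • x)) = ((a * a) • q0fun hrat x : F₀)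
      rw [lift_smul, QuadraticMap.map_smul]
      simp [q0fun])
    (by
      intro x x' y
      apply Subtype.ext
      rw [Subfield.coe_add, coe_polar_q0fun, coe_polar_q0fun, coe_polar_q0fun, lift_add,
        polar_add_left])
    (by
      intro a x y
      apply Subtype.ext
      rw [smul_eq_mul, Subfield.coe_mul, coe_polar_q0fun, coe_polar_q0fun, lift_smul,
        polar_smul_left, smul_eq_mul])

theorem coe_Q0 (hrat : RatQ F₀ Q) (u : Fin n → F₀) : ((Q0 hrat u : F₀) : F) = Q (lift F₀ u) := rfl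

theorem coe_polar_Q0 (hrat : RatQ F₀ Q) (u v : Fin n → F₀) :
    ((polar (Q0 hrat) u v : F₀) : F) = polar Q (lift F₀ u) (lift F₀ v) :=
  coe_polar_q0fun hrat u v

theorem Q_lift_eq_zero (hrat : RatQ F₀ Q) {u : Fin n → F₀} (h : Q0 hrat u = 0) :
    Q (lift F₀ u) = 0 := by
  rw [← coe_Q0 hrat, h]; rfl

theorem polar_lift_eq_zero (hrat : RatQ F₀ Q) {u v : Fin n → F₀} (h : polar (Q0 hrat) u v = 0) :
    polar Q (lift F₀ u) (lift F₀ v) = 0 := by
  rw [← coe_polar_Q0 hrat, h]; rfl

theorem polar_lift_eq_one (hrat : RatQ F₀ Q) {u v : Fin n → F₀} (h : polar (Q0 hrat) u v = 1) :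
    polar Q (lift F₀ u) (lift F₀ v) = 1 := by
  rw [← coe_polar_Q0 hrat, h]; rfl

theorem single_eq_smul (i : Fin n) (x : F) :
    (Pi.single i x : Fin n → F) = x • (Pi.single i (1 : F) : Fin n → F) := by
  ext j
  by_cases h : j = i
  · subst h; simp
  · simp [Pi.single_apply, h]

/-- a vector orthogonal to the standard basis is orthogonal to everything -/
theorem polar_eq_zero_of_single {w : Fin n → F}
    (h : ∀ i, polar Q w (Pi.single i (1 : F)) = 0) : ∀ v, polar Q w v = 0 := by
  have e : polarBilin Q w = 0 := by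
    apply LinearMap.pi_ext
    intro i x
    rw [LinearMap.zero_apply, polarBilin_apply_apply, single_eq_smul, polar_smul_right, h i,
      smul_zero]
  intro v
  have := congrArg (fun f => f v) e
  simpa using this

variable (hnd : (polarBilin Q).Nondegenerate)

include hnd in
theorem eq_zero_of_polar_single {w : Fin n → F}
    (h : ∀ i, polar Q w (Pi.single i (1 : F)) = 0) : w = 0 := by
  apply hnd.1 w
  intro v
  rw [polarBilin_apply_apply]
  exact polar_eq_zero_of_single h v

include hnd in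
theorem eq_zero_of_polar_lift {w : Fin n → F}
    (h : ∀ u : Fin n → F₀, polar Q w (lift F₀ u) = 0) : w = 0 := by
  apply eq_zero_of_polar_single hnd
  intro i
  rw [← lift_single (F₀ := F₀)]
  exact h _

include hnd in
theorem Q0_nondeg (hrat : RatQ F₀ Q) : (polarBilin (Q0 hrat)).Nondegenerate := by
  have key : ∀ x : Fin n → F₀, (∀ y, polar (Q0 hrat) x y = 0) → x = 0 := by
    intro x hx
    apply lift_eq_zero
    apply eq_zero_of_polar_lift (F₀ := F₀) hnd
    intro u
    exact polar_lift_eq_zero hrat (hx u)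
  refine ⟨?_, ?_⟩
  · intro x hx
    apply key
    intro y
    have := hx y
    rwa [polarBilin_apply_apply] at this
  · intro x hx
    apply key
    intro y
    have := hx y
    rw [polarBilin_apply_apply] at this
    rw [polar_comm]; exact this

theorem finrank_rat : finrank F₀ (Fin n → F₀) = n := by
  rw [Module.finrank_fintype_fun_eq_card, Fintype.card_fin]

include hnd in
/-- dual lattice: a vector pairing rationally with the standard basis is rational -/
theorem isRat_of_polar_mem (hrat : RatQ F₀ Q) {w : Fin n → F}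
    (h : ∀ i, polar Q w (Pi.single i (1 : F)) ∈ F₀) : IsRat F₀ w := by
  obtain ⟨v0, hv0⟩ := exists_prescribed (Q0 hrat) (Q0_nondeg hnd hrat)
    (fun i : Fin n => (Pi.single i (1 : F₀) : Fin n → F₀))
    (Pi.linearIndependent_single_one (Fin n) F₀) (fun i => ⟨_, h i⟩)
  have e : w - lift F₀ v0 = 0 := by
    apply eq_zero_of_polar_single hnd
    intro i
    rw [polar_sub_left, ← lift_single (F₀ := F₀), ← coe_polar_Q0 hrat, hv0 i, lift_single]
    simp
  have : w = lift F₀ v0 := sub_eq_zero.mp e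
  rw [this]
  exact isRat_lift v0

include hnd in
theorem isRat_of_polar_lift_mem (hrat : RatQ F₀ Q) {w : Fin n → F}
    (h : ∀ u : Fin n → F₀, polar Q w (lift F₀ u) ∈ F₀) : IsRat F₀ w := by
  apply isRat_of_polar_mem hnd hrat
  intro i
  rw [← lift_single (F₀ := F₀)]
  exact h _

/-- the matrix of an Eichler element with rational parameters is rational -/
theorem eich_entry_mem (hrat : RatQ F₀ Q) {u z : Fin n → F} (hu : IsRat F₀ u) (hz : IsRat F₀ z)
    (hQu : Q u = 0) (huz : polar Q u z = 0) (i j : Fin n) :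
    ((eich Q u z hQu huz : ↥(isometryGroup F ⇑Q)) : GL (Fin n) F).1 i j ∈ F₀ := by
  have e : ((eich Q u z hQu huz : ↥(isometryGroup F ⇑Q)) : GL (Fin n) F).1 i j =
      act Q (eich Q u z hQu huz) (Pi.single j 1) i := by
    unfold act
    rw [Matrix.mulVec_single_one]
    rfl
  rw [e, act_eich_apply]
  have hs := isRat_single (F₀ := F₀) j
  have h1 := hrat.polar_mem hu hs
  have h2 := hrat.polar_mem hz hs
  have h3 := hrat _ hz
  have h4 : IsRat F₀ ((Pi.single j 1 : Fin n → F) + polar (⇑Q) u (Pi.single j 1) • z +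
      (-(polar (⇑Q) z (Pi.single j 1) + Q z * polar (⇑Q) u (Pi.single j 1))) • u) :=
    (hs.add (hz.smul h1)).add (hu.smul (F₀.neg_mem (F₀.add_mem h2 (F₀.mul_mem h3 h1))))
  exact h4 i

theorem eich_mem_sfs (hrat : RatQ F₀ Q) {u z : Fin n → F} (hu : IsRat F₀ u) (hz : IsRat F₀ z)
    (hQu : Q u = 0) (huz : polar Q u z = 0) :
    ((eich Q u z hQu huz : ↥(isometryGroup F ⇑Q)) : GL (Fin n) F) ∈
      Cfsg.Geo.subfieldSubgroup F₀ 1 := by
  rw [Cfsg.Agent.Lib.Helper2.Ssf.mem_subfield_iff']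
  refine ⟨1, one_ne_zero, ?_⟩
  intro i j
  rw [one_mul]
  exact eich_entry_mem hrat hu hz hQu huz i j

/-- membership in the subfield group via the action on rational vectors -/
theorem mem_sfs_of_act (g : GL (Fin n) F) (c : F) (hc : c ≠ 0)
    (h : ∀ u : Fin n → F₀, IsRat F₀ (c • (g.1 *ᵥ lift F₀ u))) :
    g ∈ Cfsg.Geo.subfieldSubgroup F₀ 1 := by
  rw [Cfsg.Agent.Lib.Helper2.Ssf.mem_subfield_iff']
  refine ⟨c, hc, ?_⟩
  intro i j
  have := h (Pi.single j 1) i
  rw [lift_single, Matrix.mulVec_single_one] at this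
  exact this

/-- elements of the subfield group act rationally up to a scalar -/
theorem act_of_mem_sfs {g : GL (Fin n) F} (hg : g ∈ Cfsg.Geo.subfieldSubgroup F₀ 1) :
    ∃ c : F, c ≠ 0 ∧ ∀ v : Fin n → F, IsRat F₀ v → IsRat F₀ (c • (g.1 *ᵥ v)) := by
  rw [Cfsg.Agent.Lib.Helper2.Ssf.mem_subfield_iff'] at hg
  obtain ⟨c, hc, h⟩ := hg
  refine ⟨c, hc, ?_⟩
  intro v hv i
  show c * (g.1 *ᵥ v) i ∈ F₀
  unfold Matrix.mulVec dotProduct
  rw [Finset.mul_sum]
  apply F₀.sum_mem
  intro j _
  rw [← mul_assoc]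
  exact F₀.mul_mem (h i j) (hv j)

end Cfsg.Agent.Lib.Helper6.Oqs
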