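import Mathlib
import Cfsg.Prelude
import Cfsg.Agent.Lib.Helper6.OqsB
import Cfsg.Agent.Lib.Helper2.SfmB

/-!
# Orthogonal subfield groups (part C): Eichler calculus of an overgroup of the rational group and
the parameter field
-/

set_option autoImplicit false
set_option maxHeartbeats 1000000
set_option linter.unusedSimpArgs false
set_option linter.unusedVariables false
set_option linter.unusedSectionVars false

namespace Cfsg.Agent.Lib.Helper6.Oqs

open Module QuadraticMap Matrix
open Cfsg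
open Cfsg.Agent.Lib.Helper5.CartanDieudonne Cfsg.Agent.Lib.Helper5.Siegel
  Cfsg.Agent.Lib.Helper5.QuadIsom Cfsg.Agent.Lib.Helper5.Eichler
  Cfsg.Agent.Lib.Helper5.OmegaSimple Cfsg.Agent.Lib.Helper5.OrthSingularMax
open Cfsg.Agent.Lib.Helper5.MaxTS Cfsg.Agent.Lib.Helper1.UoA

variable {F : Type*} [Field F] [Fintype F] {n : ℕ} {F₀ : Subfield F}
  {Q : QuadraticForm F (Fin n → F)}

section General

variable {H : Subgroup (GL (Fin n) F)}

theorem quad_comb_ts {p q : Fin n → F} (hp : Q p = 0) (hq : Q q = 0) (hpq : polar Q p q = 0)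
    (c d : F) : Q (c • p + d • q) = 0 := by
  rw [Cfsg.Agent.Lib.Helper1.UoA.quad_add', QuadraticMap.map_smul, QuadraticMap.map_smul, hp, hq,
    polar_smul_left, polar_smul_right, hpq]
  simp

theorem polar_comb_ts {p q : Fin n → F} (hp : Q p = 0) (hq : Q q = 0) (hpq : polar Q p q = 0)
    (a b c d : F) : polar Q (a • p + b • q) (c • p + d • q) = 0 := by
  have hqp : polar Q q p = 0 := by rw [polar_comm]; exact hpq
  simp only [polar_add_left, polar_add_right, polar_smul_left, polar_smul_right,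
    polar_self_sing Q hp, polar_self_sing Q hq, hpq, hqp]
  simp

/-- bivector lemma: the Eichler element of a totally singular pair depends only on the bivector -/
theorem eich_bv {p q : Fin n → F} (hp : Q p = 0) (hq : Q q = 0) (hpq : polar Q p q = 0)
    (a b c d : F) :
    eich Q (a • p + b • q) (c • p + d • q) (quad_comb_ts hp hq hpq a b)
      (polar_comb_ts hp hq hpq a b c d) =
    eich Q p ((a * d - b * c) • q) hp (by rw [polar_smul_right, hpq, smul_zero]) := by
  apply ext_act
  intro x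
  rw [act_eich_apply, act_eich_apply, quad_comb_ts hp hq hpq c d, QuadraticMap.map_smul, hq,
    polar_add_left, polar_add_left, polar_smul_left, polar_smul_left, polar_smul_left,
    polar_smul_left, polar_smul_left]
  simp only [smul_eq_mul, zero_mul, mul_zero, add_zero]
  module

theorem EH_bv {p q : Fin n → F} (hp : Q p = 0) (hq : Q q = 0) (hpq : polar Q p q = 0)
    (a b c d : F) :
    EH Q H (a • p + b • q) (c • p + d • q) ↔ EH Q H p ((a * d - b * c) • q) := by
  constructor
  · rintro ⟨h1, h2, h3⟩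
    refine ⟨hp, by rw [polar_smul_right, hpq, smul_zero], ?_⟩
    rw [← eich_bv hp hq hpq a b c d]
    exact h3
  · rintro ⟨h1, h2, h3⟩
    refine ⟨quad_comb_ts hp hq hpq a b, polar_comb_ts hp hq hpq a b c d, ?_⟩
    rw [eich_bv hp hq hpq a b c d]
    exact h3

theorem eich_self_smul {u : Fin n → F} (hu : Q u = 0) (c : F) :
    eich Q u (c • u) hu (by rw [polar_smul_right, polar_self_sing Q hu, smul_zero]) = 1 := by
  apply ext_act
  intro x
  have e1 : act Q 1 x = x := by
    show (1 : Matrix (Fin n) (Fin n) F) *ᵥ x = x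
    rw [one_mulVec]
  rw [act_eich_apply, e1, QuadraticMap.map_smul, hu, polar_smul_left]
  simp only [smul_eq_mul, mul_zero, zero_mul, add_zero]
  module

theorem EH_self {u : Fin n → F} (hu : Q u = 0) (c : F) : EH Q H u (c • u) := by
  refine ⟨hu, by rw [polar_smul_right, polar_self_sing Q hu, smul_zero], ?_⟩
  rw [eich_self_smul hu c]
  exact H.one_mem

theorem EH_add_self {u z : Fin n → F} (h : EH Q H u z) (c : F) : EH Q H u (z + c • u) :=
  EH_add h (EH_self h.1 c)

theorem EH_swap {p q : Fin n → F} (hp : Q p = 0) (hq : Q q = 0) (hpq : polar Q p q = 0) (c : F) :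
    EH Q H q (c • p) ↔ EH Q H p (c • q) := by
  have h := EH_bv (H := H) hp hq hpq 0 1 c 0
  simp only [zero_smul, one_smul, zero_add, add_zero, mul_zero, one_mul, zero_sub] at h
  rw [h]
  constructor
  · intro h1
    have := EH_neg h1
    rwa [← neg_smul, neg_neg] at this
  · intro h1
    have := EH_neg h1
    rwa [← neg_smul] at this

theorem act_eich_perp {a b v : Fin n → F} (ha : Q a = 0) (hab : polar Q a b = 0)
    (h1 : polar Q a v = 0) (h2 : polar Q b v = 0) : act Q (eich Q a b ha hab) v = v := by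
  rw [act_eich_apply, h1, h2]
  simp

end General

variable (hnd : (polarBilin Q).Nondegenerate) (hrat : RatQ F₀ Q) (hn : 13 ≤ n)
  {H : Subgroup (GL (Fin n) F)}
  (hMH : Cfsg.Geo.subfieldSubgroup F₀ 1 ⊓ Cfsg.Geo.omegaGL ⇑Q ≤ H)

include hnd hn in
theorem hyp : Hyp Q :=
  Cfsg.Agent.Lib.Helper5.OrthBridge.hyp_of_nondeg hnd (by rw [Fintype.card_fin]; omega)

include hnd hn in
theorem finrank_rat_ge : 13 ≤ finrank F₀ (Fin n → F₀) := by rw [finrank_rat]; exact hn

include hnd hrat hn hMH in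
/-- rational Eichler elements lie in the overgroup -/
theorem EH_rat {u z : Fin n → F₀} (hu : Q0 hrat u = 0) (huz : polar (Q0 hrat) u z = 0) :
    EH Q H (lift F₀ u) (lift F₀ z) := by
  refine ⟨Q_lift_eq_zero hrat hu, polar_lift_eq_zero hrat huz, ?_⟩
  apply hMH
  exact ⟨eich_mem_sfs hrat (isRat_lift u) (isRat_lift z) _ _,
    eich_mem_omegaGL (hyp hnd hn) _ _ _ _⟩

/-- the parameter predicate -/
def AP (H : Subgroup (GL (Fin n) F)) (u y : Fin n → F₀) (c : F) : Prop :=
  EH Q H (lift F₀ u) (c • lift F₀ y)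

include hnd hrat hn hMH in
theorem AP_rat {u y : Fin n → F₀} (h : TS (Q0 hrat) u y) {c : F} (hc : c ∈ F₀) :
    AP (Q := Q) H u y c := by
  have e : c • lift F₀ y = lift F₀ ((⟨c, hc⟩ : F₀) • y) := by rw [lift_smul]
  unfold AP
  rw [e]
  apply EH_rat hnd hrat hn hMH h.qu
  rw [polar_smul_right, h.uy, smul_zero]

include hrat in
theorem AP_swap {u y : Fin n → F₀} (h : TS (Q0 hrat) u y) (c : F) :
    AP (Q := Q) H y u c ↔ AP (Q := Q) H u y c :=
  EH_swap (Q_lift_eq_zero hrat h.qu) (Q_lift_eq_zero hrat h.qy) (polar_lift_eq_zero hrat h.uy) c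

include hnd hrat hn hMH in
/-- MOVE -/
theorem AP_move {u y z : Fin n → F₀} (h1 : TS (Q0 hrat) u y) (h2 : TS (Q0 hrat) u z)
    (hyz : polar (Q0 hrat) y z = 0) (hind : y ∉ Submodule.span F₀ {u, z}) {c : F}
    (hc : AP (Q := Q) H u y c) : AP (Q := Q) H u z c := by
  have hzy : polar (Q0 hrat) z y = 0 := by rw [polar_comm]; exact hyz
  obtain ⟨y', hy', hy'u, hy'z, hyy'⟩ := exists_partner_perp2 (Q0_nondeg hnd hrat) h1.uy hzy h1.qy hind
  have hy'z' : polar (Q0 hrat) y' z = 0 := by rw [polar_comm]; exact hy'z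
  have hg := EH_rat hnd hrat hn hMH hy' hy'z'
  obtain ⟨g1, g2, g3⟩ := hg
  have hconj := EH_conj (eich Q (lift F₀ y') (lift F₀ z) g1 g2) g3 hc
  have e1 : act Q (eich Q (lift F₀ y') (lift F₀ z) g1 g2) (lift F₀ u) = lift F₀ u := by
    apply act_eich_perp
    · rw [polar_comm]; exact polar_lift_eq_zero hrat hy'u
    · rw [polar_comm]; exact polar_lift_eq_zero hrat h2.uy
  have e2 : act Q (eich Q (lift F₀ y') (lift F₀ z) g1 g2) (c • lift F₀ y) =
      c • lift F₀ y + c • lift F₀ z := by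
    rw [act_eich_apply, polar_smul_right, polar_smul_right, Q_lift_eq_zero hrat h2.qy,
      polar_lift_eq_zero hrat hzy, polar_comm (⇑Q) (lift F₀ y') (lift F₀ y),
      polar_lift_eq_one hrat hyy']
    simp
  rw [e1, e2] at hconj
  have := EH_sub hconj hc
  rw [add_sub_cancel_left] at this
  exact this

include hnd hrat hn hMH in
theorem AP_move_iff {u y z : Fin n → F₀} (h1 : TS (Q0 hrat) u y) (h2 : TS (Q0 hrat) u z)
    (hyz : polar (Q0 hrat) y z = 0) (hz : z ∉ Submodule.span F₀ {u, y}) (c : F) :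
    AP (Q := Q) H u y c ↔ AP (Q := Q) H u z c := by
  have hzy : polar (Q0 hrat) z y = 0 := by rw [polar_comm]; exact hyz
  constructor
  · exact AP_move hnd hrat hn hMH h1 h2 hyz (not_mem_span_pair_swap h1.ind hz)
  · exact AP_move hnd hrat hn hMH h2 h1 hzy hz

include hnd hrat hn hMH in
/-- reach a pair in general position -/
theorem AP_reach {u y z z' : Fin n → F₀} (h : TS (Q0 hrat) u y) (hz : Q0 hrat z = 0)
    (hz' : Q0 hrat z' = 0) (huz : polar (Q0 hrat) u z = 0) (hyz : polar (Q0 hrat) y z = 0)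
    (huz' : polar (Q0 hrat) u z' = 0) (hzz' : polar (Q0 hrat) z z' = 0)
    (h1 : z ∉ Submodule.span F₀ {u, y}) (h2 : z' ∉ Submodule.span F₀ {u, z}) (c : F) :
    AP (Q := Q) H u y c ↔ AP (Q := Q) H z z' c := by
  have hzu : z ∉ Submodule.span F₀ {u} := by
    intro hh
    apply h1
    have : Submodule.span F₀ ({u} : Set (Fin n → F₀)) ≤ Submodule.span F₀ {u, y} :=
      Submodule.span_mono (by simp)
    exact this hh
  have t1 : TS (Q0 hrat) u z := ⟨h.qu, hz, huz, h.ne, hzu⟩
  have t2 : TS (Q0 hrat) z u := t1.symm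
  have hz'z : z' ∉ Submodule.span F₀ {z} := by
    intro hh
    apply h2
    have : Submodule.span F₀ ({z} : Set (Fin n → F₀)) ≤ Submodule.span F₀ {u, z} :=
      Submodule.span_mono (by simp)
    exact this hh
  have t3 : TS (Q0 hrat) z z' := ⟨hz, hz', hzz', t1.ne', hz'z⟩
  have h2' : z' ∉ Submodule.span F₀ {z, u} := by
    rw [Set.pair_comm]; exact h2
  rw [AP_move_iff hnd hrat hn hMH h t1 hyz h1 c, ← AP_swap hrat t1 c,
    AP_move_iff hnd hrat hn hMH t2 t3 huz' h2' c]

include hnd hrat hn hMH in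
/-- the parameter set does not depend on the pair -/
theorem AP_indep {u y u' y' : Fin n → F₀} (h : TS (Q0 hrat) u y) (h' : TS (Q0 hrat) u' y')
    (c : F) : AP (Q := Q) H u y c ↔ AP (Q := Q) H u' y' c := by
  obtain ⟨z, z', hz, hz', hzz', a1, a2, a3, a4, b1, b2, b3, b4, c1, c2, c3, c4, c5, c6⟩ :=
    exists_connect (Q0_nondeg hnd hrat) (finrank_rat_ge hnd hn) u y u' y'
  have hz'z : polar (Q0 hrat) z' z = 0 := by rw [polar_comm]; exact hzz'
  have hz'z0 : z' ∉ Submodule.span F₀ {z} := by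
    intro hh
    apply c3
    have : Submodule.span F₀ ({z} : Set (Fin n → F₀)) ≤ Submodule.span F₀ {u, z} :=
      Submodule.span_mono (by simp)
    exact this hh
  have hzne : z ≠ 0 := by
    rintro rfl
    exact c1 (Submodule.zero_mem _)
  have t : TS (Q0 hrat) z z' := ⟨hz, hz', hzz', hzne, hz'z0⟩
  rw [AP_reach hnd hrat hn hMH h hz hz' a1 a2 b1 hzz' c1 c3 c,
    AP_reach hnd hrat hn hMH h' hz' hz b3 b4 a3 hz'z c4 c6 c, AP_swap hrat t c]

include hnd hrat hn hMH in
/-- multiplicativity -/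
theorem AP_mul {u z : Fin n → F₀} (h : TS (Q0 hrat) u z) {c c' : F} (hc : AP (Q := Q) H u z c)
    (hc' : AP (Q := Q) H u z c') : AP (Q := Q) H u z (c * c') := by
  obtain ⟨y, y', hy, hy', hyy', hu1, hz1, hu2, hz2⟩ :=
    exists_hyp_perp2 (Q0_nondeg hnd hrat) (by have := finrank_rat_ge (F₀ := F₀) hnd hn; omega) u z
  have hyu : y ∉ Submodule.span F₀ {u} := by
    intro hh
    rw [Submodule.mem_span_singleton] at hh
    obtain ⟨a, rfl⟩ := hh
    rw [polar_smul_left, hu2, smul_zero] at hyy'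
    exact zero_ne_one hyy'
  have t1 : TS (Q0 hrat) u y := ⟨h.qu, hy, hu1, h.ne, hyu⟩
  have hy'0 : y' ≠ 0 := by
    rintro rfl
    rw [polar_zero_right] at hyy'
    exact zero_ne_one hyy'
  have hzy' : z ∉ Submodule.span F₀ {y'} := by
    intro hh
    rw [Submodule.mem_span_singleton] at hh
    obtain ⟨a, ha⟩ := hh
    have e : polar (Q0 hrat) y z = a := by
      rw [← ha, polar_smul_right, hyy']; simp
    rw [polar_comm, hz1] at e
    subst e
    rw [zero_smul] at ha
    exact h.ne' ha.symm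
  have hy'z : polar (Q0 hrat) y' z = 0 := by rw [polar_comm]; exact hz2
  have t2 : TS (Q0 hrat) y' z := ⟨hy', h.qy, hy'z, hy'0, hzy'⟩
  have k1 : AP (Q := Q) H u y c := (AP_indep hnd hrat hn hMH h t1 c).mp hc
  have k2 : AP (Q := Q) H y' z c' := (AP_indep hnd hrat hn hMH h t2 c').mp hc'
  obtain ⟨g1, g2, g3⟩ := k2
  have hconj := EH_conj (eich Q (lift F₀ y') (c' • lift F₀ z) g1 g2) g3 k1
  have e1 : act Q (eich Q (lift F₀ y') (c' • lift F₀ z) g1 g2) (lift F₀ u) = lift F₀ u := by
    apply act_eich_perp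
    · rw [polar_comm]; exact polar_lift_eq_zero hrat hu2
    · rw [polar_smul_left, polar_comm, polar_lift_eq_zero hrat h.uy, smul_zero]
  have e2 : act Q (eich Q (lift F₀ y') (c' • lift F₀ z) g1 g2) (c • lift F₀ y) =
      c • lift F₀ y + (c * c') • lift F₀ z := by
    rw [act_eich_apply, polar_smul_right, polar_smul_right, polar_smul_left,
      QuadraticMap.map_smul, Q_lift_eq_zero hrat h.qy, polar_lift_eq_zero hrat hz1,
      polar_comm (⇑Q) (lift F₀ y') (lift F₀ y), polar_lift_eq_one hrat hyy']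
    simp only [smul_eq_mul, mul_zero, mul_one, zero_mul, add_zero, neg_zero, zero_smul, smul_smul]
  rw [e1, e2] at hconj
  have := EH_sub hconj k1
  rw [add_sub_cancel_left] at this
  exact this

theorem AP_add {u z : Fin n → F₀} {c c' : F} (hc : AP (Q := Q) H u z c)
    (hc' : AP (Q := Q) H u z c') : AP (Q := Q) H u z (c + c') := by
  unfold AP
  rw [add_smul]
  exact EH_add hc hc'

theorem AP_neg {u z : Fin n → F₀} {c : F} (hc : AP (Q := Q) H u z c) :
    AP (Q := Q) H u z (-c) := by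
  unfold AP
  rw [neg_smul]
  exact EH_neg hc

include hnd hrat hn hMH in
theorem AP_pow {u z : Fin n → F₀} (h : TS (Q0 hrat) u z) {c : F} (hc : AP (Q := Q) H u z c)
    (k : ℕ) : AP (Q := Q) H u z (c ^ k) := by
  induction k with
  | zero =>
    rw [pow_zero]
    exact AP_rat hnd hrat hn hMH h F₀.one_mem
  | succ k ih =>
    rw [pow_succ]
    exact AP_mul hnd hrat hn hMH h ih hc

/-- the parameter field -/
def parField {u z : Fin n → F₀} (h : TS (Q0 hrat) u z) : Subfield F where
  carrier := {c | AP (Q := Q) H u z c}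
  mul_mem' := fun {a b} ha hb => AP_mul hnd hrat hn hMH h ha hb
  one_mem' := AP_rat hnd hrat hn hMH h F₀.one_mem
  add_mem' := fun {a b} ha hb => AP_add ha hb
  zero_mem' := AP_rat hnd hrat hn hMH h F₀.zero_mem
  neg_mem' := fun {a} ha => AP_neg ha
  inv_mem' := by
    intro a ha
    by_cases ha0 : a = 0
    · subst ha0
      rw [_root_.inv_zero]
      exact ha
    · have e : a⁻¹ = a ^ (Fintype.card F - 2) := by
        have h1 : a ^ (Fintype.card F - 1) = 1 := FiniteField.pow_card_sub_one_eq_one a ha0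
        have h2 : 2 ≤ Fintype.card F := Fintype.one_lt_card
        have h3 : a * a ^ (Fintype.card F - 2) = 1 := by
          rw [← pow_succ', ← h1]
          congr 1
          omega
        exact (eq_inv_of_mul_eq_one_right h3).symm ▸ rfl
      rw [e]
      exact AP_pow hnd hrat hn hMH h ha _

theorem mem_parField {u z : Fin n → F₀} (h : TS (Q0 hrat) u z) (c : F) :
    c ∈ parField hnd hrat hn hMH h ↔ AP (Q := Q) H u z c := Iff.rfl

theorem le_parField {u z : Fin n → F₀} (h : TS (Q0 hrat) u z) :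
    F₀ ≤ parField hnd hrat hn hMH h := fun c hc => AP_rat hnd hrat hn hMH h hc

/-- full parameters -/
def Full (H : Subgroup (GL (Fin n) F)) (hrat : RatQ F₀ Q) : Prop :=
  ∀ (u y : Fin n → F₀), TS (Q0 hrat) u y → ∀ c : F, AP (Q := Q) H u y c

/-- only rational parameters -/
def NoBad (H : Subgroup (GL (Fin n) F)) (hrat : RatQ F₀ Q) : Prop :=
  ∀ (u y : Fin n → F₀), TS (Q0 hrat) u y → ∀ c : F, AP (Q := Q) H u y c → c ∈ F₀

include hnd hn in
theorem exists_TS : ∃ u y : Fin n → F₀, TS (Q0 hrat) u y := by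
  obtain ⟨u, u', hu, hu', h1, -⟩ := exists_hyp_perp2 (Q0_nondeg hnd hrat)
    (by have := finrank_rat_ge (F₀ := F₀) hnd hn; omega) (0 : Fin n → F₀) 0
  have hu0 : u ≠ 0 := by
    rintro rfl
    rw [polar_zero_left] at h1
    exact zero_ne_one h1
  obtain ⟨y, y', hy, hy', h2, h3, h4, h5, h6⟩ := exists_hyp_perp2 (Q0_nondeg hnd hrat)
    (by have := finrank_rat_ge (F₀ := F₀) hnd hn; omega) u u'
  refine ⟨u, y, hu, hy, h3, hu0, ?_⟩
  intro hh
  rw [Submodule.mem_span_singleton] at hh
  obtain ⟨a, rfl⟩ := hh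
  rw [polar_smul_left, h5, smul_zero] at h2
  exact zero_ne_one h2

include hnd hrat hn hMH in
/-- dichotomy -/
theorem full_or_noBad (r : ℕ) (hr : r.Prime) (hcard : Fintype.card F = Nat.card F₀ ^ r) :
    Full H hrat ∨ NoBad H hrat := by
  obtain ⟨u, y, h⟩ := exists_TS hnd hrat hn
  rcases Cfsg.Agent.Lib.Helper2.Sfm.subfield_eq_or_eq_top F₀ (parField hnd hrat hn hMH h)
    (le_parField hnd hrat hn hMH h) r hr hcard with h1 | h1
  · right
    intro u' y' h' c hc
    have : c ∈ parField hnd hrat hn hMH h := (AP_indep hnd hrat hn hMH h h' c).mpr hc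
    rw [h1] at this
    exact this
  · left
    intro u' y' h' c
    have : c ∈ parField hnd hrat hn hMH h := by rw [h1]; trivial
    exact (AP_indep hnd hrat hn hMH h h' c).mp this

end Cfsg.Agent.Lib.Helper6.Oqs
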