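import Mathlib
import Cfsg.Prelude
import Cfsg.Agent.Lib.Helper6.OqsC

/-!
# Orthogonal subfield groups (part D): full parameters give all of `Ω`; the rational group is proper
-/

set_option autoImplicit false
set_option maxHeartbeats 1000000
set_option linter.unusedSimpArgs false
set_option linter.unusedVariables false
set_option linter.unusedSectionVars false

namespace Cfsg.Agent.Lib.Helper6.Oqs

open Module QuadraticMap Matrix
open Cfsg
open Cfsg.Agent.Lib.Helper5.CartanDieudonne Cfsg.Agent.Lib.Helper5.Siegel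
  Cfsg.Agent.Lib.Helper5.QuadIsom Cfsg.Agent.Lib.Helper5.Eichler
  Cfsg.Agent.Lib.Helper5.OmegaSimple Cfsg.Agent.Lib.Helper5.OrthSingularMax
open Cfsg.Agent.Lib.Helper5.MaxTS Cfsg.Agent.Lib.Helper1.UoA

variable {F : Type*} [Field F] [Fintype F] {n : ℕ} {F₀ : Subfield F}
  {Q : QuadraticForm F (Fin n → F)}

theorem quad_sub' (x y : Fin n → F) : Q (x - y) = Q x + Q y - polar Q x y := by
  rw [sub_eq_add_neg, Cfsg.Agent.Lib.Helper1.UoA.quad_add', QuadraticMap.map_neg, polar_neg_right]
  ring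

theorem vec_eq_sum (w : Fin n → F) : w = ∑ i, w i • (Pi.single i (1 : F) : Fin n → F) := by
  ext j
  rw [Finset.sum_apply]
  simp [Pi.single_apply]

theorem polar_eq_sum (U w : Fin n → F) :
    polar Q U w = ∑ i, w i * polar Q U (Pi.single i (1 : F)) := by
  conv_lhs => rw [vec_eq_sum w]
  have h := map_sum (polarBilin Q U) (fun i => w i • (Pi.single i (1 : F) : Fin n → F)) Finset.univ
  simp only [polarBilin_apply_apply] at h
  rw [h]
  apply Finset.sum_congr rfl
  intro i _
  rw [polar_smul_right, smul_eq_mul]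

variable (hnd : (polarBilin Q).Nondegenerate) (hrat : RatQ F₀ Q) (hn : 13 ≤ n)
  {H : Subgroup (GL (Fin n) F)}
  (hMH : Cfsg.Geo.subfieldSubgroup F₀ 1 ⊓ Cfsg.Geo.omegaGL ⇑Q ≤ H)

include hnd hn in
/-- induction over rational singular vectors orthogonal to a rational vector -/
theorem rat_sing_induction (u : Fin n → F₀) (P : (Fin n → F₀) → Prop)
    (hadd : ∀ x y, P x → P y → P (x + y))
    (hs : ∀ s, Q0 hrat s = 0 → polar (Q0 hrat) u s = 0 → P s) :
    ∀ y, polar (Q0 hrat) u y = 0 → P y := by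
  intro y hy
  have h1 := finrank_span_singleton_le' (K := F₀) u
  have h13 := finrank_rat_ge (F₀ := F₀) hnd hn
  refine sing_induction (Q0 hrat) (Q0_nondeg hnd hrat) (Submodule.span F₀ {u}) (by omega) P hadd
    ?_ y ((mem_orth_span_singleton _ _ _).mpr hy)
  intro s hs1 hs2
  exact hs s hs2 ((mem_orth_span_singleton _ _ _).mp hs1)

include hnd hn in
/-- induction over all rational singular vectors -/
theorem rat_sing_induction_top (P : (Fin n → F₀) → Prop)
    (hadd : ∀ x y, P x → P y → P (x + y)) (hs : ∀ s, Q0 hrat s = 0 → P s) : ∀ y, P y := by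
  intro y
  apply rat_sing_induction hnd hrat hn 0 P hadd (fun s h1 _ => hs s h1) y
  rw [polar_zero_left]

include hnd hrat hn hMH in
theorem full_rat (hF : Full H hrat) {u : Fin n → F₀} (hu0 : u ≠ 0) (hu : Q0 hrat u = 0)
    (y : Fin n → F₀) (hy : polar (Q0 hrat) u y = 0) (c : F) :
    EH Q H (lift F₀ u) (c • lift F₀ y) := by
  revert c
  apply rat_sing_induction hnd hrat hn u (fun y => ∀ c : F, EH Q H (lift F₀ u) (c • lift F₀ y)) ?_ ?_ y hy
  · intro x y hx hy c
    rw [lift_add, smul_add]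
    exact EH_add (hx c) (hy c)
  · intro s hs hus c
    by_cases hsu : s ∈ Submodule.span F₀ {u}
    · rw [Submodule.mem_span_singleton] at hsu
      obtain ⟨a, rfl⟩ := hsu
      rw [lift_smul, smul_smul]
      exact EH_self (Q_lift_eq_zero hrat hu) _
    · exact hF u s ⟨hu, hs, hus, hu0, hsu⟩ c

include hnd hrat hn hMH in
/-- under full parameters a rational singular vector is a centre -/
theorem full_perp (hF : Full H hrat) {u : Fin n → F₀} (hu0 : u ≠ 0) (hu : Q0 hrat u = 0)
    (w : Fin n → F) (hw : polar Q (lift F₀ u) w = 0) : EH Q H (lift F₀ u) w := by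
  set U := lift F₀ u with hU
  have hU0 : U ≠ 0 := lift_ne_zero hu0
  obtain ⟨i0, hi0⟩ : ∃ i0, polar Q U (Pi.single i0 (1 : F)) ≠ 0 := by
    by_contra hcon
    push Not at hcon
    exact hU0 (eq_zero_of_polar_single hnd hcon)
  set φ : Fin n → F := fun i => polar Q U (Pi.single i (1 : F)) with hφ
  have hφm : ∀ i, φ i ∈ F₀ := fun i => hrat.polar_mem (isRat_lift u) (isRat_single i)
  -- the rational vectors y_i
  let yv : Fin n → (Fin n → F₀) := fun i =>
    (Pi.single i (1 : F₀) : Fin n → F₀) -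
      ((⟨φ i, hφm i⟩ : F₀) * (⟨φ i0, hφm i0⟩ : F₀)⁻¹) • (Pi.single i0 (1 : F₀) : Fin n → F₀)
  have hyl : ∀ i, lift F₀ (yv i) = (Pi.single i (1 : F) : Fin n → F) -
      (φ i * (φ i0)⁻¹) • (Pi.single i0 (1 : F) : Fin n → F) := by
    intro i
    simp only [yv]
    rw [lift_sub, lift_smul, lift_single, lift_single]
    simp
  have hyp : ∀ i, polar (Q0 hrat) u (yv i) = 0 := by
    intro i
    apply Subtype.ext
    rw [coe_polar_Q0, hyl, polar_sub_right, polar_smul_right]
    show φ i - (φ i * (φ i0)⁻¹) • φ i0 = ((0 : F₀) : F)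
    rw [smul_eq_mul, mul_assoc, inv_mul_cancel₀ hi0]
    simp
  have hsum : w = ∑ i, w i • lift F₀ (yv i) := by
    have h1 : ∑ i, w i • lift F₀ (yv i) =
        ∑ i, w i • (Pi.single i (1 : F) : Fin n → F) -
          (∑ i, w i * φ i) • ((φ i0)⁻¹ • (Pi.single i0 (1 : F) : Fin n → F)) := by
      rw [Finset.sum_smul, ← Finset.sum_sub_distrib]
      apply Finset.sum_congr rfl
      intro i _
      rw [hyl, smul_sub, smul_smul, smul_smul, mul_assoc]
    rw [h1, ← vec_eq_sum, ← polar_eq_sum, hw, zero_smul, sub_zero]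
  rw [hsum]
  apply Finset.sum_induction _ (fun x => EH Q H U x)
  · intro a b ha hb; exact EH_add ha hb
  · have := EH_self (H := H) (Q_lift_eq_zero hrat hu) 0
    rwa [zero_smul] at this
  · intro i _
    exact full_rat hnd hrat hn hMH hF hu0 hu (yv i) (hyp i) (w i)

include hnd hrat hn hMH in
theorem full_isCentre_rat (hF : Full H hrat) {u : Fin n → F₀} (hu0 : u ≠ 0)
    (hu : Q0 hrat u = 0) : IsCentre Q H (lift F₀ u) := by
  refine ⟨Q_lift_eq_zero hrat hu, ?_⟩
  intro hu' z huz
  obtain ⟨_, _, h⟩ := full_perp hnd hrat hn hMH hF hu0 hu z huz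
  exact h

include hnd hn in
/-- every nonzero vector is non-orthogonal to a rational singular vector -/
theorem exists_rat_sing_not_perp {v : Fin n → F} (hv : v ≠ 0) :
    ∃ u : Fin n → F₀, Q0 hrat u = 0 ∧ polar Q (lift F₀ u) v ≠ 0 := by
  by_contra hcon
  push Not at hcon
  apply hv
  apply eq_zero_of_polar_lift (F₀ := F₀) hnd
  intro y
  rw [polar_comm]
  revert y
  apply rat_sing_induction_top hnd hrat hn (fun y => polar Q (lift F₀ y) v = 0)
  · intro x y hx hy
    rw [lift_add, polar_add_left, hx, hy, add_zero]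
  · intro s hs
    exact hcon s hs

include hnd hrat hn hMH in
theorem full_isCentre (hF : Full H hrat) (v : Fin n → F) (hv : Q v = 0) : IsCentre Q H v := by
  by_cases hv0 : v = 0
  · subst hv0; exact isCentre_zero H
  obtain ⟨u, hu, huv⟩ := exists_rat_sing_not_perp hnd hrat hn hv0
  have hu0 : u ≠ 0 := by
    rintro rfl
    rw [lift_zero, polar_zero_left] at huv
    exact huv rfl
  obtain ⟨u', hu', huu'⟩ := exists_partner (Q0_nondeg hnd hrat) hu0 hu
  have hu'0 : u' ≠ 0 := by
    rintro rfl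
    rw [polar_zero_right] at huu'
    exact zero_ne_one huu'
  set U := lift F₀ u with hU
  set U' := lift F₀ u' with hU'
  have hQU : Q U = 0 := Q_lift_eq_zero hrat hu
  have hQU' : Q U' = 0 := Q_lift_eq_zero hrat hu'
  have hUU' : polar Q U U' = 1 := polar_lift_eq_one hrat huu'
  set κ := polar Q U v with hκ
  set v1 := κ⁻¹ • v with hv1
  have hQv1 : Q v1 = 0 := by rw [hv1, QuadraticMap.map_smul, hv, smul_zero]
  have hUv1 : polar Q U v1 = 1 := by
    rw [hv1, polar_smul_right, smul_eq_mul, inv_mul_cancel₀ huv]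
  have hUz : polar Q U (v1 - U') = 0 := by rw [polar_sub_right, hUv1, hUU', sub_self]
  obtain ⟨g1, g2, g3⟩ := full_perp hnd hrat hn hMH hF hu0 hu (v1 - U') hUz
  have hc' := full_isCentre_rat hnd hrat hn hMH hF hu'0 hu'
  have hact : act Q (eich Q U (v1 - U') g1 g2) U' = v1 := by
    rw [act_eich_apply, hUU', quad_sub', hQv1, hQU', polar_sub_left, polar_self_sing Q hQU']
    simp only [one_smul, mul_one, zero_add, sub_zero]
    have : -(polar (⇑Q) v1 U' + (0 - polar (⇑Q) v1 U')) = (0 : F) := by ring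
    rw [this, zero_smul, add_zero]
    abel
  have h1 := isCentre_act (eich Q U (v1 - U') g1 g2) g3 hc'
  rw [hact] at h1
  have h2 := isCentre_smul κ h1
  rwa [hv1, smul_smul, mul_inv_cancel₀ huv, one_smul] at h2

include hnd hrat hn hMH in
/-- full parameters give all of `Ω` -/
theorem omega_le_of_full (hF : Full H hrat) : Cfsg.Geo.omegaGL ⇑Q ≤ H :=
  omegaGL_le (hyp hnd hn) (fun u hu => full_isCentre hnd hrat hn hMH hF u hu)

include hnd hrat hn in
/-- the rational group is a proper subgroup of `Ω` -/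
theorem exists_not_mem_sfs (hlt : F₀ ≠ ⊤) :
    ∃ g ∈ Cfsg.Geo.omegaGL ⇑Q, g ∉ Cfsg.Geo.subfieldSubgroup F₀ 1 := by
  obtain ⟨u, y, h⟩ := exists_TS hnd hrat hn
  obtain ⟨u', y', hu', hy', h1, h2, h3, h4, h5⟩ := exists_frame (Q0_nondeg hnd hrat) h
  obtain ⟨θ, hθ⟩ : ∃ θ : F, θ ∉ F₀ := by
    by_contra hcon
    push Not at hcon
    apply hlt
    rw [eq_top_iff]
    intro x _
    exact hcon x
  set U := lift F₀ u with hU
  set Y := lift F₀ y with hY
  set U' := lift F₀ u' with hU'
  have hQU : Q U = 0 := Q_lift_eq_zero hrat h.qu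
  have hQY : Q Y = 0 := Q_lift_eq_zero hrat h.qy
  have hUY : polar Q U Y = 0 := polar_lift_eq_zero hrat h.uy
  have hUθY : polar Q U (θ • Y) = 0 := by rw [polar_smul_right, hUY, smul_zero]
  refine ⟨_, eich_mem_omegaGL (hyp hnd hn) U (θ • Y) hQU hUθY, ?_⟩
  intro hmem
  obtain ⟨c, hc0, hc⟩ := act_of_mem_sfs hmem
  have e1 : act Q (eich Q U (θ • Y) hQU hUθY) Y = Y := by
    apply act_eich_perp
    · exact hUY
    · rw [polar_smul_left, polar_self_sing Q hQY, smul_zero]
  have hcF : c ∈ F₀ := by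
    have := hc Y (isRat_lift y)
    have e : ((eich Q U (θ • Y) hQU hUθY : ↥(isometryGroup F ⇑Q)) : GL (Fin n) F).1 *ᵥ Y = Y := e1
    rw [e] at this
    exact (isRat_lift y).scalar_mem (lift_ne_zero h.ne') this
  have e2 : act Q (eich Q U (θ • Y) hQU hUθY) U' = U' + θ • Y := by
    rw [act_eich_apply, polar_lift_eq_one hrat h1, polar_smul_left, polar_lift_eq_zero hrat h2,
      QuadraticMap.map_smul, hQY]
    simp
  have h6 := hc U' (isRat_lift u')
  have e : ((eich Q U (θ • Y) hQU hUθY : ↥(isometryGroup F ⇑Q)) : GL (Fin n) F).1 *ᵥ U' =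
      U' + θ • Y := e2
  rw [e] at h6
  have h7 : IsRat F₀ (U' + θ • Y) := by
    have := h6.smul (F₀.inv_mem hcF)
    rwa [smul_smul, inv_mul_cancel₀ hc0, one_smul] at this
  have h8 : IsRat F₀ (θ • Y) := by
    have := h7.sub (isRat_lift u')
    rwa [add_sub_cancel_left] at this
  exact hθ ((isRat_lift y).scalar_mem (lift_ne_zero h.ne') h8)

end Cfsg.Agent.Lib.Helper6.Oqs
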