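import Mathlib
import Cfsg.Prelude
import Cfsg.Agent.Lib.Helper6.OqsD

/-!
# Orthogonal subfield groups (part E): consequences of `NoBad`: the structure of `E_u` for a
rational singular `u`, and a spanning lemma
-/

set_option autoImplicit false
set_option maxHeartbeats 1000000
set_option linter.unusedSimpArgs false
set_option linter.unusedVariables false
set_option linter.unusedSectionVars false

namespace Cfsg.Agent.Lib.Helper6.Oqs

open Module QuadraticMap Matrix
open Cfsg
open Cfsg.Agent.Lib.Helper5.CartanDieudonne Cfsg.Agent.Lib.Helper5.Siegel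
  Cfsg.Agent.Lib.Helper5.QuadIsom Cfsg.Agent.Lib.Helper5.Eichler
  Cfsg.Agent.Lib.Helper5.OmegaSimple Cfsg.Agent.Lib.Helper5.OrthSingularMax
open Cfsg.Agent.Lib.Helper5.MaxTS Cfsg.Agent.Lib.Helper1.UoA

variable {F : Type*} [Field F] [Fintype F] {n : ℕ} {F₀ : Subfield F}
  {Q : QuadraticForm F (Fin n → F)}

theorem EH_smul_left {H : Subgroup (GL (Fin n) F)} {u z : Fin n → F} {c : F} (hc : c ≠ 0)
    (hu : Q u = 0) (h : EH Q H (c • u) z) : EH Q H u (c • z) := by
  obtain ⟨h1, h2, h3⟩ := h
  have h5 : polar Q u z = 0 := by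
    rw [polar_smul_left, smul_eq_mul] at h2
    exact (mul_eq_zero.mp h2).resolve_left hc
  have h4 : polar Q u (c • z) = 0 := by rw [polar_smul_right, h5, smul_zero]
  refine ⟨hu, h4, ?_⟩
  rw [← eich_smul_left Q u z hu h5 c]
  exact h3

variable (hnd : (polarBilin Q).Nondegenerate) (hrat : RatQ F₀ Q) (hn : 13 ≤ n)
  {H : Subgroup (GL (Fin n) F)}
  (hMH : Cfsg.Geo.subfieldSubgroup F₀ 1 ⊓ Cfsg.Geo.omegaGL ⇑Q ≤ H)

include hnd hrat hn hMH in
/-- pairing of `w ∈ E_u` with a rational singular vector of `u^⊥` is rational -/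
theorem noBad_pair_sing (hNB : NoBad H hrat) {u : Fin n → F₀} (hu0 : u ≠ 0) (hu : Q0 hrat u = 0)
    {w : Fin n → F} (hw : EH Q H (lift F₀ u) w) {a : Fin n → F₀} (ha : Q0 hrat a = 0)
    (hua : polar (Q0 hrat) u a = 0) : polar Q (lift F₀ a) w ∈ F₀ := by
  by_cases hau : a ∈ Submodule.span F₀ {u}
  · rw [Submodule.mem_span_singleton] at hau
    obtain ⟨t, rfl⟩ := hau
    rw [lift_smul, polar_smul_left, hw.2.1, smul_zero]
    exact F₀.zero_mem
  have hts : TS (Q0 hrat) u a := ⟨hu, ha, hua, hu0, hau⟩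
  obtain ⟨b, b', hb, hb', hbb', hub, hab, hub', hab'⟩ :=
    exists_hyp_perp2 (Q0_nondeg hnd hrat) (by have := finrank_rat_ge (F₀ := F₀) hnd hn; omega) u a
  set U := lift F₀ u with hU
  set A := lift F₀ a with hA
  set B := lift F₀ b with hB
  set B' := lift F₀ b' with hB'
  have hQA : Q A = 0 := Q_lift_eq_zero hrat ha
  have hQB : Q B = 0 := Q_lift_eq_zero hrat hb
  have hQB' : Q B' = 0 := Q_lift_eq_zero hrat hb'
  have hAU : polar Q A U = 0 := by rw [polar_comm]; exact polar_lift_eq_zero hrat hua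
  have hBU : polar Q B U = 0 := by rw [polar_comm]; exact polar_lift_eq_zero hrat hub
  have hB'U : polar Q B' U = 0 := by rw [polar_comm]; exact polar_lift_eq_zero hrat hub'
  have hAB : polar Q A B = 0 := polar_lift_eq_zero hrat hab
  have hAB' : polar Q A B' = 0 := polar_lift_eq_zero hrat hab'
  have hB'B : polar Q B' B = 1 := by rw [polar_comm]; exact polar_lift_eq_one hrat hbb'
  obtain ⟨g1, g2, g3⟩ := EH_rat hnd hrat hn hMH ha hab
  obtain ⟨k1, k2, k3⟩ := EH_rat hnd hrat hn hMH ha hab'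
  set α := polar Q A w with hα
  set β := polar Q B w with hβ
  have c1 := EH_conj (eich Q A B g1 g2) g3 hw
  have e1 : act Q (eich Q A B g1 g2) U = U := act_eich_perp g1 g2 hAU hBU
  have e2 : act Q (eich Q A B g1 g2) w = w + (α • B - β • A) := by
    rw [act_eich_apply, hQB]
    simp only [zero_mul, add_zero]
    module
  rw [e1, e2] at c1
  have c2 := EH_sub c1 hw
  rw [add_sub_cancel_left] at c2
  have c3 := EH_conj (eich Q A B' k1 k2) k3 c2
  have e3 : act Q (eich Q A B' k1 k2) U = U := act_eich_perp k1 k2 hAU hB'U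
  have e4 : act Q (eich Q A B' k1 k2) (α • B - β • A) = (α • B - β • A) - α • A := by
    rw [act_eich_apply, hQB', polar_sub_right, polar_sub_right, polar_smul_right, polar_smul_right,
      polar_smul_right, polar_smul_right, hAB, polar_self_sing Q hQA, hB'B,
      polar_comm (⇑Q) B' A, hAB']
    simp only [smul_eq_mul, mul_zero, mul_one, zero_mul, add_zero, sub_zero, sub_self, zero_smul]
    module
  rw [e3, e4] at c3
  have c4 := EH_sub c3 c2
  rw [sub_sub_cancel_left] at c4
  have c5 : AP (Q := Q) H u a (-α) := by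
    unfold AP
    rw [neg_smul]
    exact c4
  have := hNB u a hts (-α) c5
  have h2 := F₀.neg_mem this
  rwa [neg_neg] at h2

include hnd hrat hn hMH in
/-- pairing of `w ∈ E_u` with any rational vector of `u^⊥` is rational -/
theorem noBad_pair (hNB : NoBad H hrat) {u : Fin n → F₀} (hu0 : u ≠ 0) (hu : Q0 hrat u = 0)
    {w : Fin n → F} (hw : EH Q H (lift F₀ u) w) (y : Fin n → F₀)
    (huy : polar (Q0 hrat) u y = 0) : polar Q (lift F₀ y) w ∈ F₀ := by
  apply rat_sing_induction hnd hrat hn u (fun y => polar Q (lift F₀ y) w ∈ F₀) ?_ ?_ y huy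
  · intro x y hx hy
    rw [lift_add, polar_add_left]
    exact F₀.add_mem hx hy
  · intro s hs hus
    exact noBad_pair_sing hnd hrat hn hMH hNB hu0 hu hw hs hus

include hnd hrat hn hMH in
/-- `E_u = (V₀ ∩ u^⊥) + F u` under `NoBad` -/
theorem noBad_struct (hNB : NoBad H hrat) {u : Fin n → F₀} (hu0 : u ≠ 0) (hu : Q0 hrat u = 0)
    {w : Fin n → F} (hw : EH Q H (lift F₀ u) w) :
    ∃ (r : Fin n → F₀) (c : F), w = lift F₀ r + c • lift F₀ u ∧ polar (Q0 hrat) u r = 0 := by
  obtain ⟨u', hu', huu'⟩ := exists_partner (Q0_nondeg hnd hrat) hu0 hu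
  set U := lift F₀ u with hU
  set U' := lift F₀ u' with hU'
  have hQU : Q U = 0 := Q_lift_eq_zero hrat hu
  have hUU' : polar Q U U' = 1 := polar_lift_eq_one hrat huu'
  have hU'U : polar Q U' U = 1 := by rw [polar_comm]; exact hUU'
  have hUw : polar Q U w = 0 := hw.2.1
  set c := polar Q U' w with hc
  have hrat' : IsRat F₀ (w - c • U) := by
    apply isRat_of_polar_lift_mem hnd hrat
    intro v
    -- decompose v
    set κ : F₀ := polar (Q0 hrat) u v with hκ
    have hy : polar (Q0 hrat) u (v - κ • u') = 0 := by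
      rw [polar_sub_right, polar_smul_right, huu', smul_eq_mul, mul_one, ← hκ, sub_self]
    have h1 := noBad_pair hnd hrat hn hMH hNB hu0 hu hw (v - κ • u') hy
    have e : lift F₀ v = lift F₀ (v - κ • u') + (κ : F) • U' := by
      rw [lift_sub, lift_smul]; abel
    rw [e, polar_add_right, polar_smul_right, polar_sub_left, polar_sub_left, polar_smul_left,
      polar_smul_left, hUU', polar_comm (⇑Q) w U', ← hc]
    have e2 : polar (⇑Q) U (lift F₀ (v - κ • u')) = 0 := polar_lift_eq_zero hrat hy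
    rw [e2, polar_comm (⇑Q) w (lift F₀ (v - κ • u'))]
    simp only [smul_eq_mul, mul_zero, sub_zero, mul_one, sub_self, add_zero]
    exact h1
  obtain ⟨r, hr⟩ := exists_lift hrat'
  refine ⟨r, c, ?_, ?_⟩
  · rw [hr]; abel
  · apply Subtype.ext
    rw [coe_polar_Q0, hr, polar_sub_right, polar_smul_right, hUw, polar_self_sing Q hQU]
    simp

include hnd hrat in
/-- a vector orthogonal to all rational vectors of `⟨u, y⟩^⊥` lies in `⟨u, y⟩` -/
theorem perp_span {u y : Fin n → F₀} (h : TS (Q0 hrat) u y) {t : Fin n → F}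
    (ht : ∀ w : Fin n → F₀, polar (Q0 hrat) u w = 0 → polar (Q0 hrat) y w = 0 →
      polar Q (lift F₀ w) t = 0) :
    ∃ c d : F, t = c • lift F₀ u + d • lift F₀ y := by
  obtain ⟨u', y', hu', hy', h1, h2, h3, h4, h5⟩ := exists_frame (Q0_nondeg hnd hrat) h
  set U := lift F₀ u with hU
  set Y := lift F₀ y with hY
  set U' := lift F₀ u' with hU'
  set Y' := lift F₀ y' with hY'
  have hUt : polar Q U t = 0 := ht u (polar_self_sing _ h.qu) h.yu
  have hYt : polar Q Y t = 0 := ht y h.uy (polar_self_sing _ h.qy)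
  refine ⟨polar Q U' t, polar Q Y' t, ?_⟩
  have e : t - (polar Q U' t • U + polar Q Y' t • Y) = 0 := by
    apply eq_zero_of_polar_lift (F₀ := F₀) hnd
    intro v
    set bv : Fin n → F₀ := v - polar (Q0 hrat) v u' • u - polar (Q0 hrat) v u • u' -
      polar (Q0 hrat) v y' • y - polar (Q0 hrat) v y • y' with hbv
    have b1 : polar (Q0 hrat) u bv = 0 := by
      rw [hbv]
      simp only [polar_sub_right, polar_smul_right, polar_self_sing _ h.qu, h1, h.uy, h3,
        smul_eq_mul, mul_zero, mul_one, sub_zero]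
      rw [polar_comm]; ring
    have b2 : polar (Q0 hrat) y bv = 0 := by
      rw [hbv]
      simp only [polar_sub_right, polar_smul_right, polar_self_sing _ h.qy, h2, h.yu, h4,
        smul_eq_mul, mul_zero, mul_one, sub_zero]
      rw [polar_comm]; ring
    have b3 := ht bv b1 b2
    have e1 : lift F₀ v = lift F₀ bv + ((polar (Q0 hrat) v u' : F₀) : F) • U +
        ((polar (Q0 hrat) v u : F₀) : F) • U' + ((polar (Q0 hrat) v y' : F₀) : F) • Y +
        ((polar (Q0 hrat) v y : F₀) : F) • Y' := by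
      rw [hbv]
      simp only [lift_sub, lift_smul]
      abel
    have k1 : polar Q U (lift F₀ v) = ((polar (Q0 hrat) v u : F₀) : F) := by
      rw [coe_polar_Q0, polar_comm]
    have k2 : polar Q Y (lift F₀ v) = ((polar (Q0 hrat) v y : F₀) : F) := by
      rw [coe_polar_Q0, polar_comm]
    rw [polar_sub_left, polar_add_left, polar_smul_left, polar_smul_left, k1, k2]
    rw [polar_comm, e1]
    simp only [polar_add_left, polar_smul_left, b3, hUt, hYt, smul_eq_mul, mul_zero, add_zero,
      zero_add]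
    ring
  rw [sub_eq_zero] at e
  exact e

end Cfsg.Agent.Lib.Helper6.Oqs
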