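import Mathlib
import Cfsg.Prelude
import Cfsg.Agent.Lib.Helper6.OqsE

/-!
# Orthogonal subfield groups (part F): under `NoBad`, an element of the overgroup carrying a
rational singular point to a rational singular point is rational (TI); no mixed lines
-/

set_option autoImplicit false
set_option maxHeartbeats 2000000
set_option linter.unusedSimpArgs false
set_option linter.unusedVariables false
set_option linter.unusedSectionVars false

namespace Cfsg.Agent.Lib.Helper6.Oqs

open Module QuadraticMap Matrix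
open Cfsg
open Cfsg.Agent.Lib.Helper5.CartanDieudonne Cfsg.Agent.Lib.Helper5.Siegel
  Cfsg.Agent.Lib.Helper5.QuadIsom Cfsg.Agent.Lib.Helper5.Eichler
  Cfsg.Agent.Lib.Helper5.OmegaSimple Cfsg.Agent.Lib.Helper5.OrthSingularMax
open Cfsg.Agent.Lib.Helper5.MaxTS Cfsg.Agent.Lib.Helper1.UoA

variable {F : Type*} [Field F] [Fintype F] {n : ℕ} {F₀ : Subfield F}
  {Q : QuadraticForm F (Fin n → F)}

theorem act_zero' (x : ↥(isometryGroup F ⇑Q)) : act Q x 0 = 0 := Matrix.mulVec_zero _

theorem act_ne_zero (x : ↥(isometryGroup F ⇑Q)) {v : Fin n → F} (hv : v ≠ 0) : act Q x v ≠ 0 := by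
  intro h
  apply hv
  have := act_inv_act' (Q := Q) x v
  rw [h, act_zero'] at this
  exact this.symm

/-- the inverse Eichler element on vectors orthogonal to the centre -/
theorem act_eich_neg_perp {u z p : Fin n → F} (hu : Q u = 0) (huz : polar Q u (-z) = 0)
    (hp : polar Q u p = 0) : act Q (eich Q u (-z) hu huz) p = p + polar Q z p • u := by
  rw [act_eich_apply, hp, polar_neg_left]
  simp

variable (hnd : (polarBilin Q).Nondegenerate) (hrat : RatQ F₀ Q) (hn : 13 ≤ n)
  {H : Subgroup (GL (Fin n) F)}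
  (hMH : Cfsg.Geo.subfieldSubgroup F₀ 1 ⊓ Cfsg.Geo.omegaGL ⇑Q ≤ H)
  (hHΩ : H ≤ Cfsg.Geo.omegaGL ⇑Q)

include hnd hrat hn hMH hHΩ in
/-- TI: an element of `H` carrying a rational singular point to a rational point is rational -/
theorem TI (hNB : NoBad H hrat) (x : ↥(isometryGroup F ⇑Q)) (hx : (x : GL (Fin n) F) ∈ H)
    {a u : Fin n → F₀} (ha0 : a ≠ 0) (ha : Q0 hrat a = 0) (hu0 : u ≠ 0) {lam : F}
    (hlam : lam ≠ 0) (hxa : lift F₀ u = lam • act Q x (lift F₀ a)) :
    (x : GL (Fin n) F) ∈ Cfsg.Geo.subfieldSubgroup F₀ 1 := by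
  have h7 : 7 ≤ finrank F₀ (Fin n → F₀) := by
    have := finrank_rat_ge (F₀ := F₀) hnd hn; omega
  set A := lift F₀ a with hA
  set U := lift F₀ u with hU
  set μ := lam⁻¹ with hμ
  have hμ0 : μ ≠ 0 := inv_ne_zero hlam
  have hlamμ : lam * μ = 1 := mul_inv_cancel₀ hlam
  have hxA : act Q x A = μ • U := by rw [hxa, smul_smul, inv_mul_cancel₀ hlam, one_smul]
  have hQA : Q A = 0 := Q_lift_eq_zero hrat ha
  have hQU : Q U = 0 := by rw [hxa, QuadraticMap.map_smul, quad_act, hQA, smul_zero]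
  have hu : Q0 hrat u = 0 := by
    apply Subtype.ext
    rw [coe_Q0]
    exact hQU
  -- step 1
  have step1 : ∀ b : Fin n → F₀, polar (Q0 hrat) a b = 0 → ∃ (r : Fin n → F₀) (c : F),
      μ • act Q x (lift F₀ b) = lift F₀ r + c • U ∧ polar (Q0 hrat) u r = 0 := by
    intro b hab
    have h1 := EH_rat hnd hrat hn hMH ha hab
    have h2 := EH_conj x hx h1
    rw [hxA] at h2
    have h3 := EH_smul_left hμ0 hQU h2
    exact noBad_struct hnd hrat hn hMH hNB hu0 hu h3
  -- step 2
  obtain ⟨b1, b2, hb1, hb2, hb12, hab1, -, hab2, -⟩ :=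
    exists_hyp_perp2 (Q0_nondeg hnd hrat) h7 a a
  obtain ⟨r1, c1, e1, hr1⟩ := step1 b1 hab1
  obtain ⟨r2, c2, e2, hr2⟩ := step1 b2 hab2
  have hν : μ * μ ∈ F₀ := by
    have k : polar Q (μ • act Q x (lift F₀ b1)) (μ • act Q x (lift F₀ b2)) = μ * μ := by
      rw [polar_smul_left, polar_smul_right, polar_act, polar_lift_eq_one hrat hb12]
      simp
    rw [e1, e2] at k
    have hUr1 : polar Q U (lift F₀ r1) = 0 := polar_lift_eq_zero hrat hr1
    have hUr2 : polar Q U (lift F₀ r2) = 0 := polar_lift_eq_zero hrat hr2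
    have hr1U : polar Q (lift F₀ r1) U = 0 := by rw [polar_comm]; exact hUr1
    have e3 : polar Q (lift F₀ r1 + c1 • U) (lift F₀ r2 + c2 • U) =
        polar Q (lift F₀ r1) (lift F₀ r2) := by
      simp only [polar_add_left, polar_add_right, polar_smul_left, polar_smul_right,
        polar_self_sing Q hQU, hUr2, hr1U, smul_zero, add_zero]
    rw [e3] at k
    rw [← k]
    exact hrat.polar_mem (isRat_lift r1) (isRat_lift r2)
  set ν := μ * μ with hνdef
  -- step 3
  obtain ⟨a', ha', haa'⟩ := exists_partner (Q0_nondeg hnd hrat) ha0 ha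
  obtain ⟨u', hu', huu'⟩ := exists_partner (Q0_nondeg hnd hrat) hu0 hu
  set A' := lift F₀ a' with hA'
  set U' := lift F₀ u' with hU'
  have hQA' : Q A' = 0 := Q_lift_eq_zero hrat ha'
  have hQU' : Q U' = 0 := Q_lift_eq_zero hrat hu'
  have hAA' : polar Q A A' = 1 := polar_lift_eq_one hrat haa'
  have hUU' : polar Q U U' = 1 := polar_lift_eq_one hrat huu'
  have hU'U : polar Q U' U = 1 := by rw [polar_comm]; exact hUU'
  set U1 := μ • act Q x A' with hU1
  have hQU1 : Q U1 = 0 := by rw [hU1, QuadraticMap.map_smul, quad_act, hQA', smul_zero]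
  have hUU1 : polar Q U U1 = 1 := by
    rw [hU1, hxa, polar_smul_left, polar_smul_right, polar_act, hAA']
    simp only [smul_eq_mul, mul_one]
    exact hlamμ
  have hU1U : polar Q U1 U = 1 := by rw [polar_comm]; exact hUU1
  have hUz : polar Q U (U1 - U') = 0 := by rw [polar_sub_right, hUU1, hUU', sub_self]
  have hUnz : polar Q U (-(U1 - U')) = 0 := by rw [polar_neg_right, hUz, neg_zero]
  set γ := eich Q U (U1 - U') hQU hUz with hγ
  have hγinv : γ⁻¹ = eich Q U (-(U1 - U')) hQU hUnz := eich_inv Q U (U1 - U') hQU hUz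
  -- the action of γ⁻¹
  have hGU1 : act Q γ⁻¹ U1 = U' := by
    rw [hγinv, act_eich_apply, hUU1, QuadraticMap.map_neg, quad_sub', hQU1, hQU', polar_neg_left,
      polar_sub_left, polar_self_sing Q hQU1]
    simp only [one_smul, mul_one, zero_add, zero_sub]
    have : -(-(-polar (⇑Q) U' U1) + -polar (⇑Q) U1 U') = (0 : F) := by
      rw [polar_comm (⇑Q) U' U1]; ring
    rw [this, zero_smul, add_zero]
    abel
  have hGp : ∀ p : Fin n → F, polar Q U p = 0 →
      act Q γ⁻¹ p = p + polar Q (U1 - U') p • U := by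
    intro p hp
    rw [hγinv]
    exact act_eich_neg_perp hQU hUnz hp
  set y := γ⁻¹ * x with hy
  have claim : ∀ v : Fin n → F₀, IsRat F₀ (μ • act Q y (lift F₀ v)) := by
    intro v
    set κ1 : F₀ := polar (Q0 hrat) v a' with hκ1
    set κ2 : F₀ := polar (Q0 hrat) v a with hκ2
    set v' : Fin n → F₀ := v - κ1 • a - κ2 • a' with hv'
    have hav' : polar (Q0 hrat) a v' = 0 := by
      rw [hv']
      simp only [polar_sub_right, polar_smul_right, polar_self_sing _ ha, haa', smul_eq_mul,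
        mul_zero, mul_one, sub_zero]
      rw [polar_comm, ← hκ2, sub_self]
    obtain ⟨r, c, e, hr⟩ := step1 v' hav'
    have hvd : lift F₀ v = lift F₀ v' + (κ1 : F) • A + (κ2 : F) • A' := by
      rw [hv']
      simp only [lift_sub, lift_smul]
      abel
    have hp : μ • act Q x (lift F₀ v) =
        (lift F₀ r + c • U + ((κ1 : F) * ν) • U) + (κ2 : F) • U1 := by
      have s1 : μ • act Q x (lift F₀ v) = μ • act Q x (lift F₀ v') +
          (κ1 : F) • (μ • act Q x A) + (κ2 : F) • (μ • act Q x A') := by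
        rw [hvd, act_add, act_add, act_smul, act_smul]
        module
      rw [s1, e, hxA, hνdef]
      module
    set p := lift F₀ r + c • U + ((κ1 : F) * ν) • U with hpdef
    have hUr : polar Q U (lift F₀ r) = 0 := polar_lift_eq_zero hrat hr
    have hUp : polar Q U p = 0 := by
      rw [hpdef]
      simp only [polar_add_right, polar_smul_right, polar_self_sing Q hQU, hUr, smul_zero, add_zero]
    have hU1p : polar Q U1 p = ν * (κ1 : F) := by
      have e5 : p = μ • act Q x (lift F₀ v) - (κ2 : F) • U1 := by rw [hp]; abel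
      rw [e5]
      simp only [polar_sub_right, polar_smul_right, polar_self_sing Q hQU1]
      rw [hU1, polar_smul_left, polar_act, hA', ← coe_polar_Q0 hrat,
        polar_comm (⇑(Q0 hrat)) a' v, ← hκ1]
      simp only [smul_eq_mul, mul_zero, sub_zero]
      rw [hνdef]; ring
    have hU'p : polar Q U' p = polar Q U' (lift F₀ r) + c + (κ1 : F) * ν := by
      rw [hpdef]
      simp only [polar_add_right, polar_smul_right, hU'U, smul_eq_mul, mul_one]
    have e6 : μ • act Q y (lift F₀ v) =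
        lift F₀ r + ((κ1 : F) * ν - polar Q U' (lift F₀ r)) • U + (κ2 : F) • U' := by
      rw [hy, act_mul, ← act_smul, hp, act_add, act_smul, hGU1, hGp p hUp, polar_sub_left, hU1p,
        hU'p, hpdef]
      module
    rw [e6]
    have m1 : polar Q U' (lift F₀ r) ∈ F₀ := hrat.polar_mem (isRat_lift u') (isRat_lift r)
    exact ((isRat_lift r).add ((isRat_lift u).smul
      (F₀.sub_mem (F₀.mul_mem κ1.2 hν) m1))).add ((isRat_lift u').smul κ2.2)
  have hyS : (y : GL (Fin n) F) ∈ Cfsg.Geo.subfieldSubgroup F₀ 1 :=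
    mem_sfs_of_act _ μ hμ0 claim
  have hγΩ : (γ : GL (Fin n) F) ∈ Cfsg.Geo.omegaGL ⇑Q :=
    eich_mem_omegaGL (hyp hnd hn) U (U1 - U') hQU hUz
  have hyΩ : (y : GL (Fin n) F) ∈ Cfsg.Geo.omegaGL ⇑Q := by
    have e : (y : GL (Fin n) F) = (γ : GL (Fin n) F)⁻¹ * (x : GL (Fin n) F) := by
      rw [hy]; rfl
    rw [e]
    exact Subgroup.mul_mem _ (Subgroup.inv_mem _ hγΩ) (hHΩ hx)
  have hyH : (y : GL (Fin n) F) ∈ H := hMH ⟨hyS, hyΩ⟩
  have hγH : (γ : GL (Fin n) F) ∈ H := by
    have e : (γ : GL (Fin n) F) = (x : GL (Fin n) F) * (y : GL (Fin n) F)⁻¹ := by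
      have : γ = x * y⁻¹ := by rw [hy]; group
      rw [this]; rfl
    rw [e]
    exact H.mul_mem hx (H.inv_mem hyH)
  have hEz : EH Q H U (U1 - U') := ⟨hQU, hUz, hγH⟩
  obtain ⟨r', c', ez, hr'⟩ := noBad_struct hnd hrat hn hMH hNB hu0 hu hEz
  have hUr' : polar Q U (lift F₀ r') = 0 := polar_lift_eq_zero hrat hr'
  have hUc' : polar Q U (c' • U) = 0 := by rw [polar_smul_right, polar_self_sing Q hQU, smul_zero]
  have hγeq : γ = eich Q U (lift F₀ r') hQU hUr' := by
    rw [hγ, eich_congr rfl ez hQU hUz hQU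
      (by rw [polar_add_right, hUr', hUc', add_zero]),
      ← eich_mul Q U (lift F₀ r') (c' • U) hQU hUr' hUc', eich_self_smul hQU c', mul_one]
  have hγS : (γ : GL (Fin n) F) ∈ Cfsg.Geo.subfieldSubgroup F₀ 1 := by
    rw [hγeq]
    exact eich_mem_sfs hrat (isRat_lift u) (isRat_lift r') hQU hUr'
  have e : (x : GL (Fin n) F) = (γ : GL (Fin n) F) * (y : GL (Fin n) F) := by
    have : x = γ * y := by rw [hy]; group
    rw [this]; rfl
  rw [e]
  exact Subgroup.mul_mem _ hγS hyS

end Cfsg.Agent.Lib.Helper6.Oqs
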