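import Mathlib
import Cfsg.Prelude
import Cfsg.Agent.Lib.Helper6.OqsF

/-!
# Orthogonal subfield groups (part G): no mixed lines: an element of the overgroup carrying a
rational singular vector into a rational totally singular line is rational
-/

set_option autoImplicit false
set_option maxHeartbeats 2000000
set_option linter.unusedSimpArgs false
set_option linter.unusedVariables false
set_option linter.unusedSectionVars false

namespace Cfsg.Agent.Lib.Helper6.Oqs

open Module QuadraticMap Matrix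
open Cfsg
open Cfsg.Agent.Lib.Helper5.CartanDieudonne Cfsg.Agent.Lib.Helper5.Siegel
  Cfsg.Agent.Lib.Helper5.QuadIsom Cfsg.Agent.Lib.Helper5.Eichler
  Cfsg.Agent.Lib.Helper5.OmegaSimple Cfsg.Agent.Lib.Helper5.OrthSingularMax
open Cfsg.Agent.Lib.Helper5.MaxTS Cfsg.Agent.Lib.Helper1.UoA

variable {F : Type*} [Field F] [Fintype F] {n : ℕ} {F₀ : Subfield F}
  {Q : QuadraticForm F (Fin n → F)}

variable (hnd : (polarBilin Q).Nondegenerate) (hrat : RatQ F₀ Q) (hn : 13 ≤ n)
  {H : Subgroup (GL (Fin n) F)}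
  (hMH : Cfsg.Geo.subfieldSubgroup F₀ 1 ⊓ Cfsg.Geo.omegaGL ⇑Q ≤ H)
  (hHΩ : H ≤ Cfsg.Geo.omegaGL ⇑Q)

include hnd hrat hn hMH hHΩ in
/-- no mixed lines -/
theorem noMixed (hNB : NoBad H hrat) (x : ↥(isometryGroup F ⇑Q)) (hx : (x : GL (Fin n) F) ∈ H)
    {a : Fin n → F₀} (ha0 : a ≠ 0) (ha : Q0 hrat a = 0) {u y : Fin n → F₀}
    (h : TS (Q0 hrat) u y) {α β : F}
    (hxa : act Q x (lift F₀ a) = α • lift F₀ u + β • lift F₀ y) :
    (x : GL (Fin n) F) ∈ Cfsg.Geo.subfieldSubgroup F₀ 1 := by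
  have h7 : 7 ≤ finrank F₀ (Fin n → F₀) := by
    have := finrank_rat_ge (F₀ := F₀) hnd hn; omega
  set A := lift F₀ a with hA
  set U := lift F₀ u with hU
  set Y := lift F₀ y with hY
  have hA0 : A ≠ 0 := lift_ne_zero ha0
  have hxA0 : act Q x A ≠ 0 := act_ne_zero x hA0
  have hQA : Q A = 0 := Q_lift_eq_zero hrat ha
  have hQU : Q U = 0 := Q_lift_eq_zero hrat h.qu
  have hQY : Q Y = 0 := Q_lift_eq_zero hrat h.qy
  have hUY : polar Q U Y = 0 := polar_lift_eq_zero hrat h.uy
  have hYU : polar Q Y U = 0 := by rw [polar_comm]; exact hUY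
  have hUU : polar Q U U = 0 := polar_self_sing Q hQU
  have hYY : polar Q Y Y = 0 := polar_self_sing Q hQY
  by_cases hβ : β = 0
  · subst hβ
    rw [zero_smul, add_zero] at hxa
    have hα : α ≠ 0 := by
      rintro rfl
      rw [zero_smul] at hxa
      exact hxA0 hxa
    apply TI hnd hrat hn hMH hHΩ hNB x hx ha0 ha h.ne (inv_ne_zero hα)
    rw [hxa, smul_smul, inv_mul_cancel₀ hα, one_smul]
  by_cases hα : α = 0
  · subst hα
    rw [zero_smul, zero_add] at hxa
    apply TI hnd hrat hn hMH hHΩ hNB x hx ha0 ha h.ne' (inv_ne_zero hβ)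
    rw [hxa, smul_smul, inv_mul_cancel₀ hβ, one_smul]
  set v := α • U + β • Y with hv
  have hQv : Q v = 0 := quad_comb_ts hQU hQY hUY α β
  -- L1
  have k1 : EH Q H v ((0 : F) • U + α⁻¹ • Y) := by
    rw [hv, EH_bv hQU hQY hUY α β 0 α⁻¹]
    have e : α * α⁻¹ - β * 0 = 1 := by rw [mul_zero, sub_zero, mul_inv_cancel₀ hα]
    rw [e, one_smul]
    exact EH_rat hnd hrat hn hMH h.qu h.uy
  have hxinv : ((x⁻¹ : ↥(isometryGroup F ⇑Q)) : GL (Fin n) F) ∈ H := by
    have : ((x⁻¹ : ↥(isometryGroup F ⇑Q)) : GL (Fin n) F) = (x : GL (Fin n) F)⁻¹ := rfl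
    rw [this]; exact H.inv_mem hx
  have k2 := EH_conj x⁻¹ hxinv k1
  have e1 : act Q x⁻¹ v = A := by rw [← hxa]; exact act_inv_act' x A
  rw [e1] at k2
  obtain ⟨b, c, eb, hab⟩ := noBad_struct hnd hrat hn hMH hNB ha0 ha k2
  have hxb : act Q x (lift F₀ b) = α⁻¹ • Y - c • v := by
    have := congrArg (act Q x) eb
    rw [act_inv_act, act_add, act_smul, hxa] at this
    rw [zero_smul, zero_add] at this
    rw [this]; abel
  -- expressions of U and Y through the images
  have hYexp : Y = α • act Q x (lift F₀ b) + (α * c) • v := by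
    rw [hxb, smul_sub, smul_smul, mul_inv_cancel₀ hα, one_smul, smul_smul]; abel
  have hUexp : U = α⁻¹ • (v - β • Y) := by
    rw [hv, add_sub_cancel_right, smul_smul, inv_mul_cancel₀ hα, one_smul]
  -- L2
  obtain ⟨s, s', hs, hs', hss', has, hbs, has', hbs'⟩ :=
    exists_hyp_perp2 (Q0_nondeg hnd hrat) h7 a b
  set t := act Q x (lift F₀ s) with ht
  set t' := act Q x (lift F₀ s') with ht'
  have hvt : polar Q v t = 0 := by
    have : polar Q (act Q x A) (act Q x (lift F₀ s)) = 0 := by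
      rw [polar_act]; exact polar_lift_eq_zero hrat has
    rw [hxa] at this
    exact this
  have hvt' : polar Q v t' = 0 := by
    have : polar Q (act Q x A) (act Q x (lift F₀ s')) = 0 := by
      rw [polar_act]; exact polar_lift_eq_zero hrat has'
    rw [hxa] at this
    exact this
  have hbt : polar Q (act Q x (lift F₀ b)) t = 0 := by
    rw [ht, polar_act]; exact polar_lift_eq_zero hrat hbs
  have hbt' : polar Q (act Q x (lift F₀ b)) t' = 0 := by
    rw [ht', polar_act]; exact polar_lift_eq_zero hrat hbs'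
  have hYt : polar Q Y t = 0 := by
    rw [hYexp, polar_add_left, polar_smul_left, polar_smul_left, hbt, hvt]; simp
  have hYt' : polar Q Y t' = 0 := by
    rw [hYexp, polar_add_left, polar_smul_left, polar_smul_left, hbt', hvt']; simp
  have hUt : polar Q U t = 0 := by
    rw [hUexp, polar_smul_left, polar_sub_left, polar_smul_left, hvt, hYt]; simp
  have hUt' : polar Q U t' = 0 := by
    rw [hUexp, polar_smul_left, polar_sub_left, polar_smul_left, hvt', hYt']; simp
  have htt' : polar Q t' t = 1 := by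
    rw [ht, ht', polar_act, polar_comm]; exact polar_lift_eq_one hrat hss'
  have hnot : ¬ ∃ c d : F, t = c • U + d • Y := by
    rintro ⟨c, d, hcd⟩
    have : polar Q t' t = 0 := by
      rw [hcd, polar_add_right, polar_smul_right, polar_smul_right, polar_comm (⇑Q) t' U, hUt',
        polar_comm (⇑Q) t' Y, hYt']
      simp
    rw [htt'] at this
    exact one_ne_zero this
  obtain ⟨w1, huw, hyw, hwt⟩ : ∃ w1 : Fin n → F₀, polar (Q0 hrat) u w1 = 0 ∧
      polar (Q0 hrat) y w1 = 0 ∧ polar Q (lift F₀ w1) t ≠ 0 := by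
    by_contra hcon
    push Not at hcon
    exact hnot (perp_span hnd hrat h hcon)
  set W := lift F₀ w1 with hW
  obtain ⟨e, he⟩ : ∃ e, e = polar Q W t := ⟨_, rfl⟩
  rw [← he] at hwt
  have hUW : polar Q U W = 0 := polar_lift_eq_zero hrat huw
  have hYW : polar Q Y W = 0 := polar_lift_eq_zero hrat hyw
  have hWU : polar Q W U = 0 := by rw [polar_comm]; exact hUW
  have hWY : polar Q W Y = 0 := by rw [polar_comm]; exact hYW
  have hE : EH Q H v t := by
    have := EH_conj x hx (EH_rat hnd hrat hn hMH ha has)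
    rw [hxa] at this
    exact this
  have hUv : polar Q U v = 0 := by
    rw [hv, polar_add_right, polar_smul_right, polar_smul_right, hUU, hUY]; simp
  have hYv : polar Q Y v = 0 := by
    rw [hv, polar_add_right, polar_smul_right, polar_smul_right, hYU, hYY]; simp
  have hWv : polar Q W v = 0 := by
    rw [hv, polar_add_right, polar_smul_right, polar_smul_right, hWU, hWY]; simp
  -- first conjugation
  obtain ⟨g1, g2, g3⟩ := EH_rat hnd hrat hn hMH h.qu huw
  have c1 := EH_conj (eich Q U W g1 g2) g3 hE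
  have a1 : act Q (eich Q U W g1 g2) v = v := act_eich_perp g1 g2 hUv hWv
  have a2 : act Q (eich Q U W g1 g2) t = t + (-e) • U := by
    rw [act_eich_apply, hUt, ← he]
    simp
  rw [a1, a2] at c1
  have c2 := EH_sub c1 hE
  rw [add_sub_cancel_left] at c2
  have c3 : EH Q H (α • U + β • Y) ((-e) • U + (0 : F) • Y) := by
    rw [zero_smul, add_zero]; exact c2
  rw [EH_bv hQU hQY hUY α β (-e) 0] at c3
  have m1 : α * 0 - β * -e ∈ F₀ := hNB u y h _ c3
  -- second conjugation
  obtain ⟨k1', k2', k3'⟩ := EH_rat hnd hrat hn hMH h.qy hyw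
  have d1 := EH_conj (eich Q Y W k1' k2') k3' hE
  have b1 : act Q (eich Q Y W k1' k2') v = v := act_eich_perp k1' k2' hYv hWv
  have b2 : act Q (eich Q Y W k1' k2') t = t + (-e) • Y := by
    rw [act_eich_apply, hYt, ← he]
    simp
  rw [b1, b2] at d1
  have d2 := EH_sub d1 hE
  rw [add_sub_cancel_left] at d2
  have d3 : EH Q H (α • U + β • Y) ((0 : F) • U + (-e) • Y) := by
    rw [zero_smul, zero_add]; exact d2
  rw [EH_bv hQU hQY hUY α β 0 (-e)] at d3
  have m2 : α * -e - β * 0 ∈ F₀ := hNB u y h _ d3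
  have hρ : α * β⁻¹ ∈ F₀ := by
    have m1' : β * e ∈ F₀ := by
      convert m1 using 1; ring
    have m2' : α * e ∈ F₀ := by
      have := F₀.neg_mem m2
      convert this using 1; ring
    have e3 : α * β⁻¹ = (α * e) * (β * e)⁻¹ := by
      field_simp
    rw [e3]
    exact F₀.mul_mem m2' (F₀.inv_mem m1')
  set u2 : Fin n → F₀ := (⟨α * β⁻¹, hρ⟩ : F₀) • u + y with hu2
  have hu20 : u2 ≠ 0 := by
    intro h0
    apply h.ind
    rw [Submodule.mem_span_singleton]
    refine ⟨-(⟨α * β⁻¹, hρ⟩ : F₀), ?_⟩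
    rw [hu2] at h0
    rw [neg_smul]
    exact (eq_neg_of_add_eq_zero_right h0).symm
  apply TI hnd hrat hn hMH hHΩ hNB x hx ha0 ha hu20 (inv_ne_zero hβ)
  rw [hxa, hu2, lift_add, lift_smul, smul_add, smul_smul, smul_smul, inv_mul_cancel₀ hβ, one_smul]
  congr 2
  show α * β⁻¹ = β⁻¹ * α
  ring

end Cfsg.Agent.Lib.Helper6.Oqs
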