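import Mathlib
import Cfsg.Prelude
import Cfsg.Agent.Lib.Helper6.OqsC

/-!
# Orthogonal subfield groups (part H): characteristic two; an involution commuting with a long root
element `e(U,Y)` and with an Eichler element `e(u',w')`, `w'` nonsingular, in general position
-/

set_option autoImplicit false
set_option maxHeartbeats 2000000
set_option linter.unusedSimpArgs false
set_option linter.unusedVariables false
set_option linter.unusedSectionVars false

namespace Cfsg.Agent.Lib.Helper6.Oqs

open Module QuadraticMap Matrix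
open Cfsg
open Cfsg.Agent.Lib.Helper5.CartanDieudonne Cfsg.Agent.Lib.Helper5.Siegel
  Cfsg.Agent.Lib.Helper5.QuadIsom Cfsg.Agent.Lib.Helper5.Eichler
  Cfsg.Agent.Lib.Helper5.OmegaSimple Cfsg.Agent.Lib.Helper5.OrthSingularMax
open Cfsg.Agent.Lib.Helper5.MaxTS Cfsg.Agent.Lib.Helper1.UoA

variable {F : Type*} [Field F] [Fintype F] {n : ℕ} {Q : QuadraticForm F (Fin n → F)}

/-- the configuration -/
structure ZC (Q : QuadraticForm F (Fin n → F)) (z : ↥(isometryGroup F ⇑Q))
    (U Y u' w' Us Ys vb pb : Fin n → F) : Prop where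
  h2 : (2 : F) = 0
  qU : Q U = 0
  qY : Q Y = 0
  UY : polar Q U Y = 0
  qu' : Q u' = 0
  qw' : Q w' = 1
  u'w' : polar Q u' w' = 0
  det : polar Q U u' * polar Q Y w' - polar Q U w' * polar Q Y u' ≠ 0
  UUs : polar Q U Us = 1
  YUs : polar Q Y Us = 0
  UYs : polar Q U Ys = 0
  YYs : polar Q Y Ys = 1
  u'vb : polar Q u' vb = 0
  w'vb : polar Q w' vb = 1
  u'pb : polar Q u' pb = 1
  w'pb : polar Q w' pb = 0
  zz : z * z = 1
  ca : z * eich Q U Y qU UY = eich Q U Y qU UY * z
  cb : z * eich Q u' w' qu' u'w' = eich Q u' w' qu' u'w' * z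
  fix : ∀ t, polar Q U t = 0 → polar Q Y t = 0 → polar Q u' t = 0 → polar Q w' t = 0 →
    act Q z t = t

variable {z : ↥(isometryGroup F ⇑Q)} {U Y u' w' Us Ys vb pb : Fin n → F}

theorem polar_self_two (h2 : (2 : F) = 0) (v : Fin n → F) : polar Q v v = 0 := by
  have : polar Q v v = 2 * Q v := by
    have := QuadraticMap.polar_self Q v
    simpa using this
  rw [this, h2, zero_mul]

theorem eq_one_of_sq (h2 : (2 : F) = 0) {d : F} (h : d * d = 1) : d = 1 := by
  have : (d - 1) * (d - 1) = 0 := by
    have e : (d - 1) * (d - 1) = d * d - 2 * d + 1 := by ring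
    rw [e, h, h2]; ring_nf
    rw [h2]
  have := mul_self_eq_zero.mp this
  exact sub_eq_zero.mp this

namespace ZC

variable (C : ZC Q z U Y u' w' Us Ys vb pb)

include C in
theorem zact_zact (v : Fin n → F) : act Q z (act Q z v) = v := by
  rw [← act_mul, C.zz]
  show (1 : Matrix (Fin n) (Fin n) F) *ᵥ v = v
  rw [one_mulVec]

include C in
theorem comm_a (v : Fin n → F) :
    act Q z (act Q (eich Q U Y C.qU C.UY) v) = act Q (eich Q U Y C.qU C.UY) (act Q z v) := by
  rw [← act_mul, ← act_mul, C.ca]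

include C in
theorem comm_b (v : Fin n → F) :
    act Q z (act Q (eich Q u' w' C.qu' C.u'w') v) =
      act Q (eich Q u' w' C.qu' C.u'w') (act Q z v) := by
  rw [← act_mul, ← act_mul, C.cb]

include C in
theorem zU : act Q z U = polar Q Y (act Q z Ys) • U - polar Q U (act Q z Ys) • Y := by
  have h := C.comm_a Ys
  rw [act_eich_apply, act_eich_apply, C.UYs, C.YYs, C.qY] at h
  simp only [zero_smul, add_zero, zero_mul, neg_smul, one_smul] at h
  rw [← sub_eq_add_neg, act_sub] at h
  -- h : z Ys - z U = z Ys + polar U (z Ys) • Y - polar Y (z Ys) • U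
  have : act Q z U = act Q z Ys - (act Q z Ys - act Q z U) := by abel
  rw [this, h]
  abel

include C in
theorem zY : act Q z Y = polar Q U (act Q z Us) • Y - polar Q Y (act Q z Us) • U := by
  have h := C.comm_a Us
  rw [act_eich_apply, act_eich_apply, C.UUs, C.YUs, C.qY] at h
  simp only [one_smul, zero_mul, add_zero, neg_zero, zero_smul, neg_smul] at h
  rw [act_add] at h
  have : act Q z Y = (act Q z Us + act Q z Y) - act Q z Us := by abel
  rw [this, h]
  abel

include C in
theorem u'_ne : u' ≠ 0 := by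
  rintro rfl
  apply C.det
  rw [polar_zero_right, polar_zero_right]
  ring

include C in
theorem zu' : act Q z u' = u' := by
  have h := C.comm_b vb
  rw [act_eich_apply, act_eich_apply, C.u'vb, C.w'vb, C.qw'] at h
  simp only [zero_smul, add_zero, mul_zero, neg_smul, one_smul, one_mul] at h
  rw [← sub_eq_add_neg, act_sub] at h
  set c2 := polar Q u' (act Q z vb) with hc2
  set c1 := polar Q w' (act Q z vb) + c2 with hc1
  have e1 : act Q z u' = c1 • u' - c2 • w' := by
    have : act Q z u' = act Q z vb - (act Q z vb - act Q z u') := by abel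
    rw [this, h]
    abel
  have e2 : Q (act Q z u') = 0 := by rw [quad_act, C.qu']
  have hc20 : c2 = 0 := by
    rw [e1, quad_sub', QuadraticMap.map_smul, QuadraticMap.map_smul, C.qu', C.qw',
      polar_smul_left, polar_smul_right, C.u'w'] at e2
    simp only [smul_eq_mul, mul_zero, mul_one, zero_add, sub_zero] at e2
    exact mul_self_eq_zero.mp e2
  rw [hc20, zero_smul, sub_zero] at e1
  have e3 := C.zact_zact u'
  rw [e1, act_smul, e1, smul_smul] at e3
  have hc1' : c1 * c1 = 1 := by
    by_contra hne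
    have : (c1 * c1 - 1) • u' = 0 := by rw [sub_smul, e3, one_smul, sub_self]
    rcases smul_eq_zero.mp this with h0 | h0
    · exact hne (sub_eq_zero.mp h0)
    · exact C.u'_ne h0
  rw [e1, eq_one_of_sq C.h2 hc1', one_smul]

include C in
theorem zw' : ∃ c : F, act Q z w' = w' + c • u' := by
  have h := C.comm_b pb
  rw [act_eich_apply, act_eich_apply, C.u'pb, C.w'pb, C.qw'] at h
  simp only [one_smul, mul_one, zero_add, one_mul] at h
  rw [act_add, act_add, act_smul, C.zu'] at h
  set d1 := polar Q u' (act Q z pb) with hd1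
  set d2 := polar Q w' (act Q z pb) with hd2
  have e1 : act Q z w' = d1 • w' + (1 - d2 - d1) • u' := by
    have : act Q z w' = (act Q z pb + act Q z w' + (-1 : F) • u') - act Q z pb - (-1 : F) • u' := by
      abel
    rw [this, h]
    module
  have e2 : Q (act Q z w') = 1 := by rw [quad_act, C.qw']
  have hd1' : d1 * d1 = 1 := by
    rw [e1, Cfsg.Agent.Lib.Helper1.UoA.quad_add', QuadraticMap.map_smul, QuadraticMap.map_smul,
      C.qu', C.qw', polar_smul_left, polar_smul_right, polar_comm (⇑Q) w' u', C.u'w'] at e2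
    simpa using e2
  refine ⟨1 - d2 - d1, ?_⟩
  rw [e1, eq_one_of_sq C.h2 hd1', one_smul]

/-- the vector `ŵ` -/
noncomputable def wh (Q : QuadraticForm F (Fin n → F)) (U Y u' w' : Fin n → F) : Fin n → F :=
  (polar Q U u' * polar Q Y w' - polar Q U w' * polar Q Y u')⁻¹ •
    (polar Q U u' • Y - polar Q Y u' • U)

include C in
theorem q_wh : Q (wh Q U Y u' w') = 0 := by
  unfold wh
  rw [QuadraticMap.map_smul]
  have : polar Q U u' • Y - polar Q Y u' • U = (-polar Q Y u') • U + polar Q U u' • Y := by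
    module
  rw [this, quad_comb_ts C.qU C.qY C.UY, smul_zero]

include C in
theorem wh_u' : polar Q (wh Q U Y u' w') u' = 0 := by
  unfold wh
  rw [polar_smul_left, polar_sub_left, polar_smul_left, polar_smul_left]
  simp only [smul_eq_mul]
  ring

include C in
/-- the action of `z - 1` on the line `⟨U, Y⟩` -/
theorem z_line (c : F) (hc : act Q z w' = w' + c • u') (l1 l2 : F) :
    act Q z (l1 • U + l2 • Y) - (l1 • U + l2 • Y) =
      (c * polar Q (l1 • U + l2 • Y) u') • wh Q U Y u' w' := by
  set l := l1 • U + l2 • Y with hl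
  set Δ := polar Q U u' * polar Q Y w' - polar Q U w' * polar Q Y u' with hΔ
  have hΔ0 : Δ ≠ 0 := C.det
  -- z l - l = m1 U + m2 Y
  obtain ⟨m1, m2, hm⟩ : ∃ m1 m2 : F, act Q z l - l = m1 • U + m2 • Y := by
    refine ⟨l1 * polar Q Y (act Q z Ys) - l2 * polar Q Y (act Q z Us) - l1,
      l2 * polar Q U (act Q z Us) - l1 * polar Q U (act Q z Ys) - l2, ?_⟩
    rw [hl, act_add, act_smul, act_smul, C.zU, C.zY]
    module
  have p1 : polar Q (act Q z l - l) u' = 0 := by
    rw [polar_sub_left]
    have : polar Q (act Q z l) u' = polar Q l u' := by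
      conv_lhs => rw [← C.zu']
      rw [polar_act]
    rw [this, sub_self]
  have p2 : polar Q (act Q z l - l) w' = c * polar Q l u' := by
    rw [polar_sub_left]
    have : polar Q (act Q z l) w' = polar Q l (act Q z w') := by
      conv_lhs => rw [← C.zact_zact w']
      rw [polar_act]
    rw [this, hc, polar_add_right, polar_smul_right, smul_eq_mul]
    ring
  rw [hm, polar_add_left, polar_smul_left, polar_smul_left, smul_eq_mul, smul_eq_mul] at p1 p2
  set τ := c * polar Q l u' with hτ
  have k1 : m1 * Δ = -(polar Q Y u' * τ) := by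
    rw [hΔ]; linear_combination (polar Q Y w') * p1 - (polar Q Y u') * p2
  have k2 : m2 * Δ = polar Q U u' * τ := by
    rw [hΔ]; linear_combination (polar Q U u') * p2 - (polar Q U w') * p1
  have hm1 : m1 = -(polar Q Y u' * τ) * Δ⁻¹ := (eq_mul_inv_iff_mul_eq₀ hΔ0).mpr k1
  have hm2 : m2 = polar Q U u' * τ * Δ⁻¹ := (eq_mul_inv_iff_mul_eq₀ hΔ0).mpr k2
  rw [hm, hm1, hm2]
  unfold wh
  rw [← hΔ]
  module

include C in
/-- decomposition of a vector along `⟨U,Y⟩ ⊕ ⟨u',w'⟩ ⊕ perp` -/
theorem decomp (v : Fin n → F) : ∃ (l1 l2 p1 p2 : F) (t : Fin n → F),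
    v = (l1 • U + l2 • Y) + (p1 • u' + p2 • w') + t ∧ polar Q U t = 0 ∧ polar Q Y t = 0 ∧
      polar Q u' t = 0 ∧ polar Q w' t = 0 := by
  set Γ11 := polar Q U u' with h11
  set Γ12 := polar Q U w' with h12
  set Γ21 := polar Q Y u' with h21
  set Γ22 := polar Q Y w' with h22
  set Δ := Γ11 * Γ22 - Γ12 * Γ21 with hΔ
  have hΔ0 : Δ ≠ 0 := C.det
  set a := polar Q U v with ha
  set b := polar Q Y v with hb
  set a' := polar Q u' v with ha'
  set b' := polar Q w' v with hb'
  set p1 := (Γ22 * a - Γ12 * b) * Δ⁻¹ with hp1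
  set p2 := (-Γ21 * a + Γ11 * b) * Δ⁻¹ with hp2
  set l1 := (Γ22 * a' - Γ21 * b') * Δ⁻¹ with hl1
  set l2 := (-Γ12 * a' + Γ11 * b') * Δ⁻¹ with hl2
  have hUU : polar Q U U = 0 := polar_self_two C.h2 U
  have hYY : polar Q Y Y = 0 := polar_self_two C.h2 Y
  have huu : polar Q u' u' = 0 := polar_self_two C.h2 u'
  have hww : polar Q w' w' = 0 := polar_self_two C.h2 w'
  have hYU : polar Q Y U = 0 := by rw [polar_comm]; exact C.UY
  have hwu : polar Q w' u' = 0 := by rw [polar_comm]; exact C.u'w'
  have hu'U : polar Q u' U = Γ11 := polar_comm _ _ _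
  have hu'Y : polar Q u' Y = Γ21 := polar_comm _ _ _
  have hw'U : polar Q w' U = Γ12 := polar_comm _ _ _
  have hw'Y : polar Q w' Y = Γ22 := polar_comm _ _ _
  refine ⟨l1, l2, p1, p2, v - (l1 • U + l2 • Y) - (p1 • u' + p2 • w'), by abel, ?_, ?_, ?_, ?_⟩
  · simp only [polar_sub_right, polar_add_right, polar_smul_right, hUU, C.UY, smul_eq_mul,
      mul_zero, add_zero, sub_zero]
    rw [← ha, ← h11, ← h12, hp1, hp2]
    field_simp
    rw [hΔ]; ring
  · simp only [polar_sub_right, polar_add_right, polar_smul_right, hYU, hYY, smul_eq_mul,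
      mul_zero, add_zero, sub_zero]
    rw [← hb, ← h21, ← h22, hp1, hp2]
    field_simp
    rw [hΔ]; ring
  · simp only [polar_sub_right, polar_add_right, polar_smul_right, huu, C.u'w', hu'U, hu'Y,
      smul_eq_mul, mul_zero, add_zero, sub_zero]
    rw [← ha', hl1, hl2]
    field_simp
    rw [hΔ]; ring
  · simp only [polar_sub_right, polar_add_right, polar_smul_right, hww, hwu, hw'U, hw'Y,
      smul_eq_mul, mul_zero, add_zero, sub_zero]
    rw [← hb', hl1, hl2]
    field_simp
    rw [hΔ]; ring

include C in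
/-- the image of `z - 1` lies in the totally singular line `⟨ŵ, u'⟩` -/
theorem z_image (c : F) (hc : act Q z w' = w' + c • u') (v : Fin n → F) :
    ∃ s d : F, act Q z v - v = s • wh Q U Y u' w' + (d * c) • u' := by
  obtain ⟨l1, l2, p1, p2, t, hv, t1, t2, t3, t4⟩ := C.decomp v
  refine ⟨c * polar Q (l1 • U + l2 • Y) u', p2, ?_⟩
  have hl := C.z_line c hc l1 l2
  have ht := C.fix t t1 t2 t3 t4
  have e : ∀ l : Fin n → F, v = l + (p1 • u' + p2 • w') + t → act Q z v - v = (act Q z l - l) +
      p1 • (act Q z u' - u') + p2 • (act Q z w' - w') + (act Q z t - t) := by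
    intro l hvl
    conv_lhs => rw [hvl]
    rw [act_add, act_add, act_add, act_smul, act_smul]
    module
  rw [e _ hv, hl, C.zu', hc, ht]
  module

include C in
/-- main conclusion: `u'` lies in the image of `z - 1` unless `z = 1` -/
theorem main (hz : z ≠ 1) : ∃ q : Fin n → F, u' = act Q z q - q := by
  obtain ⟨c, hc⟩ := C.zw'
  by_cases hc0 : c = 0
  · exfalso
    apply hz
    apply ext_act
    intro v
    obtain ⟨s, d, hsd⟩ := C.z_image c hc v
    obtain ⟨l1, l2, p1, p2, t, hv, t1, t2, t3, t4⟩ := C.decomp v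
    have hl := C.z_line c hc l1 l2
    have ht := C.fix t t1 t2 t3 t4
    have e1 : act Q (1 : ↥(isometryGroup F ⇑Q)) v = v := by
      show (1 : Matrix (Fin n) (Fin n) F) *ᵥ v = v
      rw [one_mulVec]
    rw [e1]
    have e' : ∀ l : Fin n → F, v = l + (p1 • u' + p2 • w') + t → act Q z v - v = (act Q z l - l) +
        p1 • (act Q z u' - u') + p2 • (act Q z w' - w') + (act Q z t - t) := by
      intro l hvl
      conv_lhs => rw [hvl]
      rw [act_add, act_add, act_add, act_smul, act_smul]
      module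
    have e := e' _ hv
    rw [hl, C.zu', hc, ht, hc0] at e
    simp only [zero_mul, zero_smul, sub_self, smul_zero, add_zero, add_sub_cancel_left] at e
    exact sub_eq_zero.mp e
  · refine ⟨c⁻¹ • w', ?_⟩
    rw [act_smul, hc, smul_add, smul_smul, inv_mul_cancel₀ hc0, one_smul]
    abel

end ZC

end Cfsg.Agent.Lib.Helper6.Oqs
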