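import Mathlib
import Cfsg.Prelude
import Cfsg.Agent.Lib.Helper6.OqsG
import Cfsg.Agent.Lib.Helper6.OqsH
import Cfsg.Agent.Lib.Helper2.SfmE

/-!
# Orthogonal subfield groups (part I): characteristic two; an overgroup with only rational
parameters is contained in the subfield group
-/

set_option autoImplicit false
set_option maxHeartbeats 2000000
set_option linter.unusedSimpArgs false
set_option linter.unusedVariables false
set_option linter.unusedSectionVars false

namespace Cfsg.Agent.Lib.Helper6.Oqs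

open Module QuadraticMap Matrix
open Cfsg
open Cfsg.Agent.Lib.Helper5.CartanDieudonne Cfsg.Agent.Lib.Helper5.Siegel
  Cfsg.Agent.Lib.Helper5.QuadIsom Cfsg.Agent.Lib.Helper5.Eichler
  Cfsg.Agent.Lib.Helper5.OmegaSimple Cfsg.Agent.Lib.Helper5.OrthSingularMax
open Cfsg.Agent.Lib.Helper5.MaxTS Cfsg.Agent.Lib.Helper1.UoA

variable {F : Type*} [Field F] [Fintype F] {n : ℕ} {F₀ : Subfield F}
  {Q : QuadraticForm F (Fin n → F)}

/-- a linear map agreeing with the identity modulo a subspace on the standard basis does so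
everywhere -/
theorem mulVec_sub_mem (M : Matrix (Fin n) (Fin n) F) (S : Submodule F (Fin n → F))
    (h : ∀ i, M *ᵥ (Pi.single i (1 : F)) - Pi.single i (1 : F) ∈ S) (v : Fin n → F) :
    M *ᵥ v - v ∈ S := by
  have key : ∀ w : Fin n → F, M *ᵥ w - w =
      (Matrix.mulVecLin M - LinearMap.id : (Fin n → F) →ₗ[F] (Fin n → F)) w := by
    intro w
    simp
  rw [key, vec_eq_sum v, map_sum]
  apply S.sum_mem
  intro i _
  rw [map_smul, ← key]
  exact S.smul_mem _ (h i)

theorem eich_mul_self (h2 : (2 : F) = 0) (u z : Fin n → F) (hu : Q u = 0)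
    (huz : polar Q u z = 0) : eich Q u z hu huz * eich Q u z hu huz = 1 := by
  have e : z + z = 0 := by rw [← two_smul F z, h2, zero_smul]
  rw [eich_mul Q u z z hu huz huz]
  rw [eich_congr rfl e hu _ hu (by rw [polar_zero_right])]
  exact eich_zero Q u hu

/-- in characteristic two a long root element maps every vector to an orthogonal one -/
theorem polar_act_eich_self (h2 : (2 : F) = 0) {u y : Fin n → F} (hu : Q u = 0) (hy : Q y = 0)
    (huy : polar Q u y = 0) (v : Fin n → F) : polar Q v (act Q (eich Q u y hu huy) v) = 0 := by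
  rw [act_eich_apply, hy, polar_add_right, polar_add_right, polar_smul_right, polar_smul_right,
    polar_self_two h2 v, polar_comm (⇑Q) v y, polar_comm (⇑Q) v u]
  simp only [smul_eq_mul, zero_mul, add_zero, zero_add]
  ring

variable (hnd : (polarBilin Q).Nondegenerate) (hrat : RatQ F₀ Q) (hn : 13 ≤ n)
  {H : Subgroup (GL (Fin n) F)}
  (hMH : Cfsg.Geo.subfieldSubgroup F₀ 1 ⊓ Cfsg.Geo.omegaGL ⇑Q ≤ H)
  (hHΩ : H ≤ Cfsg.Geo.omegaGL ⇑Q)

include hnd hrat hn in
/-- a vector orthogonal to all rational vectors of `a^⊥` is a multiple of `a` -/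
theorem perp_span1 {a : Fin n → F₀} (ha0 : a ≠ 0) (ha : Q0 hrat a = 0) {t : Fin n → F}
    (ht : ∀ w : Fin n → F₀, polar (Q0 hrat) a w = 0 → polar Q (lift F₀ w) t = 0) :
    ∃ c : F, t = c • lift F₀ a := by
  obtain ⟨a', ha', h1⟩ := exists_partner (Q0_nondeg hnd hrat) ha0 ha
  refine ⟨polar Q (lift F₀ a') t, ?_⟩
  have e : t - polar Q (lift F₀ a') t • lift F₀ a = 0 := by
    apply eq_zero_of_polar_lift (F₀ := F₀) hnd
    intro v
    obtain ⟨bv, hbv⟩ : ∃ bv : Fin n → F₀, bv = v - polar (Q0 hrat) a v • a' := ⟨_, rfl⟩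
    have b1 : polar (Q0 hrat) a bv = 0 := by
      rw [hbv, polar_sub_right, polar_smul_right, h1, smul_eq_mul, mul_one, sub_self]
    have b3 := ht bv b1
    have e1 : lift F₀ v = lift F₀ bv + ((polar (Q0 hrat) a v : F₀) : F) • lift F₀ a' := by
      rw [hbv, lift_sub, lift_smul]; abel
    have k1 : polar Q (lift F₀ a) (lift F₀ v) = ((polar (Q0 hrat) a v : F₀) : F) := by
      rw [coe_polar_Q0]
    rw [polar_sub_left, polar_smul_left, k1, polar_comm (⇑Q) t (lift F₀ v), e1, polar_add_left,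
      polar_smul_left, b3]
    simp only [smul_eq_mul, zero_add]
    ring
  exact sub_eq_zero.mp e

include hnd hrat hn in
/-- a rational totally singular pair in general position with respect to `u', w'` -/
theorem exists_pair_det {u' w' : Fin n → F} (hu'0 : u' ≠ 0) (hQu' : Q u' = 0) (hQw' : Q w' = 1)
    (hu'w' : polar Q u' w' = 0) :
    ∃ a b : Fin n → F₀, TS (Q0 hrat) a b ∧
      polar Q (lift F₀ a) u' * polar Q (lift F₀ b) w' -
        polar Q (lift F₀ a) w' * polar Q (lift F₀ b) u' ≠ 0 := by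
  obtain ⟨a, ha, hau'⟩ := exists_rat_sing_not_perp hnd hrat hn hu'0
  have ha0 : a ≠ 0 := by
    rintro rfl
    apply hau'
    rw [lift_zero, polar_zero_left]
  have hQA : Q (lift F₀ a) = 0 := Q_lift_eq_zero hrat ha
  obtain ⟨A, hA⟩ : ∃ A, A = lift F₀ a := ⟨_, rfl⟩
  rw [← hA] at hau' hQA
  obtain ⟨α1, hα1⟩ : ∃ α1, α1 = polar Q A u' := ⟨_, rfl⟩
  obtain ⟨α2, hα2⟩ : ∃ α2, α2 = polar Q A w' := ⟨_, rfl⟩
  rw [← hα1] at hau'
  obtain ⟨c', hc'⟩ : ∃ c', c' = α2 • u' - α1 • w' := ⟨_, rfl⟩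
  have hAc' : polar Q A c' = 0 := by
    rw [hc', polar_sub_right, polar_smul_right, polar_smul_right, ← hα1, ← hα2, smul_eq_mul,
      smul_eq_mul]
    ring
  have hQc' : Q c' = α1 * α1 := by
    rw [hc', quad_sub', QuadraticMap.map_smul, QuadraticMap.map_smul, hQu', hQw', polar_smul_left,
      polar_smul_right, hu'w']
    simp only [smul_eq_mul, mul_zero, mul_one, zero_add, sub_zero]
  obtain ⟨b, hb, hab, hbc'⟩ : ∃ b : Fin n → F₀, Q0 hrat b = 0 ∧ polar (Q0 hrat) a b = 0 ∧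
      polar Q (lift F₀ b) c' ≠ 0 := by
    by_contra hcon
    push Not at hcon
    have h1 : ∀ y, polar (Q0 hrat) a y = 0 → polar Q (lift F₀ y) c' = 0 := by
      apply rat_sing_induction hnd hrat hn a (fun y => polar Q (lift F₀ y) c' = 0)
      · intro x y hx hy
        show polar Q (lift F₀ (x + y)) c' = 0
        rw [lift_add, polar_add_left, hx, hy, add_zero]
      · intro s hs has
        exact hcon s hs has
    obtain ⟨k, hk⟩ := perp_span1 hnd hrat hn ha0 ha h1
    have : Q c' = 0 := by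
      rw [hk, ← hA, QuadraticMap.map_smul, hQA, smul_zero]
    rw [hQc'] at this
    exact hau' (mul_self_eq_zero.mp this)
  refine ⟨a, b, ⟨ha, hb, hab, ha0, ?_⟩, ?_⟩
  · intro hmem
    rw [Submodule.mem_span_singleton] at hmem
    obtain ⟨k, hk⟩ := hmem
    apply hbc'
    rw [← hk, lift_smul, polar_smul_left, ← hA, hAc', smul_zero]
  · rw [← hA, ← hα1, ← hα2]
    have e : polar Q (lift F₀ b) c' =
        -(α1 * polar Q (lift F₀ b) w' - α2 * polar Q (lift F₀ b) u') := by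
      rw [hc', polar_sub_right, polar_smul_right, polar_smul_right, smul_eq_mul, smul_eq_mul]
      ring
    intro h0
    apply hbc'
    rw [e, h0, neg_zero]

include hn in
/-- in characteristic two an involution in the subfield group is rational -/
theorem rat_of_invol (h2 : (2 : F) = 0) (z : ↥(isometryGroup F ⇑Q)) (hzz : z * z = 1)
    (hz : (z : GL (Fin n) F) ∈ Cfsg.Geo.subfieldSubgroup F₀ 1) :
    ∀ v : Fin n → F, IsRat F₀ v → IsRat F₀ (act Q z v) := by
  obtain ⟨c, hc0, hc⟩ := act_of_mem_sfs hz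
  have hc' : ∀ v : Fin n → F, IsRat F₀ v → IsRat F₀ (c • act Q z v) := hc
  obtain ⟨e0, he0⟩ : ∃ e0 : Fin n → F, e0 = Pi.single (⟨0, by omega⟩ : Fin n) (1 : F) := ⟨_, rfl⟩
  have he0rat : IsRat F₀ e0 := by rw [he0]; exact isRat_single _
  have he0ne : e0 ≠ 0 := by
    intro h
    have := congrFun h ⟨0, by omega⟩
    rw [he0, Pi.single_eq_same] at this
    exact one_ne_zero this
  have h1 := hc' _ (hc' e0 he0rat)
  have e : c • act Q z (c • act Q z e0) = (c * c) • e0 := by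
    rw [act_smul, ← act_mul, hzz, smul_smul]
    congr 1
    show (1 : Matrix (Fin n) (Fin n) F) *ᵥ e0 = e0
    rw [one_mulVec]
  rw [e] at h1
  have hcc : c * c ∈ F₀ := he0rat.scalar_mem he0ne h1
  have hcF : c ∈ F₀ := Cfsg.Agent.Lib.Helper2.Sfm.mem_of_sq_mem h2 c hcc
  intro v hv
  have : act Q z v = c⁻¹ • (c • act Q z v) := by
    rw [smul_smul, inv_mul_cancel₀ hc0, one_smul]
  rw [this]
  exact IsRat.smul (F₀.inv_mem hcF) (hc' v hv)

include hnd hrat hn hMH hHΩ in
/-- if a rational isometry `z` has `z - 1` with image in a totally singular line containing the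
image `T` of a rational singular vector under `x ∈ H`, and `T` lies in that image, then `x` is in
the subfield group -/
theorem ratLine (hNB : NoBad H hrat) (x : ↥(isometryGroup F ⇑Q)) (hx : (x : GL (Fin n) F) ∈ H)
    {a0 : Fin n → F₀} (ha0 : a0 ≠ 0) (ha : Q0 hrat a0 = 0)
    (z : ↥(isometryGroup F ⇑Q)) (hzrat : ∀ v : Fin n → F, IsRat F₀ v → IsRat F₀ (act Q z v))
    {T g1 : Fin n → F} (hTdef : T = act Q x (lift F₀ a0)) (hg1 : Q g1 = 0)
    (hg1T : polar Q g1 T = 0)
    (himg : ∀ v, ∃ s d : F, act Q z v - v = s • g1 + d • T)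
    (hT : ∃ q, T = act Q z q - q) :
    (x : GL (Fin n) F) ∈ Cfsg.Geo.subfieldSubgroup F₀ 1 := by
  have hT0 : T ≠ 0 := by rw [hTdef]; exact act_ne_zero x (lift_ne_zero ha0)
  have hQT : Q T = 0 := by rw [hTdef, quad_act]; exact Q_lift_eq_zero hrat ha
  obtain ⟨q, hq⟩ := hT
  obtain ⟨r, hr⟩ : ∃ r : Fin n → Fin n → F,
      ∀ i, r i = act Q z (Pi.single i 1) - Pi.single i 1 := ⟨_, fun _ => rfl⟩
  have hrrat : ∀ i, IsRat F₀ (r i) := by
    intro i
    rw [hr i]
    exact (hzrat _ (isRat_single i)).sub (isRat_single i)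
  have hrimg : ∀ i, ∃ s d : F, r i = s • g1 + d • T := by
    intro i
    obtain ⟨s, d, hsd⟩ := himg (Pi.single i 1)
    exact ⟨s, d, by rw [hr i, hsd]⟩
  have hrQ : ∀ i, Q (r i) = 0 := by
    intro i
    obtain ⟨s, d, hsd⟩ := hrimg i
    rw [hsd]; exact quad_comb_ts hg1 hQT hg1T s d
  have hrr : ∀ i j, polar Q (r i) (r j) = 0 := by
    intro i j
    obtain ⟨s, d, hsd⟩ := hrimg i
    obtain ⟨s', d', hsd'⟩ := hrimg j
    rw [hsd, hsd']; exact polar_comb_ts hg1 hQT hg1T s d s' d'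
  have hmem : ∀ S : Submodule F (Fin n → F), (∀ i, r i ∈ S) → T ∈ S := by
    intro S hS
    rw [hq]
    exact mulVec_sub_mem ((z : GL (Fin n) F) : Matrix (Fin n) (Fin n) F) S
      (fun i => by have := hS i; rw [hr i] at this; exact this) q
  obtain ⟨i1, hi1⟩ : ∃ i, r i ≠ 0 := by
    by_contra hcon
    push Not at hcon
    have := hmem ⊥ (fun i => by rw [hcon i]; exact Submodule.zero_mem _)
    exact hT0 ((Submodule.mem_bot F).mp this)
  obtain ⟨r1, hr1⟩ := exists_lift (hrrat i1)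
  have hr10 : r1 ≠ 0 := by
    rintro rfl
    apply hi1
    rw [← hr1, lift_zero]
  have hQr1 : Q0 hrat r1 = 0 := by
    apply Subtype.ext
    rw [coe_Q0, hr1]
    exact hrQ i1
  by_cases hall : ∀ i, r i ∈ Submodule.span F {r i1}
  · have := hmem _ hall
    rw [Submodule.mem_span_singleton] at this
    obtain ⟨κ, hκ⟩ := this
    have hκ0 : κ ≠ 0 := by
      rintro rfl
      rw [zero_smul] at hκ
      exact hT0 hκ.symm
    apply TI hnd hrat hn hMH hHΩ hNB x hx ha0 ha hr10 (inv_ne_zero hκ0)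
    rw [hr1, ← hTdef, ← hκ, smul_smul, inv_mul_cancel₀ hκ0, one_smul]
  · push Not at hall
    obtain ⟨i2, hi2⟩ := hall
    obtain ⟨r2, hr2⟩ := exists_lift (hrrat i2)
    have hQr2 : Q0 hrat r2 = 0 := by
      apply Subtype.ext
      rw [coe_Q0, hr2]
      exact hrQ i2
    have hr12 : polar (Q0 hrat) r1 r2 = 0 := by
      apply Subtype.ext
      rw [coe_polar_Q0, hr1, hr2]
      exact hrr i1 i2
    have hTS : TS (Q0 hrat) r1 r2 := by
      refine ⟨hQr1, hQr2, hr12, hr10, ?_⟩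
      intro hm
      rw [Submodule.mem_span_singleton] at hm
      obtain ⟨k, hk⟩ := hm
      apply hi2
      rw [Submodule.mem_span_singleton]
      refine ⟨(k : F), ?_⟩
      rw [← hr1, ← hr2, ← hk, lift_smul]
    obtain ⟨s1, d1, h1⟩ := hrimg i1
    obtain ⟨s2, d2, h2'⟩ := hrimg i2
    have hcomb : s2 • r i1 - s1 • r i2 = (s2 * d1 - s1 * d2) • T := by
      rw [h1, h2']; module
    by_cases hδ : s2 * d1 - s1 * d2 = 0
    · exfalso
      rw [hδ, zero_smul, sub_eq_zero] at hcomb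
      by_cases hs1 : s1 = 0
      · rw [hs1, zero_smul] at hcomb
        have hs2 : s2 = 0 := by
          rcases smul_eq_zero.mp hcomb with h | h
          · exact h
          · exact absurd h hi1
        rw [hs1, zero_smul, zero_add] at h1
        rw [hs2, zero_smul, zero_add] at h2'
        have hd1 : d1 ≠ 0 := by
          rintro rfl
          rw [zero_smul] at h1
          exact hi1 h1
        apply hi2
        rw [Submodule.mem_span_singleton]
        refine ⟨d2 * d1⁻¹, ?_⟩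
        rw [h1, h2', smul_smul, mul_assoc, inv_mul_cancel₀ hd1, mul_one]
      · apply hi2
        rw [Submodule.mem_span_singleton]
        refine ⟨s1⁻¹ * s2, ?_⟩
        rw [← smul_smul, hcomb, smul_smul, inv_mul_cancel₀ hs1, one_smul]
    · have e : (s2 * d1 - s1 * d2)⁻¹ • (s2 • r i1 - s1 • r i2) = T := by
        rw [hcomb, smul_smul, inv_mul_cancel₀ hδ, one_smul]
      apply noMixed hnd hrat hn hMH hHΩ hNB x hx ha0 ha hTS
        (α := (s2 * d1 - s1 * d2)⁻¹ * s2) (β := -((s2 * d1 - s1 * d2)⁻¹ * s1))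
      rw [hr1, hr2, ← hTdef, ← e]
      module

include hnd hrat hn hMH hHΩ in
/-- characteristic two: an overgroup of the rational group inside `Ω` with only rational parameters
is contained in the subfield group -/
theorem le_sfs_even (h2 : (2 : F) = 0) (hNB : NoBad H hrat) :
    H ≤ Cfsg.Geo.subfieldSubgroup F₀ 1 := by
  intro g hg
  obtain ⟨x, -, hxg⟩ := hHΩ hg
  have hxg' : (x : GL (Fin n) F) = g := hxg
  subst hxg'
  have hx : (x : GL (Fin n) F) ∈ H := hg
  have h7 : 7 ≤ finrank F₀ (Fin n → F₀) := by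
    have := finrank_rat_ge (F₀ := F₀) hnd hn; omega
  obtain ⟨a0, y0, hTS0⟩ := exists_TS hnd hrat hn
  have ha0 : a0 ≠ 0 := hTS0.ne
  have ha : Q0 hrat a0 = 0 := hTS0.qu
  obtain ⟨as, has, haas⟩ := exists_partner (Q0_nondeg hnd hrat) ha0 ha
  obtain ⟨b, b', hb, hb', hbb', hab, hasb, hab', hasb'⟩ :=
    exists_hyp_perp2 (Q0_nondeg hnd hrat) h7 a0 as
  obtain ⟨w0, hw0⟩ : ∃ w0 : Fin n → F₀, w0 = b + b' := ⟨_, rfl⟩
  have hQw0 : Q0 hrat w0 = 1 := by
    rw [hw0, Cfsg.Agent.Lib.Helper1.UoA.quad_add', hb, hb', hbb']; simp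
  have haw0 : polar (Q0 hrat) a0 w0 = 0 := by rw [hw0, polar_add_right, hab, hab', add_zero]
  have hw0b : polar (Q0 hrat) w0 b = 1 := by
    rw [hw0, polar_add_left, polar_self_sing _ hb, polar_comm _ b' b, hbb', zero_add]
  have hw0as : polar (Q0 hrat) w0 as = 0 := by
    rw [hw0, polar_add_left, polar_comm _ b as, polar_comm _ b' as, hasb, hasb', add_zero]
  -- the images
  obtain ⟨u', hu'⟩ : ∃ u', u' = act Q x (lift F₀ a0) := ⟨_, rfl⟩
  obtain ⟨w', hw'⟩ : ∃ w', w' = act Q x (lift F₀ w0) := ⟨_, rfl⟩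
  obtain ⟨pbv, hpbv⟩ : ∃ pbv, pbv = act Q x (lift F₀ as) := ⟨_, rfl⟩
  obtain ⟨vbv, hvbv⟩ : ∃ vbv, vbv = act Q x (lift F₀ b) := ⟨_, rfl⟩
  have hu'0 : u' ≠ 0 := by rw [hu']; exact act_ne_zero x (lift_ne_zero ha0)
  have hQu' : Q u' = 0 := by rw [hu', quad_act]; exact Q_lift_eq_zero hrat ha
  have hQw' : Q w' = 1 := by
    rw [hw', quad_act, ← coe_Q0 hrat w0, hQw0]; rfl
  have hu'w' : polar Q u' w' = 0 := by rw [hu', hw', polar_act]; exact polar_lift_eq_zero hrat haw0
  have hu'vb : polar Q u' vbv = 0 := by rw [hu', hvbv, polar_act]; exact polar_lift_eq_zero hrat hab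
  have hw'vb : polar Q w' vbv = 1 := by rw [hw', hvbv, polar_act]; exact polar_lift_eq_one hrat hw0b
  have hu'pb : polar Q u' pbv = 1 := by rw [hu', hpbv, polar_act]; exact polar_lift_eq_one hrat haas
  have hw'pb : polar Q w' pbv = 0 := by
    rw [hw', hpbv, polar_act]; exact polar_lift_eq_zero hrat hw0as
  obtain ⟨hq1, hq2, hEb⟩ : EH Q H u' w' := by
    rw [hu', hw']
    exact EH_conj x hx (EH_rat hnd hrat hn hMH ha haw0)
  -- the rational pair
  obtain ⟨u, y, hTS, hdet⟩ := exists_pair_det hnd hrat hn hu'0 hQu' hQw' hu'w'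
  obtain ⟨hq3, hq4, hEa⟩ : EH Q H (lift F₀ u) (lift F₀ y) := EH_rat hnd hrat hn hMH hTS.qu hTS.uy
  obtain ⟨us, ys, -, -, f1, f2, f3, f4, -⟩ := exists_frame (Q0_nondeg hnd hrat) hTS
  have hQY : Q (lift F₀ y) = 0 := Q_lift_eq_zero hrat hTS.qy
  obtain ⟨U, hU⟩ : ∃ U, U = lift F₀ u := ⟨_, rfl⟩
  obtain ⟨Y, hY⟩ : ∃ Y, Y = lift F₀ y := ⟨_, rfl⟩
  obtain ⟨Us, hUs⟩ : ∃ Us, Us = lift F₀ us := ⟨_, rfl⟩
  obtain ⟨Ys, hYs⟩ : ∃ Ys, Ys = lift F₀ ys := ⟨_, rfl⟩
  have g1 : polar Q U Us = 1 := by rw [hU, hUs]; exact polar_lift_eq_one hrat f1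
  have g2 : polar Q Y Us = 0 := by rw [hY, hUs]; exact polar_lift_eq_zero hrat f2
  have g3 : polar Q U Ys = 0 := by rw [hU, hYs]; exact polar_lift_eq_zero hrat f3
  have g4 : polar Q Y Ys = 1 := by rw [hY, hYs]; exact polar_lift_eq_one hrat f4
  revert hq3 hq4
  rw [← hY] at hQY
  rw [← hU, ← hY] at hdet
  rw [← hU, ← hY]
  intro hq3 hq4 hEa
  -- the two involutions
  obtain ⟨ea, hea⟩ : ∃ ea, ea = eich Q U Y hq3 hq4 := ⟨_, rfl⟩
  obtain ⟨eb, heb⟩ : ∃ eb, eb = eich Q u' w' hq1 hq2 := ⟨_, rfl⟩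
  have haa : ea * ea = 1 := by rw [hea]; exact eich_mul_self h2 U Y hq3 hq4
  have hbb : eb * eb = 1 := by rw [heb]; exact eich_mul_self h2 u' w' hq1 hq2
  have heaH : (ea : GL (Fin n) F) ∈ H := by rw [hea]; exact hEa
  have hebH : (eb : GL (Fin n) F) ∈ H := by rw [heb]; exact hEb
  rcases Cfsg.Agent.Lib.Helper2.Sfm.dihedral_cases ea eb haa hbb (orderOf_pos _) with
    ⟨k, hk⟩ | ⟨k, hz1, hzz, hca, hcb⟩
  · exfalso
    obtain ⟨g, hgdef⟩ : ∃ g, g = (ea * eb) ^ k := ⟨_, rfl⟩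
    rw [← hgdef] at hk
    have e1 : polar Q pbv (act Q eb pbv) = -1 := by
      rw [heb, act_eich_apply, hu'pb, hw'pb, hQw', polar_add_right, polar_add_right,
        polar_smul_right, polar_smul_right, polar_self_two h2 pbv, polar_comm (⇑Q) pbv w', hw'pb,
        polar_comm (⇑Q) pbv u', hu'pb]
      simp
    have e2 : polar Q pbv (act Q eb pbv) = 0 := by
      rw [← polar_act Q g⁻¹ pbv (act Q eb pbv), ← act_mul, ← hk]
      have : g⁻¹ * (g * ea * g⁻¹) = ea * g⁻¹ := by group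
      rw [this, act_mul, hea]
      exact polar_act_eich_self h2 hq3 hQY hq4 _
    rw [e1] at e2
    exact one_ne_zero (neg_eq_zero.mp e2)
  · obtain ⟨z, hzdef⟩ : ∃ z, z = (ea * eb) ^ k := ⟨_, rfl⟩
    rw [← hzdef] at hz1 hzz hca hcb
    have hzH : (z : GL (Fin n) F) ∈ H := by
      rw [hzdef, Subgroup.coe_pow, Subgroup.coe_mul]
      exact H.pow_mem (H.mul_mem heaH hebH) k
    have hfix : ∀ t, polar Q U t = 0 → polar Q Y t = 0 → polar Q u' t = 0 → polar Q w' t = 0 →
        act Q z t = t := by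
      intro t t1 t2 t3 t4
      have hab1 : act Q (ea * eb) t = t := by
        rw [act_mul, heb, act_eich_perp hq1 hq2 t3 t4, hea, act_eich_perp hq3 hq4 t1 t2]
      have : ∀ m : ℕ, act Q ((ea * eb) ^ m) t = t := by
        intro m
        induction m with
        | zero =>
          rw [pow_zero]
          show (1 : Matrix (Fin n) (Fin n) F) *ᵥ t = t
          rw [one_mulVec]
        | succ m ih => rw [pow_succ, act_mul, hab1, ih]
      rw [hzdef]; exact this k
    rw [hea] at hca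
    rw [heb] at hcb
    have C : ZC Q z U Y u' w' Us Ys vbv pbv :=
      { h2 := h2, qU := hq3, qY := hQY, UY := hq4, qu' := hq1, qw' := hQw', u'w' := hq2,
        det := hdet, UUs := g1, YUs := g2, UYs := g3, YYs := g4, u'vb := hu'vb, w'vb := hw'vb,
        u'pb := hu'pb, w'pb := hw'pb, zz := hzz, ca := hca, cb := hcb, fix := hfix }
    obtain ⟨q, hq⟩ := C.main hz1
    obtain ⟨c, hc⟩ := C.zw'
    have hzS : (z : GL (Fin n) F) ∈ Cfsg.Geo.subfieldSubgroup F₀ 1 := by
      apply noMixed hnd hrat hn hMH hHΩ hNB z hzH hTS.ne hTS.qu hTS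
        (α := polar Q Y (act Q z Ys)) (β := -polar Q U (act Q z Ys))
      rw [← hU, ← hY, C.zU]
      module
    have hzrat := rat_of_invol hn h2 z hzz hzS
    exact ratLine hnd hrat hn hMH hHΩ hNB x hx ha0 ha z hzrat hu' C.q_wh C.wh_u'
      (fun v => by
        obtain ⟨s, d, h⟩ := C.z_image c hc v
        exact ⟨s, d * c, h⟩) ⟨q, hq⟩

end Cfsg.Agent.Lib.Helper6.Oqs
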