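import Mathlib
import Cfsg.Prelude
import Cfsg.Agent.Lib.Helper6.OqsI
import Cfsg.Agent.Lib.Helper5.OrthCard
import Cfsg.Agent.Lib.Helper2.SfmF

/-!
# Orthogonal subfield groups (part J): maximality in characteristic two, change of basis, scaling
-/

set_option autoImplicit false
set_option maxHeartbeats 2000000
set_option linter.unusedSimpArgs false
set_option linter.unusedVariables false
set_option linter.unusedSectionVars false

namespace Cfsg.Agent.Lib.Helper6.Oqs

open Module QuadraticMap Matrix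
open Cfsg
open Cfsg.Agent.Lib.Helper5.CartanDieudonne Cfsg.Agent.Lib.Helper5.Siegel
  Cfsg.Agent.Lib.Helper5.QuadIsom Cfsg.Agent.Lib.Helper5.Eichler
  Cfsg.Agent.Lib.Helper5.OmegaSimple Cfsg.Agent.Lib.Helper5.OrthSingularMax
open Cfsg.Agent.Lib.Helper5.MaxTS Cfsg.Agent.Lib.Helper1.UoA

section General

variable {ι : Type} [Fintype ι] [DecidableEq ι] {F : Type*} [Field F]

theorem omegaGL_eq_commutator (Q : (ι → F) → F) :
    Cfsg.Geo.omegaGL Q = ⁅isometryGroup F Q, isometryGroup F Q⁆ := by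
  unfold Cfsg.Geo.omegaGL Omega
  rw [commutator_def, Subgroup.map_commutator]
  have : (⊤ : Subgroup ↥(isometryGroup F Q)).map (isometryGroup F Q).subtype =
      isometryGroup F Q := by
    rw [← MonoidHom.range_eq_map, Subgroup.range_subtype]
  rw [this]

theorem isometryGroup_smul' (Q : (ι → F) → F) {ζ : F} (hζ : ζ ≠ 0) :
    isometryGroup F (fun v => ζ * Q v) = isometryGroup F Q := by
  ext g
  rw [Cfsg.Agent.Lib.Helper5.OrthCard.mem_isometryGroup_iff,
    Cfsg.Agent.Lib.Helper5.OrthCard.mem_isometryGroup_iff]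
  constructor
  · intro h v
    exact mul_left_cancel₀ hζ (h v)
  · intro h v
    show ζ * Q _ = ζ * Q v
    rw [h v]

theorem omegaGL_smul' (Q : (ι → F) → F) {ζ : F} (hζ : ζ ≠ 0) :
    Cfsg.Geo.omegaGL (fun v => ζ * Q v) = Cfsg.Geo.omegaGL Q := by
  rw [omegaGL_eq_commutator, omegaGL_eq_commutator, isometryGroup_smul' Q hζ]

theorem gl_mulVec_cancel (P : GL ι F) (v : ι → F) : (P⁻¹).1 *ᵥ (P.1 *ᵥ v) = v := by
  rw [Matrix.mulVec_mulVec, ← Units.val_mul, inv_mul_cancel, Units.val_one, Matrix.one_mulVec]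

theorem gl_mulVec_cancel' (P : GL ι F) (v : ι → F) : P.1 *ᵥ ((P⁻¹).1 *ᵥ v) = v := by
  rw [Matrix.mulVec_mulVec, ← Units.val_mul, mul_inv_cancel, Units.val_one, Matrix.one_mulVec]

theorem isometryGroup_conj (Q : (ι → F) → F) (P : GL ι F) :
    isometryGroup F Q =
      (isometryGroup F (fun v => Q (P.1 *ᵥ v))).map (MulAut.conj P).toMonoidHom := by
  ext g
  rw [Subgroup.mem_map]
  constructor
  · intro hg
    refine ⟨P⁻¹ * g * P, ?_, ?_⟩
    · rw [Cfsg.Agent.Lib.Helper5.OrthCard.mem_isometryGroup_iff]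
      intro v
      show Q (P.1 *ᵥ ((P⁻¹ * g * P : GL ι F).1 *ᵥ v)) = Q (P.1 *ᵥ v)
      have e : P.1 *ᵥ ((P⁻¹ * g * P : GL ι F).1 *ᵥ v) = g.1 *ᵥ (P.1 *ᵥ v) := by
        rw [Matrix.mulVec_mulVec, Matrix.mulVec_mulVec, ← Units.val_mul, ← Units.val_mul]
        congr 2
        group
      rw [e]
      exact (Cfsg.Agent.Lib.Helper5.OrthCard.mem_isometryGroup_iff Q g).mp hg _
    · show P * (P⁻¹ * g * P) * P⁻¹ = g
      group
  · rintro ⟨h, hh, rfl⟩
    rw [Cfsg.Agent.Lib.Helper5.OrthCard.mem_isometryGroup_iff] at hh ⊢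
    intro v
    show Q ((P * h * P⁻¹ : GL ι F).1 *ᵥ v) = Q v
    have e := hh ((P⁻¹).1 *ᵥ v)
    have e1 : P.1 *ᵥ (h.1 *ᵥ ((P⁻¹).1 *ᵥ v)) = (P * h * P⁻¹ : GL ι F).1 *ᵥ v := by
      rw [Matrix.mulVec_mulVec, Matrix.mulVec_mulVec, ← Units.val_mul, ← Units.val_mul, mul_assoc]
    rw [e1, gl_mulVec_cancel'] at e
    exact e

theorem omegaGL_conj (Q : (ι → F) → F) (P : GL ι F) :
    Cfsg.Geo.omegaGL Q =
      (Cfsg.Geo.omegaGL (fun v => Q (P.1 *ᵥ v))).map (MulAut.conj P).toMonoidHom := by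
  rw [omegaGL_eq_commutator, omegaGL_eq_commutator, Subgroup.map_commutator,
    ← isometryGroup_conj]

/-- nondegeneracy after a change of basis -/
theorem nondeg_comp (Q : QuadraticForm F (ι → F)) (hnd : (polarBilin Q).Nondegenerate)
    (P : GL ι F) : (polarBilin (Q.comp (Matrix.toLin' P.1))).Nondegenerate := by
  have key : ∀ u v : ι → F, polar (Q.comp (Matrix.toLin' P.1)) u v =
      polar Q (P.1 *ᵥ u) (P.1 *ᵥ v) := by
    intro u v
    simp only [polar, QuadraticMap.comp_apply, Matrix.toLin'_apply, Matrix.mulVec_add]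
  constructor
  · intro u hu
    have h0 : P.1 *ᵥ u = 0 := by
      apply hnd.1
      intro w
      have := hu ((P⁻¹).1 *ᵥ w)
      rw [polarBilin_apply_apply, key, gl_mulVec_cancel'] at this
      exact this
    rw [← gl_mulVec_cancel P u, h0, Matrix.mulVec_zero]
  · intro u hu
    have h0 : P.1 *ᵥ u = 0 := by
      apply hnd.2
      intro w
      have := hu ((P⁻¹).1 *ᵥ w)
      rw [polarBilin_apply_apply, key, gl_mulVec_cancel'] at this
      exact this
    rw [← gl_mulVec_cancel P u, h0, Matrix.mulVec_zero]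

/-- nondegeneracy after scaling -/
theorem nondeg_smul (Q : QuadraticForm F (ι → F)) (hnd : (polarBilin Q).Nondegenerate)
    {ζ : F} (hζ : ζ ≠ 0) : (polarBilin (ζ • Q)).Nondegenerate := by
  have key : ∀ u v : ι → F, polar (ζ • Q) u v = ζ * polar Q u v := by
    intro u v
    simp only [polar, _root_.smul_apply, smul_eq_mul]
    ring
  constructor
  · intro u hu
    apply hnd.1
    intro w
    have := hu w
    rw [polarBilin_apply_apply, key] at this
    exact (mul_eq_zero.mp this).resolve_left hζ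
  · intro u hu
    apply hnd.2
    intro w
    have := hu w
    rw [polarBilin_apply_apply, key] at this
    exact (mul_eq_zero.mp this).resolve_left hζ

end General

variable {F : Type*} [Field F] [Fintype F] {n : ℕ} {F₀ : Subfield F}
  {Q : QuadraticForm F (Fin n → F)}

/-- a proper subfield -/
theorem ne_top_of_card (r : ℕ) (hr : r.Prime) (hcard : Fintype.card F = Nat.card F₀ ^ r) :
    F₀ ≠ ⊤ := by
  intro htop
  have h1 : Nat.card F₀ = Fintype.card F := by
    rw [htop, ← Nat.card_eq_fintype_card]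
    exact Nat.card_congr (Subfield.topEquiv (K := F)).toEquiv
  rw [h1] at hcard
  have h2 : 1 < Fintype.card F := Fintype.one_lt_card
  have h3 : 2 ≤ r := hr.two_le
  have h4 : Fintype.card F ^ 1 < Fintype.card F ^ r := Nat.pow_lt_pow_right h2 (by omega)
  rw [pow_one] at h4
  omega

/-- characteristic two, standard rational structure -/
theorem isMaximalIn_even (h2 : (2 : F) = 0) (hnd : (polarBilin Q).Nondegenerate)
    (hrat : RatQ F₀ Q) (hn : 13 ≤ n) (r : ℕ) (hr : r.Prime)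
    (hcard : Fintype.card F = Nat.card F₀ ^ r) :
    Cfsg.Geo.IsMaximalIn (Cfsg.Geo.omegaGL ⇑Q)
      (Cfsg.Geo.subfieldSubgroup F₀ 1 ⊓ Cfsg.Geo.omegaGL ⇑Q) := by
  constructor
  · rw [SetLike.lt_iff_le_and_exists]
    refine ⟨inf_le_right, ?_⟩
    obtain ⟨g, hg, hgn⟩ := exists_not_mem_sfs hnd hrat hn (ne_top_of_card r hr hcard)
    exact ⟨g, hg, fun h => hgn h.1⟩
  · intro M hMH hMΩ
    rcases full_or_noBad hnd hrat hn hMH r hr hcard with hF | hNB
    · right
      exact le_antisymm hMΩ (omega_le_of_full hnd hrat hn hMH hF)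
    · left
      exact le_antisymm (le_inf (le_sfs_even hnd hrat hn hMH hMΩ h2 hNB) hMΩ) hMH

/-- characteristic two, arbitrary rational structure -/
theorem isMaximalIn_even_P (h2 : (2 : F) = 0) (hnd : (polarBilin Q).Nondegenerate)
    (hn : 13 ≤ n) (P : GL (Fin n) F)
    (hP : ∀ u : Fin n → F, (∀ i, u i ∈ F₀) → Q (P.1 *ᵥ u) ∈ F₀) (r : ℕ) (hr : r.Prime)
    (hcard : Fintype.card F = Nat.card F₀ ^ r) :
    Cfsg.Geo.IsMaximalIn (Cfsg.Geo.omegaGL ⇑Q)
      (Cfsg.Geo.subfieldSubgroup F₀ P ⊓ Cfsg.Geo.omegaGL ⇑Q) := by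
  have hcoe : ⇑(Q.comp (Matrix.toLin' P.1)) = fun v => Q (P.1 *ᵥ v) := by
    funext v
    rw [QuadraticMap.comp_apply, Matrix.toLin'_apply]
  have hrat : RatQ F₀ (Q.comp (Matrix.toLin' P.1)) := by
    intro u hu
    rw [hcoe]
    exact hP u hu
  have key := isMaximalIn_even h2 (nondeg_comp Q hnd P) hrat hn r hr hcard
  have key2 := Cfsg.Agent.Lib.Helper2.Sfm.isMaximalIn_map (MulAut.conj P) key
  rw [hcoe] at key2
  rw [Subgroup.map_inf _ _ _ (MulAut.conj P).injective,
    ← Cfsg.Agent.Lib.Helper2.Sfm.subfieldSubgroup_eq_map, ← omegaGL_conj] at key2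
  exact key2

end Cfsg.Agent.Lib.Helper6.Oqs
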