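import Mathlib
import Cfsg.Prelude
import Cfsg.Agent.Lib.Helper5.SympFrames
import Cfsg.Agent.Lib.Helper6.OrthFrames3
import Cfsg.Agent.Lib.Helper6.OrthInv2c
import Cfsg.Agent.Lib.Helper6.MatCount

set_option autoImplicit false
set_option linter.unusedSectionVars false
set_option linter.unusedVariables false
set_option linter.unusedSimpArgs false
open Cfsg

/-! Centralisers of involutions in orthogonal groups over finite fields of characteristic two. -/

namespace Cfsg.Agent.Lib.Helper6.OrthCent

open Matrix QuadraticMap Module Cfsg.Agent.Lib.Helper5 Cfsg.Agent.Lib.Helper5.CartanDieudonne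
  Cfsg.Agent.Lib.Helper5.Refl Cfsg.Agent.Lib.Helper5.OrthCard Cfsg.Agent.Lib.Helper5.SpinorNorm
  Cfsg.Agent.Lib.Helper6.OrthInv2 Cfsg.Agent.Lib.Helper6.OrthFrames
  Cfsg.Agent.Lib.Helper6.CentFrame

variable {ι : Type} [Fintype ι] [DecidableEq ι] {F : Type*} [Field F]
  (Q : QuadraticForm F (ι → F))

/-! The isometry group acts on vectors (through Mathlib's matrix action) and hence on families of
vectors. -/

theorem smul_apply {k : ℕ} (g : ↥(isometryGroup F ⇑Q)) (s : Fin k → (ι → F)) (i : Fin k) :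
    (g • s) i = act Q g (s i) := rfl

theorem isFr_smul (c : F) {k : ℕ} (g : ↥(isometryGroup F ⇑Q)) (s : Fin k → (ι → F))
    (hs : IsFr Q c s) : IsFr Q c (g • s) := by
  refine ⟨?_, fun i j => ?_, fun i => ?_⟩
  · have h1 : g • s = (glEquiv (g : Matrix.GeneralLinearGroup ι F)) ∘ s := by
      funext i
      rfl
    rw [h1]
    exact hs.1.map' (glEquiv (g : Matrix.GeneralLinearGroup ι F)).toLinearMap
      (glEquiv (g : Matrix.GeneralLinearGroup ι F)).ker
  · rw [smul_apply, smul_apply, polar_act]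
    exact hs.2.1 i j
  · rw [smul_apply, quad_act]
    exact hs.2.2 i

theorem exists_smul_eq (hQ : (polarBilin Q).Nondegenerate) (c : F) {k : ℕ}
    (s t : Fin k → (ι → F)) (hs : IsFr Q c s) (ht : IsFr Q c t) :
    ∃ g : ↥(isometryGroup F ⇑Q), g • s = t := by
  obtain ⟨g, hg, hgx⟩ := QuadIsom.witt_family Q hQ k s t hs.1 ht.1
    (fun i => by rw [hs.2.2, ht.2.2]) (fun i j => by rw [hs.2.1, ht.2.1])
  obtain ⟨A, hA⟩ := exists_isom_of_linearEquiv Q g hg
  refine ⟨A, ?_⟩
  funext i
  rw [smul_apply, hA, hgx]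

theorem orbit_eq (hQ : (polarBilin Q).Nondegenerate) (c : F) {k : ℕ}
    (s : Fin k → (ι → F)) (hs : IsFr Q c s) :
    MulAction.orbit ↥(isometryGroup F ⇑Q) s = {t | IsFr Q c t} := by
  ext t
  constructor
  · rintro ⟨g, rfl⟩
    exact isFr_smul Q c g s hs
  · intro ht
    obtain ⟨g, hg⟩ := exists_smul_eq Q hQ c s t hs ht
    exact ⟨g, hg⟩

/-- `|O| = #frames * |pointwise stabiliser of a frame|` -/
theorem card_eq_mul_card_stabilizer (hQ : (polarBilin Q).Nondegenerate) (c : F) {k : ℕ}
    (s : Fin k → (ι → F)) (hs : IsFr Q c s) :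
    Nat.card ↥(isometryGroup F ⇑Q) =
      Nat.card {t : Fin k → (ι → F) // IsFr Q c t} *
        Nat.card (MulAction.stabilizer ↥(isometryGroup F ⇑Q) s) := by
  rw [SympFrames.card_group_eq (G := ↥(isometryGroup F ⇑Q)) s, orbit_eq Q hQ c s hs]
  rfl

/-- **Centraliser of an involution in normal form.** -/
theorem card_cent_frame [Fintype F] [CharP F 2] (hQ : (polarBilin Q).Nondegenerate)
    (t : ↥(isometryGroup F ⇑Q)) {κ : Type} [Fintype κ] [DecidableEq κ] (τ : κ → κ)
    (hτ : ∀ i, τ (τ i) = i) (w : κ → (ι → F)) (hli : LinearIndependent F w)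
    (h0 : ∀ i j, polar ⇑Q (w i) (w j) = 0)
    (hN : ∀ x, act Q t x - x = ∑ i, polar ⇑Q x (w (τ i)) • w i)
    (c : F) (hq : ∀ i, Q (w i) = c)
    (hAq : ∀ A : Matrix κ κ F, A * P F τ * Aᵀ = P F τ → ∀ i, Q (mulFrame w A i) = c) :
    Nat.card {g : ↥(isometryGroup F ⇑Q) // g * t = t * g} *
        Nat.card {s : Fin (Fintype.card κ) → (ι → F) // IsFr Q c s} =
      Nat.card ↥(isometryGroup F ⇑Q) *
        Nat.card {A : Matrix κ κ F // A * P F τ * Aᵀ = P F τ} := by
  classical
  obtain ⟨v, hv⟩ := exists_dual (polarBilin Q) hQ w hli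
  set e := Fintype.equivFin κ with he
  set s : Fin (Fintype.card κ) → (ι → F) := w ∘ e.symm with hs
  have hsI : IsFr Q c s :=
    ⟨hli.comp _ e.symm.injective, fun i j => h0 _ _, fun i => hq _⟩
  have h0' : ∀ i j, polarBilin Q (w i) (w j) = 0 := fun i j => by
    rw [polarBilin_apply_apply]; exact h0 i j
  have hwitt : ∀ A : Matrix κ κ F, A * P F τ * Aᵀ = P F τ →
      ∃ g : ↥(isometryGroup F ⇑Q), ∀ i, tL Q g (w i) = mulFrame w A i := by
    intro A hA
    have htI : IsFr Q c (mulFrame w A ∘ e.symm) :=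
      ⟨(mulFrame_li τ hτ w hli A hA).comp _ e.symm.injective, fun i j => by
        have := mulFrame_iso (polarBilin Q) w h0' A (e.symm i) (e.symm j)
        rw [polarBilin_apply_apply] at this
        exact this, fun i => hAq A hA _⟩
    obtain ⟨g, hg⟩ := exists_smul_eq Q hQ c s _ hsI htI
    refine ⟨g, fun i => ?_⟩
    have h1 := congrFun hg (e i)
    rw [smul_apply] at h1
    simp only [hs, Function.comp_apply, Equiv.symm_apply_apply] at h1
    exact h1
  have hmain := CentFrame.card_centralizer (polarBilin Q) (tL Q)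
    (fun x => act_one' Q x) (fun g h x => act_mul Q g h x)
    (fun g u v => by
      rw [polarBilin_apply_apply, polarBilin_apply_apply, tL_apply, tL_apply, polar_act])
    τ hτ (tL Q t) w hli (fun x => by
      rw [tL_apply, hN x]
      rfl) v hv hwitt
  have hC : Nat.card {g : ↥(isometryGroup F ⇑Q) // g * t = t * g} =
      Nat.card {g : ↥(isometryGroup F ⇑Q) // ∀ x, tL Q g (tL Q t x) = tL Q t (tL Q g x)} := by
    apply Nat.card_congr
    apply Equiv.subtypeEquivRight
    intro g
    constructor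
    · intro h x
      rw [tL_apply, tL_apply, tL_apply, tL_apply, ← act_mul, ← act_mul, h]
    · intro h
      apply ext_act'
      intro x
      rw [act_mul, act_mul]
      exact h x
  have hK : Nat.card ↥(isometryGroup F ⇑Q) =
      Nat.card {s : Fin (Fintype.card κ) → (ι → F) // IsFr Q c s} *
        Nat.card {g : ↥(isometryGroup F ⇑Q) // ∀ i, tL Q g (w i) = w i} := by
    rw [card_eq_mul_card_stabilizer Q hQ c s hsI]
    congr 1
    apply Nat.card_congr
    apply Equiv.subtypeEquivRight
    intro g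
    rw [MulAction.mem_stabilizer_iff]
    constructor
    · intro h i
      have h1 := congrFun h (e i)
      rw [smul_apply] at h1
      simp only [hs, Function.comp_apply, Equiv.symm_apply_apply] at h1
      exact h1
    · intro h
      funext i
      rw [smul_apply]
      exact h (e.symm i)
  rw [hC, hmain, hK]
  ring

end Cfsg.Agent.Lib.Helper6.OrthCent
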