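import Mathlib
import Cfsg.Agent.Lib.Helper6.MatCount

set_option autoImplicit false
set_option linter.unusedSectionVars false
set_option linter.unusedVariables false
set_option linter.unusedSimpArgs false

/-! Arithmetic for centraliser orders in `Sp_{2m}(q)`. -/

namespace Cfsg.Agent.Lib.Helper6.SpCentArith

open Cfsg.Agent.Lib.Helper6.MatCount

/-- `(3 s² - s) / 2` -/
def T (s : ℕ) : ℕ := (3 * s ^ 2 - s) / 2

theorem T_succ (s : ℕ) : T (s + 1) = T s + 3 * s + 1 := by
  unfold T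
  have h1 : s ≤ 3 * s ^ 2 := by nlinarith
  have h2 : 3 * (s + 1) ^ 2 - (s + 1) = (3 * s ^ 2 - s) + 2 * (3 * s + 1) := by
    have : 3 * (s + 1) ^ 2 = 3 * s ^ 2 + 6 * s + 3 := by ring
    rw [this]
    generalize s ^ 2 = x at *
    omega
  rw [h2, Nat.add_mul_div_left _ _ (by norm_num : 0 < 2)]
  ring

theorem T_le (s m : ℕ) (h : s ≤ m) : T s ≤ 2 * m * s := by
  unfold T
  apply Nat.div_le_of_le_mul
  have : 3 * s ^ 2 ≤ 2 * (2 * m * s) := by nlinarith
  omega

/-- the number of isotropic `s`-frames in `Sp_{2m}(q)` -/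
def NI (q m s : ℕ) : ℕ := ∏ i ∈ Finset.range s, (q ^ (2 * m - i) - q ^ i)

theorem NI_pos (q m s : ℕ) (hq : 1 < q) (h : s ≤ m) : 0 < NI q m s := by
  unfold NI
  apply Finset.prod_pos
  intro i hi
  rw [Finset.mem_range] at hi
  have : q ^ i < q ^ (2 * m - i) := Nat.pow_lt_pow_right hq (by omega)
  omega

theorem spOrd_succ (q j : ℕ) :
    spOrd q (j + 1) = q ^ (2 * j + 1) * (q ^ (2 * (j + 1)) - 1) * spOrd q j := by
  unfold spOrd
  rw [Finset.prod_range_succ]
  have : (j + 1) ^ 2 = 2 * j + 1 + j ^ 2 := by ring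
  rw [this, pow_add]
  ring

theorem frame_factor (q m s : ℕ) (h : s + 1 ≤ m) :
    q ^ (2 * m - s) - q ^ s = q ^ s * (q ^ (2 * (m - s - 1 + 1)) - 1) := by
  rw [Nat.mul_sub, mul_one, ← pow_add]
  congr 2
  omega

/-- the key identity -/
theorem key (q m : ℕ) : ∀ s, s ≤ m →
    q ^ (2 * m * s - T s) * spOrd q (m - s) * NI q m s = spOrd q m := by
  intro s
  induction s with
  | zero =>
    intro _
    simp [NI, T]
  | succ s ih =>
    intro h
    have ih' := ih (by omega)
    rw [← ih']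
    have hT1 := T_succ s
    have hT2 := T_le (s + 1) m h
    have hT3 := T_le s m (by omega)
    have hj : m - s = (m - (s + 1)) + 1 := by omega
    rw [hj, spOrd_succ]
    unfold NI
    rw [Finset.prod_range_succ, frame_factor q m s h]
    have hms : 2 * m * (s + 1) = 2 * m * s + 2 * m := by ring
    have hexp : 2 * m * (s + 1) - T (s + 1) + s = 2 * m * s - T s + (2 * (m - (s + 1)) + 1) := by
      rw [hms] at hT2 ⊢
      omega
    have hpow : q ^ (2 * m * (s + 1) - T (s + 1)) * q ^ s =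
        q ^ (2 * m * s - T s) * q ^ (2 * (m - (s + 1)) + 1) := by
      rw [← pow_add, ← pow_add, hexp]
    have hsub : m - s - 1 = m - (s + 1) := by omega
    rw [hsub]
    calc q ^ (2 * m * (s + 1) - T (s + 1)) * spOrd q (m - (s + 1)) *
          ((∏ x ∈ Finset.range s, (q ^ (2 * m - x) - q ^ x)) *
            (q ^ s * (q ^ (2 * (m - (s + 1) + 1)) - 1)))
        = (q ^ (2 * m * (s + 1) - T (s + 1)) * q ^ s) * spOrd q (m - (s + 1)) *
          ((∏ x ∈ Finset.range s, (q ^ (2 * m - x) - q ^ x)) *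
            (q ^ (2 * (m - (s + 1) + 1)) - 1)) := by ring
      _ = _ := by rw [hpow]; ring

theorem spOrd_fin (q k : ℕ) :
    q ^ (k ^ 2) * ∏ i : Fin k, (q ^ (2 * ((i : ℕ) + 1)) - 1) = spOrd q k := by
  unfold spOrd
  rw [Finset.prod_range (fun i => q ^ (2 * (i + 1)) - 1)]

/-- final assembly -/
theorem assemble (q m s C M : ℕ) (hq : 1 < q) (h : s ≤ m)
    (hC : C * NI q m s = spOrd q m * M) :
    C = q ^ (2 * m * s - T s) * M * spOrd q (m - s) := by
  have hpos := NI_pos q m s hq h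
  apply Nat.eq_of_mul_eq_mul_right hpos
  rw [hC, ← key q m s h]
  ring

end Cfsg.Agent.Lib.Helper6.SpCentArith
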