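import Mathlib
import Cfsg.Agent.Lib.Helper6.SpCentArith
import Cfsg.Agent.Lib.Helper6.OrthPlusFrames

set_option autoImplicit false
set_option linter.unusedSectionVars false
set_option linter.unusedVariables false
set_option linter.unusedSimpArgs false

/-! Arithmetic for centraliser orders in `O⁺_{2m}(q)`, `q` even. -/

namespace Cfsg.Agent.Lib.Helper6.OrthCentArith

open Cfsg.Agent.Lib.Helper6.MatCount Cfsg.Agent.Lib.Helper6.SpCentArith
  Cfsg.Agent.Lib.Helper6.OrthFrames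

/-- the order of `O⁺_{2j}(q)` (and `1` for `j = 0`) -/
def oP (q j : ℕ) : ℕ :=
  ∏ i ∈ Finset.range j, ((q ^ (i + 1) - 1) * (q ^ i + 1) * q ^ (2 * i))

theorem oP_succ (q j : ℕ) :
    oP q (j + 1) = oP q j * ((q ^ (j + 1) - 1) * (q ^ j + 1) * q ^ (2 * j)) := by
  unfold oP
  rw [Finset.prod_range_succ]

theorem oP_closed (q : ℕ) (hq : 1 ≤ q) (k : ℕ) :
    oP q (k + 1) =
      2 * q ^ ((k + 1) * k) * (q ^ (k + 1) - 1) * ∏ i ∈ Finset.range k, (q ^ (2 * (i + 1)) - 1) := by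
  have h := Cfsg.Agent.S0287.plus_arith q hq k
  simp only [add_zero] at h
  exact h

/-- `(3 s² + s) / 2` -/
def TA (s : ℕ) : ℕ := (3 * s ^ 2 + s) / 2

theorem TA_succ (s : ℕ) : TA (s + 1) = TA s + 3 * s + 2 := by
  unfold TA
  have h2 : 3 * (s + 1) ^ 2 + (s + 1) = (3 * s ^ 2 + s) + 2 * (3 * s + 2) := by ring
  rw [h2, Nat.add_mul_div_left _ _ (by norm_num : 0 < 2)]
  ring

theorem TA_le (s m : ℕ) (h : s ≤ m) : TA s ≤ 2 * m * s := by
  unfold TA
  apply Nat.div_le_of_le_mul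
  nlinarith

/-- the number of singular `s`-frames -/
def FrA (q m s : ℕ) : ℕ :=
  ∏ i ∈ Finset.range s, ((q ^ (m - i) - 1) * (q ^ (m - 1) + q ^ i))

theorem FrA_pos (q m s : ℕ) (hq : 1 < q) (h : s ≤ m) : 0 < FrA q m s := by
  unfold FrA
  apply Finset.prod_pos
  intro i hi
  rw [Finset.mem_range] at hi
  have h1 : 1 < q ^ (m - i) := Nat.one_lt_pow (by omega) hq
  have h2 : 0 < q ^ i := pow_pos (by omega) _
  apply Nat.mul_pos <;> omega

theorem keyA (q m : ℕ) : ∀ s, s ≤ m →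
    FrA q m s * q ^ (2 * m * s - TA s) * oP q (m - s) = oP q m := by
  intro s
  induction s with
  | zero =>
    intro _
    simp [FrA, TA]
  | succ s ih =>
    intro h
    have ih' := ih (by omega)
    rw [← ih']
    have hT1 := TA_succ s
    have hT2 := TA_le (s + 1) m h
    have hT3 := TA_le s m (by omega)
    have hj : m - s = (m - (s + 1)) + 1 := by omega
    rw [hj, oP_succ]
    unfold FrA
    rw [Finset.prod_range_succ]
    have hms : 2 * m * (s + 1) = 2 * m * s + 2 * m := by ring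
    have hexp : s + (2 * m * (s + 1) - TA (s + 1)) = 2 * m * s - TA s + 2 * (m - (s + 1)) := by
      rw [hms] at hT2 ⊢
      omega
    have hpow : q ^ s * q ^ (2 * m * (s + 1) - TA (s + 1)) =
        q ^ (2 * m * s - TA s) * q ^ (2 * (m - (s + 1))) := by
      rw [← pow_add, ← pow_add, hexp]
    have hsplit : q ^ (m - 1) + q ^ s = q ^ s * (q ^ (m - (s + 1)) + 1) := by
      rw [mul_add, mul_one, ← pow_add]
      congr 2
      omega
    have hsub : m - s = m - (s + 1) + 1 := hj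
    rw [hsplit, hsub]
    calc (∏ x ∈ Finset.range s, (q ^ (m - x) - 1) * (q ^ (m - 1) + q ^ x)) *
          ((q ^ (m - (s + 1) + 1) - 1) * (q ^ s * (q ^ (m - (s + 1)) + 1))) *
          q ^ (2 * m * (s + 1) - TA (s + 1)) * oP q (m - (s + 1))
        = (∏ x ∈ Finset.range s, (q ^ (m - x) - 1) * (q ^ (m - 1) + q ^ x)) *
          ((q ^ (m - (s + 1) + 1) - 1) * (q ^ (m - (s + 1)) + 1)) *
          (q ^ s * q ^ (2 * m * (s + 1) - TA (s + 1))) * oP q (m - (s + 1)) := by ring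
      _ = _ := by rw [hpow]; ring

/-- final assembly, type `a_s` -/
theorem assembleA (q m s C M : ℕ) (hq : 1 < q) (h : s ≤ m)
    (hC : C * FrA q m s = oP q m * M) :
    C = q ^ (2 * m * s - TA s) * M * oP q (m - s) := by
  have hpos := FrA_pos q m s hq h
  apply Nat.eq_of_mul_eq_mul_right hpos
  rw [hC, ← keyA q m s h]
  ring

/-- `(3 s² - 3 s) / 2` -/
def TB (s : ℕ) : ℕ := (3 * s ^ 2 - 3 * s) / 2

theorem TB_succ (s : ℕ) : TB (s + 1) = TB s + 3 * s := by
  unfold TB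
  have h1 : 3 * s ≤ 3 * s ^ 2 := by
    have : s ≤ s ^ 2 := by
      rw [pow_two]
      exact Nat.le_mul_self s
    omega
  have h2 : 3 * (s + 1) ^ 2 - 3 * (s + 1) = (3 * s ^ 2 - 3 * s) + 2 * (3 * s) := by
    have : 3 * (s + 1) ^ 2 = 3 * s ^ 2 + 6 * s + 3 := by ring
    rw [this]
    generalize s ^ 2 = x at *
    omega
  rw [h2, Nat.add_mul_div_left _ _ (by norm_num : 0 < 2)]

theorem TB_one : TB 1 = 0 := by
  unfold TB
  norm_num

theorem TB_le (s m : ℕ) (h : s + 1 ≤ m) : TB (s + 1) ≤ 2 * m * s := by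
  unfold TB
  apply Nat.div_le_of_le_mul
  have h1 : 3 * (s + 1) ^ 2 - 3 * (s + 1) = 3 * s ^ 2 + 3 * s := by
    have : 3 * (s + 1) ^ 2 = 3 * s ^ 2 + 6 * s + 3 := by ring
    rw [this]
    generalize s ^ 2 = x at *
    omega
  rw [h1]
  nlinarith

/-- the number of unit `s`-frames -/
def FrB (q m s : ℕ) : ℕ := ∏ i ∈ Finset.range s, unitFib q m i

theorem FrB_pos (q m s : ℕ) (hq : 1 < q) (h : s ≤ m) : 0 < FrB q m s := by
  unfold FrB
  apply Finset.prod_pos
  intro i hi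
  rw [Finset.mem_range] at hi
  cases i with
  | zero =>
    show 0 < q ^ (2 * m - 1) - q ^ (m - 1)
    have : q ^ (m - 1) < q ^ (2 * m - 1) := Nat.pow_lt_pow_right hq (by omega)
    omega
  | succ i =>
    show 0 < q ^ (2 * m - i - 2) - q ^ i
    have : q ^ i < q ^ (2 * m - i - 2) := Nat.pow_lt_pow_right hq (by omega)
    omega

theorem unitFib_factor (q m s : ℕ) (h : s + 2 ≤ m) :
    unitFib q m (s + 1) = q ^ s * (q ^ (2 * (m - (s + 2) + 1)) - 1) := by
  show q ^ (2 * m - s - 2) - q ^ s = _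
  rw [Nat.mul_sub, mul_one, ← pow_add]
  congr 2
  omega

theorem keyB (q m : ℕ) (hq : 1 < q) : ∀ s, s + 1 ≤ m →
    2 * FrB q m (s + 1) * q ^ (2 * m * s - TB (s + 1)) * spOrd q (m - (s + 1)) = oP q m := by
  intro s
  induction s with
  | zero =>
    intro h
    obtain ⟨k, rfl⟩ : ∃ k, m = k + 1 := ⟨m - 1, by omega⟩
    rw [oP_closed q (by omega) k]
    unfold FrB spOrd
    rw [Finset.prod_range_one, TB_one]
    show 2 * (q ^ (2 * (k + 1) - 1) - q ^ (k + 1 - 1)) * q ^ (2 * (k + 1) * 0 - 0) * _ = _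
    have e1 : 2 * (k + 1) - 1 = k + (k + 1) := by omega
    have e2 : k + 1 - 1 = k := by omega
    have e3 : k + 1 - (0 + 1) = k := by omega
    have e4 : (k + 1) * k = k + k ^ 2 := by ring
    rw [e1, e2, e4, pow_add q k (k + 1), pow_add q k (k ^ 2)]
    have e5 : q ^ k * q ^ (k + 1) - q ^ k = q ^ k * (q ^ (k + 1) - 1) := by
      rw [Nat.mul_sub, mul_one]
    rw [e5]
    simp only [mul_zero, Nat.sub_zero, pow_zero, mul_one]
    ring
  | succ s ih =>
    intro h
    have ih' := ih (by omega)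
    rw [← ih']
    have hT1 := TB_succ (s + 1)
    have hT2 := TB_le (s + 1) m h
    have hT3 := TB_le s m (by omega)
    have hj : m - (s + 1) = (m - (s + 1 + 1)) + 1 := by omega
    rw [hj, spOrd_succ]
    have hF : FrB q m (s + 1 + 1) = FrB q m (s + 1) * unitFib q m (s + 1) := by
      unfold FrB
      rw [Finset.prod_range_succ]
    rw [hF, unitFib_factor q m s h]
    have hms : 2 * m * (s + 1) = 2 * m * s + 2 * m := by ring
    have hexp : s + (2 * m * (s + 1) - TB (s + 1 + 1)) =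
        2 * m * s - TB (s + 1) + (2 * (m - (s + 1 + 1)) + 1) := by
      rw [hms] at hT2 ⊢
      omega
    have hpow : q ^ s * q ^ (2 * m * (s + 1) - TB (s + 1 + 1)) =
        q ^ (2 * m * s - TB (s + 1)) * q ^ (2 * (m - (s + 1 + 1)) + 1) := by
      rw [← pow_add, ← pow_add, hexp]
    have e6 : s + 2 = s + 1 + 1 := rfl
    rw [e6]
    calc 2 * (FrB q m (s + 1) * (q ^ s * (q ^ (2 * (m - (s + 1 + 1) + 1)) - 1))) *
          q ^ (2 * m * (s + 1) - TB (s + 1 + 1)) * spOrd q (m - (s + 1 + 1))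
        = 2 * FrB q m (s + 1) * (q ^ s * q ^ (2 * m * (s + 1) - TB (s + 1 + 1))) *
          (q ^ (2 * (m - (s + 1 + 1) + 1)) - 1) * spOrd q (m - (s + 1 + 1)) := by ring
      _ = _ := by rw [hpow]; ring

/-- final assembly, types `b_s` and `c_s` -/
theorem assembleB (q m s C C' M : ℕ) (hq : 1 < q) (h : s + 1 ≤ m)
    (hC : C * FrB q m (s + 1) = oP q m * M) (hC' : C' * 2 = C) :
    C' = q ^ (2 * m * s - TB (s + 1)) * M * spOrd q (m - (s + 1)) := by
  have hpos := FrB_pos q m (s + 1) hq h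
  apply Nat.eq_of_mul_eq_mul_right (by norm_num : 0 < 2)
  rw [hC']
  apply Nat.eq_of_mul_eq_mul_right hpos
  rw [hC, ← keyB q m hq s h]
  ring

end Cfsg.Agent.Lib.Helper6.OrthCentArith
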