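import Mathlib
import Cfsg.Prelude
import Cfsg.Agent.Lib.Helper6.OrthCent

set_option autoImplicit false
set_option linter.unusedSectionVars false
set_option linter.unusedVariables false
set_option linter.unusedSimpArgs false
open Cfsg

/-! Centralisers of involutions in `Ω`, characteristic two. -/

namespace Cfsg.Agent.Lib.Helper6.OrthCent

open Matrix QuadraticMap Module Cfsg.Agent.Lib.Helper5 Cfsg.Agent.Lib.Helper5.CartanDieudonne
  Cfsg.Agent.Lib.Helper5.Refl Cfsg.Agent.Lib.Helper5.OrthCard Cfsg.Agent.Lib.Helper5.SpinorNorm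
  Cfsg.Agent.Lib.Helper5.Dickson Cfsg.Agent.Lib.Helper5.MaxTS Cfsg.Agent.Lib.Helper5.OrthParity
  Cfsg.Agent.Lib.Helper6.OrthInv2 Cfsg.Agent.Lib.Helper6.OrthFrames
  Cfsg.Agent.Lib.Helper6.CentFrame

variable {ι : Type} [Fintype ι] [DecidableEq ι] {F : Type*} [Field F] [Fintype F] [CharP F 2]
  (Q : QuadraticForm F (ι → F))

/-- if the involution fixes a nonsingular vector, half of its centraliser lies in `Ω` -/
theorem card_cent_Omega_half (hQ : (polarBilin Q).Nondegenerate)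
    (hex : Fintype.card ι = 4 → ∃ a : F, a ≠ 0 ∧ a ≠ 1)
    (t : ↥(isometryGroup F ⇑Q)) (u : ι → F) (hu : Q u ≠ 0) (htu : act Q t u = u) :
    Nat.card {g : ↥(Omega F ⇑Q) // (g : ↥(isometryGroup F ⇑Q)) * t = t * g} * 2 =
      Nat.card {g : ↥(isometryGroup F ⇑Q) // g * t = t * g} := by
  have h2 : (2 : F) = 0 := CharTwo.two_eq_zero
  set r := reflection Q u hu with hr
  have hr2 : r * r = 1 := OmegaGen.reflection_mul_self' Q u hu
  have hrt : r * t = t * r := by
    have h3 : t * r * t⁻¹ = r := by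
      rw [hr, conj_reflection]
      exact OmegaGen.reflection_congr Q htu _ _
    calc r * t = (t * r * t⁻¹) * t := by rw [h3]
      _ = t * r := by group
  have hpar : par Q hQ hex r = -1 := par_reflection Q hQ hex u hu
  have hmem : ∀ g : ↥(isometryGroup F ⇑Q), g ∈ Omega F ⇑Q ↔ par Q hQ hex g = 1 :=
    fun g => OmegaCrit.mem_Omega_iff_par Q h2 hQ hex g
  have hne : (1 : ℤˣ) ≠ -1 := by decide
  rw [mul_two, ← Nat.card_sum]
  apply Nat.card_congr
  refine Equiv.ofBijective (Sum.elim (fun g => ⟨g.1.1, g.2⟩) (fun g => ⟨g.1.1 * r, ?_⟩)) ⟨?_, ?_⟩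
  · rw [mul_assoc, hrt, ← mul_assoc, g.2, mul_assoc]
  · rintro (⟨⟨a, ha⟩, hat⟩ | ⟨⟨a, ha⟩, hat⟩) (⟨⟨b, hb⟩, hbt⟩ | ⟨⟨b, hb⟩, hbt⟩) h
    · have h1 : a = b := congrArg Subtype.val h
      subst h1
      rfl
    · exfalso
      have h1 : a = b * r := congrArg Subtype.val h
      have h3 := (hmem a).mp ha
      rw [h1, map_mul, (hmem b).mp hb, hpar, one_mul] at h3
      exact hne h3.symm
    · exfalso
      have h1 : a * r = b := congrArg Subtype.val h
      have h3 := (hmem b).mp hb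
      rw [← h1, map_mul, (hmem a).mp ha, hpar, one_mul] at h3
      exact hne h3.symm
    · have h1 : a * r = b * r := congrArg Subtype.val h
      have h3 : a = b := mul_right_cancel h1
      subst h3
      rfl
  · rintro ⟨g, hg⟩
    rcases Int.units_eq_one_or (par Q hQ hex g) with h1 | h1
    · exact ⟨Sum.inl ⟨⟨g, (hmem g).mpr h1⟩, hg⟩, rfl⟩
    · have h3 : g * r ∈ Omega F ⇑Q := by
        rw [hmem, map_mul, h1, hpar]
        decide
      refine ⟨Sum.inr ⟨⟨g * r, h3⟩, ?_⟩, ?_⟩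
      · show g * r * t = t * (g * r)
        rw [mul_assoc, hrt, ← mul_assoc, hg, mul_assoc]
      · apply Subtype.ext
        show g * r * r = g
        rw [mul_assoc, hr2, mul_one]

/-- type `a_m` in dimension `2m`: the whole centraliser lies in `Ω` -/
theorem cent_le_Omega (hQ : (polarBilin Q).Nondegenerate)
    (hex : Fintype.card ι = 4 → ∃ a : F, a ≠ 0 ∧ a ≠ 1) (m : ℕ)
    (hV : finrank F (ι → F) = 2 * m) (t : ↥(isometryGroup F ⇑Q)) (ht : t * t = 1)
    (halt : ∀ v, polar ⇑Q v (act Q t v) = 0)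
    (hr : finrank F (LinearMap.range (InvAbs.Nl (tL Q t))) = m)
    (g : ↥(isometryGroup F ⇑Q)) (hg : g * t = t * g) : g ∈ Omega F ⇑Q := by
  have h2 : (2 : F) = 0 := CharTwo.two_eq_zero
  set U := LinearMap.range (InvAbs.Nl (tL Q t)) with hU
  have hUmax : IsMaxTS Q m U := by
    refine ⟨hr, ?_⟩
    rintro _ ⟨x, rfl⟩
    rw [InvAbs.Nl_apply, tL_apply, quad_N]
    exact halt x
  have hle : U ≤ img Q g U := by
    rintro _ ⟨y, rfl⟩
    rw [mem_img]
    refine ⟨InvAbs.Nl (tL Q t) (act Q g⁻¹ y), ⟨_, rfl⟩, ?_⟩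
    rw [InvAbs.Nl_apply, InvAbs.Nl_apply, tL_apply, tL_apply, Siegel.act_sub, act_act_inv',
      ← act_mul, ← act_mul, hg, mul_assoc, mul_inv_cancel, mul_one]
  have hinf : U ⊓ img Q g U = U := inf_eq_left.mpr hle
  obtain ⟨vs, hvs⟩ := exists_rep' Q hQ hex g
  have heven := (ClassParity.even_dist_iff Q hQ m hV U hUmax g vs hvs).mp (by
    rw [hinf, hUmax.1, Nat.sub_self]
    exact Even.zero)
  rw [OmegaCrit.mem_Omega_iff_par Q h2 hQ hex, par_eq Q hQ hex g vs hvs]
  exact heven.neg_one_pow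

theorem card_cent_Omega_full (hQ : (polarBilin Q).Nondegenerate)
    (hex : Fintype.card ι = 4 → ∃ a : F, a ≠ 0 ∧ a ≠ 1) (m : ℕ)
    (hV : finrank F (ι → F) = 2 * m) (t : ↥(isometryGroup F ⇑Q)) (ht : t * t = 1)
    (halt : ∀ v, polar ⇑Q v (act Q t v) = 0)
    (hr : finrank F (LinearMap.range (InvAbs.Nl (tL Q t))) = m) :
    Nat.card {g : ↥(Omega F ⇑Q) // (g : ↥(isometryGroup F ⇑Q)) * t = t * g} =
      Nat.card {g : ↥(isometryGroup F ⇑Q) // g * t = t * g} := by
  apply Nat.card_congr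
  exact
    { toFun := fun g => ⟨g.1.1, g.2⟩
      invFun := fun g => ⟨⟨g.1, cent_le_Omega Q hQ hex m hV t ht halt hr g.1 g.2⟩, g.2⟩
      left_inv := fun g => rfl
      right_inv := fun g => rfl }

end Cfsg.Agent.Lib.Helper6.OrthCent
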