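import Mathlib
import Cfsg.Prelude
import Cfsg.Agent.Lib.Helper5.SympBridge
import Cfsg.Agent.Lib.Helper5.AltWitt
import Cfsg.Agent.Lib.Helper5.AltForm
import Cfsg.Agent.Lib.Helper6.SymCharTwo

set_option autoImplicit false
set_option linter.unusedSectionVars false
set_option linter.unusedVariables false
set_option linter.unusedSimpArgs false
open Cfsg

/-! Involutions of `Sp_{2m}(F)`, `F` a finite field of characteristic two: normal forms and
conjugacy. -/

namespace Cfsg.Agent.Lib.Helper6.SpInv2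

open Matrix Cfsg.Agent.Lib.Helper5 Cfsg.Agent.Lib.Helper5.SympTv
  Cfsg.Agent.Lib.Helper5.SympBridge

variable {F : Type*} [Field F] {m : ℕ}

/-- the action of a symplectic matrix on column vectors -/
def act (A : ↥(symplecticGroup (Fin m) F)) (v : Fin m ⊕ Fin m → F) : Fin m ⊕ Fin m → F :=
  (A : Matrix (Fin m ⊕ Fin m) (Fin m ⊕ Fin m) F) *ᵥ v

theorem act_mul (A B : ↥(symplecticGroup (Fin m) F)) (v : Fin m ⊕ Fin m → F) :
    act (A * B) v = act A (act B v) := by
  unfold act
  rw [Matrix.mulVec_mulVec]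
  rfl

theorem act_one (v : Fin m ⊕ Fin m → F) : act (1 : ↥(symplecticGroup (Fin m) F)) v = v := by
  unfold act
  exact Matrix.one_mulVec v

theorem act_inv_act (A : ↥(symplecticGroup (Fin m) F)) (v : Fin m ⊕ Fin m → F) :
    act A⁻¹ (act A v) = v := by rw [← act_mul, inv_mul_cancel, act_one]

theorem act_act_inv (A : ↥(symplecticGroup (Fin m) F)) (v : Fin m ⊕ Fin m → F) :
    act A (act A⁻¹ v) = v := by rw [← act_mul, mul_inv_cancel, act_one]

theorem symp_act (A : ↥(symplecticGroup (Fin m) F)) (u v : Fin m ⊕ Fin m → F) :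
    sympForm m F (act A u) (act A v) = sympForm m F u v := sympForm_mulVec m A.2 u v

theorem symp_act_inv_left (A : ↥(symplecticGroup (Fin m) F)) (u v : Fin m ⊕ Fin m → F) :
    sympForm m F (act A⁻¹ u) v = sympForm m F u (act A v) := by
  rw [← symp_act A (act A⁻¹ u) v, act_act_inv]

theorem act_add (A : ↥(symplecticGroup (Fin m) F)) (u v : Fin m ⊕ Fin m → F) :
    act A (u + v) = act A u + act A v := mulVec_add _ u v

theorem act_sub (A : ↥(symplecticGroup (Fin m) F)) (u v : Fin m ⊕ Fin m → F) :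
    act A (u - v) = act A u - act A v := mulVec_sub _ u v

theorem act_smul (A : ↥(symplecticGroup (Fin m) F)) (c : F) (v : Fin m ⊕ Fin m → F) :
    act A (c • v) = c • act A v := mulVec_smul _ c v

theorem act_sum (A : ↥(symplecticGroup (Fin m) F)) {ι : Type*} (s : Finset ι)
    (f : ι → (Fin m ⊕ Fin m → F)) :
    act A (∑ i ∈ s, f i) = ∑ i ∈ s, act A (f i) :=
  map_sum (Matrix.mulVecLin (A : Matrix (Fin m ⊕ Fin m) (Fin m ⊕ Fin m) F)) f s

theorem ext_act {A B : ↥(symplecticGroup (Fin m) F)} (h : ∀ x, act A x = act B x) : A = B := by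
  apply Subtype.ext
  apply Matrix.toLin'.injective
  apply LinearMap.ext
  intro x
  rw [Matrix.toLin'_apply, Matrix.toLin'_apply]
  exact h x

theorem symp_zero_right (u : Fin m ⊕ Fin m → F) : sympForm m F u 0 = 0 := by
  have := sympForm_smul_right m (0 : F) u 0
  rw [zero_smul, zero_mul] at this
  exact this

theorem symp_symm [CharP F 2] (u v : Fin m ⊕ Fin m → F) :
    sympForm m F u v = sympForm m F v u := by
  rw [sympForm_swap, CharTwo.neg_eq]

/-- `A - 1` as a linear map -/
noncomputable def Nl (A : ↥(symplecticGroup (Fin m) F)) :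
    (Fin m ⊕ Fin m → F) →ₗ[F] (Fin m ⊕ Fin m → F) :=
  Matrix.mulVecLin (A : Matrix (Fin m ⊕ Fin m) (Fin m ⊕ Fin m) F) - LinearMap.id

theorem Nl_apply (A : ↥(symplecticGroup (Fin m) F)) (x : Fin m ⊕ Fin m → F) :
    Nl A x = act A x - x := rfl

theorem act_eq_add_N (A : ↥(symplecticGroup (Fin m) F)) (x : Fin m ⊕ Fin m → F) :
    act A x = x + Nl A x := by
  rw [Nl_apply]; abel

/-- an involution is self-adjoint -/
theorem symp_adj (A : ↥(symplecticGroup (Fin m) F)) (hA : A * A = 1) (x y : Fin m ⊕ Fin m → F) :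
    sympForm m F (act A x) y = sympForm m F x (act A y) := by
  rw [← symp_act A (act A x) y, ← act_mul, hA, act_one]

theorem symp_N_adj (A : ↥(symplecticGroup (Fin m) F)) (hA : A * A = 1)
    (x y : Fin m ⊕ Fin m → F) :
    sympForm m F (Nl A x) y = sympForm m F x (Nl A y) := by
  rw [Nl_apply, Nl_apply, sympForm_sub_left, sympForm_sub_right, symp_adj A hA]

theorem vec_add_self [CharP F 2] (x : Fin m ⊕ Fin m → F) : x + x = 0 := by
  funext i
  exact CharTwo.add_self_eq_zero (x i)

theorem N_N [CharP F 2] (A : ↥(symplecticGroup (Fin m) F)) (hA : A * A = 1)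
    (y : Fin m ⊕ Fin m → F) : Nl A (Nl A y) = 0 := by
  rw [Nl_apply, Nl_apply, act_sub, ← act_mul, hA, act_one]
  have h2 : act A y + act A y = 0 := vec_add_self _
  have h3 : y + y = 0 := vec_add_self _
  calc y - act A y - (act A y - y) = (y + y) - (act A y + act A y) := by abel
    _ = 0 := by rw [h2, h3, sub_zero]

theorem symp_N_N [CharP F 2] (A : ↥(symplecticGroup (Fin m) F)) (hA : A * A = 1)
    (x y : Fin m ⊕ Fin m → F) : sympForm m F (Nl A x) (Nl A y) = 0 := by
  rw [symp_N_adj A hA, N_N A hA, symp_zero_right]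

/-- `f(v, A v) = f(v, N v)` -/
theorem symp_self_act (A : ↥(symplecticGroup (Fin m) F)) (v : Fin m ⊕ Fin m → F) :
    sympForm m F v (act A v) = sympForm m F v (Nl A v) := by
  rw [Nl_apply, sympForm_sub_right, sympForm_self, sub_zero]

/-- the bilinear form induced on the image of `A - 1`, defined through a section `s` -/
noncomputable def gam (A : ↥(symplecticGroup (Fin m) F))
    (s : ↥(LinearMap.range (Nl A)) →ₗ[F] (Fin m ⊕ Fin m → F)) :
    LinearMap.BilinForm F ↥(LinearMap.range (Nl A)) :=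
  LinearMap.mk₂ F (fun x y => sympForm m F (y : Fin m ⊕ Fin m → F) (s x))
    (fun x x' y => by rw [map_add, sympForm_add_right])
    (fun c x y => by rw [map_smul, sympForm_smul_right, smul_eq_mul])
    (fun x y y' => by rw [Submodule.coe_add, sympForm_add_left])
    (fun c x y => by rw [Submodule.coe_smul, sympForm_smul_left, smul_eq_mul])

theorem gam_apply (A : ↥(symplecticGroup (Fin m) F))
    (s : ↥(LinearMap.range (Nl A)) →ₗ[F] (Fin m ⊕ Fin m → F))
    (x y : ↥(LinearMap.range (Nl A))) :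
    gam A s x y = sympForm m F (y : Fin m ⊕ Fin m → F) (s x) := rfl

/-- the key identity: `γ(w', N x) = f(x, w')` -/
theorem gam_N (A : ↥(symplecticGroup (Fin m) F)) (hA : A * A = 1)
    (s : ↥(LinearMap.range (Nl A)) →ₗ[F] (Fin m ⊕ Fin m → F))
    (hs : ∀ w : ↥(LinearMap.range (Nl A)), Nl A (s w) = w)
    (w' : ↥(LinearMap.range (Nl A))) (x : Fin m ⊕ Fin m → F) :
    gam A s w' ⟨Nl A x, LinearMap.mem_range_self _ x⟩ = sympForm m F x (w' : Fin m ⊕ Fin m → F) := by
  rw [gam_apply]
  show sympForm m F (Nl A x) (s w') = _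
  rw [symp_N_adj A hA, hs]

theorem gam_isSymm [CharP F 2] (A : ↥(symplecticGroup (Fin m) F)) (hA : A * A = 1)
    (s : ↥(LinearMap.range (Nl A)) →ₗ[F] (Fin m ⊕ Fin m → F))
    (hs : ∀ w : ↥(LinearMap.range (Nl A)), Nl A (s w) = w) : LinearMap.IsSymm (gam A s) := by
  refine ⟨fun x y => ?_⟩
  rw [RingHom.id_apply, gam_apply, gam_apply]
  conv_lhs => rw [← hs y]
  rw [symp_N_adj A hA, hs, symp_symm]

theorem gam_nondegenerate [CharP F 2] (A : ↥(symplecticGroup (Fin m) F)) (hA : A * A = 1)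
    (s : ↥(LinearMap.range (Nl A)) →ₗ[F] (Fin m ⊕ Fin m → F))
    (hs : ∀ w : ↥(LinearMap.range (Nl A)), Nl A (s w) = w) : (gam A s).Nondegenerate := by
  have hleft : ∀ x : ↥(LinearMap.range (Nl A)), (∀ y, gam A s x y = 0) → x = 0 := by
    intro x hx
    have h1 : ∀ u : Fin m ⊕ Fin m → F, sympForm m F u (x : Fin m ⊕ Fin m → F) = 0 := by
      intro u
      rw [← gam_N A hA s hs x u]
      exact hx _
    have h2 := (sympBilin_nondegenerate (F := F) m).2 (x : Fin m ⊕ Fin m → F) (fun y => by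
      rw [sympBilin_apply]; exact h1 y)
    exact Subtype.ext h2
  constructor
  · exact hleft
  · intro y hy
    apply hleft
    intro x
    have h1 := (gam_isSymm A hA s hs).eq x y
    rw [hy x, map_zero] at h1
    exact h1.symm

/-- the diagonal of `γ` -/
theorem gam_diag (A : ↥(symplecticGroup (Fin m) F)) (hA : A * A = 1)
    (s : ↥(LinearMap.range (Nl A)) →ₗ[F] (Fin m ⊕ Fin m → F))
    (hs : ∀ w : ↥(LinearMap.range (Nl A)), Nl A (s w) = w) (v : Fin m ⊕ Fin m → F) :
    gam A s ⟨Nl A v, LinearMap.mem_range_self _ v⟩ ⟨Nl A v, LinearMap.mem_range_self _ v⟩ =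
      sympForm m F v (act A v) := by
  rw [gam_N A hA s hs, symp_self_act]

theorem exists_section (A : ↥(symplecticGroup (Fin m) F)) :
    ∃ s : ↥(LinearMap.range (Nl A)) →ₗ[F] (Fin m ⊕ Fin m → F),
      ∀ w : ↥(LinearMap.range (Nl A)), Nl A (s w) = w := by
  obtain ⟨s, hs'⟩ := (Nl A).rangeRestrict.exists_rightInverse_of_surjective
    (LinearMap.range_rangeRestrict _)
  refine ⟨s, fun w => ?_⟩
  have h1 := congrArg (fun f : ↥(LinearMap.range (Nl A)) →ₗ[F] ↥(LinearMap.range (Nl A)) =>
    ((f w : ↥(LinearMap.range (Nl A))) : Fin m ⊕ Fin m → F)) hs'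
  exact h1

/-- **Normal form of an involution, non-alternating case.** -/
theorem normal_form_nonalt [Fintype F] [CharP F 2] (A : ↥(symplecticGroup (Fin m) F))
    (hA : A * A = 1) (hna : ∃ v, sympForm m F v (act A v) ≠ 0) :
    ∃ w : Fin (Module.finrank F (LinearMap.range (Nl A))) → (Fin m ⊕ Fin m → F),
      LinearIndependent F w ∧ (∀ i j, sympForm m F (w i) (w j) = 0) ∧
      (∀ x, Nl A x = ∑ i, sympForm m F x (w i) • w i) := by
  obtain ⟨s, hs⟩ := exists_section A
  obtain ⟨v₀, hv₀⟩ := hna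
  obtain ⟨b₀, hb₀⟩ := SymCharTwo.exists_orthonormal
    (Module.finrank F (LinearMap.range (Nl A))) (gam A s)
    (gam_isSymm A hA s hs) (gam_nondegenerate A hA s hs)
    ⟨⟨Nl A v₀, LinearMap.mem_range_self _ v₀⟩, by rw [gam_diag A hA s hs]; exact hv₀⟩ rfl
  have hli := SymCharTwo.linearIndependent_of_orthonormal (gam A s) b₀ hb₀
  set b := basisOfLinearIndependentOfCardEqFinrank' b₀ hli (by rw [Fintype.card_fin]) with hbdef
  have hb : ∀ i j, gam A s (b i) (b j) = if i = j then 1 else 0 := by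
    intro i j
    rw [hbdef, coe_basisOfLinearIndependentOfCardEqFinrank']
    exact hb₀ i j
  refine ⟨fun i => ((b i : ↥(LinearMap.range (Nl A))) : Fin m ⊕ Fin m → F), ?_, ?_, ?_⟩
  · exact b.linearIndependent.map' (Submodule.subtype _) (Submodule.ker_subtype _)
  · intro i j
    show sympForm m F ((b i : ↥(LinearMap.range (Nl A))) : Fin m ⊕ Fin m → F)
      ((b j : ↥(LinearMap.range (Nl A))) : Fin m ⊕ Fin m → F) = 0
    rw [← hs (b i), ← hs (b j)]
    exact symp_N_N A hA _ _
  · intro x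
    set y : ↥(LinearMap.range (Nl A)) := ⟨Nl A x, LinearMap.mem_range_self _ x⟩ with hy
    have hrepr : ∀ j, b.repr y j =
        sympForm m F x ((b j : ↥(LinearMap.range (Nl A))) : Fin m ⊕ Fin m → F) := by
      intro j
      have h1 := congrArg (gam A s (b j)) (b.sum_repr y)
      rw [map_sum] at h1
      simp only [map_smul, smul_eq_mul, hb] at h1
      rw [Finset.sum_eq_single j (fun i _ hij => by rw [if_neg (Ne.symm hij), mul_zero])
        (fun h => absurd (Finset.mem_univ j) h), if_pos rfl, mul_one] at h1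
      rw [h1, hy, gam_N A hA s hs]
    have h2 := congrArg (fun z : ↥(LinearMap.range (Nl A)) => (z : Fin m ⊕ Fin m → F))
      (b.sum_repr y)
    simp only [Submodule.coe_sum, Submodule.coe_smul] at h2
    rw [show Nl A x = (y : Fin m ⊕ Fin m → F) from rfl, ← h2]
    apply Finset.sum_congr rfl
    intro i _
    rw [hrepr]

/-- **Normal form of an involution, alternating case.** -/
theorem normal_form_alt [Fintype F] [CharP F 2] (A : ↥(symplecticGroup (Fin m) F))
    (hA : A * A = 1) (halt : ∀ v, sympForm m F v (act A v) = 0) :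
    ∃ (k : ℕ) (w : Fin k ⊕ Fin k → (Fin m ⊕ Fin m → F)),
      k + k = Module.finrank F (LinearMap.range (Nl A)) ∧
      LinearIndependent F w ∧ (∀ i j, sympForm m F (w i) (w j) = 0) ∧
      (∀ x, Nl A x = ∑ i, sympForm m F x (w (Sum.swap i)) • w i) := by
  obtain ⟨s, hs⟩ := exists_section A
  have hAlt : LinearMap.BilinForm.IsAlt (gam A s) := by
    intro w
    obtain ⟨v, hv⟩ := w.2
    have hw : w = ⟨Nl A v, LinearMap.mem_range_self _ v⟩ := Subtype.ext hv.symm
    rw [hw, gam_diag A hA s hs]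
    exact halt v
  obtain ⟨k, k0, b, h1, h2, h3, h4, h5, h6⟩ := AltForm.exists_darboux_basis (gam A s) hAlt
  have hk0 : k0 = 0 := by
    rw [h6]
    have hker : LinearMap.ker (gam A s) = ⊥ :=
      LinearMap.separatingLeft_iff_ker_eq_bot.mp (gam_nondegenerate A hA s hs).1
    rw [hker, finrank_bot]
  subst hk0
  have hsym : ∀ x y, gam A s x y = gam A s y x := fun x y =>
    ((gam_isSymm A hA s hs).eq y x).symm
  have hpair : ∀ i j : Fin k ⊕ Fin k,
      gam A s (b (Sum.inl (Sum.swap i))) (b (Sum.inl j)) = if i = j then 1 else 0 := by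
    intro i j
    rcases i with i | i <;> rcases j with j | j
    · rw [Sum.swap_inl, hsym, h1]
      simp only [Sum.inl.injEq, eq_comm]
    · rw [Sum.swap_inl, h3]
      simp
    · rw [Sum.swap_inr, h2]
      simp
    · rw [Sum.swap_inr, h1]
      simp only [Sum.inr.injEq]
  refine ⟨k, fun i => ((b (Sum.inl i) : ↥(LinearMap.range (Nl A))) : Fin m ⊕ Fin m → F),
    by omega, ?_, ?_, ?_⟩
  · have hli1 : LinearIndependent F (fun i : Fin k ⊕ Fin k => b (Sum.inl i)) :=
      b.linearIndependent.comp _ Sum.inl_injective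
    exact hli1.map' (Submodule.subtype _) (Submodule.ker_subtype _)
  · intro i j
    show sympForm m F ((b (Sum.inl i) : ↥(LinearMap.range (Nl A))) : Fin m ⊕ Fin m → F)
      ((b (Sum.inl j) : ↥(LinearMap.range (Nl A))) : Fin m ⊕ Fin m → F) = 0
    rw [← hs (b (Sum.inl i)), ← hs (b (Sum.inl j))]
    exact symp_N_N A hA _ _
  · intro x
    set y : ↥(LinearMap.range (Nl A)) := ⟨Nl A x, LinearMap.mem_range_self _ x⟩ with hy
    have hsum : y = ∑ i : Fin k ⊕ Fin k, b.repr y (Sum.inl i) • b (Sum.inl i) := by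
      have h0 := (b.sum_repr y).symm
      rw [Fintype.sum_sum_type] at h0
      rw [Finset.univ_eq_empty (α := Fin 0), Finset.sum_empty, add_zero] at h0
      exact h0
    have hrepr : ∀ j : Fin k ⊕ Fin k, b.repr y (Sum.inl j) =
        sympForm m F x ((b (Sum.inl (Sum.swap j)) : ↥(LinearMap.range (Nl A))) :
          Fin m ⊕ Fin m → F) := by
      intro j
      have h7 := congrArg (gam A s (b (Sum.inl (Sum.swap j)))) hsum
      rw [map_sum] at h7
      simp only [map_smul, smul_eq_mul, hpair] at h7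
      rw [Finset.sum_eq_single j (fun i _ hij => by rw [if_neg (Ne.symm hij), mul_zero])
        (fun h => absurd (Finset.mem_univ j) h), if_pos rfl, mul_one] at h7
      rw [← h7, hy, gam_N A hA s hs]
    have h8 := congrArg (fun z : ↥(LinearMap.range (Nl A)) => (z : Fin m ⊕ Fin m → F)) hsum
    simp only [Submodule.coe_sum, Submodule.coe_smul] at h8
    rw [show Nl A x = (y : Fin m ⊕ Fin m → F) from rfl, h8]
    apply Finset.sum_congr rfl
    intro i _
    rw [hrepr]

/-- two involutions with the same normal form are conjugate -/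
theorem conj_of_forms {ι : Type*} [Fintype ι] (τ : ι → ι)
    (A B : ↥(symplecticGroup (Fin m) F)) (w w' : ι → (Fin m ⊕ Fin m → F))
    (hli : LinearIndependent F w) (hli' : LinearIndependent F w')
    (h0 : ∀ i j, sympForm m F (w i) (w j) = 0) (h0' : ∀ i j, sympForm m F (w' i) (w' j) = 0)
    (hN : ∀ x, Nl A x = ∑ i, sympForm m F x (w (τ i)) • w i)
    (hN' : ∀ x, Nl B x = ∑ i, sympForm m F x (w' (τ i)) • w' i) :
    ∃ g : ↥(symplecticGroup (Fin m) F), g * A * g⁻¹ = B := by
  classical
  set e := Fintype.equivFin ι with he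
  obtain ⟨g, hg, hgx⟩ := AltWitt.witt_family (sympBilin F m) (sympBilin_nondegenerate m)
    (sympBilin_isAlt m) (Fintype.card ι) (w ∘ e.symm) (w' ∘ e.symm)
    (hli.comp _ e.symm.injective) (hli'.comp _ e.symm.injective)
    (fun i j => by
      rw [sympBilin_apply, sympBilin_apply]
      simp only [Function.comp_apply]
      rw [h0, h0'])
  obtain ⟨C, hC⟩ := exists_symplectic_of_isometry m g (fun u v => by
    have := hg u v
    rw [sympBilin_apply, sympBilin_apply] at this
    exact this)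
  have hCw : ∀ i, act C (w i) = w' i := by
    intro i
    have h1 := hgx (e i)
    simp only [Function.comp_apply, Equiv.symm_apply_apply] at h1
    rw [← h1]
    exact hC _
  refine ⟨C, ?_⟩
  apply ext_act
  intro x
  rw [act_mul, act_mul, act_eq_add_N A, act_add, act_act_inv, act_eq_add_N B, hN', hN, act_sum]
  congr 1
  apply Finset.sum_congr rfl
  intro i _
  rw [act_smul, symp_act_inv_left, hCw, hCw]

theorem rank_eq (a : ↥(symplecticGroup (Fin m) F)) :
    ((a : Matrix (Fin m ⊕ Fin m) (Fin m ⊕ Fin m) F) - 1).rank =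
      Module.finrank F (LinearMap.range (Nl a)) := by
  unfold Matrix.rank Nl
  have h : ((a : Matrix (Fin m ⊕ Fin m) (Fin m ⊕ Fin m) F) - 1).mulVecLin =
      Matrix.mulVecLin (a : Matrix (Fin m ⊕ Fin m) (Fin m ⊕ Fin m) F) - LinearMap.id := by
    apply LinearMap.ext
    intro x
    simp only [Matrix.mulVecLin_apply, LinearMap.sub_apply, LinearMap.id_apply, Matrix.sub_mulVec,
      Matrix.one_mulVec]
  rw [h]

theorem rank_conj (a b c : ↥(symplecticGroup (Fin m) F)) (hc : c * a * c⁻¹ = b) :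
    ((a : Matrix (Fin m ⊕ Fin m) (Fin m ⊕ Fin m) F) - 1).rank =
      ((b : Matrix (Fin m ⊕ Fin m) (Fin m ⊕ Fin m) F) - 1).rank := by
  have h1 : (c : Matrix (Fin m ⊕ Fin m) (Fin m ⊕ Fin m) F) *
      ((c⁻¹ : ↥(symplecticGroup (Fin m) F)) : Matrix (Fin m ⊕ Fin m) (Fin m ⊕ Fin m) F) = 1 :=
    congrArg Subtype.val (mul_inv_cancel c)
  have hmat : (b : Matrix (Fin m ⊕ Fin m) (Fin m ⊕ Fin m) F) - 1 =
      (c : Matrix (Fin m ⊕ Fin m) (Fin m ⊕ Fin m) F) *
        ((a : Matrix (Fin m ⊕ Fin m) (Fin m ⊕ Fin m) F) - 1) *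
        ((c⁻¹ : ↥(symplecticGroup (Fin m) F)) : Matrix (Fin m ⊕ Fin m) (Fin m ⊕ Fin m) F) := by
    rw [Matrix.mul_sub, Matrix.sub_mul, Matrix.mul_one, h1, ← hc]
    rfl
  rw [hmat, Matrix.rank_mul_eq_left_of_isUnit_det _ _ (SymplecticGroup.symplectic_det c⁻¹.2),
    Matrix.rank_mul_eq_right_of_isUnit_det _ _ (SymplecticGroup.symplectic_det c.2)]

theorem card_V_conj (a b c : ↥(symplecticGroup (Fin m) F)) (hc : c * a * c⁻¹ = b) :
    Nat.card {v : Fin m ⊕ Fin m → F // sympForm m F v (act a v) = 0} =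
      Nat.card {v : Fin m ⊕ Fin m → F // sympForm m F v (act b v) = 0} := by
  have hbc : ∀ v, act b (act c v) = act c (act a v) := by
    intro v
    rw [← act_mul, ← act_mul, ← hc]
    congr 1
    group
  let e : (Fin m ⊕ Fin m → F) ≃ (Fin m ⊕ Fin m → F) :=
    ⟨act c, act c⁻¹, act_inv_act c, act_act_inv c⟩
  apply Nat.card_congr
  refine Equiv.subtypeEquiv e (fun v => ?_)
  show _ ↔ sympForm m F (act c v) (act b (act c v)) = 0
  rw [hbc, symp_act]

theorem mixed_false [Fintype F] [CharP F 2] (a b : ↥(symplecticGroup (Fin m) F))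
    (ha : a * a = 1) (hA : ∀ v, sympForm m F v (act a v) = 0)
    (hB : ¬ ∀ v, sympForm m F v (act b v) = 0)
    (hcard : Even (Module.finrank F (LinearMap.range (Nl a))) →
      Nat.card {v : Fin m ⊕ Fin m → F // sympForm m F v (act a v) = 0} =
        Nat.card {v : Fin m ⊕ Fin m → F // sympForm m F v (act b v) = 0}) : False := by
  classical
  obtain ⟨k, w, hk, -, -, -⟩ := normal_form_alt a ha hA
  have h1 := hcard ⟨k, hk.symm⟩
  push Not at hB
  obtain ⟨v, hv⟩ := hB
  have h2 : Nat.card {v : Fin m ⊕ Fin m → F // sympForm m F v (act a v) = 0} =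
      Nat.card (Fin m ⊕ Fin m → F) :=
    Nat.card_congr (Equiv.subtypeUnivEquiv hA)
  have h3 : Nat.card {v : Fin m ⊕ Fin m → F // sympForm m F v (act b v) = 0} <
      Nat.card (Fin m ⊕ Fin m → F) := by
    rw [Nat.card_eq_fintype_card, Nat.card_eq_fintype_card]
    exact Fintype.card_subtype_lt hv
  omega

/-- **Conjugacy of involutions of `Sp_{2m}(F)`, `F` finite of characteristic two.** -/
theorem conj_iff [Fintype F] [CharP F 2] (a b : ↥(symplecticGroup (Fin m) F))
    (ha : a * a = 1) (hb : b * b = 1) :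
    IsConj a b ↔
      (((a : Matrix (Fin m ⊕ Fin m) (Fin m ⊕ Fin m) F) - 1).rank =
        ((b : Matrix (Fin m ⊕ Fin m) (Fin m ⊕ Fin m) F) - 1).rank ∧
      (Even ((a : Matrix (Fin m ⊕ Fin m) (Fin m ⊕ Fin m) F) - 1).rank →
        Nat.card {v : Fin m ⊕ Fin m → F // sympForm m F v
          ((a : Matrix (Fin m ⊕ Fin m) (Fin m ⊕ Fin m) F) *ᵥ v) = 0} =
        Nat.card {v : Fin m ⊕ Fin m → F // sympForm m F v
          ((b : Matrix (Fin m ⊕ Fin m) (Fin m ⊕ Fin m) F) *ᵥ v) = 0})) := by
  constructor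
  · intro h
    obtain ⟨c, hc⟩ := isConj_iff.mp h
    exact ⟨rank_conj a b c hc, fun _ => card_V_conj a b c hc⟩
  · rintro ⟨hr, hV⟩
    have hr' : Module.finrank F (LinearMap.range (Nl a)) =
        Module.finrank F (LinearMap.range (Nl b)) := by
      rw [← rank_eq, ← rank_eq]; exact hr
    rw [rank_eq] at hV
    by_cases hA : ∀ v, sympForm m F v (act a v) = 0
    · by_cases hB : ∀ v, sympForm m F v (act b v) = 0
      · obtain ⟨k, w, hk, hli, h0, hN⟩ := normal_form_alt a ha hA
        obtain ⟨k', w', hk', hli', h0', hN'⟩ := normal_form_alt b hb hB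
        have hkk : k' = k := by omega
        subst hkk
        obtain ⟨g, hg⟩ := conj_of_forms Sum.swap a b w w' hli hli' h0 h0' hN hN'
        exact isConj_iff.mpr ⟨g, hg⟩
      · exact (mixed_false a b ha hA hB hV).elim
    · by_cases hB : ∀ v, sympForm m F v (act b v) = 0
      · refine (mixed_false b a hb hB hA (fun he => ?_)).elim
        rw [← hr'] at he
        exact (hV he).symm
      · push Not at hA hB
        obtain ⟨w, hli, h0, hN⟩ := normal_form_nonalt a ha hA
        obtain ⟨w', hli', h0', hN'⟩ := normal_form_nonalt b hb hB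
        set w'' : Fin (Module.finrank F (LinearMap.range (Nl a))) → (Fin m ⊕ Fin m → F) :=
          w' ∘ Fin.cast hr' with hw''
        have hli'' : LinearIndependent F w'' := hli'.comp _ (Fin.cast_injective hr')
        have hN'' : ∀ x, Nl b x = ∑ i, sympForm m F x (w'' i) • w'' i := by
          intro x
          rw [hN' x]
          exact (Fintype.sum_equiv (finCongr hr') _ _ (fun i => rfl)).symm
        obtain ⟨g, hg⟩ := conj_of_forms id a b w w'' hli hli'' h0 (fun i j => h0' _ _) hN hN''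
        exact isConj_iff.mpr ⟨g, hg⟩

end Cfsg.Agent.Lib.Helper6.SpInv2
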