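import Mathlib
import Cfsg.Prelude
import Cfsg.Agent.Lib.Helper6.SpInv2
import Cfsg.Agent.Lib.Helper6.InvAbs2
import Cfsg.Agent.Lib.Helper6.ClassCountB

set_option autoImplicit false
set_option linter.unusedSectionVars false
set_option linter.unusedVariables false
set_option linter.unusedSimpArgs false
open Cfsg

/-! The number of classes of involutions of `Sp_{2m}(F)`, `F` finite of characteristic two. -/

namespace Cfsg.Agent.Lib.Helper6.SpInvCount

open Matrix Module Cfsg.Agent.Lib.Helper5 Cfsg.Agent.Lib.Helper5.SympTv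
  Cfsg.Agent.Lib.Helper5.SympBridge Cfsg.Agent.Lib.Helper5.SympGen Cfsg.Agent.Lib.Helper6.SpInv2

variable {F : Type*} [Field F] {m : ℕ}

/-- alternating type -/
def TypeA (a : ↥(symplecticGroup (Fin m) F)) : Prop := ∀ v, sympForm m F v (act a v) = 0

theorem typeA_conj (a b c : ↥(symplecticGroup (Fin m) F)) (hc : c * a * c⁻¹ = b)
    (h : TypeA a) : TypeA b := by
  intro v
  have h1 := h (act c⁻¹ v)
  rw [← symp_act c, act_act_inv, ← act_mul, ← act_mul] at h1
  rw [← hc]
  exact h1

theorem finrank_conj (a b c : ↥(symplecticGroup (Fin m) F)) (hc : c * a * c⁻¹ = b) :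
    finrank F (LinearMap.range (Nl a)) = finrank F (LinearMap.range (Nl b)) := by
  rw [← rank_eq, ← rank_eq]
  exact rank_conj a b c hc

/-- the complete invariant -/
theorem conj_iff_inv [Fintype F] [CharP F 2] (a b : ↥(symplecticGroup (Fin m) F))
    (ha : a * a = 1) (hb : b * b = 1) :
    IsConj a b ↔ finrank F (LinearMap.range (Nl a)) = finrank F (LinearMap.range (Nl b)) ∧
      (TypeA a ↔ TypeA b) := by
  constructor
  · intro h
    obtain ⟨c, hc⟩ := isConj_iff.mp h
    refine ⟨finrank_conj a b c hc, typeA_conj a b c hc, ?_⟩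
    apply typeA_conj b a c⁻¹
    rw [← hc]
    group
  · rintro ⟨hr', htype⟩
    by_cases hA : TypeA a
    · have hB := htype.mp hA
      obtain ⟨k, w, hk, hli, h0, hN⟩ := normal_form_alt a ha hA
      obtain ⟨k', w', hk', hli', h0', hN'⟩ := normal_form_alt b hb hB
      have hkk : k' = k := by omega
      subst hkk
      obtain ⟨g, hg⟩ := conj_of_forms Sum.swap a b w w' hli hli' h0 h0' hN hN'
      exact isConj_iff.mpr ⟨g, hg⟩
    · have hB : ¬ TypeA b := fun h => hA (htype.mpr h)
      unfold TypeA at hA hB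
      push Not at hA hB
      obtain ⟨w, hli, h0, hN⟩ := normal_form_nonalt a ha hA
      obtain ⟨w', hli', h0', hN'⟩ := normal_form_nonalt b hb hB
      set w'' : Fin (Module.finrank F (LinearMap.range (Nl a))) → (Fin m ⊕ Fin m → F) :=
        w' ∘ Fin.cast hr' with hw''
      have hli'' : LinearIndependent F w'' := hli'.comp _ (Fin.cast_injective hr')
      have hN'' : ∀ x, Nl b x = ∑ i, sympForm m F x (w'' i) • w'' i := by
        intro x
        rw [hN' x]
        exact (Fintype.sum_equiv (finCongr hr') _ _ (fun i => rfl)).symm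
      obtain ⟨g, hg⟩ := conj_of_forms id a b w w'' hli hli'' h0 (fun i j => h0' _ _) hN hN''
      exact isConj_iff.mpr ⟨g, hg⟩

theorem finrank_space : finrank F (Fin m ⊕ Fin m → F) = 2 * m := by
  rw [Module.finrank_fintype_fun_eq_card]
  simp only [Fintype.card_sum, Fintype.card_fin]
  omega

/-- bounds on the invariants -/
theorem inv_bounds [Fintype F] [CharP F 2] (a : ↥(symplecticGroup (Fin m) F))
    (ha : a * a = 1) (ha1 : a ≠ 1) :
    1 ≤ finrank F (LinearMap.range (Nl a)) ∧ finrank F (LinearMap.range (Nl a)) ≤ m ∧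
      (TypeA a → Even (finrank F (LinearMap.range (Nl a)))) := by
  have hpos : 1 ≤ finrank F (LinearMap.range (Nl a)) := by
    by_contra h
    have h0 : finrank F (LinearMap.range (Nl a)) = 0 := by omega
    rw [Submodule.finrank_eq_zero] at h0
    apply ha1
    apply ext_act
    intro x
    have : Nl a x ∈ LinearMap.range (Nl a) := LinearMap.mem_range_self _ x
    rw [h0, Submodule.mem_bot] at this
    rw [act_eq_add_N, this, add_zero, act_one]
  by_cases hA : TypeA a
  · obtain ⟨k, w, hk, hli, h0, hN⟩ := normal_form_alt a ha hA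
    have h1 := InvAbs.card_le_of_isotropic (f := sympBilin F m) (sympBilin_nondegenerate m) w hli
      (fun i j => h0 i j)
    rw [finrank_space, Fintype.card_sum, Fintype.card_fin] at h1
    exact ⟨hpos, by omega, fun _ => ⟨k, hk.symm⟩⟩
  · refine ⟨hpos, ?_, fun h => absurd h hA⟩
    unfold TypeA at hA
    push Not at hA
    obtain ⟨w, hli, h0, hN⟩ := normal_form_nonalt a ha hA
    have h1 := InvAbs.card_le_of_isotropic (f := sympBilin F m) (sympBilin_nondegenerate m) w hli
      (fun i j => h0 i j)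
    rw [finrank_space, Fintype.card_fin] at h1
    omega

/-- an involution with a prescribed normal form -/
theorem exists_of_family [Fintype F] [CharP F 2] {ι : Type*} [Fintype ι] (τ : ι → ι)
    (hτ : ∀ i, τ (τ i) = i) (w : ι → (Fin m ⊕ Fin m → F))
    (h0 : ∀ i j, sympForm m F (w i) (w j) = 0) :
    ∃ A : ↥(symplecticGroup (Fin m) F), A * A = 1 ∧
      ∀ x, Nl A x = ∑ i, sympForm m F x (w (τ i)) • w i := by
  have hI := InvAbs.inv_famMap (f := sympBilin F m) (fun x => sympForm_self m x)
    (sympBilin_nondegenerate m) τ hτ w (fun i j => h0 i j)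
  set T := InvAbs.famMap (sympBilin F m) τ w with hT
  set g : (Fin m ⊕ Fin m → F) ≃ₗ[F] (Fin m ⊕ Fin m → F) :=
    LinearEquiv.ofInvolutive T hI.sq with hg
  obtain ⟨A, hA⟩ := exists_symplectic_of_isometry m g (fun u v => hI.isom u v)
  have hAT : ∀ x, act A x = T x := fun x => hA x
  refine ⟨A, ?_, ?_⟩
  · apply ext_act
    intro x
    rw [act_mul, hAT, hAT, hI.sq, act_one]
  · intro x
    rw [Nl_apply, hAT, hT, InvAbs.famMap_sub]
    rfl

/-- the standard isotropic family attached to an injection into `Fin m` -/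
def stdFam {ι : Type*} (emb : ι → Fin m) : ι → (Fin m ⊕ Fin m → F) :=
  fun i => Pi.single (Sum.inl (emb i)) 1

theorem stdFam_li {ι : Type*} (emb : ι → Fin m) (hemb : Function.Injective emb) :
    LinearIndependent F (stdFam (F := F) emb) := by
  have h1 := (Pi.basisFun F (Fin m ⊕ Fin m)).linearIndependent
  have h2 := h1.comp (fun i : ι => (Sum.inl (emb i) : Fin m ⊕ Fin m))
    (fun a b h => hemb (Sum.inl_injective h))
  convert h2 using 1
  funext i
  simp [stdFam, Pi.basisFun_apply]

theorem stdFam_iso {ι : Type*} (emb : ι → Fin m) (i j : ι) :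
    sympForm m F (stdFam (F := F) emb i) (stdFam emb j) = 0 := by
  unfold stdFam
  rw [sympForm_single_inl]
  simp

theorem orderOf_two_of [Fintype F] [CharP F 2] (A : ↥(symplecticGroup (Fin m) F))
    (hA : A * A = 1) (hr : 1 ≤ finrank F (LinearMap.range (Nl A))) : orderOf A = 2 := by
  have : Fact (Nat.Prime 2) := ⟨Nat.prime_two⟩
  apply orderOf_eq_prime
  · rw [pow_two]; exact hA
  · intro h1
    have h0 : finrank F (LinearMap.range (Nl A)) = 0 := by
      rw [Submodule.finrank_eq_zero, eq_bot_iff]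
      rintro _ ⟨x, rfl⟩
      rw [Submodule.mem_bot, Nl_apply, h1, act_one, sub_self]
    omega

/-- existence: non-alternating type of each rank -/
theorem exists_typeB [Fintype F] [CharP F 2] (s : ℕ) (hs1 : 1 ≤ s) (hsm : s ≤ m) :
    ∃ A : ↥(symplecticGroup (Fin m) F), orderOf A = 2 ∧
      finrank F (LinearMap.range (Nl A)) = s ∧ ¬ TypeA A := by
  set w := stdFam (F := F) (Fin.castLE hsm) with hw
  have hli : LinearIndependent F w := stdFam_li _ (Fin.castLE_injective hsm)
  obtain ⟨A, hA, hN⟩ := exists_of_family (id : Fin s → Fin s) (fun i => rfl) w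
    (fun i j => stdFam_iso _ i j)
  have hr : finrank F (LinearMap.range (Nl A)) = s := by
    have := InvAbs.finrank_range_of_form (f := sympBilin F m)
      (t := Matrix.mulVecLin (A : Matrix (Fin m ⊕ Fin m) (Fin m ⊕ Fin m) F))
      (sympBilin_nondegenerate m) (id : Fin s → Fin s) (fun i => rfl) w hli (fun x => hN x)
    rw [Fintype.card_fin] at this
    exact this
  refine ⟨A, orderOf_two_of A hA (by omega), hr, ?_⟩
  have : Nonempty (Fin s) := ⟨⟨0, by omega⟩⟩
  obtain ⟨v, hv⟩ := InvAbs.nonalt_of_form_id (f := sympBilin F m)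
    (t := Matrix.mulVecLin (A : Matrix (Fin m ⊕ Fin m) (Fin m ⊕ Fin m) F))
    (fun x => sympForm_self m x) (sympBilin_nondegenerate m) w hli (fun x => hN x)
  intro h
  exact hv (h v)

/-- existence: alternating type of each even rank -/
theorem exists_typeA [Fintype F] [CharP F 2] (k : ℕ) (hk1 : 1 ≤ k) (hkm : k + k ≤ m) :
    ∃ A : ↥(symplecticGroup (Fin m) F), orderOf A = 2 ∧
      finrank F (LinearMap.range (Nl A)) = k + k ∧ TypeA A := by
  set emb : Fin k ⊕ Fin k → Fin m := fun i => Fin.castLE hkm (finSumFinEquiv i) with hemb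
  have hinj : Function.Injective emb := fun a b h =>
    finSumFinEquiv.injective (Fin.castLE_injective hkm h)
  set w := stdFam (F := F) emb with hw
  have hli : LinearIndependent F w := stdFam_li _ hinj
  obtain ⟨A, hA, hN⟩ := exists_of_family (Sum.swap : Fin k ⊕ Fin k → Fin k ⊕ Fin k)
    Sum.swap_swap w (fun i j => stdFam_iso _ i j)
  have hr : finrank F (LinearMap.range (Nl A)) = k + k := by
    have := InvAbs.finrank_range_of_form (f := sympBilin F m)
      (t := Matrix.mulVecLin (A : Matrix (Fin m ⊕ Fin m) (Fin m ⊕ Fin m) F))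
      (sympBilin_nondegenerate m) (Sum.swap : Fin k ⊕ Fin k → Fin k ⊕ Fin k) Sum.swap_swap
      w hli (fun x => hN x)
    rw [Fintype.card_sum, Fintype.card_fin] at this
    exact this
  refine ⟨A, orderOf_two_of A hA (by omega), hr, ?_⟩
  intro v
  exact InvAbs.alt_of_form_swap (f := sympBilin F m)
    (t := Matrix.mulVecLin (A : Matrix (Fin m ⊕ Fin m) (Fin m ⊕ Fin m) F))
    (fun x => sympForm_self m x) w (fun x => hN x) v

/-- the finset of invariants -/
def invSet (m : ℕ) : Finset (ℕ × Bool) :=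
  (Finset.Icc 1 m).image (fun s => (s, false)) ∪
    ((Finset.Icc 1 m).filter Even).image (fun s => (s, true))

theorem card_invSet (m : ℕ) : (invSet m).card = m + m / 2 := by
  unfold invSet
  rw [Finset.card_union_of_disjoint, Finset.card_image_of_injective, Finset.card_image_of_injective,
    Nat.card_Icc, ClassCount.card_even_Icc]
  · omega
  · intro a b h; exact (Prod.mk.inj h).1
  · intro a b h; exact (Prod.mk.inj h).1
  · rw [Finset.disjoint_left]
    intro p h1 h2
    rw [Finset.mem_image] at h1 h2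
    obtain ⟨a, -, rfl⟩ := h1
    obtain ⟨b, -, hb⟩ := h2
    have := (Prod.mk.inj hb).2
    exact absurd this (by decide)

theorem mem_invSet (m : ℕ) (p : ℕ × Bool) :
    p ∈ invSet m ↔ 1 ≤ p.1 ∧ p.1 ≤ m ∧ (p.2 = true → Even p.1) := by
  unfold invSet
  rw [Finset.mem_union, Finset.mem_image, Finset.mem_image]
  constructor
  · rintro (⟨s, hs, rfl⟩ | ⟨s, hs, rfl⟩)
    · rw [Finset.mem_Icc] at hs
      exact ⟨hs.1, hs.2, fun h => absurd h Bool.false_ne_true⟩
    · rw [Finset.mem_filter, Finset.mem_Icc] at hs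
      exact ⟨hs.1.1, hs.1.2, fun _ => hs.2⟩
  · rintro ⟨h1, h2, h3⟩
    obtain ⟨s, b⟩ := p
    cases b
    · exact Or.inl ⟨s, Finset.mem_Icc.mpr ⟨h1, h2⟩, rfl⟩
    · exact Or.inr ⟨s, Finset.mem_filter.mpr ⟨Finset.mem_Icc.mpr ⟨h1, h2⟩, h3 rfl⟩, rfl⟩

open Classical in
/-- **`Sp_{2m}(F)`, `F` finite of characteristic two, has `m + ⌊m/2⌋` classes of involutions.** -/
theorem card_inv_classes [Fintype F] [CharP F 2] :
    Nat.card {C : ConjClasses ↥(symplecticGroup (Fin m) F) //
      ∃ g : symplecticGroup (Fin m) F, ConjClasses.mk g = C ∧ orderOf g = 2} = m + m / 2 := by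
  have hsq : ∀ g : ↥(symplecticGroup (Fin m) F), orderOf g = 2 → g * g = 1 ∧ g ≠ 1 := by
    intro g hg
    refine ⟨?_, ?_⟩
    · have := pow_orderOf_eq_one g
      rw [hg, pow_two] at this
      exact this
    · intro h1
      rw [h1, orderOf_one] at hg
      omega
  rw [← card_invSet m]
  apply ClassCount.card_classes_eq (fun g : ↥(symplecticGroup (Fin m) F) => orderOf g = 2)
    (fun g => (finrank F (LinearMap.range (Nl g)), decide (TypeA g)))
  · intro g hg
    obtain ⟨h1, h2⟩ := hsq g hg
    obtain ⟨b1, b2, b3⟩ := inv_bounds g h1 h2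
    rw [mem_invSet]
    refine ⟨b1, b2, fun h => b3 ?_⟩
    simpa using h
  · intro g h hg hh
    rw [conj_iff_inv g h (hsq g hg).1 (hsq h hh).1, Prod.mk.injEq]
    constructor
    · rintro ⟨h1, h2⟩
      exact ⟨h1, by simp only [decide_eq_decide]; exact h2⟩
    · rintro ⟨h1, h2⟩
      exact ⟨h1, by simpa only [decide_eq_decide] using h2⟩
  · rintro ⟨s, b⟩ hp
    rw [mem_invSet] at hp
    obtain ⟨h1, h2, h3⟩ := hp
    cases b
    · obtain ⟨A, hA, hr, ht⟩ := exists_typeB (F := F) s h1 h2
      exact ⟨A, hA, by rw [hr]; simp [ht]⟩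
    · obtain ⟨k, hk⟩ := h3 rfl
      simp only at hk h1 h2
      obtain ⟨A, hA, hr, ht⟩ := exists_typeA (F := F) (m := m) k (by omega) (by omega)
      exact ⟨A, hA, by rw [hr, hk]; simp [ht]⟩

end Cfsg.Agent.Lib.Helper6.SpInvCount
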