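import Mathlib
import Cfsg.Prelude
import Cfsg.Agent.Lib.Helper5.SympFrames
import Cfsg.Agent.Lib.Helper6.SpInvCount
import Cfsg.Agent.Lib.Helper6.MatCount

set_option autoImplicit false
set_option linter.unusedSectionVars false
set_option linter.unusedVariables false
set_option linter.unusedSimpArgs false
open Cfsg

/-! Centraliser orders of involutions of `Sp_{2m}(F)`, `F` finite of characteristic two. -/

namespace Cfsg.Agent.Lib.Helper6.SpCent

open Matrix Module Cfsg.Agent.Lib.Helper5 Cfsg.Agent.Lib.Helper5.SympTv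
  Cfsg.Agent.Lib.Helper5.SympBridge Cfsg.Agent.Lib.Helper5.SympGen Cfsg.Agent.Lib.Helper6.SpInv2
  Cfsg.Agent.Lib.Helper6.CentFrame Cfsg.Agent.Lib.Helper6.MatCount

variable {F : Type*} [Field F] {m : ℕ}

/-- the action as a linear map -/
noncomputable def rho (g : ↥(symplecticGroup (Fin m) F)) :
    (Fin m ⊕ Fin m → F) →ₗ[F] (Fin m ⊕ Fin m → F) :=
  Matrix.mulVecLin (g : Matrix (Fin m ⊕ Fin m) (Fin m ⊕ Fin m) F)

theorem rho_apply (g : ↥(symplecticGroup (Fin m) F)) (x : Fin m ⊕ Fin m → F) :
    rho g x = act g x := rfl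

attribute [local instance] SympFrames.frameAction

/-- **Centraliser of an involution in normal form.** -/
theorem card_cent_frame [Fintype F] [CharP F 2] (a : ↥(symplecticGroup (Fin m) F))
    {ι : Type} [Fintype ι] [DecidableEq ι] (τ : ι → ι) (hτ : ∀ i, τ (τ i) = i)
    (w : ι → (Fin m ⊕ Fin m → F)) (hli : LinearIndependent F w)
    (h0 : ∀ i j, sympForm m F (w i) (w j) = 0)
    (hN : ∀ x, Nl a x = ∑ i, sympForm m F x (w (τ i)) • w i) :
    Nat.card ↥(Subgroup.centralizer ({a} : Set ↥(symplecticGroup (Fin m) F))) *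
        (∏ i ∈ Finset.range (Fintype.card ι),
          (Fintype.card F ^ (2 * m - i) - Fintype.card F ^ i)) =
      Nat.card ↥(symplecticGroup (Fin m) F) *
        Nat.card {A : Matrix ι ι F // A * P F τ * Aᵀ = P F τ} := by
  classical
  obtain ⟨v, hv⟩ := exists_dual (sympBilin F m) (sympBilin_nondegenerate m) w hli
  set e := Fintype.equivFin ι with he
  set s : Fin (Fintype.card ι) → (Fin m ⊕ Fin m → F) := w ∘ e.symm with hs
  have hsI : SympFrames.IsIso m s :=
    ⟨hli.comp _ e.symm.injective, fun i j => h0 _ _⟩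
  have hwitt : ∀ A : Matrix ι ι F, A * P F τ * Aᵀ = P F τ →
      ∃ g : ↥(symplecticGroup (Fin m) F), ∀ i, rho g (w i) = mulFrame w A i := by
    intro A hA
    have htI : SympFrames.IsIso m (mulFrame w A ∘ e.symm) :=
      ⟨(mulFrame_li τ hτ w hli A hA).comp _ e.symm.injective, fun i j =>
        mulFrame_iso (sympBilin F m) w (fun i j => h0 i j) A _ _⟩
    obtain ⟨g, hg⟩ := SympFrames.exists_smul_eq m (Fintype.card ι) s _ hsI htI
    refine ⟨g, fun i => ?_⟩
    have h1 := congrFun hg (e i)
    rw [SympFrames.smul_apply] at h1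
    simp only [hs, Function.comp_apply, Equiv.symm_apply_apply] at h1
    exact h1
  have hmain := CentFrame.card_centralizer (sympBilin F m) (rho (F := F) (m := m))
    (fun x => act_one x) (fun g h x => act_mul g h x) (fun g u v => symp_act g u v) τ hτ
    (rho a) w hli (fun x => hN x) v hv hwitt
  have hC : Nat.card ↥(Subgroup.centralizer ({a} : Set ↥(symplecticGroup (Fin m) F))) =
      Nat.card {g : ↥(symplecticGroup (Fin m) F) // ∀ x, rho g (rho a x) = rho a (rho g x)} := by
    apply Nat.card_congr
    apply Equiv.subtypeEquivRight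
    intro g
    rw [Subgroup.mem_centralizer_iff]
    constructor
    · intro h x
      have h1 := h a rfl
      rw [rho_apply, rho_apply, rho_apply, rho_apply, ← act_mul, ← act_mul, h1]
    · intro h b hb
      rw [Set.mem_singleton_iff] at hb
      subst hb
      apply ext_act
      intro x
      rw [act_mul, act_mul]
      exact (h x).symm
  have hK : Nat.card ↥(symplecticGroup (Fin m) F) =
      (∏ i ∈ Finset.range (Fintype.card ι), (Fintype.card F ^ (2 * m - i) - Fintype.card F ^ i)) *
        Nat.card {g : ↥(symplecticGroup (Fin m) F) // ∀ i, rho g (w i) = w i} := by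
    rw [SympFrames.card_eq_mul_card_stabilizer m (Fintype.card ι) s hsI]
    congr 1
    apply Nat.card_congr
    apply Equiv.subtypeEquivRight
    intro g
    rw [MulAction.mem_stabilizer_iff]
    constructor
    · intro h i
      have h1 := congrFun h (e i)
      rw [SympFrames.smul_apply] at h1
      simp only [hs, Function.comp_apply, Equiv.symm_apply_apply] at h1
      exact h1
    · intro h
      funext i
      rw [SympFrames.smul_apply]
      exact h (e.symm i)
  rw [hC, hmain, hK]
  ring

end Cfsg.Agent.Lib.Helper6.SpCent
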