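import Mathlib
import Cfsg.Prelude
import Cfsg.Agent.Lib.Helper6.SpCent
import Cfsg.Agent.Lib.Helper6.SpCentArith

set_option autoImplicit false
set_option linter.unusedSectionVars false
set_option linter.unusedVariables false
set_option linter.unusedSimpArgs false
open Cfsg

/-! Centraliser orders of involutions of `Sp_{2m}(F)`, `F` finite of characteristic two: the three
types. -/

namespace Cfsg.Agent.Lib.Helper6.SpCent

open Matrix Module Cfsg.Agent.Lib.Helper5 Cfsg.Agent.Lib.Helper5.SympTv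
  Cfsg.Agent.Lib.Helper5.SympBridge Cfsg.Agent.Lib.Helper5.SympGen Cfsg.Agent.Lib.Helper6.SpInv2
  Cfsg.Agent.Lib.Helper6.CentFrame Cfsg.Agent.Lib.Helper6.MatCount
  Cfsg.Agent.Lib.Helper6.SpCentArith Cfsg.Agent.Lib.Helper6.ONCount
  Cfsg.Agent.Lib.Helper6.SpInvCount

variable {F : Type*} [Field F] [Fintype F] [CharP F 2] {m : ℕ}

theorem card_sp : Nat.card ↥(symplecticGroup (Fin m) F) = spOrd (Fintype.card F) m :=
  SympCard.card_symplecticGroup m

theorem ne_one_of_nonalt (a : ↥(symplecticGroup (Fin m) F))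
    (hna : ∃ v, sympForm m F v (act a v) ≠ 0) : a ≠ 1 := by
  rintro rfl
  obtain ⟨v, hv⟩ := hna
  apply hv
  rw [act_one, sympForm_self]

/-- non-alternating types `b_s`, `c_s` -/
theorem card_cent_nonalt (a : ↥(symplecticGroup (Fin m) F)) (ha : a * a = 1)
    (hna : ∃ v, sympForm m F v (act a v) ≠ 0) {s : ℕ}
    (hs : finrank F (LinearMap.range (Nl a)) = s) :
    Nat.card ↥(Subgroup.centralizer ({a} : Set ↥(symplecticGroup (Fin m) F))) =
      Fintype.card F ^ (2 * m * s - T s) * onCount (Fintype.card F) s *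
        spOrd (Fintype.card F) (m - s) := by
  have ha1 := ne_one_of_nonalt a hna
  obtain ⟨hs1, hsm, -⟩ := inv_bounds a ha ha1
  obtain ⟨w, hli, h0, hN⟩ := normal_form_nonalt a ha hna
  subst hs
  have h1 := card_cent_frame a (id : Fin (finrank F (LinearMap.range (Nl a))) → _) (fun i => rfl)
    w hli h0 (fun x => hN x)
  rw [Fintype.card_fin, card_sp] at h1
  obtain ⟨n, hn⟩ : ∃ n, finrank F (LinearMap.range (Nl a)) = n + 1 := ⟨_, (Nat.sub_add_cancel hs1).symm⟩
  have h2 : Nat.card {A : Matrix (Fin (finrank F (LinearMap.range (Nl a))))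
      (Fin (finrank F (LinearMap.range (Nl a)))) F // A * P F id * Aᵀ = P F id} =
      onCount (Fintype.card F) (finrank F (LinearMap.range (Nl a))) := by
    rw [hn]
    exact card_P_id n
  rw [h2] at h1
  exact assemble _ m _ _ _ Fintype.one_lt_card hsm h1

/-- alternating type `a_s` -/
theorem card_cent_alt (a : ↥(symplecticGroup (Fin m) F)) (ha : a * a = 1) (ha1 : a ≠ 1)
    (halt : ∀ v, sympForm m F v (act a v) = 0) {s : ℕ}
    (hs : finrank F (LinearMap.range (Nl a)) = s) :
    ∃ k, k + k = s ∧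
      Nat.card ↥(Subgroup.centralizer ({a} : Set ↥(symplecticGroup (Fin m) F))) =
        Fintype.card F ^ (2 * m * s - T s) * spOrd (Fintype.card F) k *
          spOrd (Fintype.card F) (m - s) := by
  obtain ⟨hs1, hsm, -⟩ := inv_bounds a ha ha1
  obtain ⟨k, w, hk, hli, h0, hN⟩ := normal_form_alt a ha halt
  subst hs
  refine ⟨k, hk, ?_⟩
  have h1 := card_cent_frame a (Sum.swap : Fin k ⊕ Fin k → _) (fun i => Sum.swap_swap i)
    w hli h0 (fun x => hN x)
  rw [Fintype.card_sum, Fintype.card_fin, card_sp, card_P_swap, card_sp, hk] at h1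
  exact assemble _ m _ _ _ Fintype.one_lt_card hsm h1

end Cfsg.Agent.Lib.Helper6.SpCent
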