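import Mathlib
import Cfsg.Prelude
import Cfsg.Agent.Lib.Helper6.OrthCentOmega
import Cfsg.Agent.Lib.Helper6.OrthCentArith
import Cfsg.Agent.Lib.Helper6.SpCent2

set_option autoImplicit false
set_option linter.unusedSectionVars false
set_option linter.unusedVariables false
set_option linter.unusedSimpArgs false
open Cfsg

/-! Centraliser orders of involutions of `Ω⁺_{2m}(F)`, `F` finite of characteristic two. -/

namespace Cfsg.Agent.Lib.Helper6.OrthCent

open Matrix QuadraticMap Module Cfsg.Agent.Lib.Helper5 Cfsg.Agent.Lib.Helper5.CartanDieudonne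
  Cfsg.Agent.Lib.Helper5.Refl Cfsg.Agent.Lib.Helper5.OrthCard Cfsg.Agent.Lib.Helper5.SpinorNorm
  Cfsg.Agent.Lib.Helper6.OrthInv2 Cfsg.Agent.Lib.Helper6.OrthFrames
  Cfsg.Agent.Lib.Helper6.CentFrame Cfsg.Agent.Lib.Helper6.OrthCentArith
  Cfsg.Agent.Lib.Helper6.MatCount Cfsg.Agent.Lib.Helper6.ONCount
  Cfsg.Agent.Lib.Helper6.SpCentArith

variable {F : Type*} [Field F] [Fintype F] [CharP F 2]

theorem card_O_plus (m : ℕ) (hm : 1 ≤ m) :
    Nat.card ↥(isometryGroup F ⇑(plusForm m F)) = oP (Fintype.card F) m := by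
  obtain ⟨k, rfl⟩ : ∃ k, m = k + 1 := ⟨m - 1, by omega⟩
  rw [oP_closed _ Fintype.card_pos k, coe_plusForm]
  have h := Cfsg.Agent.S0287.result (F := F) rfl (k + 1) hm
  rw [h]
  rfl

/-- type `a_s`: the centraliser in the full orthogonal group -/
theorem card_cent_A (m : ℕ) (hm : 1 ≤ m) (t : ↥(isometryGroup F ⇑(plusForm m F)))
    (ht : t * t = 1) (halt : ∀ v, polar ⇑(plusForm m F) v (act (plusForm m F) t v) = 0) {s : ℕ}
    (hs : finrank F (LinearMap.range (InvAbs.Nl (tL (plusForm m F) t))) = s) :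
    ∃ k, k + k = s ∧ s ≤ m ∧
      Nat.card {g : ↥(isometryGroup F ⇑(plusForm m F)) // g * t = t * g} =
        Fintype.card F ^ (2 * m * s - TA s) * spOrd (Fintype.card F) k *
          oP (Fintype.card F) (m - s) := by
  have hQ := PlusGeom.plus_nondegenerate (F := F) m
  have hV : finrank F (Fin m ⊕ Fin m → F) = 2 * m := MaxTS.finrank_plus m
  obtain ⟨k, w, hk, hli, h0, hN, hq⟩ := normalA (plusForm m F) hQ t ht halt
  subst hs
  have hsm : finrank F (LinearMap.range (InvAbs.Nl (tL (plusForm m F) t))) ≤ m := by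
    have h1 := InvAbs.card_le_of_isotropic (f := polarBilin (plusForm m F)) hQ w hli
      (fun i j => by rw [polarBilin_apply_apply]; exact h0 i j)
    rw [Fintype.card_sum, Fintype.card_fin, hV] at h1
    omega
  refine ⟨k, hk, hsm, ?_⟩
  have h1 := card_cent_frame (plusForm m F) hQ t (Sum.swap : Fin k ⊕ Fin k → _)
    (fun i => Sum.swap_swap i) w hli h0 hN 0 hq (fun A hA i => by
      rw [mulFrame_apply, quad_sum_orth (plusForm m F) Finset.univ w (fun j => A j i) h0]
      apply Finset.sum_eq_zero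
      intro j _
      rw [hq, mul_zero])
  rw [Fintype.card_sum, Fintype.card_fin, card_sing_frames_plus m hm, card_P_swap,
    SpCent.card_sp, card_O_plus m hm, hk] at h1
  exact assembleA _ m _ _ _ Fintype.one_lt_card hsm h1

/-- types `b_s`, `c_s`: the centraliser in `Ω` -/
theorem card_cent_B (m : ℕ) (hm : 1 ≤ m)
    (hex : Fintype.card (Fin m ⊕ Fin m) = 4 → ∃ a : F, a ≠ 0 ∧ a ≠ 1)
    (t : ↥(isometryGroup F ⇑(plusForm m F)))
    (ht : t * t = 1) (hna : ∃ v, polar ⇑(plusForm m F) v (act (plusForm m F) t v) ≠ 0) {s : ℕ}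
    (hs : finrank F (LinearMap.range (InvAbs.Nl (tL (plusForm m F) t))) = s) :
    ∃ s', s = s' + 1 ∧ s ≤ m ∧
      Nat.card {g : ↥(Omega F ⇑(plusForm m F)) //
          (g : ↥(isometryGroup F ⇑(plusForm m F))) * t = t * g} =
        Fintype.card F ^ (2 * m * s' - TB (s' + 1)) * onCount (Fintype.card F) s *
          spOrd (Fintype.card F) (m - s) := by
  have hQ := PlusGeom.plus_nondegenerate (F := F) m
  have hV : finrank F (Fin m ⊕ Fin m → F) = 2 * m := MaxTS.finrank_plus m
  obtain ⟨w, hli, h0, hN, hq⟩ := normalB (plusForm m F) hQ t ht hna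
  obtain ⟨u, hu, htu⟩ := exists_fixed_of_typeB (plusForm m F) t ht hna
  have hhalf := card_cent_Omega_half (plusForm m F) hQ hex t u hu htu
  subst hs
  have hsm : finrank F (LinearMap.range (InvAbs.Nl (tL (plusForm m F) t))) ≤ m := by
    have h1 := InvAbs.card_le_of_isotropic (f := polarBilin (plusForm m F)) hQ w hli
      (fun i j => by rw [polarBilin_apply_apply]; exact h0 i j)
    rw [Fintype.card_fin, hV] at h1
    omega
  have hpos : 0 < finrank F (LinearMap.range (InvAbs.Nl (tL (plusForm m F) t))) := by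
    by_contra hz
    have : IsEmpty (Fin (finrank F (LinearMap.range (InvAbs.Nl (tL (plusForm m F) t))))) :=
      ⟨fun i => hz (Nat.lt_of_le_of_lt (Nat.zero_le _) i.2)⟩
    obtain ⟨v, hv⟩ := hna
    apply hv
    have h1 := hN v
    rw [Finset.univ_eq_empty, Finset.sum_empty, sub_eq_zero] at h1
    rw [h1]
    exact polar_self_zero _ v
  obtain ⟨n, hn⟩ : ∃ n, finrank F (LinearMap.range (InvAbs.Nl (tL (plusForm m F) t))) = n + 1 :=
    ⟨_, (Nat.sub_add_cancel hpos).symm⟩
  refine ⟨n, hn, hsm, ?_⟩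
  have h1 := card_cent_frame (plusForm m F) hQ t
    (id : Fin (finrank F (LinearMap.range (InvAbs.Nl (tL (plusForm m F) t)))) → _)
    (fun i => rfl) w hli h0 (fun x => hN x) 1 hq (fun A hA i => by
      rw [mulFrame_apply, quad_sum_orth (plusForm m F) Finset.univ w (fun j => A j i) h0]
      rw [P_id, Matrix.mul_one] at hA
      have hA' : Aᵀ * A = 1 := mul_eq_one_comm.mp hA
      have h2 := congrFun (congrFun hA' i) i
      rw [Matrix.mul_apply, Matrix.one_apply_eq] at h2
      rw [← h2]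
      apply Finset.sum_congr rfl
      intro j _
      rw [hq, mul_one, Matrix.transpose_apply])
  have h2 : Nat.card {A : Matrix (Fin (finrank F (LinearMap.range (InvAbs.Nl (tL (plusForm m F) t)))))
      (Fin (finrank F (LinearMap.range (InvAbs.Nl (tL (plusForm m F) t))))) F //
        A * P F id * Aᵀ = P F id} =
      onCount (Fintype.card F) (finrank F (LinearMap.range (InvAbs.Nl (tL (plusForm m F) t)))) := by
    rw [hn]
    exact card_P_id n
  rw [Fintype.card_fin, card_unit_frames_plus m hm, h2, card_O_plus m hm] at h1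
  rw [hn] at h1 hsm ⊢
  exact assembleB _ m n _ _ _ Fintype.one_lt_card hsm h1 hhalf

end Cfsg.Agent.Lib.Helper6.OrthCent
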