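import Mathlib
import Cfsg.Prelude
import Cfsg.Agent.Lib.Helper6.OrthCentMain
import Cfsg.Agent.Lib.Helper5.PlusClass

set_option autoImplicit false
set_option linter.unusedSectionVars false
set_option linter.unusedVariables false
set_option linter.unusedSimpArgs false
open Cfsg

/-! Centraliser orders of involutions of `Ω⁺_{2m}(F)`: statement forms. -/

namespace Cfsg.Agent.Lib.Helper6.OrthCent

open Matrix QuadraticMap Module Cfsg.Agent.Lib.Helper5 Cfsg.Agent.Lib.Helper5.CartanDieudonne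
  Cfsg.Agent.Lib.Helper5.Refl Cfsg.Agent.Lib.Helper5.OrthCard Cfsg.Agent.Lib.Helper5.SpinorNorm
  Cfsg.Agent.Lib.Helper6.OrthInv2 Cfsg.Agent.Lib.Helper6.OrthFrames
  Cfsg.Agent.Lib.Helper6.CentFrame Cfsg.Agent.Lib.Helper6.OrthCentArith
  Cfsg.Agent.Lib.Helper6.MatCount Cfsg.Agent.Lib.Helper6.ONCount
  Cfsg.Agent.Lib.Helper6.SpCentArith

variable {F : Type*} [Field F] [Fintype F] [CharP F 2]

theorem hex_of (m : ℕ) (h : Fintype.card F ≠ 2 ∨ m ≠ 2) :
    Fintype.card (Fin m ⊕ Fin m) = 4 → ∃ a : F, a ≠ 0 ∧ a ≠ 1 := by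
  intro h4
  rw [Fintype.card_sum, Fintype.card_fin] at h4
  have hm : m = 2 := by omega
  rcases h with h | h
  · exact PlusClass.exists_ne_of_card h
  · exact absurd hm h

theorem sub_one_mulVec (m : ℕ) (x : ↥(isometryGroup F ⇑(plusForm m F)))
    (v : Fin m ⊕ Fin m → F) :
    (((x : Matrix.GeneralLinearGroup (Fin m ⊕ Fin m) F) :
      Matrix (Fin m ⊕ Fin m) (Fin m ⊕ Fin m) F) - 1).mulVec v = act (plusForm m F) x v - v := by
  rw [Matrix.sub_mulVec, Matrix.one_mulVec]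

/-- statement form, types `b_s` and `c_s` -/
theorem stmt_B (m : ℕ) (Q₀ : (Fin m ⊕ Fin m → F) → F) (hQQ : ⇑(plusForm m F) = Q₀)
    (h : Fintype.card F ≠ 2 ∨ m ≠ 2) (x : ↥(isometryGroup F Q₀)) (hx : x ^ 2 = 1) {s : ℕ}
    (hs : (((x : Matrix.GeneralLinearGroup (Fin m ⊕ Fin m) F) :
      Matrix (Fin m ⊕ Fin m) (Fin m ⊕ Fin m) F) - 1).rank = s)
    (hna : ∃ v : Fin m ⊕ Fin m → F, Q₀ ((((x : Matrix.GeneralLinearGroup (Fin m ⊕ Fin m) F) :
      Matrix (Fin m ⊕ Fin m) (Fin m ⊕ Fin m) F) - 1).mulVec v) ≠ 0) :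
    ∃ s', s = s' + 1 ∧ s ≤ m ∧
      Nat.card {g : ↥(Omega F Q₀) // (g : ↥(isometryGroup F Q₀)) * x = x * g} =
        Fintype.card F ^ (2 * m * s' - TB (s' + 1)) * onCount (Fintype.card F) s *
          spOrd (Fintype.card F) (m - s) := by
  subst hQQ
  have hm : 1 ≤ m := by
    by_contra hm0
    have hm0' : m = 0 := by omega
    subst hm0'
    obtain ⟨v, hv⟩ := hna
    apply hv
    have : ((((x : Matrix.GeneralLinearGroup (Fin 0 ⊕ Fin 0) F) :
      Matrix (Fin 0 ⊕ Fin 0) (Fin 0 ⊕ Fin 0) F) - 1).mulVec v) = 0 := Subsingleton.elim _ _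
    rw [this, map_zero]
  have ht : x * x = 1 := by rw [← pow_two]; exact hx
  have hna' : ∃ v, polar ⇑(plusForm m F) v (act (plusForm m F) x v) ≠ 0 := by
    obtain ⟨v, hv⟩ := hna
    refine ⟨v, ?_⟩
    rw [sub_one_mulVec, quad_N] at hv
    exact hv
  rw [rank_eq] at hs
  exact card_cent_B m hm (hex_of m h) x ht hna' hs

/-- statement form, type `a_s` -/
theorem stmt_A (m : ℕ) (Q₀ : (Fin m ⊕ Fin m → F) → F) (hQQ : ⇑(plusForm m F) = Q₀)
    (h : Fintype.card F ≠ 2 ∨ m ≠ 2) (x : ↥(isometryGroup F Q₀)) (hx : x ^ 2 = 1) (hm : 1 ≤ m)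
    {s : ℕ}
    (hs : (((x : Matrix.GeneralLinearGroup (Fin m ⊕ Fin m) F) :
      Matrix (Fin m ⊕ Fin m) (Fin m ⊕ Fin m) F) - 1).rank = s)
    (halt : ∀ v : Fin m ⊕ Fin m → F, Q₀ ((((x : Matrix.GeneralLinearGroup (Fin m ⊕ Fin m) F) :
      Matrix (Fin m ⊕ Fin m) (Fin m ⊕ Fin m) F) - 1).mulVec v) = 0) :
    ∃ k, k + k = s ∧ s ≤ m ∧
      Nat.card {g : ↥(Omega F Q₀) // (g : ↥(isometryGroup F Q₀)) * x = x * g} *
          (if s = m then 1 else 2) =
        Fintype.card F ^ (2 * m * s - TA s) * spOrd (Fintype.card F) k *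
          oP (Fintype.card F) (m - s) := by
  subst hQQ
  have hQ := PlusGeom.plus_nondegenerate (F := F) m
  have hV : finrank F (Fin m ⊕ Fin m → F) = 2 * m := MaxTS.finrank_plus m
  have ht : x * x = 1 := by rw [← pow_two]; exact hx
  have halt' : ∀ v, polar ⇑(plusForm m F) v (act (plusForm m F) x v) = 0 := by
    intro v
    have hv := halt v
    rw [sub_one_mulVec, quad_N] at hv
    exact hv
  rw [rank_eq] at hs
  obtain ⟨k, hk, hsm, hC⟩ := card_cent_A m hm x ht halt' hs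
  refine ⟨k, hk, hsm, ?_⟩
  rw [← hC]
  by_cases hsm' : s = m
  · rw [if_pos hsm', mul_one]
    exact card_cent_Omega_full (plusForm m F) hQ (hex_of m h) m hV x ht halt' (hs.trans hsm')
  · rw [if_neg hsm']
    rcases typeA_dichotomy (plusForm m F) hQ m hV x ht with ⟨u, hu, htu⟩ | hr
    · exact card_cent_Omega_half (plusForm m F) hQ (hex_of m h) x u hu htu
    · exact absurd (hs.symm.trans hr) hsm'

end Cfsg.Agent.Lib.Helper6.OrthCent
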