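import Mathlib
import Cfsg.Prelude
import Cfsg.Agent.Lib.Helper6.OrthCentOmega
import Cfsg.Agent.Lib.Helper6.OrthInvCount3

set_option autoImplicit false
set_option linter.unusedSectionVars false
set_option linter.unusedVariables false
set_option linter.unusedSimpArgs false
open Cfsg

/-! Involutions of `Ω` for quadratic forms of maximal Witt index in characteristic two, without
restriction on the dimension. -/

namespace Cfsg.Agent.Lib.Helper6.OrthOmegaCls

open Matrix QuadraticMap Module Cfsg.Agent.Lib.Helper5 Cfsg.Agent.Lib.Helper5.CartanDieudonne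
  Cfsg.Agent.Lib.Helper5.Refl Cfsg.Agent.Lib.Helper5.OrthCard Cfsg.Agent.Lib.Helper5.SpinorNorm
  Cfsg.Agent.Lib.Helper5.Dickson Cfsg.Agent.Lib.Helper5.MaxTS Cfsg.Agent.Lib.Helper5.OrthParity
  Cfsg.Agent.Lib.Helper6.OrthInv2 Cfsg.Agent.Lib.Helper6.OrthFrames
  Cfsg.Agent.Lib.Helper6.OrthCent

variable {ι : Type} [Fintype ι] [DecidableEq ι] {F : Type*} [Field F] [Fintype F] [CharP F 2]
  (Q : QuadraticForm F (ι → F))

section
variable (hQ : (polarBilin Q).Nondegenerate)
  (hex : Fintype.card ι = 4 → ∃ a : F, a ≠ 0 ∧ a ≠ 1) (m : ℕ)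
  (hV : finrank F (ι → F) = 2 * m)

include hQ hex hV in
/-- an isometry stabilising a maximal totally singular subspace lies in `Ω` -/
theorem mem_Omega_of_img_eq (U : Submodule F (ι → F)) (hU : IsMaxTS Q m U)
    (g : ↥(isometryGroup F ⇑Q)) (h : img Q g U = U) : g ∈ Omega F ⇑Q := by
  have h2 : (2 : F) = 0 := CharTwo.two_eq_zero
  obtain ⟨vs, hvs⟩ := exists_rep' Q hQ hex g
  have heven := (ClassParity.even_dist_iff Q hQ m hV U hU g vs hvs).mp (by
    rw [h, inf_idem, hU.1, Nat.sub_self]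
    exact Even.zero)
  rw [OmegaCrit.mem_Omega_iff_par Q h2 hQ hex, par_eq Q hQ hex g vs hvs]
  exact heven.neg_one_pow

include hQ hex hV in
/-- type `a_s` involutions lie in `Ω` when the Witt index is maximal -/
theorem mem_Omega_of_typeA (U₀ : Submodule F (ι → F)) (hU₀ : IsMaxTS Q m U₀)
    (t : ↥(isometryGroup F ⇑Q)) (ht : t * t = 1)
    (hA : ∀ v, polar ⇑Q v (act Q t v) = 0) : t ∈ Omega F ⇑Q := by
  obtain ⟨k, w, hk, hli, h0, hN, hq⟩ := normalA Q hQ t ht hA
  have hkm : k + k ≤ m := by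
    have h1 := InvAbs.card_le_of_isotropic (f := polarBilin Q) hQ w hli
      (fun i j => by rw [polarBilin_apply_apply]; exact h0 i j)
    rw [Fintype.card_sum, Fintype.card_fin, hV] at h1
    omega
  -- a frame inside `U₀`
  have hkU : k + k ≤ finrank F U₀ := by rw [hU₀.1]; exact hkm
  let b := Module.finBasis F U₀
  set u : Fin (k + k) → (ι → F) := fun i => ((b (Fin.castLE hkU i) : U₀) : ι → F) with hu
  have hu_mem : ∀ i, u i ∈ U₀ := fun i => (b _).2
  have huli : LinearIndependent F u := by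
    have h1 : LinearIndependent F (fun i : Fin (k + k) => b (Fin.castLE hkU i)) :=
      b.linearIndependent.comp _ (Fin.castLE_injective hkU)
    exact h1.map' U₀.subtype (Submodule.ker_subtype U₀)
  have huF : IsFr Q 0 u :=
    ⟨huli, fun i j => PlusGeom.polar_eq_zero_of_ts Q U₀ hU₀.2 (hu_mem i) (hu_mem j),
      fun i => hU₀.2 _ (hu_mem i)⟩
  have hwF : IsFr Q 0 (w ∘ finSumFinEquiv.symm) :=
    ⟨hli.comp _ finSumFinEquiv.symm.injective, fun i j => h0 _ _, fun i => hq _⟩
  obtain ⟨g, hg⟩ := exists_smul_eq Q hQ 0 u _ huF hwF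
  have hUmax : IsMaxTS Q m (img Q g U₀) := img_isMaxTS Q m g U₀ hU₀
  have hw_mem : ∀ i, w i ∈ img Q g U₀ := by
    intro i
    rw [mem_img]
    refine ⟨u (finSumFinEquiv i), hu_mem _, ?_⟩
    have h1 := congrFun hg (finSumFinEquiv i)
    rw [OrthCent.smul_apply] at h1
    simp only [Function.comp_apply, Equiv.symm_apply_apply] at h1
    exact h1
  have hfix : ∀ x ∈ img Q g U₀, act Q t x = x := by
    intro x hx
    have h1 := hN x
    rw [Finset.sum_eq_zero (fun i _ => by
      rw [PlusGeom.polar_eq_zero_of_ts Q _ hUmax.2 hx (hw_mem _), zero_smul]), sub_eq_zero] at h1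
    exact h1
  apply mem_Omega_of_img_eq Q hQ hex m hV (img Q g U₀) hUmax
  ext y
  rw [mem_img]
  constructor
  · rintro ⟨x, hx, rfl⟩
    rw [hfix x hx]
    exact hx
  · intro hy
    exact ⟨y, hy, hfix y hy⟩

include hQ hex hV in
/-- an involution lies in `Ω` iff `t - 1` has even rank -/
theorem mem_Omega_iff_even (U₀ : Submodule F (ι → F)) (hU₀ : IsMaxTS Q m U₀)
    (t : ↥(isometryGroup F ⇑Q)) (ht : t * t = 1) :
    t ∈ Omega F ⇑Q ↔ Even (finrank F (LinearMap.range (InvAbs.Nl (tL Q t)))) := by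
  by_cases hA : ∀ v, polar ⇑Q v (act Q t v) = 0
  · obtain ⟨k, w, hk, hli, h0, hN, hq⟩ := normalA Q hQ t ht hA
    constructor
    · intro _
      exact ⟨k, hk.symm⟩
    · intro _
      exact mem_Omega_of_typeA Q hQ hex m hV U₀ hU₀ t ht hA
  · push Not at hA
    obtain ⟨w, hli, h0, hN, hq⟩ := normalB Q hQ t ht hA
    have hrep := isRep_of_normalB Q t w h0 hN hq
    have h2 : (2 : F) = 0 := CharTwo.two_eq_zero
    rw [OmegaCrit.mem_Omega_iff_par Q h2 hQ hex, par_eq Q hQ hex t _ hrep, List.length_ofFn,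
      neg_one_pow_eq_one_iff]

include hQ hex in
/-- if a reflection centralises `t`, then conjugacy in `O` implies conjugacy under `Ω` -/
theorem conj_Omega_of_fixed (t s h : ↥(isometryGroup F ⇑Q)) (hts : h * t * h⁻¹ = s)
    (u : ι → F) (hu : Q u ≠ 0) (htu : act Q t u = u) :
    ∃ g ∈ Omega F ⇑Q, g * t * g⁻¹ = s := by
  have h2 : (2 : F) = 0 := CharTwo.two_eq_zero
  have hmem : ∀ g : ↥(isometryGroup F ⇑Q), g ∈ Omega F ⇑Q ↔ par Q hQ hex g = 1 :=
    fun g => OmegaCrit.mem_Omega_iff_par Q h2 hQ hex g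
  have hr2 : reflection Q u hu * reflection Q u hu = 1 := OmegaGen.reflection_mul_self' Q u hu
  have h3 : t * reflection Q u hu * t⁻¹ = reflection Q u hu := by
    rw [conj_reflection]
    exact OmegaGen.reflection_congr Q htu _ _
  rcases Int.units_eq_one_or (par Q hQ hex h) with h1 | h1
  · exact ⟨h, (hmem h).mpr h1, hts⟩
  · refine ⟨h * reflection Q u hu, ?_, ?_⟩
    · rw [hmem, map_mul, h1, par_reflection]
      decide
    · have h5 : t * reflection Q u hu = reflection Q u hu * t := by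
        calc t * reflection Q u hu = (t * reflection Q u hu * t⁻¹) * t := by group
          _ = reflection Q u hu * t := by rw [h3]
      have h4 : reflection Q u hu * t * (reflection Q u hu)⁻¹ = t := by
        rw [← h5]
        group
      calc h * reflection Q u hu * t * (h * reflection Q u hu)⁻¹
          = h * (reflection Q u hu * t * (reflection Q u hu)⁻¹) * h⁻¹ := by group
        _ = s := by rw [h4, hts]

include hQ hex hV in
/-- first half: no splitting outside the exceptional case -/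
theorem split_part1 (t s h : ↥(isometryGroup F ⇑Q)) (ht : t * t = 1) (hts : h * t * h⁻¹ = s)
    (hnot : ¬ (finrank F (LinearMap.range (InvAbs.Nl (tL Q t))) = m ∧
      ∀ v, polar ⇑Q v (act Q t v) = 0)) :
    ∃ g ∈ Omega F ⇑Q, g * t * g⁻¹ = s := by
  by_cases hA : ∀ v, polar ⇑Q v (act Q t v) = 0
  · rcases typeA_dichotomy Q hQ m hV t ht with ⟨u, hu, htu⟩ | hr
    · exact conj_Omega_of_fixed Q hQ hex t s h hts u hu htu
    · exact absurd ⟨hr, hA⟩ hnot
  · push Not at hA
    obtain ⟨u, hu, htu⟩ := exists_fixed_of_typeB Q t ht hA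
    exact conj_Omega_of_fixed Q hQ hex t s h hts u hu htu

end

end Cfsg.Agent.Lib.Helper6.OrthOmegaCls
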