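import Mathlib
import Cfsg.Prelude
import Cfsg.Agent.Lib.Helper6.OrthOmegaCls

set_option autoImplicit false
set_option linter.unusedSectionVars false
set_option linter.unusedVariables false
set_option linter.unusedSimpArgs false
open Cfsg

/-! The exceptional class of involutions of `Ω⁺` and the two families of maximal totally singular
subspaces. -/

namespace Cfsg.Agent.Lib.Helper6.OrthOmegaCls

open Matrix QuadraticMap Module Cfsg.Agent.Lib.Helper5 Cfsg.Agent.Lib.Helper5.CartanDieudonne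
  Cfsg.Agent.Lib.Helper5.Refl Cfsg.Agent.Lib.Helper5.OrthCard Cfsg.Agent.Lib.Helper5.SpinorNorm
  Cfsg.Agent.Lib.Helper5.Dickson Cfsg.Agent.Lib.Helper5.MaxTS Cfsg.Agent.Lib.Helper5.OrthParity
  Cfsg.Agent.Lib.Helper6.OrthInv2 Cfsg.Agent.Lib.Helper6.OrthFrames
  Cfsg.Agent.Lib.Helper6.OrthCent

variable {ι : Type} [Fintype ι] [DecidableEq ι] {F : Type*} [Field F] [Fintype F] [CharP F 2]
  (Q : QuadraticForm F (ι → F))

section
variable (hQ : (polarBilin Q).Nondegenerate)
  (hex : Fintype.card ι = 4 → ∃ a : F, a ≠ 0 ∧ a ≠ 1) (m : ℕ)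
  (hV : finrank F (ι → F) = 2 * m)

/-- the range of `t - 1` -/
noncomputable def R (t : ↥(isometryGroup F ⇑Q)) : Submodule F (ι → F) :=
  LinearMap.range (InvAbs.Nl (tL Q t))

theorem R_max (t : ↥(isometryGroup F ⇑Q)) (hr : finrank F (R Q t) = m)
    (hA : ∀ v, polar ⇑Q v (act Q t v) = 0) : IsMaxTS Q m (R Q t) := by
  refine ⟨hr, ?_⟩
  rintro _ ⟨v, rfl⟩
  rw [InvAbs.Nl_apply, tL_apply, quad_N]
  exact hA v

theorem even_iff_of_even_sum {a b c : ℕ} (h : Even (a + b + c)) (hb : Even b) :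
    Even a ↔ Even c := by
  rw [Nat.even_add, Nat.even_add] at h
  tauto

theorem even_mid_of_even_sum {a b c : ℕ} (h : Even (a + b + c)) (hac : Even a ↔ Even c) :
    Even b := by
  rw [Nat.even_add, Nat.even_add] at h
  tauto

include hQ hex hV in
/-- second half: the exceptional class, relative to a reference subspace `U₀` -/
theorem split_part2 (U₀ : Submodule F (ι → F)) (hU₀ : IsMaxTS Q m U₀)
    (t s h : ↥(isometryGroup F ⇑Q)) (hts : h * t * h⁻¹ = s)
    (hr : finrank F (R Q t) = m) (hA : ∀ v, polar ⇑Q v (act Q t v) = 0) :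
    (∃ g ∈ Omega F ⇑Q, g * t * g⁻¹ = s) ↔
      (Even (m - finrank F ↥(U₀ ⊓ R Q t)) ↔ Even (m - finrank F ↥(U₀ ⊓ R Q s))) := by
  have h2 : (2 : F) = 0 := CharTwo.two_eq_zero
  have hMax := R_max Q m t hr hA
  constructor
  · rintro ⟨g, hg, hgts⟩
    have h1 : R Q s = img Q g (R Q t) := range_conj Q t s g hgts
    rw [h1]
    have h3 := even_of_mem_Omega Q hQ m hV (R Q t) hMax g hg
    have h4 := even_sum Q hQ m hV U₀ (R Q t) (img Q g (R Q t)) hU₀ hMax
      (img_isMaxTS Q m g _ hMax)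
    exact even_iff_of_even_sum h4 h3
  · intro hiff
    have h1 : R Q s = img Q h (R Q t) := range_conj Q t s h hts
    rw [h1] at hiff
    have h4 := even_sum Q hQ m hV U₀ (R Q t) (img Q h (R Q t)) hU₀ hMax
      (img_isMaxTS Q m h _ hMax)
    have h5 := even_mid_of_even_sum h4 hiff
    obtain ⟨vs, hrep⟩ := exists_rep' Q hQ hex h
    have h6 := (ClassParity.even_dist_iff Q hQ m hV (R Q t) hMax h vs hrep).mp h5
    refine ⟨h, ?_, hts⟩
    rw [OmegaCrit.mem_Omega_iff_par Q h2 hQ hex, par_eq Q hQ hex h vs hrep]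
    exact h6.neg_one_pow

include hQ hex hV in
/-- conjugating by a reflection changes the family -/
theorem family_flip (U₀ : Submodule F (ι → F)) (hU₀ : IsMaxTS Q m U₀)
    (t : ↥(isometryGroup F ⇑Q)) (hr : finrank F (R Q t) = m)
    (hA : ∀ v, polar ⇑Q v (act Q t v) = 0) (u : ι → F) (hu : Q u ≠ 0) :
    Even (m - finrank F ↥(U₀ ⊓ R Q (reflection Q u hu * t * (reflection Q u hu)⁻¹))) ↔
      ¬ Even (m - finrank F ↥(U₀ ⊓ R Q t)) := by
  have hMax := R_max Q m t hr hA
  have h1 : R Q (reflection Q u hu * t * (reflection Q u hu)⁻¹) =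
      img Q (reflection Q u hu) (R Q t) := range_conj Q t _ _ rfl
  rw [h1]
  have h3 : m - finrank F ↥(R Q t ⊓ img Q (reflection Q u hu) (R Q t)) = 1 :=
    ClassParity.dist_reflection Q hQ m hV (R Q t) hMax u hu
  have h4 := even_sum Q hQ m hV U₀ (R Q t) (img Q (reflection Q u hu) (R Q t)) hU₀ hMax
    (img_isMaxTS Q m _ _ hMax)
  rw [h3, Nat.even_add, Nat.even_add] at h4
  have h5 : ¬ Even 1 := by decide
  tauto

end

end Cfsg.Agent.Lib.Helper6.OrthOmegaCls
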