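import Mathlib
import Cfsg.Prelude
import Cfsg.Agent.Lib.Helper6.OrthOmegaCls2

set_option autoImplicit false
set_option linter.unusedSectionVars false
set_option linter.unusedVariables false
set_option linter.unusedSimpArgs false
open Cfsg

/-! The number of classes of involutions of `Ω⁺_{2m}(F)`, characteristic two. -/

namespace Cfsg.Agent.Lib.Helper6.OrthOmegaCls

/-- the finset of invariants -/
def invSetO (m : ℕ) : Finset (ℕ × Bool × Bool) :=
  (((Finset.Icc 1 m).filter Even).image (fun s => (s, false, false)) ∪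
    ((Finset.Icc 1 (m - 1)).filter Even).image (fun s => (s, true, false))) ∪
  (if Even m then {(m, true, false), (m, true, true)} else ∅)

theorem mem_invSetO (m : ℕ) (hm : 1 ≤ m) (p : ℕ × Bool × Bool) :
    p ∈ invSetO m ↔ Even p.1 ∧ 1 ≤ p.1 ∧
      ((p.2.1 = false ∧ p.2.2 = false ∧ p.1 ≤ m) ∨
        (p.2.1 = true ∧ p.2.2 = false ∧ p.1 + 1 ≤ m) ∨ (p.2.1 = true ∧ p.1 = m)) := by
  obtain ⟨s, a, b⟩ := p
  unfold invSetO
  rw [Finset.mem_union, Finset.mem_union, Finset.mem_image, Finset.mem_image]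
  simp only [Finset.mem_filter, Finset.mem_Icc, Prod.mk.injEq]
  constructor
  · rintro ((⟨x, ⟨⟨h1, h2⟩, h3⟩, rfl, rfl, rfl⟩ | ⟨x, ⟨⟨h1, h2⟩, h3⟩, rfl, rfl, rfl⟩) | h)
    · exact ⟨h3, h1, Or.inl ⟨rfl, rfl, h2⟩⟩
    · exact ⟨h3, h1, Or.inr (Or.inl ⟨rfl, rfl, by omega⟩)⟩
    · by_cases hev : Even m
      · rw [if_pos hev] at h
        simp only [Finset.mem_insert, Finset.mem_singleton, Prod.mk.injEq] at h
        rcases h with ⟨rfl, rfl, rfl⟩ | ⟨rfl, rfl, rfl⟩
        · exact ⟨hev, hm, Or.inr (Or.inr ⟨rfl, rfl⟩)⟩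
        · exact ⟨hev, hm, Or.inr (Or.inr ⟨rfl, rfl⟩)⟩
      · rw [if_neg hev] at h
        exact absurd h (Finset.notMem_empty _)
  · rintro ⟨hev, h1, (⟨rfl, rfl, h2⟩ | ⟨rfl, rfl, h2⟩ | ⟨rfl, rfl⟩)⟩
    · exact Or.inl (Or.inl ⟨s, ⟨⟨h1, h2⟩, hev⟩, rfl, rfl, rfl⟩)
    · exact Or.inl (Or.inr ⟨s, ⟨⟨h1, by omega⟩, hev⟩, rfl, rfl, rfl⟩)
    · right
      rw [if_pos hev]
      simp only [Finset.mem_insert, Finset.mem_singleton, Prod.mk.injEq, true_and]
      cases b <;> simp

theorem card_invSetO (m : ℕ) (hm : 1 ≤ m) :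
    (invSetO m).card = 2 * (m / 2) + (if Even m then 1 else 0) := by
  unfold invSetO
  have hinj1 : Function.Injective (fun s : ℕ => ((s, false, false) : ℕ × Bool × Bool)) :=
    fun a b h => (Prod.mk.inj h).1
  have hinj2 : Function.Injective (fun s : ℕ => ((s, true, false) : ℕ × Bool × Bool)) :=
    fun a b h => (Prod.mk.inj h).1
  have hd1 : Disjoint (((Finset.Icc 1 m).filter Even).image
      (fun s => ((s, false, false) : ℕ × Bool × Bool)))
      (((Finset.Icc 1 (m - 1)).filter Even).image (fun s => ((s, true, false) : ℕ × Bool × Bool))) := by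
    rw [Finset.disjoint_left]
    intro p h1 h2
    rw [Finset.mem_image] at h1 h2
    obtain ⟨a, -, rfl⟩ := h1
    obtain ⟨b, -, hb⟩ := h2
    have := (Prod.mk.inj (Prod.mk.inj hb).2).1
    exact absurd this (by decide)
  have hd2 : Disjoint ((((Finset.Icc 1 m).filter Even).image
      (fun s => ((s, false, false) : ℕ × Bool × Bool))) ∪
      (((Finset.Icc 1 (m - 1)).filter Even).image (fun s => ((s, true, false) : ℕ × Bool × Bool))))
      (if Even m then ({(m, true, false), (m, true, true)} : Finset (ℕ × Bool × Bool)) else ∅) := by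
    rw [Finset.disjoint_left]
    intro p h1 h2
    by_cases hev : Even m
    · rw [if_pos hev] at h2
      simp only [Finset.mem_insert, Finset.mem_singleton] at h2
      rw [Finset.mem_union, Finset.mem_image, Finset.mem_image] at h1
      simp only [Finset.mem_filter, Finset.mem_Icc] at h1
      rcases h1 with ⟨x, ⟨⟨h3, h4⟩, h5⟩, rfl⟩ | ⟨x, ⟨⟨h3, h4⟩, h5⟩, rfl⟩
      · rcases h2 with h2 | h2
        · exact absurd (Prod.mk.inj (Prod.mk.inj h2).2).1 (by decide)
        · exact absurd (Prod.mk.inj (Prod.mk.inj h2).2).1 (by decide)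
      · rcases h2 with h2 | h2
        · have := (Prod.mk.inj h2).1
          omega
        · exact absurd (Prod.mk.inj (Prod.mk.inj h2).2).2 (by decide)
    · rw [if_neg hev] at h2
      exact absurd h2 (Finset.notMem_empty _)
  rw [Finset.card_union_of_disjoint hd2, Finset.card_union_of_disjoint hd1,
    Finset.card_image_of_injective _ hinj1, Finset.card_image_of_injective _ hinj2,
    ClassCount.card_even_Icc, ClassCount.card_even_Icc]
  by_cases hev : Even m
  · rw [if_pos hev, if_pos hev]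
    have : (({(m, true, false), (m, true, true)} : Finset (ℕ × Bool × Bool))).card = 2 := by
      rw [Finset.card_pair]
      intro h
      exact absurd (Prod.mk.inj (Prod.mk.inj h).2).2 (by decide)
    rw [this]
    obtain ⟨j, hj⟩ := hev
    omega
  · rw [if_neg hev, if_neg hev, Finset.card_empty]
    rw [Nat.not_even_iff_odd] at hev
    obtain ⟨j, hj⟩ := hev
    omega

end Cfsg.Agent.Lib.Helper6.OrthOmegaCls
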