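import Mathlib
import Cfsg.Prelude
import Cfsg.Agent.Lib.Helper6.OrthOmegaCls3

set_option autoImplicit false
set_option linter.unusedSectionVars false
set_option linter.unusedVariables false
set_option linter.unusedSimpArgs false
open Cfsg

/-! The number of classes of involutions of `Ω⁺_{2m}(F)`, characteristic two: the count. -/

namespace Cfsg.Agent.Lib.Helper6.OrthOmegaCls

open Matrix QuadraticMap Module Cfsg.Agent.Lib.Helper5 Cfsg.Agent.Lib.Helper5.CartanDieudonne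
  Cfsg.Agent.Lib.Helper5.Refl Cfsg.Agent.Lib.Helper5.OrthCard Cfsg.Agent.Lib.Helper5.SpinorNorm
  Cfsg.Agent.Lib.Helper5.Dickson Cfsg.Agent.Lib.Helper5.MaxTS Cfsg.Agent.Lib.Helper5.OrthParity
  Cfsg.Agent.Lib.Helper6.OrthInv2 Cfsg.Agent.Lib.Helper6.OrthFrames
  Cfsg.Agent.Lib.Helper6.OrthCent

variable {ι : Type} [Fintype ι] [DecidableEq ι] {F : Type*} [Field F] [Fintype F] [CharP F 2]
  (Q : QuadraticForm F (ι → F))

theorem rank_pos (g : ↥(isometryGroup F ⇑Q)) (h2 : g ≠ 1) : 1 ≤ finrank F (R Q g) := by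
  by_contra h
  have h0 : finrank F (R Q g) = 0 := by omega
  unfold R at h0
  rw [Submodule.finrank_eq_zero] at h0
  apply h2
  apply ext_act'
  intro x
  have : InvAbs.Nl (tL Q g) x ∈ LinearMap.range (InvAbs.Nl (tL Q g)) :=
    LinearMap.mem_range_self _ x
  rw [h0, Submodule.mem_bot, InvAbs.Nl_apply, tL_apply, sub_eq_zero] at this
  rw [this, act_one']

theorem rank_le (hQ : (polarBilin Q).Nondegenerate) (m : ℕ) (hV : finrank F (ι → F) = 2 * m)
    (g : ↥(isometryGroup F ⇑Q)) (h1 : g * g = 1) : finrank F (R Q g) ≤ m := by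
  unfold R
  by_cases hA : ∀ v, polar ⇑Q v (act Q g v) = 0
  · obtain ⟨k, w, hk, hli, h0, hN, hq⟩ := normalA Q hQ g h1 hA
    have h3 := InvAbs.card_le_of_isotropic (f := polarBilin Q) hQ w hli
      (fun i j => by rw [polarBilin_apply_apply]; exact h0 i j)
    rw [Fintype.card_sum, Fintype.card_fin, hV] at h3
    omega
  · push Not at hA
    obtain ⟨w, hli, h0, hN, hq⟩ := normalB Q hQ g h1 hA
    have h3 := InvAbs.card_le_of_isotropic (f := polarBilin Q) hQ w hli
      (fun i j => by rw [polarBilin_apply_apply]; exact h0 i j)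
    rw [Fintype.card_fin, hV] at h3
    omega

theorem exists_inv_B (hQ : (polarBilin Q).Nondegenerate) (s : ℕ) (hs1 : 1 ≤ s)
    (w : Fin s → (ι → F)) (hli : LinearIndependent F w)
    (h0 : ∀ i j, polar ⇑Q (w i) (w j) = 0) (hq : ∀ i, Q (w i) = 1) :
    ∃ A : ↥(isometryGroup F ⇑Q), A * A = 1 ∧ finrank F (R Q A) = s ∧ ¬ TypeA Q A := by
  have hAlt : ∀ x, polarBilin Q x x = 0 := fun x => by
    rw [polarBilin_apply_apply]; exact polar_self_zero Q x
  obtain ⟨A, hA, hN⟩ := exists_of_family_B Q hQ w h0 hq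
  have hr : finrank F (LinearMap.range (InvAbs.Nl (tL Q A))) = s := by
    have := InvAbs.finrank_range_of_form (f := polarBilin Q) (t := tL Q A) hQ
      (id : Fin s → Fin s) (fun i => rfl) w hli (fun x => hN x)
    rw [Fintype.card_fin] at this
    exact this
  have : Nonempty (Fin s) := ⟨⟨0, by omega⟩⟩
  obtain ⟨v, hv⟩ := InvAbs.nonalt_of_form_id (f := polarBilin Q) (t := tL Q A) hAlt hQ w hli
    (fun x => hN x)
  exact ⟨A, hA, hr, fun h => hv (h v)⟩

theorem exists_inv_A (hQ : (polarBilin Q).Nondegenerate) (k : ℕ)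
    (w : Fin k ⊕ Fin k → (ι → F)) (hli : LinearIndependent F w)
    (h0 : ∀ i j, polar ⇑Q (w i) (w j) = 0) (hq : ∀ i, Q (w i) = 0) :
    ∃ A : ↥(isometryGroup F ⇑Q), A * A = 1 ∧ finrank F (R Q A) = k + k ∧ TypeA Q A := by
  have hAlt : ∀ x, polarBilin Q x x = 0 := fun x => by
    rw [polarBilin_apply_apply]; exact polar_self_zero Q x
  obtain ⟨A, hA, hN⟩ := exists_of_family_A Q hQ w h0 hq
  have hr : finrank F (LinearMap.range (InvAbs.Nl (tL Q A))) = k + k := by
    have := InvAbs.finrank_range_of_form (f := polarBilin Q) (t := tL Q A) hQ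
      (Sum.swap : Fin k ⊕ Fin k → Fin k ⊕ Fin k) Sum.swap_swap w hli (fun x => hN x)
    rw [Fintype.card_sum, Fintype.card_fin] at this
    exact this
  exact ⟨A, hA, hr, fun v =>
    InvAbs.alt_of_form_swap (f := polarBilin Q) (t := tL Q A) hAlt w (fun x => hN x) v⟩

theorem orderOf_two_of' (g : ↥(Omega F ⇑Q)) (h1 : g.1 * g.1 = 1) (h2 : g.1 ≠ 1) :
    orderOf g = 2 := by
  have : Fact (Nat.Prime 2) := ⟨Nat.prime_two⟩
  apply orderOf_eq_prime
  · apply Subtype.ext
    rw [pow_two]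
    exact h1
  · intro h
    exact h2 (congrArg Subtype.val h)

theorem isConj_Omega_iff (g h : ↥(Omega F ⇑Q)) :
    IsConj g h ↔ ∃ c ∈ Omega F ⇑Q, c * g.1 * c⁻¹ = h.1 := by
  rw [isConj_iff]
  constructor
  · rintro ⟨c, hc⟩
    exact ⟨c.1, c.2, congrArg Subtype.val hc⟩
  · rintro ⟨c, hc, hcg⟩
    exact ⟨⟨c, hc⟩, Subtype.ext hcg⟩

end Cfsg.Agent.Lib.Helper6.OrthOmegaCls
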