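import Mathlib
import Cfsg.Prelude
import Cfsg.Agent.Lib.Helper6.OrthOmegaCls4

set_option autoImplicit false
set_option linter.unusedSectionVars false
set_option linter.unusedVariables false
set_option linter.unusedSimpArgs false
open Cfsg

/-! The number of classes of involutions of `Ω⁺_{2m}(F)`, characteristic two: the count. -/

namespace Cfsg.Agent.Lib.Helper6.OrthOmegaCls

open Matrix QuadraticMap Module Cfsg.Agent.Lib.Helper5 Cfsg.Agent.Lib.Helper5.CartanDieudonne
  Cfsg.Agent.Lib.Helper5.Refl Cfsg.Agent.Lib.Helper5.OrthCard Cfsg.Agent.Lib.Helper5.SpinorNorm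
  Cfsg.Agent.Lib.Helper5.Dickson Cfsg.Agent.Lib.Helper5.MaxTS Cfsg.Agent.Lib.Helper5.OrthParity
  Cfsg.Agent.Lib.Helper6.OrthInv2 Cfsg.Agent.Lib.Helper6.OrthFrames
  Cfsg.Agent.Lib.Helper6.OrthCent

variable {ι : Type} [Fintype ι] [DecidableEq ι] {F : Type*} [Field F] [Fintype F] [CharP F 2]
  (Q : QuadraticForm F (ι → F))

open Classical in
/-- **The number of classes of involutions of `Ω` for a form of maximal Witt index.** -/
theorem card_inv_classes_Omega (hQ : (polarBilin Q).Nondegenerate)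
    (hex : Fintype.card ι = 4 → ∃ a : F, a ≠ 0 ∧ a ≠ 1) (m : ℕ) (hm : 1 ≤ m)
    (hV : finrank F (ι → F) = 2 * m) (U₀ : Submodule F (ι → F)) (hU₀ : IsMaxTS Q m U₀)
    (hB_ex : ∃ w : Fin m → (ι → F), LinearIndependent F w ∧
      (∀ i j, polar ⇑Q (w i) (w j) = 0) ∧ (∀ i, Q (w i) = 1))
    (hA_ex : ∃ w : Fin m → (ι → F), LinearIndependent F w ∧
      (∀ i j, polar ⇑Q (w i) (w j) = 0) ∧ (∀ i, Q (w i) = 0)) :
    Nat.card {C : ConjClasses ↥(Omega F ⇑Q) //
      ∃ g : ↥(Omega F ⇑Q), ConjClasses.mk g = C ∧ orderOf g = 2} =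
      2 * (m / 2) + (if Even m then 1 else 0) := by
  have hsq : ∀ g : ↥(Omega F ⇑Q), orderOf g = 2 → g.1 * g.1 = 1 ∧ g.1 ≠ 1 := by
    intro g hg
    refine ⟨?_, ?_⟩
    · have := pow_orderOf_eq_one g
      rw [hg, pow_two] at this
      exact congrArg Subtype.val this
    · intro h1
      have h3 : g = 1 := Subtype.ext h1
      rw [h3, orderOf_one] at hg
      omega
  have hOm : ∀ t : ↥(isometryGroup F ⇑Q), t * t = 1 →
      (t ∈ Omega F ⇑Q ↔ Even (finrank F (R Q t))) :=
    fun t ht => mem_Omega_iff_even Q hQ hex m hV U₀ hU₀ t ht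
  rw [← card_invSetO m hm]
  apply ClassCount.card_classes_eq (fun g : ↥(Omega F ⇑Q) => orderOf g = 2)
    (fun g => (finrank F (R Q g.1), decide (TypeA Q g.1),
      decide (TypeA Q g.1 ∧ finrank F (R Q g.1) = m ∧ Even (m - finrank F ↥(U₀ ⊓ R Q g.1)))))
  · -- the invariant lies in the set
    intro g hg
    obtain ⟨h1, h2⟩ := hsq g hg
    have hpos := rank_pos Q g.1 h2
    have hle := rank_le Q hQ m hV g.1 h1
    have hev := (hOm g.1 h1).mp g.2
    rw [mem_invSetO m hm]
    refine ⟨hev, hpos, ?_⟩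
    by_cases hA : TypeA Q g.1
    · by_cases hrm : finrank F (R Q g.1) = m
      · exact Or.inr (Or.inr ⟨by simp [hA], hrm⟩)
      · refine Or.inr (Or.inl ⟨by simp [hA], by simp [hrm], ?_⟩)
        simp only
        omega
    · exact Or.inl ⟨by simp [hA], by simp [hA], hle⟩
  · -- completeness of the invariant
    intro g h hg hh
    obtain ⟨g1, g2⟩ := hsq g hg
    obtain ⟨h1, h2⟩ := hsq h hh
    rw [isConj_Omega_iff]
    simp only [Prod.mk.injEq, decide_eq_decide]
    constructor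
    · rintro ⟨c, hc, hcg⟩
      have hO : IsConj g.1 h.1 := isConj_iff.mpr ⟨c, hcg⟩
      obtain ⟨hr, htype⟩ := (conj_iff_inv Q hQ g.1 h.1 g1 h1).mp hO
      refine ⟨hr, htype, ?_⟩
      constructor
      · rintro ⟨hA, hrm, hE⟩
        refine ⟨htype.mp hA, by rw [← hrm]; exact hr.symm, ?_⟩
        exact ((split_part2 Q hQ hex m hV U₀ hU₀ g.1 h.1 c hcg hrm hA).mp ⟨c, hc, hcg⟩).mp hE
      · rintro ⟨hA, hrm, hE⟩
        have hA' := htype.mpr hA
        have hrm' : finrank F (R Q g.1) = m := hr.trans hrm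
        refine ⟨hA', hrm', ?_⟩
        exact ((split_part2 Q hQ hex m hV U₀ hU₀ g.1 h.1 c hcg hrm' hA').mp ⟨c, hc, hcg⟩).mpr hE
    · rintro ⟨hr, htype, hthird⟩
      obtain ⟨c₀, hc₀⟩ := isConj_iff.mp ((conj_iff_inv Q hQ g.1 h.1 g1 h1).mpr ⟨hr, htype⟩)
      by_cases hexc : finrank F (R Q g.1) = m ∧ ∀ v, polar ⇑Q v (act Q g.1 v) = 0
      · obtain ⟨hrm, hA⟩ := hexc
        apply (split_part2 Q hQ hex m hV U₀ hU₀ g.1 h.1 c₀ hc₀ hrm hA).mpr
        have hA' : TypeA Q h.1 := htype.mp hA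
        have hrm' : finrank F (R Q h.1) = m := hr.symm.trans hrm
        constructor
        · intro hE
          exact (hthird.mp ⟨hA, hrm, hE⟩).2.2
        · intro hE
          exact (hthird.mpr ⟨hA', hrm', hE⟩).2.2
      · exact split_part1 Q hQ hex m hV g.1 h.1 c₀ g1 hc₀ hexc
  · -- every invariant occurs
    rintro ⟨s, a, b⟩ hp
    rw [mem_invSetO m hm] at hp
    obtain ⟨hev, hs1, hcase⟩ := hp
    simp only at hev hs1 hcase
    rcases hcase with ⟨rfl, rfl, hsm⟩ | ⟨rfl, rfl, hsm⟩ | ⟨rfl, rfl⟩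
    · -- type B
      obtain ⟨wB, hli, h0, hq⟩ := hB_ex
      obtain ⟨A, hA, hr, hnA⟩ := exists_inv_B Q hQ s hs1 (wB ∘ Fin.castLE hsm)
        (hli.comp _ (Fin.castLE_injective hsm)) (fun i j => h0 _ _) (fun i => hq _)
      have hAO : A ∈ Omega F ⇑Q := (hOm A hA).mpr (by rw [hr]; exact hev)
      have hA1 : A ≠ 1 := by
        intro h
        apply hnA
        intro v
        rw [h, act_one']
        exact polar_self_zero Q v
      refine ⟨⟨A, hAO⟩, orderOf_two_of' Q ⟨A, hAO⟩ hA hA1, ?_⟩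
      simp only [Prod.mk.injEq, decide_eq_false_iff_not]
      exact ⟨hr, hnA, fun h => hnA h.1⟩
    · -- type A, rank less than m
      obtain ⟨k, hk⟩ := hev
      obtain ⟨wA, hli, h0, hq⟩ := hA_ex
      have hkm : k + k ≤ m := by omega
      obtain ⟨A, hA, hr, hTA⟩ := exists_inv_A Q hQ k
        (fun i => wA (Fin.castLE hkm (finSumFinEquiv i)))
        (hli.comp (fun i : Fin k ⊕ Fin k => Fin.castLE hkm (finSumFinEquiv i))
          (fun a b h => finSumFinEquiv.injective (Fin.castLE_injective hkm h)))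
        (fun i j => h0 _ _) (fun i => hq _)
      have hAO : A ∈ Omega F ⇑Q := (hOm A hA).mpr (by rw [hr]; exact ⟨k, rfl⟩)
      have hA1 : A ≠ 1 := by
        intro h
        have h3 := rank_pos Q A
        rw [h] at hr
        have h4 : finrank F (R Q (1 : ↥(isometryGroup F ⇑Q))) = 0 := by
          unfold R
          rw [Submodule.finrank_eq_zero, eq_bot_iff]
          rintro _ ⟨x, rfl⟩
          rw [Submodule.mem_bot, InvAbs.Nl_apply, tL_apply, act_one', sub_self]
        omega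
      refine ⟨⟨A, hAO⟩, orderOf_two_of' Q ⟨A, hAO⟩ hA hA1, ?_⟩
      simp only [Prod.mk.injEq, decide_eq_true_eq, decide_eq_false_iff_not]
      refine ⟨by rw [hr, hk], hTA, ?_⟩
      rintro ⟨-, h5, -⟩
      omega
    · -- the exceptional class
      obtain ⟨k, hk⟩ := hev
      obtain ⟨wA, hli, h0, hq⟩ := hA_ex
      have hkm : k + k ≤ s := by omega
      obtain ⟨A, hA, hr, hTA⟩ := exists_inv_A Q hQ k
        (fun i => wA (Fin.castLE hkm (finSumFinEquiv i)))
        (hli.comp (fun i : Fin k ⊕ Fin k => Fin.castLE hkm (finSumFinEquiv i))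
          (fun a b h => finSumFinEquiv.injective (Fin.castLE_injective hkm h)))
        (fun i j => h0 _ _) (fun i => hq _)
      have hrs : finrank F (R Q A) = s := by rw [hr, hk]
      obtain ⟨wB, -, -, hqB⟩ := hB_ex
      have hu : Q (wB ⟨0, by omega⟩) ≠ 0 := by rw [hqB]; exact one_ne_zero
      set r := reflection Q (wB ⟨0, by omega⟩) hu with hr_def
      set A' := r * A * r⁻¹ with hA'_def
      have hA' : A' * A' = 1 := by
        rw [hA'_def]
        calc r * A * r⁻¹ * (r * A * r⁻¹) = r * (A * A) * r⁻¹ := by group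
          _ = 1 := by rw [hA]; group
      have hTA' : TypeA Q A' := typeA_conj Q A A' r rfl hTA
      have hrs' : finrank F (R Q A') = s := by
        unfold R
        rw [range_conj Q A A' r rfl, finrank_img]
        exact hrs
      have hflip := family_flip Q hQ hex s hV U₀ hU₀ A hrs hTA _ hu
      have hne : ∀ X : ↥(isometryGroup F ⇑Q), finrank F (R Q X) = s → X ≠ 1 := by
        intro X hX h
        rw [h] at hX
        have h4 : finrank F (R Q (1 : ↥(isometryGroup F ⇑Q))) = 0 := by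
          unfold R
          rw [Submodule.finrank_eq_zero, eq_bot_iff]
          rintro _ ⟨x, rfl⟩
          rw [Submodule.mem_bot, InvAbs.Nl_apply, tL_apply, act_one', sub_self]
        omega
      have hAO : A ∈ Omega F ⇑Q := (hOm A hA).mpr (by rw [hrs]; exact ⟨k, hk⟩)
      have hAO' : A' ∈ Omega F ⇑Q := (hOm A' hA').mpr (by rw [hrs']; exact ⟨k, hk⟩)
      by_cases hE : Even (s - finrank F ↥(U₀ ⊓ R Q A))
      · cases b with
        | true =>
          refine ⟨⟨A, hAO⟩, orderOf_two_of' Q ⟨A, hAO⟩ hA (hne A hrs), ?_⟩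
          simp only [Prod.mk.injEq, decide_eq_true_eq]
          exact ⟨hrs, hTA, hTA, hrs, hE⟩
        | false =>
          refine ⟨⟨A', hAO'⟩, orderOf_two_of' Q ⟨A', hAO'⟩ hA' (hne A' hrs'), ?_⟩
          simp only [Prod.mk.injEq, decide_eq_true_eq, decide_eq_false_iff_not]
          refine ⟨hrs', hTA', ?_⟩
          rintro ⟨-, -, h5⟩
          exact (hflip.mp h5) hE
      · cases b with
        | true =>
          refine ⟨⟨A', hAO'⟩, orderOf_two_of' Q ⟨A', hAO'⟩ hA' (hne A' hrs'), ?_⟩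
          simp only [Prod.mk.injEq, decide_eq_true_eq]
          exact ⟨hrs', hTA', hTA', hrs', hflip.mpr hE⟩
        | false =>
          refine ⟨⟨A, hAO⟩, orderOf_two_of' Q ⟨A, hAO⟩ hA (hne A hrs), ?_⟩
          simp only [Prod.mk.injEq, decide_eq_true_eq, decide_eq_false_iff_not]
          refine ⟨hrs, hTA, ?_⟩
          rintro ⟨-, -, h5⟩
          exact hE h5

end Cfsg.Agent.Lib.Helper6.OrthOmegaCls
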