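import Mathlib
import Cfsg.Prelude
import Cfsg.Agent.Lib.Helper6.OrthOmegaCls5
import Cfsg.Agent.Lib.Helper6.OrthCentStmt

set_option autoImplicit false
set_option linter.unusedSectionVars false
set_option linter.unusedVariables false
set_option linter.unusedSimpArgs false
open Cfsg

/-! The number of classes of involutions of `Ω⁺_{2m}(F)`, characteristic two: statement form. -/

namespace Cfsg.Agent.Lib.Helper6.OrthOmegaCls

open Matrix QuadraticMap Module Cfsg.Agent.Lib.Helper5 Cfsg.Agent.Lib.Helper5.CartanDieudonne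
  Cfsg.Agent.Lib.Helper5.Refl Cfsg.Agent.Lib.Helper5.OrthCard Cfsg.Agent.Lib.Helper5.SpinorNorm
  Cfsg.Agent.Lib.Helper5.Dickson Cfsg.Agent.Lib.Helper5.MaxTS Cfsg.Agent.Lib.Helper5.OrthParity
  Cfsg.Agent.Lib.Helper6.OrthInv2 Cfsg.Agent.Lib.Helper6.OrthFrames
  Cfsg.Agent.Lib.Helper6.OrthCent

variable {F : Type*} [Field F] [Fintype F] [CharP F 2]

theorem card_inv_classes_Omega' {ι : Type} [Fintype ι] [DecidableEq ι]
    (Q : QuadraticForm F (ι → F)) (Q₀ : (ι → F) → F) (hQQ : ⇑Q = Q₀)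
    (hQ : (polarBilin Q).Nondegenerate)
    (hex : Fintype.card ι = 4 → ∃ a : F, a ≠ 0 ∧ a ≠ 1) (m : ℕ) (hm : 1 ≤ m)
    (hV : finrank F (ι → F) = 2 * m) (U₀ : Submodule F (ι → F)) (hU₀ : IsMaxTS Q m U₀)
    (hB_ex : ∃ w : Fin m → (ι → F), LinearIndependent F w ∧
      (∀ i j, polar ⇑Q (w i) (w j) = 0) ∧ (∀ i, Q (w i) = 1))
    (hA_ex : ∃ w : Fin m → (ι → F), LinearIndependent F w ∧
      (∀ i j, polar ⇑Q (w i) (w j) = 0) ∧ (∀ i, Q (w i) = 0)) :
    Nat.card {C : ConjClasses ↥(Omega F Q₀) //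
      ∃ g : ↥(Omega F Q₀), ConjClasses.mk g = C ∧ orderOf g = 2} =
      2 * (m / 2) + (if Even m then 1 else 0) := by
  subst hQQ
  exact card_inv_classes_Omega Q hQ hex m hm hV U₀ hU₀ hB_ex hA_ex

theorem card_inv_classes_Omega_plus (m : ℕ) (hm : 1 ≤ m) (h : Fintype.card F ≠ 2 ∨ m ≠ 2) :
    Nat.card {C : ConjClasses ↥(Omega F (Cfsg.quadFormPlus m F)) //
      ∃ g : ↥(Omega F (Cfsg.quadFormPlus m F)), ConjClasses.mk g = C ∧ orderOf g = 2} =
      2 * (m / 2) + (if Even m then 1 else 0) := by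
  have hQ := PlusGeom.plus_nondegenerate (F := F) m
  have hV : finrank F (Fin m ⊕ Fin m → F) = 2 * m := MaxTS.finrank_plus m
  set e : Fin m → (Fin m ⊕ Fin m → F) := fun i => Pi.single (Sum.inl i) 1 with he_def
  set f : Fin m → (Fin m ⊕ Fin m → F) := fun i => Pi.single (Sum.inr i) 1 with hf_def
  have he : ∀ i, plusForm m F (e i) = 0 := fun i => PlusGeom.plus_single_inl m i 1
  have hf : ∀ i, plusForm m F (f i) = 0 := fun i => PlusGeom.plus_single_inr m i 1
  have hef : ∀ i j, polar ⇑(plusForm m F) (e i) (f j) = if i = j then 1 else 0 := by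
    intro i j
    rw [PlusGeom.polar_single_inr]
    simp only [he_def, Pi.single_apply, Sum.inl.injEq, eq_comm]
  have hee : ∀ i j, polar ⇑(plusForm m F) (e i) (e j) = 0 := by
    intro i j
    rw [PlusGeom.polar_single_inl]
    simp [he_def]
  have hff : ∀ i j, polar ⇑(plusForm m F) (f i) (f j) = 0 := by
    intro i j
    rw [PlusGeom.polar_single_inr]
    simp [hf_def]
  obtain ⟨b1, b2, b3⟩ := famB_of_hyp (plusForm m F) e f he hf hef hee hff
  exact card_inv_classes_Omega' (plusForm m F) (Cfsg.quadFormPlus m F) (coe_plusForm m) hQ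
    (hex_of m h) m hm hV (stdL m) (stdL_max m) ⟨_, b1, b2, b3⟩
    ⟨e, famA_of_hyp (plusForm m F) e f hef hee, hee, he⟩

end Cfsg.Agent.Lib.Helper6.OrthOmegaCls
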