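import Mathlib
import Cfsg.Prelude
import Cfsg.Agent.Lib.Helper5.OmegaCrit

set_option autoImplicit false
set_option linter.unusedSectionVars false
set_option linter.unusedVariables false
set_option linter.unusedSimpArgs false
open Cfsg

/-! The Dickson invariant, assuming only that the isometry group is generated by reflections. -/

namespace Cfsg.Agent.Lib.Helper6.OrthPar

open Matrix QuadraticMap Cfsg.Agent.Lib.Helper5 Cfsg.Agent.Lib.Helper5.CartanDieudonne
  Cfsg.Agent.Lib.Helper5.Refl Cfsg.Agent.Lib.Helper5.SpinorNorm Cfsg.Agent.Lib.Helper5.Dickson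
  Cfsg.Agent.Lib.Helper5.OrthIndexTwo

variable {ι : Type} [Fintype ι] [DecidableEq ι] {F : Type*} [Field F]
  (Q : QuadraticForm F (ι → F))

/-- every isometry is a product of reflections -/
theorem exists_rep (hgen : reflSubgroup Q = ⊤) (g : ↥(isometryGroup F ⇑Q)) :
    ∃ vs, IsRep Q g vs := by
  have hg : g ∈ reflSubgroup Q := by rw [hgen]; trivial
  unfold reflSubgroup at hg
  induction hg using Subgroup.closure_induction with
  | mem x hx =>
    obtain ⟨v, hv, hx⟩ := hx
    refine ⟨[v], ?_, ?_⟩
    · intro u hu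
      rw [List.mem_singleton] at hu
      rw [hu]; exact hv
    · rw [rprod_cons, rprod_nil, mul_one]
      exact hx
  | one => exact ⟨[], isRep_one Q⟩
  | mul x y _ _ hx hy =>
    obtain ⟨vs, hvs⟩ := hx
    obtain ⟨ws, hws⟩ := hy
    exact ⟨vs ++ ws, isRep_mul Q hvs hws⟩
  | inv x _ hx =>
    obtain ⟨vs, hvs⟩ := hx
    exact ⟨vs.reverse, isRep_inv Q hvs⟩

/-- the parity homomorphism -/
noncomputable def par (hQ : (polarBilin Q).Nondegenerate) (hgen : reflSubgroup Q = ⊤) :
    ↥(isometryGroup F ⇑Q) →* ℤˣ :=
  MonoidHom.mk' (fun g => (-1) ^ (Classical.choose (exists_rep Q hgen g)).length) (by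
    intro g h
    have hg := Classical.choose_spec (exists_rep Q hgen g)
    have hh := Classical.choose_spec (exists_rep Q hgen h)
    have hgh := Classical.choose_spec (exists_rep Q hgen (g * h))
    have h1 := isRep_mul Q hg hh
    rw [← pow_add, ← List.length_append]
    exact neg_one_pow_eq_of_even_iff
      (parity_welldefined Q hQ _ _ hgh.1 h1.1 (hgh.2.symm.trans h1.2)))

theorem par_eq (hQ : (polarBilin Q).Nondegenerate) (hgen : reflSubgroup Q = ⊤)
    (g : ↥(isometryGroup F ⇑Q)) (vs : List (ι → F)) (hvs : IsRep Q g vs) :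
    par Q hQ hgen g = (-1) ^ vs.length := by
  have hg := Classical.choose_spec (exists_rep Q hgen g)
  exact neg_one_pow_eq_of_even_iff
    (parity_welldefined Q hQ _ _ hg.1 hvs.1 (hg.2.symm.trans hvs.2))

theorem par_reflection (hQ : (polarBilin Q).Nondegenerate) (hgen : reflSubgroup Q = ⊤)
    (v : ι → F) (hv : Q v ≠ 0) : par Q hQ hgen (reflection Q v hv) = -1 := by
  rw [par_eq Q hQ hgen _ [v] (isRep_reflection Q v hv)]
  simp

/-- in characteristic two over a finite field `Ω` is the kernel of the Dickson invariant -/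
theorem mem_Omega_iff_par [Fintype F] (h2 : (2 : F) = 0) (hQ : (polarBilin Q).Nondegenerate)
    (hgen : reflSubgroup Q = ⊤) (g : ↥(isometryGroup F ⇑Q)) :
    g ∈ Omega F ⇑Q ↔ par Q hQ hgen g = 1 := by
  constructor
  · intro hg
    exact Abelianization.commutator_subset_ker (par Q hQ hgen) hg
  · intro hg
    by_cases hw : ∃ w : ι → F, Q w ≠ 0
    · obtain ⟨w, hw⟩ := hw
      have hconj : ∀ (v : ι → F) (hv : Q v ≠ 0), ∃ h : ↥(isometryGroup F ⇑Q),
          h * reflection Q v hv * h⁻¹ = reflection Q w hw := fun v hv =>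
        exists_conj_reflection Q hQ v w hv hw (OmegaCrit.isSquare_of_two_eq_zero h2 _)
      rcases mem_or_mul_mem Q hgen w hw hconj g with h1 | h1
      · exact h1
      · exfalso
        have h3 : par Q hQ hgen (g * reflection Q w hw) = 1 :=
          Abelianization.commutator_subset_ker (par Q hQ hgen) h1
        rw [map_mul, hg, par_reflection, one_mul] at h3
        exact absurd h3 (by decide)
    · push Not at hw
      obtain ⟨vs, hvs⟩ := exists_rep Q hgen g
      have hnil : vs = [] := by
        cases vs with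
        | nil => rfl
        | cons v t => exact absurd (hw v) (hvs.1 v (List.mem_cons_self ..))
      have hg1 : g = 1 := by
        rw [rep_eq_prod Q hvs, hnil]
        rfl
      rw [hg1]
      exact one_mem _

end Cfsg.Agent.Lib.Helper6.OrthPar
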