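import Mathlib
import Cfsg.Prelude
import Cfsg.Agent.Lib.Helper6.OrthPar
import Cfsg.Agent.Lib.Helper6.OrthOmegaCls4
import Cfsg.Agent.Lib.Helper5.Eichler

set_option autoImplicit false
set_option linter.unusedSectionVars false
set_option linter.unusedVariables false
set_option linter.unusedSimpArgs false
open Cfsg

/-! Involutions of `Ω` in characteristic two, assuming only generation by reflections: membership
and non-splitting of classes for forms of non-maximal Witt index. -/

namespace Cfsg.Agent.Lib.Helper6.OrthOmegaGen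

open Matrix QuadraticMap Module Cfsg.Agent.Lib.Helper5 Cfsg.Agent.Lib.Helper5.CartanDieudonne
  Cfsg.Agent.Lib.Helper5.Refl Cfsg.Agent.Lib.Helper5.OrthCard Cfsg.Agent.Lib.Helper5.SpinorNorm
  Cfsg.Agent.Lib.Helper5.Eichler
  Cfsg.Agent.Lib.Helper6.OrthInv2 Cfsg.Agent.Lib.Helper6.OrthPar

variable {ι : Type} [Fintype ι] [DecidableEq ι] {F : Type*} [Field F] [Fintype F] [CharP F 2]
  (Q : QuadraticForm F (ι → F))

section
variable (hQ : (polarBilin Q).Nondegenerate) (hgen : reflSubgroup Q = ⊤)

include hQ hgen in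
/-- Eichler transformations in a nonsingular direction have trivial Dickson invariant -/
theorem par_eich_of_aniso (u z : ι → F) (hu : Q u = 0) (huz : polar ⇑Q u z = 0) (hz : Q z ≠ 0) :
    par Q hQ hgen (eich Q u z hu huz) = 1 := by
  have hz' : Q (z + Q z • u) ≠ 0 := by rw [quad_add_smul_sing Q u z hu huz]; exact hz
  rw [eich_eq_refl_mul Q u z hu huz hz hz', map_mul, par_reflection, par_reflection]
  decide

include hQ hgen in
/-- Siegel transformations have trivial Dickson invariant in dimension at least five -/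
theorem par_siegel (h5 : 5 ≤ Fintype.card ι) (u v : ι → F) (hu : Q u = 0) (hv : Q v = 0)
    (huv : polar ⇑Q u v = 0) : par Q hQ hgen (Siegel.siegel Q u v hu hv huv 1) = 1 := by
  have hND : ReflGen.ND Q := fun z hz => hQ.1 z hz
  obtain ⟨z, hz, hzu, hzv⟩ := ReflGen.exists_aniso_perp Q hND
    (by rw [Module.finrank_fintype_fun_eq_card]; exact h5) u v
  have huz : polar ⇑Q u z = 0 := by rw [polar_comm]; exact hzu
  have hvz : Q (v + z) ≠ 0 := by
    have : Q (v + z) = Q v + Q z + polar ⇑Q v z := by unfold polar; ring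
    rw [this, hv, zero_add, polar_comm, hzv, add_zero]
    exact hz
  have huvz : polar ⇑Q u (v + z) = 0 := by rw [polar_add_right, huv, huz, add_zero]
  have h1 : eich Q u z hu huz * eich Q u (v + z) hu huvz = eich Q u v hu huv := by
    rw [eich_mul]
    have : z + (v + z) = v := by
      rw [add_comm v z, ← add_assoc, InvAbs.vec_add_self F, zero_add]
    simp only [this]
  rw [← eich_eq_siegel Q u v hu huv hv, ← h1, map_mul, par_eich_of_aniso Q hQ hgen u z hu huz hz,
    par_eich_of_aniso Q hQ hgen u (v + z) hu huvz hvz, one_mul]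

include hQ hgen in
/-- type A involutions lie in `Ω` (dimension at least five) -/
theorem mem_Omega_of_normalA (h5 : 5 ≤ Fintype.card ι) (t : ↥(isometryGroup F ⇑Q)) {k : ℕ}
    (w : Fin k ⊕ Fin k → (ι → F)) (h0 : ∀ i j, polar ⇑Q (w i) (w j) = 0)
    (hN : ∀ x, act Q t x - x = ∑ i, polar ⇑Q x (w (Sum.swap i)) • w i)
    (hq : ∀ i, Q (w i) = 0) : t ∈ Omega F ⇑Q := by
  have h2 : (2 : F) = 0 := CharTwo.two_eq_zero
  set p : Fin k → ↥(isometryGroup F ⇑Q) := fun j =>
    Siegel.siegel Q (w (Sum.inl j)) (w (Sum.inr j)) (hq _) (hq _) (h0 _ _) 1 with hp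
  have hprod : t = (List.ofFn p).prod := by
    apply ext_act'
    intro x
    rw [act_prod_ofFn Q k p
      (fun j => (polarBilin Q (w (Sum.inl j))).smulRight (w (Sum.inr j)) -
        (polarBilin Q (w (Sum.inr j))).smulRight (w (Sum.inl j)))
      (fun j x => by
        rw [hp]
        simp only []
        rw [Siegel.act_siegel, one_mul, one_mul, LinearMap.sub_apply, LinearMap.smulRight_apply,
          LinearMap.smulRight_apply, polarBilin_apply_apply, polarBilin_apply_apply,
          add_sub_assoc])
      (fun i j x => by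
        simp only [LinearMap.sub_apply, LinearMap.smulRight_apply, polarBilin_apply_apply,
          polar_sub_right, polar_smul_right, h0, smul_zero, zero_smul, sub_zero])]
    have h1 : act Q t x = x + ∑ i, polar ⇑Q x (w (Sum.swap i)) • w i := by
      rw [← hN]; abel
    rw [h1, Fintype.sum_sum_type]
    congr 1
    simp only [Sum.swap_inl, Sum.swap_inr, LinearMap.sub_apply, LinearMap.smulRight_apply,
      polarBilin_apply_apply]
    rw [Finset.sum_sub_distrib, sub_eq_add_char2, add_comm]
    congr 1
    · apply Finset.sum_congr rfl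
      intro i _
      rw [polar_comm]
    · apply Finset.sum_congr rfl
      intro i _
      rw [polar_comm]
  rw [mem_Omega_iff_par Q h2 hQ hgen, hprod, map_list_prod]
  apply List.prod_eq_one
  intro x hx
  rw [List.mem_map] at hx
  obtain ⟨g, hg, rfl⟩ := hx
  rw [List.mem_ofFn] at hg
  obtain ⟨j, rfl⟩ := hg
  exact par_siegel Q hQ hgen h5 _ _ _ _ _

include hQ hgen in
/-- an involution lies in `Ω` iff `t - 1` has even rank -/
theorem mem_Omega_iff_even (h5 : 5 ≤ Fintype.card ι ∨ ∀ x y : ι → F, Q x = 0 → Q y = 0 →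
      polar ⇑Q x y = 0 → ¬ LinearIndependent F ![x, y])
    (t : ↥(isometryGroup F ⇑Q)) (ht : t * t = 1) :
    t ∈ Omega F ⇑Q ↔ Even (finrank F (LinearMap.range (InvAbs.Nl (tL Q t)))) := by
  have h2 : (2 : F) = 0 := CharTwo.two_eq_zero
  by_cases hA : ∀ v, polar ⇑Q v (act Q t v) = 0
  · obtain ⟨k, w, hk, hli, h0, hN, hq⟩ := normalA Q hQ t ht hA
    constructor
    · intro _
      exact ⟨k, hk.symm⟩
    · intro _
      rcases h5 with h5 | h5
      · exact mem_Omega_of_normalA Q hQ hgen h5 t w h0 hN hq
      · -- no singular pairs: `k = 0` and `t = 1`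
        rcases Nat.eq_zero_or_pos k with hk0 | hk0
        · subst hk0
          have ht1 : t = 1 := by
            apply ext_act'
            intro x
            have h1 := hN x
            rw [Fintype.sum_sum_type] at h1
            simp only [Finset.univ_eq_empty, Finset.sum_empty, add_zero, sub_eq_zero] at h1
            rw [h1, act_one']
          rw [ht1]
          exact one_mem _
        · exfalso
          apply h5 (w (Sum.inl ⟨0, hk0⟩)) (w (Sum.inr ⟨0, hk0⟩)) (hq _) (hq _) (h0 _ _)
          have h3 := hli.comp ![Sum.inl ⟨0, hk0⟩, Sum.inr ⟨0, hk0⟩] (by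
            intro a b hab
            fin_cases a <;> fin_cases b <;> simp_all)
          convert h3 using 1
          funext i
          fin_cases i <;> rfl
  · push Not at hA
    obtain ⟨w, hli, h0, hN, hq⟩ := normalB Q hQ t ht hA
    have hrep := isRep_of_normalB Q t w h0 hN hq
    rw [mem_Omega_iff_par Q h2 hQ hgen, par_eq Q hQ hgen t _ hrep, List.length_ofFn,
      neg_one_pow_eq_one_iff]

include hQ hgen in
/-- if a reflection centralises `t`, then conjugacy in `O` implies conjugacy under `Ω` -/
theorem conj_Omega_of_fixed (t s h : ↥(isometryGroup F ⇑Q)) (hts : h * t * h⁻¹ = s)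
    (u : ι → F) (hu : Q u ≠ 0) (htu : act Q t u = u) :
    ∃ g ∈ Omega F ⇑Q, g * t * g⁻¹ = s := by
  have h2 : (2 : F) = 0 := CharTwo.two_eq_zero
  have hmem : ∀ g : ↥(isometryGroup F ⇑Q), g ∈ Omega F ⇑Q ↔ par Q hQ hgen g = 1 :=
    fun g => mem_Omega_iff_par Q h2 hQ hgen g
  have hr2 : reflection Q u hu * reflection Q u hu = 1 := OmegaGen.reflection_mul_self' Q u hu
  have h3 : t * reflection Q u hu * t⁻¹ = reflection Q u hu := by
    rw [conj_reflection]
    exact OmegaGen.reflection_congr Q htu _ _
  rcases Int.units_eq_one_or (par Q hQ hgen h) with h1 | h1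
  · exact ⟨h, (hmem h).mpr h1, hts⟩
  · refine ⟨h * reflection Q u hu, ?_, ?_⟩
    · rw [hmem, map_mul, h1, par_reflection]
      decide
    · have h5 : t * reflection Q u hu = reflection Q u hu * t := by
        calc t * reflection Q u hu = (t * reflection Q u hu * t⁻¹) * t := by group
          _ = reflection Q u hu * t := by rw [h3]
      have h4 : reflection Q u hu * t * (reflection Q u hu)⁻¹ = t := by
        rw [← h5]
        group
      calc h * reflection Q u hu * t * (h * reflection Q u hu)⁻¹
          = h * (reflection Q u hu * t * (reflection Q u hu)⁻¹) * h⁻¹ := by group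
        _ = s := by rw [h4, hts]

include hQ hgen in
/-- no splitting when the Witt index is not maximal -/
theorem no_split (m : ℕ) (hV : finrank F (ι → F) = 2 * m)
    (hwitt : ∀ U : Submodule F (ι → F), (∀ u ∈ U, Q u = 0) → finrank F U < m)
    (t s h : ↥(isometryGroup F ⇑Q)) (ht : t * t = 1) (hts : h * t * h⁻¹ = s) :
    ∃ g ∈ Omega F ⇑Q, g * t * g⁻¹ = s := by
  by_cases hA : ∀ v, polar ⇑Q v (act Q t v) = 0
  · rcases typeA_dichotomy Q hQ m hV t ht with ⟨u, hu, htu⟩ | hr
    · exact conj_Omega_of_fixed Q hQ hgen t s h hts u hu htu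
    · exfalso
      have h1 := hwitt (LinearMap.range (InvAbs.Nl (tL Q t))) (by
        rintro _ ⟨v, rfl⟩
        rw [InvAbs.Nl_apply, tL_apply, quad_N]
        exact hA v)
      omega
  · push Not at hA
    obtain ⟨u, hu, htu⟩ := exists_fixed_of_typeB Q t ht hA
    exact conj_Omega_of_fixed Q hQ hgen t s h hts u hu htu

end

end Cfsg.Agent.Lib.Helper6.OrthOmegaGen
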