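import Mathlib
import Cfsg.Prelude
import Cfsg.Agent.Lib.Helper6.OrthOmegaGen

set_option autoImplicit false
set_option linter.unusedSectionVars false
set_option linter.unusedVariables false
set_option linter.unusedSimpArgs false
open Cfsg

/-! The number of classes of involutions of `Ω` for forms of non-maximal Witt index,
characteristic two. -/

namespace Cfsg.Agent.Lib.Helper6.OrthOmegaGen

open Matrix QuadraticMap Module Cfsg.Agent.Lib.Helper5 Cfsg.Agent.Lib.Helper5.CartanDieudonne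
  Cfsg.Agent.Lib.Helper5.Refl Cfsg.Agent.Lib.Helper5.OrthCard Cfsg.Agent.Lib.Helper5.SpinorNorm
  Cfsg.Agent.Lib.Helper6.OrthInv2 Cfsg.Agent.Lib.Helper6.OrthPar
  Cfsg.Agent.Lib.Helper6.OrthOmegaCls

/-- the finset of invariants -/
def invSetE (mB ν : ℕ) : Finset (ℕ × Bool) :=
  ((Finset.Icc 1 mB).filter Even).image (fun s => (s, false)) ∪
    ((Finset.Icc 1 ν).filter Even).image (fun s => (s, true))

theorem card_invSetE (mB ν : ℕ) : (invSetE mB ν).card = mB / 2 + ν / 2 := by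
  unfold invSetE
  rw [Finset.card_union_of_disjoint, Finset.card_image_of_injective, Finset.card_image_of_injective,
    ClassCount.card_even_Icc, ClassCount.card_even_Icc]
  · intro a b h; exact (Prod.mk.inj h).1
  · intro a b h; exact (Prod.mk.inj h).1
  · rw [Finset.disjoint_left]
    intro p h1 h2
    rw [Finset.mem_image] at h1 h2
    obtain ⟨a, -, rfl⟩ := h1
    obtain ⟨b, -, hb⟩ := h2
    have := (Prod.mk.inj hb).2
    exact absurd this (by decide)

theorem mem_invSetE (mB ν : ℕ) (p : ℕ × Bool) :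
    p ∈ invSetE mB ν ↔ 1 ≤ p.1 ∧ Even p.1 ∧
      ((p.2 = false ∧ p.1 ≤ mB) ∨ (p.2 = true ∧ p.1 ≤ ν)) := by
  unfold invSetE
  rw [Finset.mem_union, Finset.mem_image, Finset.mem_image]
  constructor
  · rintro (⟨s, hs, rfl⟩ | ⟨s, hs, rfl⟩)
    · rw [Finset.mem_filter, Finset.mem_Icc] at hs
      exact ⟨hs.1.1, hs.2, Or.inl ⟨rfl, hs.1.2⟩⟩
    · rw [Finset.mem_filter, Finset.mem_Icc] at hs
      exact ⟨hs.1.1, hs.2, Or.inr ⟨rfl, hs.1.2⟩⟩
  · rintro ⟨h1, hev, h2⟩
    obtain ⟨s, b⟩ := p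
    rcases h2 with ⟨hb, h3⟩ | ⟨hb, h3⟩
    · simp only at hb h3 h1 hev
      subst hb
      exact Or.inl ⟨s, Finset.mem_filter.mpr ⟨Finset.mem_Icc.mpr ⟨h1, h3⟩, hev⟩, rfl⟩
    · simp only at hb h3 h1 hev
      subst hb
      exact Or.inr ⟨s, Finset.mem_filter.mpr ⟨Finset.mem_Icc.mpr ⟨h1, h3⟩, hev⟩, rfl⟩

variable {ι : Type} [Fintype ι] [DecidableEq ι] {F : Type*} [Field F] [Fintype F] [CharP F 2]
  (Q : QuadraticForm F (ι → F))

open Classical in
/-- **The number of classes of involutions of `Ω` when the Witt index is not maximal.** -/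
theorem card_inv_classes_Omega_gen (hQ : (polarBilin Q).Nondegenerate)
    (hgen : reflSubgroup Q = ⊤) (m : ℕ) (hV : finrank F (ι → F) = 2 * m)
    (hwitt : ∀ U : Submodule F (ι → F), (∀ u ∈ U, Q u = 0) → finrank F U < m)
    (h5 : 5 ≤ Fintype.card ι ∨ ∀ x y : ι → F, Q x = 0 → Q y = 0 →
      polar ⇑Q x y = 0 → ¬ LinearIndependent F ![x, y])
    (mB ν : ℕ)
    (hB_le : ∀ (n : ℕ) (w : Fin n → (ι → F)), LinearIndependent F w →
      (∀ i j, polar ⇑Q (w i) (w j) = 0) → (∀ i, Q (w i) = 1) → n ≤ mB)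
    (hB_ex : ∃ w : Fin mB → (ι → F), LinearIndependent F w ∧
      (∀ i j, polar ⇑Q (w i) (w j) = 0) ∧ (∀ i, Q (w i) = 1))
    (hA_le : ∀ (n : ℕ) (w : Fin n → (ι → F)), LinearIndependent F w →
      (∀ i j, polar ⇑Q (w i) (w j) = 0) → (∀ i, Q (w i) = 0) → n ≤ ν)
    (hA_ex : ∃ w : Fin ν → (ι → F), LinearIndependent F w ∧
      (∀ i j, polar ⇑Q (w i) (w j) = 0) ∧ (∀ i, Q (w i) = 0)) :
    Nat.card {C : ConjClasses ↥(Omega F ⇑Q) //
      ∃ g : ↥(Omega F ⇑Q), ConjClasses.mk g = C ∧ orderOf g = 2} = mB / 2 + ν / 2 := by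
  have hsq : ∀ g : ↥(Omega F ⇑Q), orderOf g = 2 → g.1 * g.1 = 1 ∧ g.1 ≠ 1 := by
    intro g hg
    refine ⟨?_, ?_⟩
    · have := pow_orderOf_eq_one g
      rw [hg, pow_two] at this
      exact congrArg Subtype.val this
    · intro h1
      have h3 : g = 1 := Subtype.ext h1
      rw [h3, orderOf_one] at hg
      omega
  have hOm : ∀ t : ↥(isometryGroup F ⇑Q), t * t = 1 →
      (t ∈ Omega F ⇑Q ↔ Even (finrank F (R Q t))) :=
    fun t ht => mem_Omega_iff_even Q hQ hgen h5 t ht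
  rw [← card_invSetE mB ν]
  apply ClassCount.card_classes_eq (fun g : ↥(Omega F ⇑Q) => orderOf g = 2)
    (fun g => (finrank F (R Q g.1), decide (TypeA Q g.1)))
  · intro g hg
    obtain ⟨h1, h2⟩ := hsq g hg
    have hpos := rank_pos Q g.1 h2
    have hev := (hOm g.1 h1).mp g.2
    rw [mem_invSetE]
    refine ⟨hpos, hev, ?_⟩
    by_cases hA : TypeA Q g.1
    · right
      obtain ⟨k, w, hk, hli, h0, hN, hq⟩ := normalA Q hQ g.1 h1 hA
      refine ⟨by simp [hA], ?_⟩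
      have := hA_le (k + k) (w ∘ finSumFinEquiv.symm)
        (hli.comp _ finSumFinEquiv.symm.injective) (fun i j => h0 _ _) (fun i => hq _)
      simp only
      unfold R
      omega
    · left
      refine ⟨by simp [hA], ?_⟩
      unfold TypeA at hA
      push Not at hA
      obtain ⟨w, hli, h0, hN, hq⟩ := normalB Q hQ g.1 h1 hA
      exact hB_le _ w hli h0 hq
  · intro g h hg hh
    obtain ⟨g1, g2⟩ := hsq g hg
    obtain ⟨h1, h2⟩ := hsq h hh
    rw [isConj_Omega_iff]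
    simp only [Prod.mk.injEq, decide_eq_decide]
    constructor
    · rintro ⟨c, hc, hcg⟩
      exact (conj_iff_inv Q hQ g.1 h.1 g1 h1).mp (isConj_iff.mpr ⟨c, hcg⟩)
    · intro hinv
      obtain ⟨c₀, hc₀⟩ := isConj_iff.mp ((conj_iff_inv Q hQ g.1 h.1 g1 h1).mpr hinv)
      exact no_split Q hQ hgen m hV hwitt g.1 h.1 c₀ g1 hc₀
  · rintro ⟨s, b⟩ hp
    rw [mem_invSetE] at hp
    obtain ⟨hs1, hev, hcase⟩ := hp
    simp only at hs1 hev hcase
    have hne : ∀ X : ↥(isometryGroup F ⇑Q), finrank F (R Q X) = s → X ≠ 1 := by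
      intro X hX h
      rw [h] at hX
      have h4 : finrank F (R Q (1 : ↥(isometryGroup F ⇑Q))) = 0 := by
        unfold R
        rw [Submodule.finrank_eq_zero, eq_bot_iff]
        rintro _ ⟨x, rfl⟩
        rw [Submodule.mem_bot, InvAbs.Nl_apply, tL_apply, act_one', sub_self]
      omega
    rcases hcase with ⟨rfl, hsm⟩ | ⟨rfl, hsm⟩
    · obtain ⟨wB, hli, h0, hq⟩ := hB_ex
      obtain ⟨A, hA, hr, hnA⟩ := exists_inv_B Q hQ s hs1 (wB ∘ Fin.castLE hsm)
        (hli.comp _ (Fin.castLE_injective hsm)) (fun i j => h0 _ _) (fun i => hq _)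
      have hAO : A ∈ Omega F ⇑Q := (hOm A hA).mpr (by rw [hr]; exact hev)
      refine ⟨⟨A, hAO⟩, orderOf_two_of' Q ⟨A, hAO⟩ hA (hne A hr), ?_⟩
      simp only [Prod.mk.injEq, decide_eq_false_iff_not]
      exact ⟨hr, hnA⟩
    · obtain ⟨k, hk⟩ := hev
      obtain ⟨wA, hli, h0, hq⟩ := hA_ex
      have hkm : k + k ≤ ν := by omega
      obtain ⟨A, hA, hr, hTA⟩ := exists_inv_A Q hQ k
        (fun i => wA (Fin.castLE hkm (finSumFinEquiv i)))
        (hli.comp (fun i : Fin k ⊕ Fin k => Fin.castLE hkm (finSumFinEquiv i))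
          (fun a b h => finSumFinEquiv.injective (Fin.castLE_injective hkm h)))
        (fun i j => h0 _ _) (fun i => hq _)
      have hrs : finrank F (R Q A) = s := by rw [hr, hk]
      have hAO : A ∈ Omega F ⇑Q := (hOm A hA).mpr (by rw [hrs]; exact ⟨k, hk⟩)
      refine ⟨⟨A, hAO⟩, orderOf_two_of' Q ⟨A, hAO⟩ hA (hne A hrs), ?_⟩
      simp only [Prod.mk.injEq, decide_eq_true_eq]
      exact ⟨hrs, hTA⟩

end Cfsg.Agent.Lib.Helper6.OrthOmegaGen
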