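import Mathlib
import Cfsg.Prelude
import Cfsg.Agent.Lib.Helper5.ReflGenMat

set_option autoImplicit false
set_option linter.unusedSectionVars false
set_option linter.unusedVariables false
set_option linter.unusedSimpArgs false
open Cfsg

/-! Generation by reflections in dimension four when the Witt index is one (this covers
`O⁻_4(2)`, excluded from the general theorem). -/

namespace Cfsg.Agent.Lib.Helper6.OrthRefl4

open Module QuadraticMap Cfsg.Agent.Lib.Helper5.QuadIsom Cfsg.Agent.Lib.Helper5
  Cfsg.Agent.Lib.Helper5.ReflGen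

universe v

variable {F : Type*} [Field F]

/-- dimension four, Witt index at most one: every isometry is a product of reflections -/
theorem mem_R_four (V : Type v) [AddCommGroup V] [Module F V] [FiniteDimensional F V]
    (Q : QuadraticForm F V) (hQ : ND Q) (hn : finrank F V = 4)
    (hW : ∀ x y : V, Q x = 0 → Q y = 0 → polar Q x y = 0 → x ≠ 0 → ∃ c : F, y = c • x)
    (g : Module.End F V) (hg : IsIsom Q g) : g ∈ R Q := by
  by_cases hs : ∃ e : V, e ≠ 0 ∧ Q e = 0
  · obtain ⟨e, he0, he⟩ := hs
    obtain ⟨f, hf, hef⟩ := exists_partner Q hQ e he0 he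
    have hdim := finrank_pairPerp Q e f he hf hef
    have hndW := nd_QW Q hQ e f he hf hef
    have hspan : ∀ w ∈ pairPerp Q e f,
        w ∈ AddSubmonoid.closure {a : V | a ∈ pairPerp Q e f ∧ Q a ≠ 0} := by
      intro w hw
      by_cases hw0 : w = 0
      · rw [hw0]; exact zero_mem _
      · apply AddSubmonoid.subset_closure
        refine ⟨hw, ?_⟩
        intro hQw
        obtain ⟨c, hc⟩ := hW e w he hQw ((mem_pairPerp Q e f w).mp hw).1 he0
        have h1 := ((mem_pairPerp Q e f w).mp hw).2
        rw [hc, polar_smul_right, polar_comm, hef, smul_eq_mul, mul_one] at h1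
        rw [h1, zero_smul] at hc
        exact hw0 hc
    refine hyp_step Q e f he hf hef hQ (R Q) le_rfl (isIsom_of_mem_R Q) (invClosed_R Q)
      (partner_move_R Q e f he hf hef hspan) ?_ g hg
    exact stab_mem Q e f he hf hef (R Q) (R (QW Q e f)) (lift_R Q e f)
      (mem_R_of_isIsom 2 (pairPerp Q e f) (QW Q e f) hndW (by omega) (by omega))
  · push Not at hs
    exact mem_R_of_anisotropic Q hs g hg

open Matrix Cfsg.Agent.Lib.Helper5.CartanDieudonne Cfsg.Agent.Lib.Helper5.Refl
  Cfsg.Agent.Lib.Helper5.ReflGenMat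

variable {ι : Type} [Fintype ι] [DecidableEq ι]

/-- matrix version -/
theorem reflSubgroup_eq_top_four (Q : QuadraticForm F (ι → F))
    (hQ : (polarBilin Q).Nondegenerate) (h4 : Fintype.card ι = 4)
    (hW : ∀ x y : ι → F, Q x = 0 → Q y = 0 → polar ⇑Q x y = 0 → x ≠ 0 → ∃ c : F, y = c • x) :
    reflSubgroup Q = ⊤ := by
  rw [eq_top_iff]
  intro g _
  have hND : ND Q := fun z hz => hQ.1 z hz
  have hiso : IsIsom Q (Matrix.mulVecLin ((g : Matrix.GeneralLinearGroup ι F) : Matrix ι ι F)) :=
    fun x => quad_act Q g x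
  have hmem := mem_R_four (ι → F) Q hND
    ((Module.finrank_fintype_fun_eq_card F).trans h4) hW _ hiso
  obtain ⟨h, hh, hact⟩ := exists_of_mem_R Q _ hmem
  have : h = g := by
    apply Subtype.ext
    apply Units.ext
    rw [ext_iff_mulVec]
    intro x
    exact hact x
  rw [← this]; exact hh

end Cfsg.Agent.Lib.Helper6.OrthRefl4
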