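import Mathlib
import Cfsg.Prelude
import Cfsg.Agent.Lib.Helper6.OrthOmegaGen2
import Cfsg.Agent.Lib.Helper6.OrthRefl4

set_option autoImplicit false
set_option linter.unusedSectionVars false
set_option linter.unusedVariables false
set_option linter.unusedSimpArgs false
open Cfsg

/-! The number of classes of involutions of `Ω⁻_{2m}(F)`, characteristic two. -/

namespace Cfsg.Agent.Lib.Helper6.OrthOmegaGen

open Matrix QuadraticMap Module Cfsg.Agent.Lib.Helper5 Cfsg.Agent.Lib.Helper5.CartanDieudonne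
  Cfsg.Agent.Lib.Helper5.Refl Cfsg.Agent.Lib.Helper5.OrthCard Cfsg.Agent.Lib.Helper5.SpinorNorm
  Cfsg.Agent.Lib.Helper5.OrthPlane
  Cfsg.Agent.Lib.Helper6.OrthInv2 Cfsg.Agent.Lib.Helper6.OrthPar
  Cfsg.Agent.Lib.Helper6.OrthOmegaCls

variable {F : Type*} [Field F] [Fintype F] [CharP F 2]

theorem card_inv_classes_Omega_gen' {ι : Type} [Fintype ι] [DecidableEq ι]
    (Q : QuadraticForm F (ι → F)) (Q₀ : (ι → F) → F) (hQQ : ⇑Q = Q₀)
    (hQ : (polarBilin Q).Nondegenerate)
    (hgen : reflSubgroup Q = ⊤) (m : ℕ) (hV : finrank F (ι → F) = 2 * m)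
    (hwitt : ∀ U : Submodule F (ι → F), (∀ u ∈ U, Q u = 0) → finrank F U < m)
    (h5 : 5 ≤ Fintype.card ι ∨ ∀ x y : ι → F, Q x = 0 → Q y = 0 →
      polar ⇑Q x y = 0 → ¬ LinearIndependent F ![x, y])
    (mB ν : ℕ)
    (hB_le : ∀ (n : ℕ) (w : Fin n → (ι → F)), LinearIndependent F w →
      (∀ i j, polar ⇑Q (w i) (w j) = 0) → (∀ i, Q (w i) = 1) → n ≤ mB)
    (hB_ex : ∃ w : Fin mB → (ι → F), LinearIndependent F w ∧
      (∀ i j, polar ⇑Q (w i) (w j) = 0) ∧ (∀ i, Q (w i) = 1))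
    (hA_le : ∀ (n : ℕ) (w : Fin n → (ι → F)), LinearIndependent F w →
      (∀ i j, polar ⇑Q (w i) (w j) = 0) → (∀ i, Q (w i) = 0) → n ≤ ν)
    (hA_ex : ∃ w : Fin ν → (ι → F), LinearIndependent F w ∧
      (∀ i j, polar ⇑Q (w i) (w j) = 0) ∧ (∀ i, Q (w i) = 0)) :
    Nat.card {C : ConjClasses ↥(Omega F Q₀) //
      ∃ g : ↥(Omega F Q₀), ConjClasses.mk g = C ∧ orderOf g = 2} = mB / 2 + ν / 2 := by
  subst hQQ
  exact card_inv_classes_Omega_gen Q hQ hgen m hV hwitt h5 mB ν hB_le hB_ex hA_le hA_ex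

theorem card_inv_classes_Omega_minus (k : ℕ) (a b : F)
    (hab : ∀ z₁ z₂ : F, z₁ ^ 2 + a * z₁ * z₂ + b * z₂ ^ 2 = 0 → z₁ = 0 ∧ z₂ = 0) :
    Nat.card {C : ConjClasses ↥(Omega F (Cfsg.quadFormMinus k F a b)) //
      ∃ g : ↥(Omega F (Cfsg.quadFormMinus k F a b)),
        ConjClasses.mk g = C ∧ orderOf g = 2} = (k + 1) / 2 + k / 2 := by
  have hQ' := OrthInv2Std.minus_nondeg (F := F) k a b hab
  have e0 := OrthInv2Std.minusForm_eq_genForm (F := F) k a b
  have hcoe : ⇑(genForm (binForm a b) k) = Cfsg.quadFormMinus k F a b := by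
    rw [← e0]; exact coe_minusForm k a b
  have hQ : (polarBilin (genForm (binForm a b) k)).Nondegenerate := e0 ▸ hQ'
  have hcard : Fintype.card ((Fin k ⊕ Fin k) ⊕ Fin 2) = 2 * (k + 1) := by
    simp only [Fintype.card_sum, Fintype.card_fin]
    omega
  have hV : finrank F ((Fin k ⊕ Fin k) ⊕ Fin 2 → F) = 2 * (k + 1) := by
    rw [Module.finrank_fintype_fun_eq_card, hcard]
  set Q := genForm (binForm a b) k with hQdef
  set e : Fin k → ((Fin k ⊕ Fin k) ⊕ Fin 2 → F) :=
    fun i => Pi.single (Sum.inl (Sum.inl i)) 1 with he_def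
  set f : Fin k → ((Fin k ⊕ Fin k) ⊕ Fin 2 → F) :=
    fun i => Pi.single (Sum.inl (Sum.inr i)) 1 with hf_def
  set z : (Fin k ⊕ Fin k) ⊕ Fin 2 → F := Pi.single (Sum.inr 0) 1 with hz_def
  have he : ∀ i, Q (e i) = 0 := fun i => SpinorHyp2.genForm_single_ll _ k i
  have hf : ∀ i, Q (f i) = 0 := fun i => SpinorHyp2.genForm_single_lr _ k i
  have hef : ∀ i j, polar ⇑Q (e i) (f j) = if i = j then 1 else 0 := by
    intro i j
    rw [SpinorHyp2.polar_genForm_single_ll]
    simp only [hf_def, Pi.single_apply, Sum.inl.injEq, Sum.inr.injEq]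
  have hee : ∀ i j, polar ⇑Q (e i) (e j) = 0 := by
    intro i j
    rw [SpinorHyp2.polar_genForm_single_ll]
    simp [he_def]
  have hff : ∀ i j, polar ⇑Q (f i) (f j) = 0 := by
    intro i j
    rw [SpinorHyp2.polar_genForm_single_lr]
    simp [hf_def]
  have hz : Q z = 1 := by
    rw [hQdef, genForm_apply, binForm_apply]
    simp [hz_def]
  have hze : ∀ i, polar ⇑Q z (e i) = 0 := by
    intro i
    rw [polar_comm, SpinorHyp2.polar_genForm_single_ll]
    simp [hz_def]
  have hzf : ∀ i, polar ⇑Q z (f i) = 0 := by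
    intro i
    rw [polar_comm, SpinorHyp2.polar_genForm_single_lr]
    simp [hz_def]
  obtain ⟨b1, b2, b3⟩ := famB_cons_of_hyp Q e f he hf hef hee hff z hz hze hzf
  have hwittle : ∀ U : Submodule F ((Fin k ⊕ Fin k) ⊕ Fin 2 → F), (∀ u ∈ U, Q u = 0) →
      finrank F U ≤ k := fun U hU =>
    finrank_ts_le_genForm (binForm a b) k (anisotropic_of a b hab) hQ U hU
  have hA_le : ∀ (n : ℕ) (w : Fin n → ((Fin k ⊕ Fin k) ⊕ Fin 2 → F)), LinearIndependent F w →
      (∀ i j, polar ⇑Q (w i) (w j) = 0) → (∀ i, Q (w i) = 0) → n ≤ k := by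
    intro n w hli h0 hq
    have hU : ∀ u ∈ Submodule.span F (Set.range w), Q u = 0 := by
      intro u hu
      obtain ⟨c, rfl⟩ := (Submodule.mem_span_range_iff_exists_fun F).mp hu
      rw [quad_sum_orth Q _ w c h0]
      apply Finset.sum_eq_zero
      intro i _
      rw [hq, mul_zero]
    have h1 := hwittle _ hU
    rw [finrank_span_eq_card hli, Fintype.card_fin] at h1
    exact h1
  have hpair : k ≤ 1 → ∀ x y : (Fin k ⊕ Fin k) ⊕ Fin 2 → F, Q x = 0 → Q y = 0 →
      polar ⇑Q x y = 0 → ¬ LinearIndependent F ![x, y] := by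
    intro hk1 x y hx hy hxy hli
    have h1 := hA_le 2 ![x, y] hli (by
      intro i j
      fin_cases i <;> fin_cases j
      · exact polar_self_zero Q x
      · exact hxy
      · show polar ⇑Q y x = 0
        rw [polar_comm]; exact hxy
      · exact polar_self_zero Q y) (by
      intro i
      fin_cases i
      · exact hx
      · exact hy)
    omega
  have hgen : reflSubgroup Q = ⊤ := by
    by_cases h4 : Fintype.card ((Fin k ⊕ Fin k) ⊕ Fin 2) = 4
    · apply OrthRefl4.reflSubgroup_eq_top_four Q hQ h4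
      intro x y hx hy hxy hx0
      have hk1 : k ≤ 1 := by omega
      have hnli := hpair hk1 x y hx hy hxy
      by_contra hcon
      push Not at hcon
      apply hnli
      rw [LinearIndependent.pair_iff]
      intro s t hst
      by_cases ht : t = 0
      · subst ht
        rw [zero_smul, add_zero] at hst
        rcases smul_eq_zero.mp hst with h | h
        · exact ⟨h, rfl⟩
        · exact absurd h hx0
      · exfalso
        apply hcon (-(t⁻¹ * s))
        have h1 : t • y = -(s • x) := eq_neg_of_add_eq_zero_right hst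
        have h3 : y = t⁻¹ • (t • y) := by rw [smul_smul, inv_mul_cancel₀ ht, one_smul]
        rw [h3, h1, smul_neg, smul_smul, neg_smul]
    · exact ReflGenMat.reflSubgroup_eq_top Q hQ (fun h => absurd h h4)
  have h5 : 5 ≤ Fintype.card ((Fin k ⊕ Fin k) ⊕ Fin 2) ∨
      ∀ x y : (Fin k ⊕ Fin k) ⊕ Fin 2 → F, Q x = 0 → Q y = 0 →
      polar ⇑Q x y = 0 → ¬ LinearIndependent F ![x, y] := by
    by_cases hk1 : k ≤ 1
    · exact Or.inr (hpair hk1)
    · left
      rw [hcard]
      omega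
  exact card_inv_classes_Omega_gen' Q (Cfsg.quadFormMinus k F a b) hcoe hQ hgen (k + 1) hV
    (fun U hU => Nat.lt_succ_of_le (hwittle U hU)) h5 (k + 1) k
    (fun n w hli h0 _ => le_half_of_isotropic _ hQ (k + 1) hV n w hli h0)
    ⟨_, b1, b2, b3⟩ hA_le ⟨e, famA_of_hyp Q e f hef hee, hee, he⟩

end Cfsg.Agent.Lib.Helper6.OrthOmegaGen
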