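import Mathlib
import Cfsg.Agent.Lib.Helper5.QuadWitt

set_option autoImplicit false
set_option linter.unusedVariables false
set_option linter.unusedSectionVars false

/-! Orthogonal subfield subgroups of `SU_n(q)` (part A): in a non-degenerate symmetric bilinear
space over a finite field of odd characteristic, the orthogonal complement of a small subspace
contains a hyperbolic pair. -/

namespace Cfsg.Agent.Lib.Helper6.Osf

open Module LinearMap

variable {K : Type*} [Field K] [Finite K] {E : Type*} [AddCommGroup E] [Module K E]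
  [FiniteDimensional K E]

/-- a subspace of dimension at least three contains a non-zero singular vector -/
theorem exists_singular_mem (B : LinearMap.BilinForm K E) (W : Submodule K E)
    (hW : 3 ≤ finrank K W) : ∃ w ∈ W, w ≠ 0 ∧ B w w = 0 := by
  obtain ⟨w, hw0, hw⟩ := Cfsg.Agent.Lib.Helper5.exists_singular
    ((LinearMap.BilinMap.toQuadraticMap B).comp W.subtype) hW
  refine ⟨w.1, w.2, fun h => hw0 (Subtype.ext h), ?_⟩
  simpa using hw

/-- the orthogonal complement of a subspace `Z` with `2 dim Z + 3 ≤ dim E` contains a hyperbolic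
pair -/
theorem exists_hyp_pair_orth (B : LinearMap.BilinForm K E) (hs : B.IsSymm)
    (hnd : B.Nondegenerate) (h2 : (2 : K) ≠ 0) (Z : Submodule K E)
    (hdim : 2 * finrank K Z + 3 ≤ finrank K E) :
    ∃ a a' : E, (∀ z ∈ Z, B z a = 0) ∧ (∀ z ∈ Z, B z a' = 0) ∧ B a a = 0 ∧ B a' a' = 0 ∧
      B a a' = 1 := by
  have hrefl : B.IsRefl := hs.isRefl
  set T := B.orthogonal Z with hT
  have hTdim : finrank K T = finrank K E - finrank K Z :=
    LinearMap.BilinForm.finrank_orthogonal hnd Z
  have hTT : B.orthogonal T = Z := LinearMap.BilinForm.orthogonal_orthogonal hnd hrefl Z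
  obtain ⟨C, hC⟩ := Submodule.exists_isCompl Z
  have hCdim := Submodule.finrank_add_eq_of_isCompl hC
  have hsum := Submodule.finrank_sup_add_finrank_inf_eq T C
  have hle : finrank K (T ⊔ C : Submodule K E) ≤ finrank K E := Submodule.finrank_le _
  have hW : 3 ≤ finrank K (T ⊓ C : Submodule K E) := by omega
  obtain ⟨w, hwW, hw0, hww⟩ := exists_singular_mem B (T ⊓ C) hW
  have hwT : w ∈ T := (Submodule.mem_inf.1 hwW).1
  have hwC : w ∈ C := (Submodule.mem_inf.1 hwW).2
  have hwZ : w ∉ Z := by
    intro h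
    have : w ∈ Z ⊓ C := Submodule.mem_inf.2 ⟨h, hwC⟩
    rw [hC.inf_eq_bot, Submodule.mem_bot] at this
    exact hw0 this
  have hex : ∃ t ∈ T, B t w ≠ 0 := by
    by_contra hcon
    push Not at hcon
    apply hwZ
    rw [← hTT, LinearMap.BilinForm.mem_orthogonal_iff]
    exact hcon
  obtain ⟨t, htT, htw⟩ := hex
  have hsym : ∀ x y, B x y = B y x := fun x y => hs.eq x y
  set z := (B t w)⁻¹ • t with hz
  have hzT : z ∈ T := T.smul_mem _ htT
  have hzw : B z w = 1 := by
    rw [hz, map_smul, LinearMap.smul_apply, smul_eq_mul, inv_mul_cancel₀ htw]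
  have hwz : B w z = 1 := by rw [hsym, hzw]
  have hmemT : ∀ x, x ∈ T → ∀ y ∈ Z, B y x = 0 := by
    intro x hx
    exact LinearMap.BilinForm.mem_orthogonal_iff.1 hx
  refine ⟨w, z - (B z z / 2) • w, hmemT w hwT,
    hmemT _ (T.sub_mem hzT (T.smul_mem _ hwT)), hww, ?_, ?_⟩
  · simp only [map_sub, map_smul, LinearMap.sub_apply, LinearMap.smul_apply, smul_eq_mul, hww,
      hzw, hwz]
    field_simp
    ring
  · simp only [map_sub, map_smul, smul_eq_mul, hww, hwz]
    ring

end Cfsg.Agent.Lib.Helper6.Osf
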