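import Mathlib
import Cfsg.Agent.Lib.Helper2.UsfD
import Cfsg.Agent.Lib.Helper6.OsfA

set_option autoImplicit false
set_option maxHeartbeats 1000000
set_option linter.unusedVariables false
set_option linter.unusedSectionVars false
set_option linter.style.longLine false
set_option linter.unusedSimpArgs false
set_option linter.deprecated false

/-! Orthogonal subfield subgroups of `SU_n(q)` (part B): the rational structure on which the
Hermitian form restricts to a symmetric bilinear form over the subfield of index two, and the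
existence of rational singular vectors in general position. -/

namespace Cfsg.Agent.Lib.Helper6.Osf

open Matrix Cfsg Cfsg.Agent.Lib.Helper5.Herm Cfsg.Agent.Lib.Helper5.HermBridge
  Cfsg.Agent.Lib.Helper5.HermTv Cfsg.Agent.Lib.Helper5.HermEich
  Cfsg.Agent.Lib.Helper5.SUCentres Cfsg.Agent.Lib.Helper2.Ssf Cfsg.Agent.Lib.Helper2.Usf

universe u

/-- a rational structure on which the Hermitian form takes values in the subfield, `q` odd -/
structure OStr {F : Type u} [Field F] {n : ℕ} (q : ℕ) (F₀ : Subfield F) (P : GL (Fin n) F) :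
    Prop where
  val : ∀ a b, V0 F₀ P a → V0 F₀ P b → hermForm n F q a b ∈ F₀
  odd : Odd q

section Setting

variable {F : Type u} [Field F] [Fintype F] {q : ℕ} (hF : Fintype.card F = q ^ 2) {n : ℕ}
  {F₀ : Subfield F} (hcard : Fintype.card F = Nat.card F₀ ^ 2) {P : GL (Fin n) F}
  (S : OStr q F₀ P)

include hF hcard S

theorem two_ne : (2 : F) ≠ 0 := by
  intro h2
  obtain ⟨p, j, hp, hchar, hq⟩ := exists_char_pow hF
  have h3 : ((2 : ℕ) : F) = 0 := by exact_mod_cast h2
  rw [CharP.cast_eq_zero_iff F p 2] at h3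
  have hp2 : p = 2 := (Nat.prime_dvd_prime_iff_eq hp Nat.prime_two).1 h3
  have hodd := S.odd
  rw [hq, hp2] at hodd
  have hq2 := two_le_q hF
  rcases Nat.eq_zero_or_pos j with hj | hj
  · rw [hq, hj, pow_zero] at hq2; omega
  · exact absurd hodd (Nat.not_odd_iff_even.2 ((Nat.even_pow).2 ⟨even_two, by omega⟩))

/-- on rational vectors the form is symmetric -/
theorem OStr.sym {a b : Fin n → F} (ha : V0 F₀ P a) (hb : V0 F₀ P b) :
    hermForm n F q b a = hermForm n F q a b := by
  rw [← hermForm_conj hF n a b]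
  exact pow_q_of_mem hF F₀ hcard (S.val a b ha hb)

theorem OStr.valq {a b : Fin n → F} (ha : V0 F₀ P a) (hb : V0 F₀ P b) :
    hermForm n F q a b ^ q = hermForm n F q a b :=
  pow_q_of_mem hF F₀ hcard (S.val a b ha hb)

/-- a non-zero element of trace zero; it lies outside the subfield -/
theorem exists_theta : ∃ θ : F, θ ≠ 0 ∧ θ ^ q = -θ ∧ θ ∉ F₀ := by
  obtain ⟨θ, hθ0, hθ⟩ := exists_trace_zero hF
  refine ⟨θ, hθ0, hθ, fun hmem => hθ0 ?_⟩
  have h1 := pow_q_of_mem hF F₀ hcard hmem
  rw [hθ] at h1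
  have h2 : (2 : F) * θ = 0 := by linear_combination -h1
  rcases mul_eq_zero.1 h2 with h | h
  · exact absurd h (two_ne hF hcard S)
  · exact h

omit S in
theorem split_zero {θ : F} (hθ : θ ∉ F₀) {α β : F} (hα : α ∈ F₀) (hβ : β ∈ F₀)
    (h : α + θ * β = 0) : α = 0 ∧ β = 0 :=
  decomp_unique hθ hα hβ F₀.zero_mem F₀.zero_mem (by rw [h, mul_zero, add_zero])

omit S hF hcard in
/-- a scalar multiplying a non-zero rational vector into a rational vector is rational -/
theorem rat_scalar_mem {r : Fin n → F} (hr : V0 F₀ P r) (hr0 : r ≠ 0) {c : F}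
    (h : V0 F₀ P (c • r)) : c ∈ F₀ := by
  have hw0 : (P⁻¹).1 *ᵥ r ≠ 0 := fun h0 => hr0 (gl_mulVec_eq_zero P⁻¹ h0)
  obtain ⟨j, hj⟩ : ∃ j, ((P⁻¹).1 *ᵥ r) j ≠ 0 := by
    by_contra hcon
    push Not at hcon
    exact hw0 (funext hcon)
  have h1 := h j
  rw [Matrix.mulVec_smul, Pi.smul_apply, smul_eq_mul] at h1
  have h2 : c = (c * ((P⁻¹).1 *ᵥ r) j) * (((P⁻¹).1 *ᵥ r) j)⁻¹ := by field_simp
  rw [h2]
  exact F₀.mul_mem h1 (F₀.inv_mem (hr j))

end Setting

section Emb

variable {F : Type u} [Field F] {n : ℕ} {F₀ : Subfield F} (P : GL (Fin n) F)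

/-- the rational vector with given rational coordinates -/
def emb (u : Fin n → F₀) : Fin n → F := P.1 *ᵥ (fun i => (u i : F))

theorem emb_add (u v : Fin n → F₀) : emb P (u + v) = emb P u + emb P v := by
  unfold emb
  rw [← Matrix.mulVec_add]
  congr 1

theorem emb_smul (c : F₀) (u : Fin n → F₀) : emb P (c • u) = (c : F) • emb P u := by
  unfold emb
  rw [← Matrix.mulVec_smul]
  congr 1

theorem V0_emb (u : Fin n → F₀) : V0 F₀ P (emb P u) := V0_mulVec (fun i => (u i).2)

theorem exists_emb {v : Fin n → F} (hv : V0 F₀ P v) : ∃ u : Fin n → F₀, emb P u = v := by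
  obtain ⟨w, hw, rfl⟩ := hv.exists_eq
  exact ⟨fun i => ⟨w i, hw i⟩, rfl⟩

theorem emb_eq_zero {u : Fin n → F₀} (h : emb P u = 0) : u = 0 := by
  have h1 := gl_mulVec_eq_zero P h
  funext i
  have h2 := congrFun h1 i
  exact Subtype.ext h2

end Emb

section Form

variable {F : Type u} [Field F] [Fintype F] {q : ℕ} (hF : Fintype.card F = q ^ 2) {n : ℕ}
  {F₀ : Subfield F} (hcard : Fintype.card F = Nat.card F₀ ^ 2) {P : GL (Fin n) F}
  (S : OStr q F₀ P)

/-- the restriction of the Hermitian form to the rational vectors, as a bilinear form over the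
subfield -/
noncomputable def ratForm : LinearMap.BilinForm F₀ (Fin n → F₀) :=
  LinearMap.mk₂ F₀
    (fun u v => (⟨hermForm n F q (emb P u) (emb P v), S.val _ _ (V0_emb P u) (V0_emb P v)⟩ : F₀))
    (by
      intro u u' v
      apply Subtype.ext
      simp only [emb_add, hermForm_add_left, Subfield.coe_add])
    (by
      intro c u v
      apply Subtype.ext
      simp only [emb_smul, hermForm_smul_left, smul_eq_mul, Subfield.coe_mul])
    (by
      intro u v v'
      apply Subtype.ext
      simp only [emb_add, hermForm_add_right hF, Subfield.coe_add])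
    (by
      intro c u v
      apply Subtype.ext
      simp only [emb_smul, hermForm_smul_right, smul_eq_mul, Subfield.coe_mul,
        pow_q_of_mem hF F₀ hcard c.2])

theorem ratForm_apply (u v : Fin n → F₀) :
    ((ratForm hF hcard S u v : F₀) : F) = hermForm n F q (emb P u) (emb P v) := rfl

theorem ratForm_symm : (ratForm hF hcard S).IsSymm := by
  refine ⟨fun u v => ?_⟩
  apply Subtype.ext
  rw [ratForm_apply, ratForm_apply]
  exact (S.sym hF hcard (V0_emb P v) (V0_emb P u))

theorem ratForm_nondeg : (ratForm hF hcard S).Nondegenerate := by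
  have hleft : ∀ x : Fin n → F₀, (∀ y, ratForm hF hcard S x y = 0) → x = 0 := by
    intro x hx
    apply emb_eq_zero P
    by_contra hne
    obtain ⟨j, hj⟩ := exists_col_ne hF P hne
    apply hj
    have h1 := hx (Pi.single j 1)
    have h2 := congrArg (fun t : F₀ => (t : F)) h1
    simp only [ratForm_apply] at h2
    have h3 : emb P (Pi.single j (1 : F₀)) = Helper2.Usf.col P j := by
      unfold emb Helper2.Usf.col
      congr 1
      funext i
      by_cases hij : i = j
      · subst hij; simp
      · simp [Pi.single_eq_of_ne hij]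
    rw [h3] at h2
    simpa using h2
  refine ⟨hleft, fun y hy => hleft y fun x => ?_⟩
  rw [← (ratForm_symm hF hcard S).eq]
  exact hy x

include hF hcard S

/-- a rational hyperbolic pair orthogonal to a small family of rational vectors -/
theorem exists_rat_hyp (k : ℕ) (z : Fin k → Fin n → F) (hz : ∀ i, V0 F₀ P (z i))
    (hk : 2 * k + 3 ≤ n) :
    ∃ a a' : Fin n → F, V0 F₀ P a ∧ V0 F₀ P a' ∧ (∀ i, hermForm n F q (z i) a = 0) ∧
      (∀ i, hermForm n F q (z i) a' = 0) ∧ hermForm n F q a a = 0 ∧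
      hermForm n F q a' a' = 0 ∧ hermForm n F q a a' = 1 ∧ hermForm n F q a' a = 1 := by
  classical
  have hex := fun i => exists_emb P (hz i)
  choose w hw using hex
  set Z : Submodule F₀ (Fin n → F₀) := Submodule.span F₀ (Set.range w) with hZ
  have hZdim : Module.finrank F₀ Z ≤ k := by
    have := finrank_range_le_card (R := F₀) w
    rwa [Fintype.card_fin] at this
  have hn : Module.finrank F₀ (Fin n → F₀) = n := Module.finrank_fin_fun F₀
  have h2 : (2 : F₀) ≠ 0 := by
    intro h
    apply two_ne hF hcard S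
    have h5 : ((1 : F₀) : F) + ((1 : F₀) : F) = ((0 : F₀) : F) := by
      rw [← Subfield.coe_add, one_add_one_eq_two, h]
    simp only [Subfield.coe_one, Subfield.coe_zero] at h5
    rw [one_add_one_eq_two] at h5
    exact h5
  obtain ⟨a, a', ha, ha', haa, ha'a', haa'⟩ := exists_hyp_pair_orth (ratForm hF hcard S)
    (ratForm_symm hF hcard S) (ratForm_nondeg hF hcard S) h2 Z (by rw [hn]; omega)
  have e1 : hermForm n F q (emb P a) (emb P a') = 1 := by
    have := congrArg (fun t : F₀ => (t : F)) haa'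
    simpa only [ratForm_apply, Subfield.coe_one] using this
  refine ⟨emb P a, emb P a', V0_emb P a, V0_emb P a', ?_, ?_, ?_, ?_, e1, ?_⟩
  · intro i
    have h1 := ha (w i) (Submodule.subset_span ⟨i, rfl⟩)
    have := congrArg (fun t : F₀ => (t : F)) h1
    simp only [ratForm_apply, hw i] at this
    simpa using this
  · intro i
    have h1 := ha' (w i) (Submodule.subset_span ⟨i, rfl⟩)
    have := congrArg (fun t : F₀ => (t : F)) h1
    simp only [ratForm_apply, hw i] at this
    simpa using this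
  · have := congrArg (fun t : F₀ => (t : F)) haa
    simpa only [ratForm_apply, Subfield.coe_zero] using this
  · have := congrArg (fun t : F₀ => (t : F)) ha'a'
    simpa only [ratForm_apply, Subfield.coe_zero] using this
  · rw [S.sym hF hcard (V0_emb P a) (V0_emb P a'), e1]

/-- a non-zero rational singular vector -/
theorem exists_rat_sing (hn : 3 ≤ n) :
    ∃ u : Fin n → F, V0 F₀ P u ∧ u ≠ 0 ∧ hermForm n F q u u = 0 := by
  obtain ⟨a, a', ha, ha', -, -, haa, -, haa', -⟩ :=
    exists_rat_hyp hF hcard S 0 (fun i => i.elim0) (fun i => i.elim0) (by omega)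
  refine ⟨a, ha, ?_, haa⟩
  intro h0
  rw [h0, hermForm_zero_left n q] at haa'
  exact zero_ne_one haa'

/-- a rational singular partner of a non-zero rational singular vector -/
theorem exists_rat_partner {u : Fin n → F} (hu : V0 F₀ P u) (hu0 : u ≠ 0)
    (hiso : hermForm n F q u u = 0) :
    ∃ u' : Fin n → F, V0 F₀ P u' ∧ hermForm n F q u' u' = 0 ∧ hermForm n F q u u' = 1 ∧
      hermForm n F q u' u = 1 := by
  obtain ⟨z, hzr, huz, hzu⟩ : ∃ z, V0 F₀ P z ∧ hermForm n F q u z = 1 ∧
      hermForm n F q z u = 1 := by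
    obtain ⟨j, hj⟩ := exists_col_ne hF P hu0
    have hcm : hermForm n F q u (Helper2.Usf.col P j) ∈ F₀ := S.val _ _ hu (V0_col j)
    have hcim : (hermForm n F q u (Helper2.Usf.col P j))⁻¹ ∈ F₀ := F₀.inv_mem hcm
    have hciq := pow_q_of_mem hF F₀ hcard hcim
    have hzr : V0 F₀ P ((hermForm n F q u (Helper2.Usf.col P j))⁻¹ • Helper2.Usf.col P j) :=
      (V0_col j).smul hcim
    have huz : hermForm n F q u
        ((hermForm n F q u (Helper2.Usf.col P j))⁻¹ • Helper2.Usf.col P j) = 1 := by
      rw [hermForm_smul_right, hciq, inv_mul_cancel₀ hj]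
    exact ⟨_, hzr, huz, by rw [S.sym hF hcard hu hzr, huz]⟩
  have h2 := two_ne hF hcard S
  obtain ⟨κ, hκ⟩ : ∃ κ : F, κ = hermForm n F q z z / 2 := ⟨_, rfl⟩
  have hκm : κ ∈ F₀ := by
    rw [hκ, div_eq_mul_inv]
    exact F₀.mul_mem (S.val _ _ hzr hzr) (F₀.inv_mem (by
      have : (2 : F) = 1 + 1 := by norm_num
      rw [this]; exact F₀.add_mem F₀.one_mem F₀.one_mem))
  have hκq : κ ^ q = κ := pow_q_of_mem hF F₀ hcard hκm
  refine ⟨z - κ • u, hzr.sub (hu.smul hκm), ?_, ?_, ?_⟩
  · rw [herm_sub_left hF, herm_sub_right hF, herm_sub_right hF, hermForm_smul_left,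
      hermForm_smul_left, hermForm_smul_right, hermForm_smul_right, hiso, huz, hzu, hκq, hκ]
    field_simp
    ring
  · rw [herm_sub_right hF, hermForm_smul_right, hiso, huz]
    ring
  · rw [herm_sub_left hF, hermForm_smul_left, hiso, hzu]
    ring

/-- every non-zero vector is non-orthogonal to some rational singular vector -/
theorem exists_rat_sing_ne (hn : 5 ≤ n) {v : Fin n → F} (hv0 : v ≠ 0) :
    ∃ s : Fin n → F, V0 F₀ P s ∧ hermForm n F q s s = 0 ∧ hermForm n F q v s ≠ 0 := by
  by_contra hcon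
  push Not at hcon
  obtain ⟨j, hj⟩ := exists_col_ne hF P hv0
  apply hj
  obtain ⟨z, hz⟩ : ∃ z, z = Helper2.Usf.col P j := ⟨_, rfl⟩
  rw [← hz]
  have hzr : V0 F₀ P z := by rw [hz]; exact V0_col j
  obtain ⟨a, a', ha, ha', hza, hza', haa, ha'a', haa', ha'a⟩ :=
    exists_rat_hyp hF hcard S 1 (fun _ => z) (fun _ => hzr) (by omega)
  have hza0 := hza 0
  have hza'0 := hza' 0
  have haz : hermForm n F q a z = 0 := by rw [S.sym hF hcard hzr ha]; exact hza0
  have ha'z : hermForm n F q a' z = 0 := by rw [S.sym hF hcard hzr ha']; exact hza'0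
  have h2 := two_ne hF hcard S
  obtain ⟨κ, hκ⟩ : ∃ κ : F, κ = hermForm n F q z z / 2 := ⟨_, rfl⟩
  have hκm : κ ∈ F₀ := by
    rw [hκ, div_eq_mul_inv]
    exact F₀.mul_mem (S.val _ _ hzr hzr) (F₀.inv_mem (by
      have : (2 : F) = 1 + 1 := by norm_num
      rw [this]; exact F₀.add_mem F₀.one_mem F₀.one_mem))
  have hκq : κ ^ q = κ := pow_q_of_mem hF F₀ hcard hκm
  have hsr : V0 F₀ P (z + a - κ • a') := (hzr.add ha).sub (ha'.smul hκm)
  have hss : hermForm n F q (z + a - κ • a') (z + a - κ • a') = 0 := by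
    simp only [herm_sub_left hF, herm_sub_right hF, hermForm_add_left, hermForm_add_right hF,
      hermForm_smul_left, hermForm_smul_right, hza0, hza'0, haz, ha'z, haa, ha'a', haa', ha'a,
      hκq]
    rw [hκ]
    field_simp
    ring
  have h1 := hcon _ hsr hss
  have h3 := hcon a ha haa
  have h4 := hcon a' ha' ha'a'
  rw [herm_sub_right hF, hermForm_add_right hF, hermForm_smul_right, h3, h4] at h1
  linear_combination h1

end Form

end Cfsg.Agent.Lib.Helper6.Osf
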