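import Mathlib
import Cfsg.Agent.Lib.Helper6.OsfB

set_option autoImplicit false
set_option maxHeartbeats 1000000
set_option linter.unusedVariables false
set_option linter.unusedSectionVars false
set_option linter.style.longLine false
set_option linter.unusedSimpArgs false
set_option linter.deprecated false

/-! Orthogonal subfield subgroups of `SU_n(q)` (part C): the algebra of the unipotent elements
`v ↦ v + h(v,x) w + (b h(v,x) - h(v,w)) x` and membership of such elements in an overgroup of the
subfield subgroup. -/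

namespace Cfsg.Agent.Lib.Helper6.Osf

open Matrix Cfsg Cfsg.Agent.Lib.Helper5.Herm Cfsg.Agent.Lib.Helper5.HermBridge
  Cfsg.Agent.Lib.Helper5.HermTv Cfsg.Agent.Lib.Helper5.HermEich
  Cfsg.Agent.Lib.Helper5.SUCentres Cfsg.Agent.Lib.Helper2.Ssf Cfsg.Agent.Lib.Helper2.Usf

universe u

section Alg

variable {F : Type u} [Field F] [Fintype F] {q : ℕ} (hF : Fintype.card F = q ^ 2) (n : ℕ)

theorem eich_congr {x x' w w' : Fin n → F} {b b' : F} (hx : x = x') (hw : w = w') (hb : b = b')
    (H : EHyp n q x w b) (H' : EHyp n q x' w' b') :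
    eich hF n x w b H = eich hF n x' w' b' H' := by
  subst hx hw hb
  rfl

include hF in
theorem EHyp_mul {x w w' : Fin n → F} {b b' : F} (H : EHyp n q x w b) (H' : EHyp n q x w' b') :
    EHyp n q x (w + w') (b + b' - hermForm n F q w' w) where
  hx := H.hx
  hwx := by rw [hermForm_add_left, H.hwx, H'.hwx, add_zero]
  hb := by
    rw [pow_q_sub hF, pow_q_add hF, hermForm_conj hF, hermForm_add_left, hermForm_add_right hF,
      hermForm_add_right hF]
    linear_combination H.hb + H'.hb

theorem eich_mul {x w w' : Fin n → F} {b b' : F} (H : EHyp n q x w b) (H' : EHyp n q x w' b')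
    (H'' : EHyp n q x (w + w') (b + b' - hermForm n F q w' w)) :
    eich hF n x w b H * eich hF n x w' b' H' = eich hF n x (w + w') _ H'' := by
  apply ext_gact
  intro v
  rw [gact_mul, gact_eich, gact_eich, gact_eich]
  simp only [hermForm_add_left, hermForm_smul_left, hermForm_add_right hF, H.hx, H.hwx,
    H.hxw hF, H'.hwx, H'.hxw hF]
  module

theorem eich_zero {x : Fin n → F} {b : F} (H : EHyp n q x 0 b) (hc : QCond n q x b) :
    eich hF n x 0 b H = qtv hF n x b hc := by
  apply ext_gact
  intro v
  rw [gact_eich, gact_qtv, hermForm_zero_right hF]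
  module

theorem eich_inv {x w : Fin n → F} {b : F} (H : EHyp n q x w b) :
    (eich hF n x w b H)⁻¹ = eich hF n x (-w) (b ^ q) (H.inv hF n) := by
  symm
  apply eq_inv_of_mul_eq_one_left
  apply ext_gact
  intro v
  rw [gact_mul, gact_one, gact_eich, gact_eich]
  simp only [hermForm_add_left, hermForm_smul_left, hermForm_neg_right hF, H.hx, H.hwx,
    H.hxw hF]
  have hb : hermForm n F q w w = -(b + b ^ q) := by linear_combination H.hb
  rw [hb]
  module

theorem conj_eich (g : ↥(Cfsg.GU n F q)) {x w : Fin n → F} {b : F} (H : EHyp n q x w b)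
    (H' : EHyp n q (gact n g x) (gact n g w) b) :
    g * eich hF n x w b H * g⁻¹ = eich hF n (gact n g x) (gact n g w) b H' := by
  apply ext_gact
  intro v
  rw [gact_mul, gact_mul, gact_eich, gact_eich, gact_add, gact_add, gact_smul, gact_smul,
    gact_gact_inv, herm_gact_inv_left, herm_gact_inv_left]

include hF in
theorem EHyp_conj (g : ↥(Cfsg.GU n F q)) {x w : Fin n → F} {b : F} (H : EHyp n q x w b) :
    EHyp n q (gact n g x) (gact n g w) b where
  hx := by rw [herm_gact]; exact H.hx
  hwx := by rw [herm_gact]; exact H.hwx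
  hb := by rw [herm_gact]; exact H.hb

theorem eich_shift {x w : Fin n → F} {b μ : F} (H : EHyp n q x (w + μ • x) b)
    (H' : EHyp n q x w (b + μ - μ ^ q)) :
    eich hF n x (w + μ • x) b H = eich hF n x w (b + μ - μ ^ q) H' := by
  apply ext_gact
  intro v
  rw [gact_eich, gact_eich, hermForm_add_right hF, hermForm_smul_right]
  module

include hF in
theorem EHyp_shift {x w : Fin n → F} {b μ : F} (H : EHyp n q x (w + μ • x) b)
    (hwx : hermForm n F q w x = 0) : EHyp n q x w (b + μ - μ ^ q) where
  hx := H.hx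
  hwx := hwx
  hb := by
    have h1 := H.hb
    have hxw : hermForm n F q x w = 0 := herm_symm_zero hF n hwx
    rw [hermForm_add_left, hermForm_add_right hF, hermForm_add_right hF, hermForm_smul_left,
      hermForm_smul_left, hermForm_smul_right, hermForm_smul_right, H.hx, hwx, hxw] at h1
    rw [pow_q_sub hF, pow_q_add hF, pow_q_pow_q hF]
    linear_combination h1

theorem eich_scale {x w : Fin n → F} {b l : F} (H : EHyp n q (l • x) w b)
    (H' : EHyp n q x (l ^ q • w) (l * l ^ q * b)) :
    eich hF n (l • x) w b H = eich hF n x (l ^ q • w) (l * l ^ q * b) H' := by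
  apply ext_gact
  intro v
  rw [gact_eich, gact_eich, hermForm_smul_right, hermForm_smul_right, pow_q_pow_q hF]
  module

include hF in
theorem EHyp_scale {x w : Fin n → F} {b l : F} (H : EHyp n q (l • x) w b) (hl : l ≠ 0) :
    EHyp n q x (l ^ q • w) (l * l ^ q * b) where
  hx := by
    have h1 := H.hx
    rw [hermForm_smul_left, hermForm_smul_right] at h1
    have hq : l ^ q ≠ 0 := pow_ne_zero q hl
    rcases mul_eq_zero.1 h1 with h | h
    · exact absurd h hl
    · rcases mul_eq_zero.1 h with h | h
      · exact absurd h hq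
      · exact h
  hwx := by
    have h1 := H.hwx
    rw [hermForm_smul_right] at h1
    have hq : l ^ q ≠ 0 := pow_ne_zero q hl
    rw [hermForm_smul_left]
    rcases mul_eq_zero.1 h1 with h | h
    · exact absurd h hq
    · rw [h, mul_zero]
  hb := by
    have h1 := H.hb
    rw [hermForm_smul_left, hermForm_smul_right, pow_q_pow_q hF, mul_pow, mul_pow,
      pow_q_pow_q hF]
    linear_combination (l * l ^ q) * h1

end Alg

section Mem

variable {F : Type u} [Field F] [Fintype F] {q : ℕ} (hF : Fintype.card F = q ^ 2) {n : ℕ}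
  (H : Subgroup (GL (Fin n) F))

/-- the elements of the unitary group lying in `H` -/
abbrev HU : Subgroup ↥(Cfsg.GU n F q) := H.subgroupOf (Cfsg.GU n F q)

/-- the unipotent element with parameters `x`, `w`, `b` exists and lies in `H` -/
def EIn (x w : Fin n → F) (b : F) : Prop :=
  ∃ hE : EHyp n q x w b, eich hF n x w b hE ∈ HU (q := q) H

variable {H}

theorem EIn.hyp {x w : Fin n → F} {b : F} (h : EIn hF H x w b) : EHyp n q x w b := h.1

theorem EIn.congr {x x' w w' : Fin n → F} {b b' : F} (h : EIn hF H x w b) (hx : x = x')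
    (hw : w = w') (hb : b = b') : EIn hF H x' w' b' := by
  subst hx hw hb
  exact h

theorem EIn.mul {x w w' : Fin n → F} {b b' : F} (h : EIn hF H x w b) (h' : EIn hF H x w' b') :
    EIn hF H x (w + w') (b + b' - hermForm n F q w' w) := by
  obtain ⟨hE, hm⟩ := h
  obtain ⟨hE', hm'⟩ := h'
  refine ⟨EHyp_mul hF n hE hE', ?_⟩
  rw [← eich_mul hF n hE hE']
  exact (HU H).mul_mem hm hm'

theorem EIn.inv {x w : Fin n → F} {b : F} (h : EIn hF H x w b) : EIn hF H x (-w) (b ^ q) := by
  obtain ⟨hE, hm⟩ := h
  refine ⟨hE.inv hF n, ?_⟩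
  rw [← eich_inv hF n hE]
  exact (HU H).inv_mem hm

theorem EIn.conj {x w : Fin n → F} {b : F} (h : EIn hF H x w b) {g : ↥(Cfsg.GU n F q)}
    (hg : g ∈ HU (q := q) H) : EIn hF H (gact n g x) (gact n g w) b := by
  obtain ⟨hE, hm⟩ := h
  refine ⟨EHyp_conj hF n g hE, ?_⟩
  rw [← conj_eich hF n g hE]
  exact (HU H).mul_mem ((HU H).mul_mem hg hm) ((HU H).inv_mem hg)

theorem EIn.shift {x w : Fin n → F} {b μ : F} (h : EIn hF H x (w + μ • x) b)
    (hwx : hermForm n F q w x = 0) : EIn hF H x w (b + μ - μ ^ q) := by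
  obtain ⟨hE, hm⟩ := h
  refine ⟨EHyp_shift hF n hE hwx, ?_⟩
  rw [← eich_shift hF n hE]
  exact hm

theorem EIn.scale {x w : Fin n → F} {b l : F} (h : EIn hF H (l • x) w b) (hl : l ≠ 0) :
    EIn hF H x (l ^ q • w) (l * l ^ q * b) := by
  obtain ⟨hE, hm⟩ := h
  refine ⟨EHyp_scale hF n hE hl, ?_⟩
  rw [← eich_scale hF n hE]
  exact hm

/-- the transvection part: if `E(x,w,b)` and `E(x,w,b')` lie in `H` then so does the transvection
with centre `x` and parameter `b' - b` -/
theorem EIn.tv_mem {x w : Fin n → F} {b b' : F} (h : EIn hF H x w b) (h' : EIn hF H x w b')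
    (hc : QCond n q x (b' - b)) : qtv hF n x (b' - b) hc ∈ HU (q := q) H := by
  have h1 := (h.inv hF).mul hF h'
  obtain ⟨hE, hm⟩ := h1
  have hE0 : EHyp n q x 0 (b' - b) := by
    refine ⟨hE.hx, by rw [hermForm_zero_left], ?_⟩
    have := hc
    unfold QCond at this
    rw [h.hyp.hx, mul_zero, add_zero] at this
    rw [hermForm_zero_left, add_zero]
    exact this
  have h2 : eich hF n x (-w + w) (b ^ q + b' - hermForm n F q w (-w)) hE =
      eich hF n x 0 (b' - b) hE0 := by
    apply eich_congr hF n rfl (neg_add_cancel w)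
    rw [hermForm_neg_right hF]
    have := h.hyp.hb
    linear_combination this
  rw [← eich_zero hF n hE0 hc, ← h2]
  exact hm

/-- changing the last parameter by a transvection in `H` -/
theorem EIn.of_tv {x w : Fin n → F} {b b' : F} (h : EIn hF H x w b) (hE' : EHyp n q x w b')
    (hc : QCond n q x (b' - b)) (ht : qtv hF n x (b' - b) hc ∈ HU (q := q) H) :
    EIn hF H x w b' := by
  obtain ⟨hE, hm⟩ := h
  refine ⟨hE', ?_⟩
  have hE0 : EHyp n q x 0 (b' - b) := by
    refine ⟨hE.hx, by rw [hermForm_zero_left], ?_⟩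
    have := hc
    unfold QCond at this
    rw [hE.hx, mul_zero, add_zero] at this
    rw [hermForm_zero_left, add_zero]
    exact this
  have h1 := eich_mul hF n hE hE0 (EHyp_mul hF n hE hE0)
  have h2 : eich hF n x (w + 0) (b + (b' - b) - hermForm n F q 0 w) (EHyp_mul hF n hE hE0) =
      eich hF n x w b' hE' := by
    apply eich_congr hF n rfl (add_zero w)
    rw [hermForm_zero_left]
    ring
  rw [← h2, ← h1, eich_zero hF n hE0 hc]
  exact (HU H).mul_mem hm ht

theorem EIn.of_centre {x w : Fin n → F} {b b' : F} (h : EIn hF H x w b)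
    (hE' : EHyp n q x w b') (hx : IsCentre hF n H x) : EIn hF H x w b' := by
  have hc : QCond n q x (b' - b) := by
    unfold QCond
    rw [hx.1, mul_zero, add_zero, pow_q_sub hF]
    linear_combination hE'.hb - h.hyp.hb
  exact h.of_tv hF hE' hc (hx.2 _ hc)

end Mem

end Cfsg.Agent.Lib.Helper6.Osf
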