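import Mathlib
import Cfsg.Agent.Lib.Helper6.OsfC

set_option autoImplicit false
set_option maxHeartbeats 1000000
set_option linter.unusedVariables false
set_option linter.unusedSectionVars false
set_option linter.style.longLine false
set_option linter.unusedSimpArgs false
set_option linter.deprecated false

/-! Orthogonal subfield subgroups of `SU_n(q)` (part D): an overgroup of the subfield subgroup
which contains no transvection with a rational singular centre stabilises the rational structure
as soon as it moves one rational singular point to a rational singular point. -/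

namespace Cfsg.Agent.Lib.Helper6.Osf

open Matrix Cfsg Cfsg.Agent.Lib.Helper5.Herm Cfsg.Agent.Lib.Helper5.HermBridge
  Cfsg.Agent.Lib.Helper5.HermTv Cfsg.Agent.Lib.Helper5.HermEich
  Cfsg.Agent.Lib.Helper5.SUCentres Cfsg.Agent.Lib.Helper2.Ssf Cfsg.Agent.Lib.Helper2.Usf

universe u

section Main

variable {F : Type u} [Field F] [Fintype F] {q : ℕ} (hF : Fintype.card F = q ^ 2) {n : ℕ}
  {F₀ : Subfield F} (hcard : Fintype.card F = Nat.card F₀ ^ 2) {P : GL (Fin n) F}
  (S : OStr q F₀ P) {H : Subgroup (GL (Fin n) F)}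
  (hMH : Cfsg.Geo.subfieldSubgroup F₀ P ⊓
    (Cfsg.GU n F q ⊓ Cfsg.Geo.specialLinear (Fin n) F) ≤ H)

include hF in
theorem qcond_sub {x w : Fin n → F} {b b' : F} (hE : EHyp n q x w b) (hE' : EHyp n q x w b') :
    QCond n q x (b' - b) := by
  unfold QCond
  rw [hE.hx, mul_zero, add_zero, pow_q_sub hF]
  linear_combination hE'.hb - hE.hb

include hMH in
/-- unitary matrices of determinant one preserving the rational vectors lie in `H` -/
theorem mem_HU_of_rat (g : ↥(Cfsg.GU n F q))
    (hdet : ((g : GL (Fin n) F) : Matrix (Fin n) (Fin n) F).det = 1)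
    (hrat : ∀ v, V0 F₀ P v → V0 F₀ P (gact n g v)) : g ∈ HU (q := q) H := by
  apply Subgroup.mem_subgroupOf.2
  apply hMH
  refine Subgroup.mem_inf.2 ⟨?_, (mem_SU_iff _).2 ⟨g.2, hdet⟩⟩
  rw [mem_sfS_iff]
  exact ⟨1, one_ne_zero, fun v hv => by rw [one_smul]; exact hrat v hv⟩

include hcard S hMH in
/-- the rational unipotent elements lie in `H` -/
theorem EIn_rat {x w : Fin n → F} (hx : V0 F₀ P x) (hxx : hermForm n F q x x = 0)
    (hw : V0 F₀ P w) (hwx : hermForm n F q w x = 0) :
    EIn hF H x w (-hermForm n F q w w / 2) := by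
  have h2 := two_ne hF hcard S
  obtain ⟨b, hb⟩ : ∃ b : F, b = -hermForm n F q w w / 2 := ⟨_, rfl⟩
  rw [← hb]
  have hbm : b ∈ F₀ := by
    rw [hb, div_eq_mul_inv]
    exact F₀.mul_mem (F₀.neg_mem (S.val _ _ hw hw)) (F₀.inv_mem (by
      have : (2 : F) = 1 + 1 := by norm_num
      rw [this]; exact F₀.add_mem F₀.one_mem F₀.one_mem))
  have hbq : b ^ q = b := pow_q_of_mem hF F₀ hcard hbm
  have hE : EHyp n q x w b := by
    refine ⟨hxx, hwx, ?_⟩
    rw [hbq, hb]
    field_simp
    ring
  refine ⟨hE, ?_⟩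
  apply mem_HU_of_rat hMH _ (det_eich hF n x w b hE)
  intro v hv
  rw [gact_eich]
  exact (hv.add (hw.smul (S.val _ _ hv hx))).add
    (hx.smul (F₀.sub_mem (F₀.mul_mem hbm (S.val _ _ hv hx)) (S.val _ _ hv hw)))

/-- `H` contains no non-trivial transvection with a rational singular centre -/
def NT (hF : Fintype.card F = q ^ 2) (F₀ : Subfield F) (P : GL (Fin n) F)
    (H : Subgroup (GL (Fin n) F)) : Prop :=
  ∀ u, V0 F₀ P u → u ≠ 0 → hermForm n F q u u = 0 → ∀ (d : F) (hd : QCond n q u d),
    qtv hF n u d hd ∈ HU (q := q) H → d = 0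

include hcard S hMH in
/-- under `NT`, a unipotent element of `H` with rational singular centre and rational last
parameter has a rational middle parameter -/
theorem rat_of_EIn (hNT : NT hF F₀ P H) {u w : Fin n → F} {b : F} (hu : V0 F₀ P u)
    (hu0 : u ≠ 0) (h : EIn hF H u w b) (hb : b ^ q = b) : V0 F₀ P w := by
  obtain ⟨θ, hθ0, hθq, hθm⟩ := exists_theta hF hcard S
  have h2 := two_ne hF hcard S
  have hE := h.hyp
  have huu := hE.hx
  obtain ⟨r1, r2, hr1, hr2, hw⟩ := exists_vec_decomp hF hcard (P := P) hθm w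
  have hwu := hE.hwx
  rw [hw, hermForm_add_left, hermForm_smul_left] at hwu
  obtain ⟨hr1u, hr2u⟩ := split_zero hF hcard hθm (S.val _ _ hr1 hu) (S.val _ _ hr2 hu) hwu
  -- `r2` is orthogonal to every rational vector orthogonal to `u`
  have hclaim : ∀ w3, V0 F₀ P w3 → hermForm n F q w3 u = 0 → hermForm n F q r2 w3 = 0 := by
    intro w3 hw3 hw3u
    have h3 := EIn_rat hF hcard S hMH hu huu hw3 hw3u
    have h4 := h.mul hF h3
    have h5 := (h3.mul hF h).congr hF rfl (add_comm w3 w) rfl
    have hc := qcond_sub hF h4.hyp h5.hyp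
    have h6 := hNT u hu hu0 huu _ hc (h4.tv_mem hF h5 hc)
    have e1 : hermForm n F q w3 w = hermForm n F q r1 w3 - θ * hermForm n F q r2 w3 := by
      rw [hw, hermForm_add_right hF, hermForm_smul_right, hθq, S.sym hF hcard hr1 hw3,
        S.sym hF hcard hr2 hw3]
      ring
    have e2 : hermForm n F q w w3 = hermForm n F q r1 w3 + θ * hermForm n F q r2 w3 := by
      rw [hw, hermForm_add_left, hermForm_smul_left]
    rw [e1, e2] at h6
    have h7 : (2 * θ) * hermForm n F q r2 w3 = 0 := by linear_combination -h6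
    rcases mul_eq_zero.1 h7 with h | h
    · exact absurd h (mul_ne_zero h2 hθ0)
    · exact h
  -- hence `r2` is a rational multiple of `u`
  obtain ⟨u', hu', hu'u', huu', hu'u⟩ := exists_rat_partner hF hcard S hu hu0 huu
  obtain ⟨s, hs⟩ : ∃ s : F, s = hermForm n F q r2 u' := ⟨_, rfl⟩
  have hsm : s ∈ F₀ := by rw [hs]; exact S.val _ _ hr2 hu'
  have hsq : s ^ q = s := pow_q_of_mem hF F₀ hcard hsm
  have hr2s : r2 = s • u := by
    by_contra hne
    have hne' : r2 - s • u ≠ 0 := sub_ne_zero.2 hne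
    obtain ⟨j, hj⟩ := exists_col_ne hF P hne'
    apply hj
    obtain ⟨z, hz⟩ : ∃ z, z = Helper2.Usf.col P j := ⟨_, rfl⟩
    rw [← hz]
    have hzr : V0 F₀ P z := by rw [hz]; exact V0_col j
    have hzum : hermForm n F q z u ∈ F₀ := S.val _ _ hzr hu
    have hzuq := pow_q_of_mem hF F₀ hcard hzum
    have h3 := hclaim (z - hermForm n F q z u • u') (hzr.sub (hu'.smul hzum)) (by
      rw [herm_sub_left hF, hermForm_smul_left, hu'u]; ring)
    rw [herm_sub_right hF, hermForm_smul_right, hzuq, ← hs] at h3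
    rw [herm_sub_left hF, hermForm_smul_left, S.sym hF hcard hzr hu]
    linear_combination h3
  -- now `w = r1 + (θ s) u`
  have hw' : w = r1 + (θ * s) • u := by rw [hw, hr2s, smul_smul]
  have h3 := (h.congr hF rfl hw' rfl).shift hF hr1u
  have h4 := EIn_rat hF hcard S hMH hu huu hr1 hr1u
  have hc := qcond_sub hF h4.hyp h3.hyp
  have h5 := hNT u hu hu0 huu _ hc (h4.tv_mem hF h3 hc)
  have h6 := hE.hb
  have hww : hermForm n F q w w = hermForm n F q r1 r1 := by
    have hur1 : hermForm n F q u r1 = 0 := herm_symm_zero hF n hr1u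
    rw [hw', hermForm_add_left, hermForm_add_right hF, hermForm_add_right hF,
      hermForm_smul_left, hermForm_smul_left, hermForm_smul_right, hermForm_smul_right, huu,
      hr1u, hur1]
    ring
  rw [hb, hww] at h6
  rw [mul_pow, hθq, hsq] at h5
  have h7 : (4 * θ) * s = 0 := by
    have : b + θ * s - -θ * s - -hermForm n F q r1 r1 / 2 = 2 * θ * s + (b + b + hermForm n F q r1 r1) / 2 := by
      field_simp
      ring
    rw [this, h6] at h5
    linear_combination 2 * h5
  have h4ne : (4 * θ : F) ≠ 0 := by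
    have : (4 : F) = 2 * 2 := by norm_num
    rw [this]
    exact mul_ne_zero (mul_ne_zero h2 h2) hθ0
  have hs0 : s = 0 := by
    rcases mul_eq_zero.1 h7 with h | h
    · exact absurd h h4ne
    · exact h
  rw [hw', hs0, mul_zero, zero_smul, add_zero]
  exact hr1

end Main

end Cfsg.Agent.Lib.Helper6.Osf
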