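import Mathlib
import Cfsg.Agent.Lib.Helper6.OsfD

set_option autoImplicit false
set_option maxHeartbeats 1000000
set_option linter.unusedVariables false
set_option linter.unusedSectionVars false
set_option linter.style.longLine false
set_option linter.unusedSimpArgs false
set_option linter.deprecated false

/-! Orthogonal subfield subgroups of `SU_n(q)` (part E): a proper overgroup of the subfield
subgroup contains a non-trivial transvection with a rational singular centre. -/

namespace Cfsg.Agent.Lib.Helper6.Osf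

open Matrix Cfsg Cfsg.Agent.Lib.Helper5.Herm Cfsg.Agent.Lib.Helper5.HermBridge
  Cfsg.Agent.Lib.Helper5.HermTv Cfsg.Agent.Lib.Helper5.HermEich
  Cfsg.Agent.Lib.Helper5.SUCentres Cfsg.Agent.Lib.Helper2.Ssf Cfsg.Agent.Lib.Helper2.Usf

universe u

section Main

variable {F : Type u} [Field F] [Fintype F] {q : ℕ} (hF : Fintype.card F = q ^ 2) {n : ℕ}
  {F₀ : Subfield F} (hcard : Fintype.card F = Nat.card F₀ ^ 2) {P : GL (Fin n) F}
  (S : OStr q F₀ P) {H : Subgroup (GL (Fin n) F)}
  (hMH : Cfsg.Geo.subfieldSubgroup F₀ P ⊓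
    (Cfsg.GU n F q ⊓ Cfsg.Geo.specialLinear (Fin n) F) ≤ H)

omit [Fintype F] in
theorem gact_sub (g : ↥(Cfsg.GU n F q)) (x y : Fin n → F) :
    gact n g (x - y) = gact n g x - gact n g y := mulVec_sub _ x y

omit [Fintype F] in
theorem gact_ne_zero (g : ↥(Cfsg.GU n F q)) {x : Fin n → F} (hx : x ≠ 0) : gact n g x ≠ 0 := by
  intro h
  apply hx
  have := gact_inv_gact n g x
  rw [h] at this
  rw [← this]
  exact mulVec_zero _

include hF hcard S hMH

/-- Step A: vectors orthogonal to `a` -/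
theorem rat_image_perp (hNT : NT hF F₀ P H) {x : ↥(Cfsg.GU n F q)} (hx : x ∈ HU (q := q) H)
    {l : F} (hl : l ≠ 0) {a : Fin n → F} (ha : V0 F₀ P a) (ha0 : a ≠ 0)
    (haa : hermForm n F q a a = 0) (hla : V0 F₀ P (l • gact n x a)) {b : Fin n → F}
    (hb : V0 F₀ P b) (hba : hermForm n F q b a = 0) : V0 F₀ P (l • gact n x b) := by
  have h2 := two_ne hF hcard S
  obtain ⟨u, hu⟩ : ∃ u, u = l • gact n x a := ⟨_, rfl⟩
  rw [← hu] at hla
  have hu0 : u ≠ 0 := by
    rw [hu]
    exact smul_ne_zero hl (gact_ne_zero x ha0)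
  have hxa : gact n x a = l⁻¹ • u := by rw [hu, smul_smul, inv_mul_cancel₀ hl, one_smul]
  have h1 := ((EIn_rat hF hcard S hMH ha haa hb hba).conj hF hx).congr hF hxa rfl rfl
  have hli : l⁻¹ ≠ 0 := inv_ne_zero hl
  have h3 := h1.scale hF hli
  have hbm : -hermForm n F q b b / 2 ∈ F₀ := by
    rw [div_eq_mul_inv]
    exact F₀.mul_mem (F₀.neg_mem (S.val _ _ hb hb)) (F₀.inv_mem (by
      have : (2 : F) = 1 + 1 := by norm_num
      rw [this]; exact F₀.add_mem F₀.one_mem F₀.one_mem))
  have hcm : l⁻¹ * l⁻¹ ^ q * (-hermForm n F q b b / 2) ∈ F₀ :=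
    F₀.mul_mem (norm_mem hF F₀ hcard l⁻¹) hbm
  have h4 := rat_of_EIn hF hcard S hMH hNT hla hu0 h3 (pow_q_of_mem hF F₀ hcard hcm)
  have h5 : l • gact n x b = (l * l ^ q) • (l⁻¹ ^ q • gact n x b) := by
    rw [smul_smul]
    congr 1
    have hq : l ^ q ≠ 0 := pow_ne_zero q hl
    rw [inv_pow]
    field_simp
  rw [h5]
  exact h4.smul (norm_mem hF F₀ hcard l)

/-- Step B: all rational vectors -/
theorem rat_image_all (hn : 7 ≤ n) (hNT : NT hF F₀ P H) {x : ↥(Cfsg.GU n F q)}
    (hx : x ∈ HU (q := q) H) {l : F} (hl : l ≠ 0) {a : Fin n → F} (ha : V0 F₀ P a)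
    (ha0 : a ≠ 0) (haa : hermForm n F q a a = 0) (hla : V0 F₀ P (l • gact n x a))
    {v : Fin n → F} (hv : V0 F₀ P v) : V0 F₀ P (l • gact n x v) := by
  obtain ⟨a', ha', ha'a', haa', ha'a⟩ := exists_rat_partner hF hcard S ha ha0 haa
  obtain ⟨a1, a1', ha1, ha1', hz1, hz1', ha1a1, -, ha1a1', -⟩ :=
    exists_rat_hyp hF hcard S 2 ![a, a'] (by
      intro i
      fin_cases i
      · exact ha
      · exact ha') (by omega)
  have haa1 : hermForm n F q a a1 = 0 := hz1 0
  have ha'a1 : hermForm n F q a' a1 = 0 := hz1 1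
  have ha1a : hermForm n F q a1 a = 0 := herm_symm_zero hF n haa1
  have ha10 : a1 ≠ 0 := by
    intro h0
    rw [h0, hermForm_zero_left] at ha1a1'
    exact zero_ne_one ha1a1'
  have h1 := rat_image_perp hF hcard S hMH hNT hx hl ha ha0 haa hla ha1 ha1a
  have h2 := rat_image_perp hF hcard S hMH hNT hx hl ha1 ha10 ha1a1 h1 ha' ha'a1
  have hvam : hermForm n F q v a ∈ F₀ := S.val _ _ hv ha
  have h3 := rat_image_perp hF hcard S hMH hNT hx hl ha ha0 haa hla
    (hv.sub (ha'.smul hvam)) (by rw [herm_sub_left hF, hermForm_smul_left, ha'a]; ring)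
  have h4 : l • gact n x v = l • gact n x (v - hermForm n F q v a • a') +
      hermForm n F q v a • (l • gact n x a') := by
    rw [gact_sub, gact_smul, smul_sub, smul_comm (hermForm n F q v a) l]
    abel
  rw [h4]
  exact h3.add (h2.smul hvam)

/-- Part I: a subgroup `H` containing the subfield subgroup and an element outside the subfield
group contains a non-trivial transvection with rational singular centre -/
theorem not_NT (hn : 13 ≤ n)
    (hHS : H ≤ Cfsg.GU n F q ⊓ Cfsg.Geo.specialLinear (Fin n) F) {x0 : GL (Fin n) F}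
    (hx0H : x0 ∈ H) (hx0S : x0 ∉ Cfsg.Geo.subfieldSubgroup F₀ P) : ¬ NT hF F₀ P H := by
  intro hNT
  obtain ⟨θ, hθ0, hθq, hθm⟩ := exists_theta hF hcard S
  obtain ⟨x, hxe⟩ : ∃ x : ↥(Cfsg.GU n F q), (x : GL (Fin n) F) = x0 :=
    ⟨⟨x0, (Subgroup.mem_inf.1 (hHS hx0H)).1⟩, rfl⟩
  have hx : x ∈ HU (q := q) H := by
    apply Subgroup.mem_subgroupOf.2
    rw [hxe]; exact hx0H
  obtain ⟨u, hu, hu0, huu⟩ := exists_rat_sing hF hcard S (by omega)
  obtain ⟨v1, v2, hv1, hv2, hv⟩ := exists_vec_decomp hF hcard (P := P) hθm (gact n x u)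
  obtain ⟨a, a2, ha, ha2, hza, hza2, haa, ha2a2, haa2, ha2a⟩ :=
    exists_rat_hyp hF hcard S 2 ![v1, v2] (by
      intro i
      fin_cases i
      · exact hv1
      · exact hv2) (by omega)
  obtain ⟨b, b2, hb, hb2, hzb, hzb2, hbb, hb2b2, hbb2, hb2b⟩ :=
    exists_rat_hyp hF hcard S 4 ![v1, v2, a, a2] (by
      intro i
      fin_cases i
      · exact hv1
      · exact hv2
      · exact ha
      · exact ha2) (by omega)
  have hv1a : hermForm n F q v1 a = 0 := hza 0
  have hv2a : hermForm n F q v2 a = 0 := hza 1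
  have hv1b : hermForm n F q v1 b = 0 := hzb 0
  have hv2b : hermForm n F q v2 b = 0 := hzb 1
  have hab : hermForm n F q a b = 0 := hzb 2
  have hv1b2 : hermForm n F q v1 b2 = 0 := hzb2 0
  have hv2b2 : hermForm n F q v2 b2 = 0 := hzb2 1
  have hab2 : hermForm n F q a b2 = 0 := hzb2 2
  have hba : hermForm n F q b a = 0 := herm_symm_zero hF n hab
  have hb2a : hermForm n F q b2 a = 0 := herm_symm_zero hF n hab2
  have ha0 : a ≠ 0 := by
    intro h0
    rw [h0, hermForm_zero_left] at haa2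
    exact zero_ne_one haa2
  -- the vector `v = x u` is orthogonal to `a`, `b`, `b2`
  have hva : hermForm n F q (gact n x u) a = 0 := by
    rw [hv, hermForm_add_left, hermForm_smul_left, hv1a, hv2a]; ring
  have hvb : hermForm n F q (gact n x u) b = 0 := by
    rw [hv, hermForm_add_left, hermForm_smul_left, hv1b, hv2b]; ring
  have hvb2 : hermForm n F q (gact n x u) b2 = 0 := by
    rw [hv, hermForm_add_left, hermForm_smul_left, hv1b2, hv2b2]; ring
  -- the two rational unipotent elements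
  have hg1 := (EIn_rat hF hcard S hMH ha haa hb hba).congr hF rfl rfl
    (show -hermForm n F q b b / 2 = 0 by rw [hbb]; simp)
  have hg2 := (EIn_rat hF hcard S hMH ha haa hb2 hb2a).congr hF rfl rfl
    (show -hermForm n F q b2 b2 / 2 = 0 by rw [hb2b2]; simp)
  -- each of them stabilises the image of the rational structure under `x`
  have key : ∀ w0 : Fin n → F, hermForm n F q (gact n x u) w0 = 0 →
      ∀ (hE : EHyp n q a w0 0), eich hF n a w0 0 hE ∈ HU (q := q) H →
      ∀ w, V0 F₀ P (gact n x⁻¹ w) → V0 F₀ P (gact n x⁻¹ (gact n (eich hF n a w0 0 hE) w)) := by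
    intro w0 hvw0 hE hm w hw
    have hy : x⁻¹ * eich hF n a w0 0 hE * x ∈ HU (q := q) H :=
      (HU H).mul_mem ((HU H).mul_mem ((HU H).inv_mem hx) hm) hx
    have hyu : gact n (x⁻¹ * eich hF n a w0 0 hE * x) u = u := by
      rw [gact_mul, gact_mul, gact_eich, hva, hvw0]
      simp only [zero_smul, mul_zero, sub_zero, add_zero]
      exact gact_inv_gact n x u
    have h1 := rat_image_all hF hcard S hMH (by omega) hNT hy one_ne_zero hu hu0 huu
      (by rw [one_smul, hyu]; exact hu) hw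
    rw [one_smul, gact_mul, gact_mul, gact_gact_inv] at h1
    exact h1
  obtain ⟨hE1, hm1⟩ := hg1
  obtain ⟨hE2, hm2⟩ := hg2
  have key1 := key b hvb hE1 hm1
  have key2 := key b2 hvb2 hE2 hm2
  -- a vector of the image not orthogonal to `a`
  obtain ⟨j, hj⟩ := exists_col_ne hF P (gact_ne_zero x⁻¹ ha0)
  obtain ⟨w', hw'⟩ : ∃ w', w' = gact n x (Helper2.Usf.col P j) := ⟨_, rfl⟩
  have hw'r : V0 F₀ P (gact n x⁻¹ w') := by
    rw [hw', gact_inv_gact]; exact V0_col j
  have hw'a : hermForm n F q w' a ≠ 0 := by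
    rw [herm_gact_inv_left, ← hw'] at hj
    intro h0
    apply hj
    exact herm_symm_zero hF n h0
  -- first difference
  have hd1 : V0 F₀ P (gact n x⁻¹ (hermForm n F q w' a • b - hermForm n F q w' b • a)) := by
    have h1 := (key1 w' hw'r).sub hw'r
    rw [← gact_sub, gact_eich] at h1
    have e : w' + hermForm n F q w' a • b + (0 * hermForm n F q w' a - hermForm n F q w' b) • a
        - w' = hermForm n F q w' a • b - hermForm n F q w' b • a := by
      module
    rw [e] at h1
    exact h1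
  -- second difference
  have hd2 : V0 F₀ P (gact n x⁻¹ ((-hermForm n F q w' a) • a)) := by
    have h1 := (key2 _ hd1).sub hd1
    rw [← gact_sub, gact_eich] at h1
    have e1 : hermForm n F q (hermForm n F q w' a • b - hermForm n F q w' b • a) a = 0 := by
      rw [herm_sub_left hF, hermForm_smul_left, hermForm_smul_left, hba, haa]; ring
    have e2 : hermForm n F q (hermForm n F q w' a • b - hermForm n F q w' b • a) b2 =
        hermForm n F q w' a := by
      rw [herm_sub_left hF, hermForm_smul_left, hermForm_smul_left, hbb2, hab2]; ring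
    rw [e1, e2] at h1
    have e : hermForm n F q w' a • b - hermForm n F q w' b • a + (0 : F) • b2 +
        (0 * 0 - hermForm n F q w' a) • a - (hermForm n F q w' a • b - hermForm n F q w' b • a)
        = (-hermForm n F q w' a) • a := by
      module
    rw [e] at h1
    exact h1
  -- conclusion
  obtain ⟨μ, hμ⟩ : ∃ μ : F, μ = -hermForm n F q w' a := ⟨_, rfl⟩
  have hμ0 : μ ≠ 0 := by rw [hμ]; exact neg_ne_zero.2 hw'a
  rw [← hμ, gact_smul] at hd2
  have ha00 : μ • gact n x⁻¹ a ≠ 0 := smul_ne_zero hμ0 (gact_ne_zero x⁻¹ ha0)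
  have hs0 : hermForm n F q (μ • gact n x⁻¹ a) (μ • gact n x⁻¹ a) = 0 := by
    rw [hermForm_smul_left, hermForm_smul_right, herm_gact, haa]; ring
  have hfin : ∀ r, V0 F₀ P r → V0 F₀ P (μ⁻¹ • gact n x r) := by
    intro r hr
    apply rat_image_all hF hcard S hMH (by omega) hNT hx (inv_ne_zero hμ0) hd2 ha00 hs0 _ hr
    rw [gact_smul, gact_gact_inv, smul_smul, inv_mul_cancel₀ hμ0, one_smul]
    exact ha
  apply hx0S
  rw [mem_sfS_iff]
  refine ⟨μ⁻¹, inv_ne_zero hμ0, fun r hr => ?_⟩
  have := hfin r hr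
  rw [← hxe]
  exact this

end Main

end Cfsg.Agent.Lib.Helper6.Osf
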