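import Mathlib
import Cfsg.Agent.Lib.Helper6.OsfE

set_option autoImplicit false
set_option maxHeartbeats 1000000
set_option linter.unusedVariables false
set_option linter.unusedSectionVars false
set_option linter.style.longLine false
set_option linter.unusedSimpArgs false
set_option linter.deprecated false

/-! Orthogonal subfield subgroups of `SU_n(q)` (part F): the subfield subgroup is transitive on
the non-zero rational singular vectors; an overgroup containing one non-trivial transvection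
with rational singular centre contains all of them. -/

namespace Cfsg.Agent.Lib.Helper6.Osf

open Matrix Cfsg Cfsg.Agent.Lib.Helper5.Herm Cfsg.Agent.Lib.Helper5.HermBridge
  Cfsg.Agent.Lib.Helper5.HermTv Cfsg.Agent.Lib.Helper5.HermEich
  Cfsg.Agent.Lib.Helper5.SUCentres Cfsg.Agent.Lib.Helper2.Ssf Cfsg.Agent.Lib.Helper2.Usf

universe u

section TIn

variable {F : Type u} [Field F] [Fintype F] {q : ℕ} (hF : Fintype.card F = q ^ 2) {n : ℕ}
  (H : Subgroup (GL (Fin n) F))

/-- the transvection with centre `v` and parameter `c` exists and lies in `H` -/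
def TIn (v : Fin n → F) (c : F) : Prop :=
  ∃ hc : QCond n q v c, qtv hF n v c hc ∈ HU (q := q) H

variable {H}

theorem TIn.congr {v v' : Fin n → F} {c c' : F} (h : TIn hF H v c) (hv : v = v') (hc : c = c') :
    TIn hF H v' c' := by
  subst hv hc
  exact h

theorem TIn.add {v : Fin n → F} {c d : F} (hv : hermForm n F q v v = 0) (h : TIn hF H v c)
    (h' : TIn hF H v d) : TIn hF H v (c + d) := by
  obtain ⟨hc, hm⟩ := h
  obtain ⟨hd, hm'⟩ := h'
  have hcd : QCond n q v (c + d + c * d * hermForm n F q v v) := by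
    rw [hv, mul_zero, add_zero, qcond_iso n hv, pow_q_add hF, (qcond_iso n hv c).1 hc,
      (qcond_iso n hv d).1 hd]
    ring
  have h1 := qtv_mul hF n v c d hc hd hcd
  have hcd' : QCond n q v (c + d) := by
    have := hcd
    rwa [hv, mul_zero, add_zero] at this
  refine ⟨hcd', ?_⟩
  rw [qtv_congr hF n rfl (show c + d = c + d + c * d * hermForm n F q v v by
    rw [hv, mul_zero, add_zero]) hcd' hcd, ← h1]
  exact (HU H).mul_mem hm hm'

theorem TIn.zero {v : Fin n → F} (hv : hermForm n F q v v = 0) : TIn hF H v 0 := by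
  have hc : QCond n q v 0 := by
    rw [qcond_iso n hv, zero_pow (q_ne_zero hF), neg_zero]
  refine ⟨hc, ?_⟩
  have : qtv hF n v 0 hc = 1 := by
    apply ext_gact
    intro x
    rw [gact_qtv, gact_one, zero_mul, zero_smul, add_zero]
  rw [this]
  exact (HU H).one_mem

theorem TIn.neg {v : Fin n → F} {c : F} (hv : hermForm n F q v v = 0) (h : TIn hF H v c) :
    TIn hF H v (-c) := by
  obtain ⟨hc, hm⟩ := h
  have hc' : QCond n q v (-c) := by
    rw [qcond_iso n hv, pow_q_neg hF, (qcond_iso n hv c).1 hc]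
  refine ⟨hc', ?_⟩
  have : qtv hF n v (-c) hc' = (qtv hF n v c hc)⁻¹ := by
    apply eq_inv_of_mul_eq_one_left
    apply ext_gact
    intro x
    rw [gact_mul, gact_one, gact_qtv, gact_qtv, hermForm_add_left, hermForm_smul_left, hv]
    module
  rw [this]
  exact (HU H).inv_mem hm

theorem TIn.conj {v : Fin n → F} {c : F} (h : TIn hF H v c) {g : ↥(Cfsg.GU n F q)}
    (hg : g ∈ HU (q := q) H) : TIn hF H (gact n g v) c := by
  obtain ⟨hc, hm⟩ := h
  refine ⟨by unfold QCond at hc ⊢; rw [herm_gact]; exact hc, ?_⟩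
  rw [← conj_qtv hF n g v c hc]
  exact (HU H).mul_mem ((HU H).mul_mem hg hm) ((HU H).inv_mem hg)

theorem TIn.smul {v : Fin n → F} {a c : F} (h : TIn hF H (a • v) c)
    (hc' : QCond n q v (a ^ (q + 1) * c)) : TIn hF H v (a ^ (q + 1) * c) := by
  obtain ⟨hc, hm⟩ := h
  refine ⟨hc', ?_⟩
  rw [← qtv_smul hF n a v c hc hc']
  exact hm

end TIn

section Main

variable {F : Type u} [Field F] [Fintype F] {q : ℕ} (hF : Fintype.card F = q ^ 2) {n : ℕ}
  {F₀ : Subfield F} (hcard : Fintype.card F = Nat.card F₀ ^ 2) {P : GL (Fin n) F}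
  (S : OStr q F₀ P) {H : Subgroup (GL (Fin n) F)}
  (hMH : Cfsg.Geo.subfieldSubgroup F₀ P ⊓
    (Cfsg.GU n F q ⊓ Cfsg.Geo.specialLinear (Fin n) F) ≤ H)

include hF hcard S hMH

/-- moving a rational singular vector to a non-orthogonal one -/
theorem move_sing_step (hn : 7 ≤ n) {u u1 : Fin n → F} (hu : V0 F₀ P u) (hu1 : V0 F₀ P u1)
    (huu : hermForm n F q u u = 0) (hu1u1 : hermForm n F q u1 u1 = 0)
    (hne : hermForm n F q u u1 ≠ 0) :
    ∃ g : ↥(Cfsg.GU n F q), g ∈ HU (q := q) H ∧ gact n g u = u1 := by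
  have h2 := two_ne hF hcard S
  obtain ⟨β, hβ⟩ : ∃ β : F, β = hermForm n F q u u1 := ⟨_, rfl⟩
  have hβ0 : β ≠ 0 := by rw [hβ]; exact hne
  have hβm : β ∈ F₀ := by rw [hβ]; exact S.val _ _ hu hu1
  have hu1u : hermForm n F q u1 u = β := by rw [S.sym hF hcard hu hu1, hβ]
  have huu1 : hermForm n F q u u1 = β := hβ.symm
  obtain ⟨bi, hbi⟩ : ∃ bi : F, bi = β⁻¹ := ⟨_, rfl⟩
  have hbim : bi ∈ F₀ := by rw [hbi]; exact F₀.inv_mem hβm
  have hbiq : bi ^ q = bi := pow_q_of_mem hF F₀ hcard hbim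
  have hbiβ : bi * β = 1 := by rw [hbi, inv_mul_cancel₀ hβ0]
  obtain ⟨a0, a0', ha0, ha0', hz, hz', ha0a0, ha0'a0', ha0a0', ha0'a0⟩ :=
    exists_rat_hyp hF hcard S 2 ![u, u1] (by
      intro i
      fin_cases i
      · exact hu
      · exact hu1) (by omega)
  have hua0 : hermForm n F q u a0 = 0 := hz 0
  have hu1a0 : hermForm n F q u1 a0 = 0 := hz 1
  have hua0' : hermForm n F q u a0' = 0 := hz' 0
  have hu1a0' : hermForm n F q u1 a0' = 0 := hz' 1
  have ha0u : hermForm n F q a0 u = 0 := herm_symm_zero hF n hua0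
  have ha0u1 : hermForm n F q a0 u1 = 0 := herm_symm_zero hF n hu1a0
  have ha0'u : hermForm n F q a0' u = 0 := herm_symm_zero hF n hua0'
  have ha0'u1 : hermForm n F q a0' u1 = 0 := herm_symm_zero hF n hu1a0'
  obtain ⟨a, hadef⟩ : ∃ a, a = bi • (u + u1) + a0 - bi • a0' := ⟨_, rfl⟩
  have har : V0 F₀ P a := by
    rw [hadef]
    exact (((hu.add hu1).smul hbim).add ha0).sub (ha0'.smul hbim)
  have haa : hermForm n F q a a = 0 := by
    rw [hadef]
    simp only [herm_sub_left hF, herm_sub_right hF, hermForm_add_left, hermForm_add_right hF,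
      hermForm_smul_left, hermForm_smul_right, huu, hu1u1, huu1, hu1u, hua0, hu1a0, hua0',
      hu1a0', ha0u, ha0u1, ha0'u, ha0'u1, ha0a0, ha0'a0', ha0a0', ha0'a0, hbiq]
    linear_combination (2 * bi) * hbiβ
  have hua : hermForm n F q u a = 1 := by
    rw [hadef]
    simp only [herm_sub_right hF, hermForm_add_right hF, hermForm_smul_right, huu, huu1, hua0,
      hua0', hbiq]
    linear_combination hbiβ
  have hu1a : hermForm n F q u1 a = 1 := by
    rw [hadef]
    simp only [herm_sub_right hF, hermForm_add_right hF, hermForm_smul_right, hu1u1, hu1u,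
      hu1a0, hu1a0', hbiq]
    linear_combination hbiβ
  have hwa : hermForm n F q (u1 - u) a = 0 := by
    rw [herm_sub_left hF, hua, hu1a, sub_self]
  have h1 := EIn_rat hF hcard S hMH har haa (hu1.sub hu) hwa
  obtain ⟨hE, hm⟩ := h1
  refine ⟨_, hm, ?_⟩
  rw [gact_eich, hua]
  have e1 : hermForm n F q (u1 - u) (u1 - u) = -(2 * β) := by
    rw [herm_sub_left hF, herm_sub_right hF, herm_sub_right hF, huu, hu1u1, huu1, hu1u]
    ring
  have e2 : hermForm n F q u (u1 - u) = β := by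
    rw [herm_sub_right hF, huu, huu1, sub_zero]
  rw [e1, e2]
  have e3 : - -(2 * β) / 2 * 1 - β = 0 := by
    field_simp
    ring
  rw [e3]
  module

/-- the subfield subgroup is transitive on non-zero rational singular vectors -/
theorem move_sing (hn : 7 ≤ n) {u u1 : Fin n → F} (hu : V0 F₀ P u) (hu1 : V0 F₀ P u1)
    (hu0 : u ≠ 0) (hu10 : u1 ≠ 0)
    (huu : hermForm n F q u u = 0) (hu1u1 : hermForm n F q u1 u1 = 0) :
    ∃ g : ↥(Cfsg.GU n F q), g ∈ HU (q := q) H ∧ gact n g u = u1 := by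
  have h2 := two_ne hF hcard S
  by_cases hne : hermForm n F q u u1 ≠ 0
  · exact move_sing_step hF hcard S hMH hn hu hu1 huu hu1u1 hne
  push Not at hne
  obtain ⟨z, hzr, hz1, hz2⟩ : ∃ z, V0 F₀ P z ∧ hermForm n F q u z ≠ 0 ∧
      hermForm n F q u1 z ≠ 0 := by
    obtain ⟨k₁, hk₁⟩ := exists_col_ne hF P hu0
    obtain ⟨k₂, hk₂⟩ := exists_col_ne hF P hu10
    by_cases h3 : hermForm n F q u1 (Helper2.Usf.col P k₁) = 0
    · by_cases h4 : hermForm n F q u (Helper2.Usf.col P k₂) = 0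
      · refine ⟨Helper2.Usf.col P k₁ + Helper2.Usf.col P k₂, (V0_col _).add (V0_col _), ?_, ?_⟩
        · rw [hermForm_add_right hF, h4, add_zero]; exact hk₁
        · rw [hermForm_add_right hF, h3, zero_add]; exact hk₂
      · exact ⟨Helper2.Usf.col P k₂, V0_col _, h4, hk₂⟩
    · exact ⟨Helper2.Usf.col P k₁, V0_col _, hk₁, h3⟩
  have hzu : hermForm n F q z u = hermForm n F q u z := S.sym hF hcard hu hzr
  have hzu1 : hermForm n F q z u1 = hermForm n F q u1 z := S.sym hF hcard hu1 hzr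
  obtain ⟨κ, hκ⟩ : ∃ κ : F, κ = hermForm n F q z z / (2 * hermForm n F q u z) := ⟨_, rfl⟩
  have hκm : κ ∈ F₀ := by
    rw [hκ, div_eq_mul_inv]
    refine F₀.mul_mem (S.val _ _ hzr hzr) (F₀.inv_mem (F₀.mul_mem ?_ (S.val _ _ hu hzr)))
    have : (2 : F) = 1 + 1 := by norm_num
    rw [this]; exact F₀.add_mem F₀.one_mem F₀.one_mem
  have hκq : κ ^ q = κ := pow_q_of_mem hF F₀ hcard hκm
  have hu2r : V0 F₀ P (z - κ • u) := hzr.sub (hu.smul hκm)
  have hu2u2 : hermForm n F q (z - κ • u) (z - κ • u) = 0 := by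
    simp only [herm_sub_left hF, herm_sub_right hF, hermForm_smul_left, hermForm_smul_right,
      huu, hzu, hκq]
    rw [hκ]
    field_simp
    ring
  have huu2 : hermForm n F q u (z - κ • u) ≠ 0 := by
    rw [herm_sub_right hF, hermForm_smul_right, huu, mul_zero, sub_zero]
    exact hz1
  have hu2u1 : hermForm n F q (z - κ • u) u1 ≠ 0 := by
    rw [herm_sub_left hF, hermForm_smul_left, hne, mul_zero, sub_zero, hzu1]
    exact hz2
  obtain ⟨g1, hg1, hg1u⟩ := move_sing_step hF hcard S hMH hn hu hu2r huu hu2u2 huu2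
  obtain ⟨g2, hg2, hg2u⟩ := move_sing_step hF hcard S hMH hn hu2r hu1 hu2u2 hu1u1 hu2u1
  refine ⟨g2 * g1, (HU H).mul_mem hg2 hg1, ?_⟩
  rw [gact_mul, hg1u, hg2u]

/-- Part II: if `H` contains one non-trivial transvection with rational singular centre, then
every rational singular vector is a centre -/
theorem isCentre_rat_sing (hn : 7 ≤ n) (hNT : ¬ NT hF F₀ P H) {u1 : Fin n → F}
    (hu1 : V0 F₀ P u1) (hu10 : u1 ≠ 0) (hu1u1 : hermForm n F q u1 u1 = 0) :
    IsCentre hF n H u1 := by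
  have h2 := two_ne hF hcard S
  unfold NT at hNT
  push Not at hNT
  obtain ⟨u0, hu0, hu00, hu0u0, d, hd, hdm, hd0⟩ := hNT
  have hdq : d ^ q = -d := (qcond_iso n hu0u0 d).1 hd
  -- step 1: the same parameter at every centre
  have step1 : ∀ u, V0 F₀ P u → u ≠ 0 → hermForm n F q u u = 0 → TIn hF H u d := by
    intro u hu hune huu
    obtain ⟨g, hg, hgu⟩ := move_sing hF hcard S hMH hn hu0 hu hu00 hune hu0u0 huu
    have h1 : TIn hF H u0 d := ⟨hd, hdm⟩
    exact (h1.conj hF hg).congr hF hgu rfl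
  -- step 2: squares
  have step2 : ∀ a : F, a ∈ F₀ → TIn hF H u1 (a * a * d) := by
    intro a ha
    by_cases ha0 : a = 0
    · rw [ha0, mul_zero, zero_mul]
      exact TIn.zero hF hu1u1
    · have h1 := step1 (a • u1) (hu1.smul ha) (smul_ne_zero ha0 hu10) (by
        rw [hermForm_smul_left, hermForm_smul_right, hu1u1]; ring)
      have haq : a ^ q = a := pow_q_of_mem hF F₀ hcard ha
      have e : a ^ (q + 1) * d = a * a * d := by rw [pow_succ, haq]
      have hc' : QCond n q u1 (a ^ (q + 1) * d) := by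
        rw [e, qcond_iso n hu1u1, mul_pow, mul_pow, haq, hdq]
        ring
      exact (h1.smul hF hc').congr hF rfl e
  -- step 3: all rational multiples
  have hhalf : (2 : F)⁻¹ ∈ F₀ := F₀.inv_mem (by
    have : (2 : F) = 1 + 1 := by norm_num
    rw [this]; exact F₀.add_mem F₀.one_mem F₀.one_mem)
  have step3 : ∀ c : F, c ∈ F₀ → TIn hF H u1 (c * d) := by
    intro c hc
    have h1 := step2 ((c + 1) * 2⁻¹) (F₀.mul_mem (F₀.add_mem hc F₀.one_mem) hhalf)
    have h3 := step2 ((c - 1) * 2⁻¹) (F₀.mul_mem (F₀.sub_mem hc F₀.one_mem) hhalf)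
    refine ((h1.add hF hu1u1 (h3.neg hF hu1u1))).congr hF rfl ?_
    field_simp
    ring
  refine ⟨hu1u1, fun c hc => ?_⟩
  have hcq : c ^ q = -c := (qcond_iso n hu1u1 c).1 hc
  have hcd : c / d ∈ F₀ := by
    apply mem_of_pow_q hF F₀ hcard
    rw [div_pow, hcq, hdq, neg_div_neg_eq]
  obtain ⟨hc', hm⟩ := (step3 (c / d) hcd).congr hF rfl (div_mul_cancel₀ c hd0)
  exact hm

end Main

end Cfsg.Agent.Lib.Helper6.Osf
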