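import Mathlib
import Cfsg.Agent.Lib.Helper6.OsfF

set_option autoImplicit false
set_option maxHeartbeats 1000000
set_option linter.unusedVariables false
set_option linter.unusedSectionVars false
set_option linter.style.longLine false
set_option linter.unusedSimpArgs false
set_option linter.deprecated false

/-! Orthogonal subfield subgroups of `SU_n(q)` (part G): an overgroup in which every rational
singular vector is a centre contains the whole unipotent radical of the stabiliser of a rational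
singular point, hence every isotropic vector is a centre; maximality of the orthogonal subfield
subgroup. -/

namespace Cfsg.Agent.Lib.Helper6.Osf

open Matrix Cfsg Cfsg.Agent.Lib.Helper5.Herm Cfsg.Agent.Lib.Helper5.HermBridge
  Cfsg.Agent.Lib.Helper5.HermTv Cfsg.Agent.Lib.Helper5.HermEich
  Cfsg.Agent.Lib.Helper5.SUCentres Cfsg.Agent.Lib.Helper2.Ssf Cfsg.Agent.Lib.Helper2.Usf

universe u

section Main

variable {F : Type u} [Field F] [Fintype F] {q : ℕ} (hF : Fintype.card F = q ^ 2) {n : ℕ}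
  {F₀ : Subfield F} (hcard : Fintype.card F = Nat.card F₀ ^ 2) {P : GL (Fin n) F}
  (S : OStr q F₀ P) {H : Subgroup (GL (Fin n) F)}
  (hMH : Cfsg.Geo.subfieldSubgroup F₀ P ⊓
    (Cfsg.GU n F q ⊓ Cfsg.Geo.specialLinear (Fin n) F) ≤ H)

include hF hcard S hMH

/-- Part III (i): non-rational multiples of a rational singular vector as middle parameter -/
theorem EIn_theta_sing
    (hcent : ∀ y, V0 F₀ P y → y ≠ 0 → hermForm n F q y y = 0 → IsCentre hF n H y)
    {θ : F} (hθq : θ ^ q = -θ) {u y1 w : Fin n → F} (hu : V0 F₀ P u)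
    (huu : hermForm n F q u u = 0) (hy1 : V0 F₀ P y1) (hy10 : y1 ≠ 0)
    (hy1y1 : hermForm n F q y1 y1 = 0) (hy1u : hermForm n F q y1 u = 0) (hw : V0 F₀ P w)
    (hwu : hermForm n F q w u = 0) (hwy1 : hermForm n F q w y1 = 1) {c : F} (hc : c ∈ F₀) :
    ∃ b, EIn hF H u ((c * θ) • y1) b := by
  have hcq : c ^ q = c := pow_q_of_mem hF F₀ hcard hc
  have hqc : QCond n q y1 (c * θ) := by
    rw [qcond_iso n hy1y1, mul_pow, hcq, hθq]; ring
  have ht : qtv hF n y1 (c * θ) hqc ∈ HU (q := q) H := (hcent y1 hy1 hy10 hy1y1).2 _ hqc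
  have huy1 : hermForm n F q u y1 = 0 := herm_symm_zero hF n hy1u
  have e1 : gact n (qtv hF n y1 (c * θ) hqc) u = u := by
    rw [gact_qtv, huy1, mul_zero, zero_smul, add_zero]
  have e2 : gact n (qtv hF n y1 (c * θ) hqc) w = w + (c * θ) • y1 := by
    rw [gact_qtv, hwy1, mul_one]
  have h1 := EIn_rat hF hcard S hMH hu huu hw hwu
  have h2 := (h1.conj hF ht).congr hF e1 e2 rfl
  have h3 := (h1.inv hF).mul hF h2
  exact ⟨_, h3.congr hF rfl (neg_add_cancel_left w _) rfl⟩

/-- Part III (ii): non-rational multiples of arbitrary rational vectors -/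
theorem EIn_theta_rat (hn : 7 ≤ n)
    (hcent : ∀ y, V0 F₀ P y → y ≠ 0 → hermForm n F q y y = 0 → IsCentre hF n H y)
    {θ : F} (hθq : θ ^ q = -θ) {u y : Fin n → F} (hu : V0 F₀ P u)
    (huu : hermForm n F q u u = 0) (hy : V0 F₀ P y) (hyu : hermForm n F q y u = 0) :
    ∃ b, EIn hF H u (θ • y) b := by
  have h2 := two_ne hF hcard S
  obtain ⟨a, a', ha, ha', hz, hz', haa, ha'a', haa', ha'a⟩ :=
    exists_rat_hyp hF hcard S 2 ![u, y] (by
      intro i
      fin_cases i
      · exact hu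
      · exact hy) (by omega)
  have hua : hermForm n F q u a = 0 := hz 0
  have hya : hermForm n F q y a = 0 := hz 1
  have hua' : hermForm n F q u a' = 0 := hz' 0
  have hya' : hermForm n F q y a' = 0 := hz' 1
  have hau : hermForm n F q a u = 0 := herm_symm_zero hF n hua
  have hay : hermForm n F q a y = 0 := herm_symm_zero hF n hya
  have ha'u : hermForm n F q a' u = 0 := herm_symm_zero hF n hua'
  have ha'y : hermForm n F q a' y = 0 := herm_symm_zero hF n hya'
  have ha0 : a ≠ 0 := by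
    intro h0
    rw [h0, hermForm_zero_left] at haa'
    exact zero_ne_one haa'
  have ha'0 : a' ≠ 0 := by
    intro h0
    rw [h0, hermForm_zero_left] at ha'a
    exact zero_ne_one ha'a
  obtain ⟨κ, hκ⟩ : ∃ κ : F, κ = hermForm n F q y y / 2 := ⟨_, rfl⟩
  have hκm : κ ∈ F₀ := by
    rw [hκ, div_eq_mul_inv]
    exact F₀.mul_mem (S.val _ _ hy hy) (F₀.inv_mem (by
      have : (2 : F) = 1 + 1 := by norm_num
      rw [this]; exact F₀.add_mem F₀.one_mem F₀.one_mem))
  have hκq : κ ^ q = κ := pow_q_of_mem hF F₀ hcard hκm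
  obtain ⟨s, hsdef⟩ : ∃ s, s = y + a - κ • a' := ⟨_, rfl⟩
  have hsr : V0 F₀ P s := by rw [hsdef]; exact (hy.add ha).sub (ha'.smul hκm)
  have hss : hermForm n F q s s = 0 := by
    rw [hsdef]
    simp only [herm_sub_left hF, herm_sub_right hF, hermForm_add_left, hermForm_add_right hF,
      hermForm_smul_left, hermForm_smul_right, hya, hya', hay, ha'y, haa, ha'a', haa', ha'a,
      hκq]
    rw [hκ]
    field_simp
    ring
  have hsu : hermForm n F q s u = 0 := by
    rw [hsdef, herm_sub_left hF, hermForm_add_left, hermForm_smul_left, hyu, hau, ha'u]; ring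
  have ha's : hermForm n F q a' s = 1 := by
    rw [hsdef, herm_sub_right hF, hermForm_add_right hF, hermForm_smul_right, ha'y, ha'a,
      ha'a']
    ring
  have hs0 : s ≠ 0 := by
    intro h0
    rw [h0, hermForm_zero_right hF] at ha's
    exact zero_ne_one ha's
  obtain ⟨b1, hb1⟩ := EIn_theta_sing hF hcard S hMH hcent hθq hu huu hsr hs0 hss hsu ha' ha'u
    ha's F₀.one_mem
  obtain ⟨b2, hb2⟩ := EIn_theta_sing hF hcard S hMH hcent hθq hu huu ha ha0 haa hau ha' ha'u
    ha'a (F₀.neg_mem F₀.one_mem)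
  obtain ⟨b3, hb3⟩ := EIn_theta_sing hF hcard S hMH hcent hθq hu huu ha' ha'0 ha'a' ha'u ha hau
    haa' hκm
  have h4 := (hb1.mul hF hb2).mul hF hb3
  refine ⟨_, h4.congr hF rfl ?_ rfl⟩
  rw [hsdef]
  module

/-- Part III: the whole unipotent radical -/
theorem EIn_all (hn : 7 ≤ n)
    (hcent : ∀ y, V0 F₀ P y → y ≠ 0 → hermForm n F q y y = 0 → IsCentre hF n H y)
    {u w : Fin n → F} {b : F} (hu : V0 F₀ P u) (hu0 : u ≠ 0) (hE : EHyp n q u w b) :
    EIn hF H u w b := by
  obtain ⟨θ, hθ0, hθq, hθm⟩ := exists_theta hF hcard S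
  have huu := hE.hx
  obtain ⟨w1, w2, hw1, hw2, hw⟩ := exists_vec_decomp hF hcard (P := P) hθm w
  have hwu := hE.hwx
  rw [hw, hermForm_add_left, hermForm_smul_left] at hwu
  obtain ⟨hw1u, hw2u⟩ := split_zero hF hcard hθm (S.val _ _ hw1 hu) (S.val _ _ hw2 hu) hwu
  have h1 := EIn_rat hF hcard S hMH hu huu hw1 hw1u
  obtain ⟨b2, hb2⟩ := EIn_theta_rat hF hcard S hMH hn hcent hθq hu huu hw2 hw2u
  have h3 := (h1.mul hF hb2).congr hF rfl hw.symm rfl
  exact h3.of_centre hF hE (hcent u hu hu0 huu)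

/-- Part IV: every isotropic vector is a centre -/
theorem isCentre_all (hn : 7 ≤ n)
    (hHS : H ≤ Cfsg.GU n F q ⊓ Cfsg.Geo.specialLinear (Fin n) F)
    (hcent : ∀ y, V0 F₀ P y → y ≠ 0 → hermForm n F q y y = 0 → IsCentre hF n H y)
    (v : Fin n → F) (hvv : hermForm n F q v v = 0) : IsCentre hF n H v := by
  by_cases hv0 : v = 0
  · obtain ⟨u, hu, hu0, huu⟩ := exists_rat_sing hF hcard S (by omega)
    have := isCentre_smul hF (0 : F) (hcent u hu hu0 huu)
    rwa [zero_smul, ← hv0] at this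
  obtain ⟨u, hu, huu, hvu⟩ := exists_rat_sing_ne hF hcard S (by omega) hv0
  have hu0 : u ≠ 0 := by
    intro h0
    apply hvu
    rw [h0, hermForm_zero_right hF]
  obtain ⟨u', hu', hu'u', huu', hu'u⟩ := exists_rat_partner hF hcard S hu hu0 huu
  have hu'0 : u' ≠ 0 := by
    intro h0
    rw [h0, hermForm_zero_left] at hu'u
    exact zero_ne_one hu'u
  obtain ⟨c, hc⟩ : ∃ c : F, c = hermForm n F q v u := ⟨_, rfl⟩
  have hc0 : c ≠ 0 := by rw [hc]; exact hvu
  obtain ⟨v', hv'⟩ : ∃ v', v' = c⁻¹ • v := ⟨_, rfl⟩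
  have hv'u : hermForm n F q v' u = 1 := by
    rw [hv', hermForm_smul_left, ← hc, inv_mul_cancel₀ hc0]
  have hv'v' : hermForm n F q v' v' = 0 := by
    rw [hv', hermForm_smul_left, hermForm_smul_right, hvv]; ring
  have hE : EHyp n q u (v' - u') (hermForm n F q u' (v' - u')) := by
    refine ⟨huu, ?_, ?_⟩
    · rw [herm_sub_left hF, hv'u, hu'u, sub_self]
    · rw [hermForm_conj hF]
      simp only [herm_sub_left hF, herm_sub_right hF, hv'v', hu'u']
      ring
  obtain ⟨hE', hm⟩ := EIn_all hF hcard S hMH hn hcent hu hu0 hE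
  have hgu' : gact n (eich hF n u (v' - u') _ hE') u' = v' := by
    rw [gact_eich, hu'u]
    module
  have h1 := isCentre_gact hF hHS _ (Subgroup.mem_subgroupOf.1 hm) (hcent u' hu' hu'0 hu'u')
  have h2 : ((eich hF n u (v' - u') _ hE' : ↥(Cfsg.GU n F q)) : GL (Fin n) F).1 *ᵥ u' = v' :=
    hgu'
  rw [h2] at h1
  have h3 := isCentre_smul hF c h1
  rwa [hv', smul_smul, mul_inv_cancel₀ hc0, one_smul] at h3

omit hMH in
/-- the orthogonal subfield subgroup is a proper subgroup of the special unitary group -/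
theorem M1_ne (hn : 7 ≤ n) :
    Cfsg.Geo.subfieldSubgroup F₀ P ⊓ (Cfsg.GU n F q ⊓ Cfsg.Geo.specialLinear (Fin n) F) ≠
      Cfsg.GU n F q ⊓ Cfsg.Geo.specialLinear (Fin n) F := by
  intro heq
  obtain ⟨θ, hθ0, hθq, hθm⟩ := exists_theta hF hcard S
  obtain ⟨u, hu, hu0, huu⟩ := exists_rat_sing hF hcard S (by omega)
  obtain ⟨u', hu', hu'u', huu', hu'u⟩ := exists_rat_partner hF hcard S hu hu0 huu
  have hqc : QCond n q u θ := (qcond_iso n huu θ).2 hθq
  obtain ⟨T, hT⟩ : ∃ T : GL (Fin n) F,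
      T = ((qtv hF n u θ hqc : ↥(Cfsg.GU n F q)) : GL (Fin n) F) := ⟨_, rfl⟩
  have hTv : ∀ x, T.1 *ᵥ x = x + (θ * hermForm n F q x u) • u := by
    intro x
    rw [hT]
    exact gact_qtv hF n u θ hqc x
  have hTS : T ∈ Cfsg.GU n F q ⊓ Cfsg.Geo.specialLinear (Fin n) F := by
    rw [mem_SU_iff]
    refine ⟨by rw [hT]; exact (qtv hF n u θ hqc).2, ?_⟩
    rw [hT, qtv_coe, Cfsg.Agent.Lib.Helper5.HermGen.det_tv, huu, mul_zero, add_zero]
  rw [← heq] at hTS
  obtain ⟨c₀, hc₀, hc₀v⟩ := (mem_sfS_iff F₀ P T).1 (Subgroup.mem_inf.1 hTS).1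
  have hTu : T.1 *ᵥ u = u := by rw [hTv, huu, mul_zero, zero_smul, add_zero]
  have hc₀r : c₀ ∈ F₀ := by
    have h1 := hc₀v u hu
    rw [hTu] at h1
    exact rat_scalar_mem hu hu0 h1
  have h3 : V0 F₀ P (T.1 *ᵥ u') := by
    have h1 := hc₀v u' hu'
    have h2 : T.1 *ᵥ u' = c₀⁻¹ • (c₀ • (T.1 *ᵥ u')) := by
      rw [smul_smul, inv_mul_cancel₀ hc₀, one_smul]
    rw [h2]
    exact h1.smul (F₀.inv_mem hc₀r)
  rw [hTv, hu'u, mul_one] at h3
  have h4 : V0 F₀ P (θ • u) := by
    have := h3.sub hu'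
    rwa [add_sub_cancel_left] at this
  exact hθm (rat_scalar_mem hu hu0 h4)

omit hMH in
/-- the orthogonal subfield subgroup of the special unitary group is maximal -/
theorem isMaximalIn_orth (hn : 13 ≤ n) :
    Cfsg.Geo.IsMaximalIn (Cfsg.GU n F q ⊓ Cfsg.Geo.specialLinear (Fin n) F)
      (Cfsg.Geo.subfieldSubgroup F₀ P ⊓
        (Cfsg.GU n F q ⊓ Cfsg.Geo.specialLinear (Fin n) F)) := by
  classical
  refine ⟨lt_of_le_of_ne inf_le_right (M1_ne hF hcard S (by omega)), ?_⟩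
  intro H hMH hHS
  by_cases hle : H ≤ Cfsg.Geo.subfieldSubgroup F₀ P
  · left
    exact le_antisymm (fun g hg => Subgroup.mem_inf.2 ⟨hle hg, hHS hg⟩) hMH
  · right
    apply le_antisymm hHS
    obtain ⟨g, hgH, hgn⟩ := SetLike.not_le_iff_exists.1 hle
    have hNT := not_NT hF hcard S hMH hn hHS hgH hgn
    have hcent : ∀ y, V0 F₀ P y → y ≠ 0 → hermForm n F q y y = 0 → IsCentre hF n H y :=
      fun y hy hy0 hyy => isCentre_rat_sing hF hcard S hMH (by omega) hNT hy hy0 hyy
    apply SU_le hF (by omega) (by omega)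
    intro v hv
    exact isCentre_all hF hcard S hMH (by omega) hHS hcent v hv

end Main

end Cfsg.Agent.Lib.Helper6.Osf
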