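import Mathlib

set_option autoImplicit false

/-!
Farm OUTCO1 (statement S2069, `Out(Co₁) = 1`), unit AUTN: automorphisms of a split extension
`N = E ⋊ M` preserving the abelian normal subgroup `E` are inner, under the three hypotheses
`hM` (automorphisms of `M` are inner), `hE` (rigidity of `E`), `hrig` (vanishing of `H¹`).
-/

namespace Cfsg.Agent.Lib.Helper6.OutCo1AUTN

variable {N : Type*} [Group N]

/-- decomposition `n = e * m` -/
theorem exists_dec (E M : Subgroup N) (hEn : E.Normal) (hsup : E ⊔ M = ⊤) (n : N) :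
    ∃ e ∈ E, ∃ m ∈ M, n = e * m := by
  have h : n ∈ E ⊔ M := by rw [hsup]; trivial
  have := hEn
  have h2 : n ∈ (↑(E ⊔ M) : Set N) := h
  rw [Subgroup.normal_mul] at h2
  obtain ⟨e, he, m, hm, rfl⟩ := Set.mem_mul.1 h2
  exact ⟨e, he, m, hm, rfl⟩

theorem dec_unique (E M : Subgroup N) (hdisj : E ⊓ M = ⊥) {e e' m m' : N} (he : e ∈ E)
    (he' : e' ∈ E) (hm : m ∈ M) (hm' : m' ∈ M) (h : e * m = e' * m') : e = e' ∧ m = m' := by
  have h1 : e'⁻¹ * e = m' * m⁻¹ := by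
    have : e = e' * m' * m⁻¹ := by rw [← h]; group
    rw [this]; group
  have h2 : e'⁻¹ * e ∈ E ⊓ M :=
    ⟨E.mul_mem (E.inv_mem he') he, by rw [h1]; exact M.mul_mem hm' (M.inv_mem hm)⟩
  rw [hdisj, Subgroup.mem_bot] at h2
  have h3 : e = e' := by
    have : e = e' * (e'⁻¹ * e) := by group
    rw [this, h2, mul_one]
  refine ⟨h3, ?_⟩
  subst h3
  exact mul_left_cancel h

/-- an automorphism mapping the finite subgroup `E` into itself maps it onto itself -/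
theorem mem_of_map_mem [Finite N] (E : Subgroup N) (ψ : N ≃* N) (hψ : ∀ e ∈ E, ψ e ∈ E) (x : N)
    (hx : ψ x ∈ E) : x ∈ E := by
  let f : ↥E → ↥E := fun e => ⟨ψ e.1, hψ e.1 e.2⟩
  have hf : Function.Injective f := by
    intro a b hab
    apply Subtype.ext
    exact ψ.injective (congrArg Subtype.val hab)
  obtain ⟨e', he'⟩ := (Finite.surjective_of_injective hf) ⟨ψ x, hx⟩
  have : ψ e'.1 = ψ x := congrArg Subtype.val he'
  rw [← ψ.injective this]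
  exact e'.2

/-- Step 1: the automorphism induced on `N / E ≅ M` is inner -/
theorem exists_inner_mod [Finite N] (E M : Subgroup N) (hEn : E.Normal)
    (hdisj : E ⊓ M = ⊥) (hsup : E ⊔ M = ⊤)
    (hM : ∀ α : ↥M ≃* ↥M, ∃ m : ↥M, ∀ x : ↥M, α x = m * x * m⁻¹)
    (ψ : N ≃* N) (hψ : ∀ e ∈ E, ψ e ∈ E) :
    ∃ m0 ∈ M, ∀ m ∈ M, ∃ e ∈ E, ψ m = e * (m0 * m * m0⁻¹) := by
  have hdec : ∀ m : ↥M, ∃ m' : ↥M, ∃ e ∈ E, ψ m.1 = e * m'.1 := by
    intro m
    obtain ⟨e, he, m', hm', h⟩ := exists_dec E M hEn hsup (ψ m.1)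
    exact ⟨⟨m', hm'⟩, e, he, h⟩
  choose f hf using hdec
  have hmul : ∀ a b : ↥M, f (a * b) = f a * f b := by
    intro a b
    obtain ⟨e1, he1, h1⟩ := hf a
    obtain ⟨e2, he2, h2⟩ := hf b
    obtain ⟨e3, he3, h3⟩ := hf (a * b)
    have h4 : ψ (a * b : ↥M).1 = (e1 * ((f a).1 * e2 * (f a).1⁻¹)) * ((f a).1 * (f b).1) := by
      rw [Subgroup.coe_mul, map_mul, h1, h2]
      group
    rw [h3] at h4
    have h5 := (dec_unique E M hdisj he3
      (E.mul_mem he1 (hEn.conj_mem e2 he2 (f a).1)) (f (a * b)).2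
      (M.mul_mem (f a).2 (f b).2) h4).2
    exact Subtype.ext h5
  let fh : ↥M →* ↥M := MonoidHom.mk' f hmul
  have hinj : Function.Injective fh := by
    rw [injective_iff_map_eq_one]
    intro a ha
    obtain ⟨e1, he1, h1⟩ := hf a
    have ha' : f a = 1 := ha
    rw [ha', Subgroup.coe_one, mul_one] at h1
    have h2 : a.1 ∈ E := mem_of_map_mem E ψ hψ a.1 (by rw [h1]; exact he1)
    have h3 : a.1 ∈ E ⊓ M := ⟨h2, a.2⟩
    rw [hdisj, Subgroup.mem_bot] at h3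
    exact Subtype.ext h3
  let α : ↥M ≃* ↥M := MulEquiv.ofBijective fh ⟨hinj, Finite.surjective_of_injective hinj⟩
  obtain ⟨m0, hm0⟩ := hM α
  refine ⟨m0.1, m0.2, ?_⟩
  intro m hm
  obtain ⟨e1, he1, h1⟩ := hf ⟨m, hm⟩
  refine ⟨e1, he1, ?_⟩
  have h2 : f ⟨m, hm⟩ = m0 * ⟨m, hm⟩ * m0⁻¹ := hm0 ⟨m, hm⟩
  rw [h1, h2]
  rfl

/-- explicit vanishing of `H¹` of a cyclic group of order prime to `|A|` -/
theorem exists_cobdry {A : Type*} [CommGroup A] [Finite A] (σ : A →* A) (e0 : A) (p : ℕ)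
    (hpA : Nat.Coprime p (Nat.card A)) (c : ℕ → A) (hc0 : c 0 = 1)
    (hc : ∀ k, c (k + 1) = e0 * σ (c k)) (hcp : c p = 1) : ∃ b : A, σ b = b * e0 := by
  classical
  set P : A := ∏ i ∈ Finset.range p, c i with hP
  have h2 : ∏ i ∈ Finset.range p, c (i + 1) = P := by
    have h3 := Finset.prod_range_succ' c p
    have h4 := Finset.prod_range_succ c p
    rw [h3, hc0, mul_one, hcp, mul_one] at h4
    exact h4
  have h5 : ∏ i ∈ Finset.range p, c (i + 1) = ∏ i ∈ Finset.range p, (e0 * σ (c i)) :=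
    Finset.prod_congr rfl (fun i _ => hc i)
  have h1 : e0 ^ p * σ P = P := by
    calc e0 ^ p * σ P = ∏ i ∈ Finset.range p, (e0 * σ (c i)) := by
          rw [Finset.prod_mul_distrib, Finset.prod_const, Finset.card_range, map_prod]
      _ = ∏ i ∈ Finset.range p, c (i + 1) := h5.symm
      _ = P := h2
  by_cases hA : Nat.card A = 1
  · have hsub : ∀ a b : A, a = b := by
      intro a b
      have : Subsingleton A := (Nat.card_eq_one_iff_unique.1 hA).1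
      exact Subsingleton.elim a b
    exact ⟨1, hsub _ _⟩
  · have hA1 : 1 < Nat.card A := by
      have : 0 < Nat.card A := Nat.card_pos
      omega
    obtain ⟨s, -, hs⟩ := Nat.exists_mul_mod_eq_one_of_coprime hpA hA1
    have h6 : e0 ^ (p * s) = e0 := by
      rw [← pow_mod_natCard, hs, pow_one]
    have h7 : e0 * σ (P ^ s) = P ^ s := by
      have h8 := congrArg (fun t => t ^ s) h1
      simp only [mul_pow, ← pow_mul, h6, ← map_pow] at h8
      exact h8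
    refine ⟨(P ^ s)⁻¹, ?_⟩
    rw [map_inv]
    have h9 : σ (P ^ s) = e0⁻¹ * P ^ s := eq_inv_mul_of_mul_eq h7
    rw [h9, mul_inv, inv_inv, mul_comm]

/-- Step 3: a complement generator `e0 * x0` of order `p` is `E`-conjugate to `x0` -/
theorem exists_conj [Finite N] (E : Subgroup N) (hEn : E.Normal)
    (hEab : ∀ a ∈ E, ∀ b ∈ E, a * b = b * a) (p : ℕ) (hp : p.Prime) (hpE : ¬ p ∣ Nat.card E)
    (x0 e0 : N) (he0 : e0 ∈ E) (hx0p : orderOf x0 = p) (hy : orderOf (e0 * x0) = p) :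
    ∃ b ∈ E, b * (e0 * x0) * b⁻¹ = x0 := by
  let _ : CommGroup ↥E :=
    { (inferInstance : Group ↥E) with
      mul_comm := fun a b => Subtype.ext (hEab a.1 a.2 b.1 b.2) }
  let σ : ↥E →* ↥E := MonoidHom.mk' (fun c => ⟨x0 * c.1 * x0⁻¹, hEn.conj_mem c.1 c.2 x0⟩)
    (by
      intro a b
      apply Subtype.ext
      show x0 * (a.1 * b.1) * x0⁻¹ = (x0 * a.1 * x0⁻¹) * (x0 * b.1 * x0⁻¹)
      group)
  let e0' : ↥E := ⟨e0, he0⟩
  let c : ℕ → ↥E := fun k => Nat.rec 1 (fun _ ck => e0' * σ ck) k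
  have hc0 : c 0 = 1 := rfl
  have hc : ∀ k, c (k + 1) = e0' * σ (c k) := fun k => rfl
  have hpow : ∀ k, (e0 * x0) ^ k = (c k).1 * x0 ^ k := by
    intro k
    induction k with
    | zero => simp [hc0]
    | succ k ih =>
      rw [pow_succ', ih, hc k]
      show e0 * x0 * ((c k).1 * x0 ^ k) = (e0 * (x0 * (c k).1 * x0⁻¹)) * x0 ^ (k + 1)
      rw [pow_succ']
      group
  have hcp : c p = 1 := by
    have hy1 : (e0 * x0) ^ p = 1 := by rw [← hy]; exact pow_orderOf_eq_one _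
    have hx1 : x0 ^ p = 1 := by rw [← hx0p]; exact pow_orderOf_eq_one _
    have h1 := hpow p
    rw [hy1, hx1, mul_one] at h1
    exact Subtype.ext h1.symm
  have hcop : Nat.Coprime p (Nat.card ↥E) := (Nat.Prime.coprime_iff_not_dvd hp).2 hpE
  obtain ⟨b, hb⟩ := exists_cobdry σ e0' p hcop c hc0 hc hcp
  refine ⟨b.1, b.2, ?_⟩
  have hb' : x0 * b.1 * x0⁻¹ = b.1 * e0 := congrArg Subtype.val hb
  have h2 : x0 * b.1⁻¹ * x0⁻¹ = (b.1 * e0)⁻¹ := by
    rw [← hb']; group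
  calc b.1 * (e0 * x0) * b.1⁻¹ = (b.1 * e0) * (x0 * b.1⁻¹ * x0⁻¹) * x0 := by group
    _ = x0 := by rw [h2]; group

/-- Unit AUTN: automorphisms of a split extension `N = E ⋊ M` that preserve `E` are inner, if
`M` is complete-like (`hM`), `E` is rigid (`hE`) and the first cohomology vanishes in the concrete
form `hrig` (an automorphism trivial on `E` and on `N/E` which fixes an element `x0` of prime order
`p ∤ |E|` is trivial). -/
theorem autn {N : Type*} [Group N] [Finite N] (E M : Subgroup N) (hEn : E.Normal)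
    (hdisj : E ⊓ M = ⊥) (hsup : E ⊔ M = ⊤)
    (hEab : ∀ a ∈ E, ∀ b ∈ E, a * b = b * a)
    (hM : ∀ α : ↥M ≃* ↥M, ∃ m : ↥M, ∀ x : ↥M, α x = m * x * m⁻¹)
    (hE : ∀ ψ : N ≃* N, (∀ e ∈ E, ψ e ∈ E) → (∀ m ∈ M, ∃ e ∈ E, ψ m = e * m) →
      ∀ e ∈ E, ψ e = e)
    (p : ℕ) (hp : p.Prime) (x0 : N) (hx0 : x0 ∈ M) (hx0p : orderOf x0 = p)
    (hpE : ¬ p ∣ Nat.card E)
    (hrig : ∀ ψ : N ≃* N, (∀ e ∈ E, ψ e = e) → (∀ m ∈ M, ∃ e ∈ E, ψ m = e * m) → ψ x0 = x0 →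
      ∀ x, ψ x = x) :
    ∀ ψ : N ≃* N, (∀ e ∈ E, ψ e ∈ E) → ∃ n : N, ∀ x, ψ x = n * x * n⁻¹ := by
  intro ψ hψ
  obtain ⟨m0, hm0, h0⟩ := exists_inner_mod E M hEn hdisj hsup hM ψ hψ
  -- Step 2
  let ψ1 : N ≃* N := ψ.trans (MulAut.conj m0⁻¹)
  have hψ1 : ∀ x, ψ1 x = m0⁻¹ * ψ x * m0 := by
    intro x
    show MulAut.conj m0⁻¹ (ψ x) = _
    rw [MulAut.conj_apply, inv_inv]
  have h1E : ∀ e ∈ E, ψ1 e ∈ E := by
    intro e he
    rw [hψ1]
    have := hEn.conj_mem (ψ e) (hψ e he) m0⁻¹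
    rwa [inv_inv] at this
  have h1M : ∀ m ∈ M, ∃ e ∈ E, ψ1 m = e * m := by
    intro m hm
    obtain ⟨e1, he1, h⟩ := h0 m hm
    refine ⟨m0⁻¹ * e1 * m0, ?_, ?_⟩
    · have := hEn.conj_mem e1 he1 m0⁻¹
      rwa [inv_inv] at this
    · rw [hψ1, h]; group
  have h1fix : ∀ e ∈ E, ψ1 e = e := hE ψ1 h1E h1M
  -- Step 3
  obtain ⟨e0, he0, hx⟩ := h1M x0 hx0
  have hy : orderOf (e0 * x0) = p := by
    rw [← hx, MulEquiv.orderOf_eq, hx0p]
  obtain ⟨b, hbE, hb⟩ := exists_conj E hEn hEab p hp hpE x0 e0 he0 hx0p hy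
  -- Step 4
  let ψ2 : N ≃* N := ψ1.trans (MulAut.conj b)
  have hψ2 : ∀ x, ψ2 x = b * ψ1 x * b⁻¹ := by
    intro x
    show MulAut.conj b (ψ1 x) = _
    rw [MulAut.conj_apply]
  have h2fix : ∀ e ∈ E, ψ2 e = e := by
    intro e he
    rw [hψ2, h1fix e he, hEab b hbE e he]; group
  have h2M : ∀ m ∈ M, ∃ e ∈ E, ψ2 m = e * m := by
    intro m hm
    obtain ⟨e1, he1, h⟩ := h1M m hm
    refine ⟨b * e1 * (m * b⁻¹ * m⁻¹), ?_, ?_⟩
    · exact E.mul_mem (E.mul_mem hbE he1) (hEn.conj_mem b⁻¹ (E.inv_mem hbE) m)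
    · rw [hψ2, h]; group
  have h2x : ψ2 x0 = x0 := by
    rw [hψ2, hx]; exact hb
  have hid := hrig ψ2 h2fix h2M h2x
  refine ⟨m0 * b⁻¹, ?_⟩
  intro x
  have h3 := hid x
  rw [hψ2, hψ1] at h3
  have h4 : ψ x = m0 * (b⁻¹ * (b * (m0⁻¹ * ψ x * m0) * b⁻¹) * b) * m0⁻¹ := by group
  rw [h4, h3]; group

end Cfsg.Agent.Lib.Helper6.OutCo1AUTN
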