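import Mathlib
import Cfsg.Prelude.Def_Blocks
import Cfsg.Agent.Lib.Helper6.BlkCover
import Cfsg.Agent.Lib.Helper6.CliffordDeg
import Cfsg.Agent.Lib.Helper6.BlkHeightZero
import Cfsg.Agent.Lib.Helper6.IndFunTI
import Cfsg.Agent.Lib.Helper6.BlkLocal
import Cfsg.Agent.Lib.Helper6.BlkSections
import Cfsg.Agent.S0146
import Cfsg.Agent.S0925

set_option autoImplicit false
set_option linter.unusedSectionVars false
open Cfsg

namespace Cfsg.Agent.Lib.Helper6

open scoped ComplexConjugate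

section cliffdeg

variable {G : Type*} [Group G] [Fintype G] (N : Subgroup G) [Fintype N] (hN : N.Normal)

include hN in
/-- Clifford: `χ(1) = e · t · θ(1)` where `e` is the multiplicity of `θ` in `χ_N` and `t` the number
of conjugates of `θ` -/
theorem charDegree_eq_mult_mul_orbit [Fintype (Cfsg.IrrCharacter N)] [DecidableEq (Cfsg.IrrCharacter N)]
    (χ : Cfsg.IrrCharacter G) (θ : Cfsg.IrrCharacter N) (e : ℕ)
    (he : Cfsg.classInner (fun n : N => (χ : G → ℂ) n) (θ : N → ℂ) = e) (he0 : e ≠ 0) :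
    Cfsg.charDegree (χ : G → ℂ)
      = e * ((Finset.univ.filter (fun ψ : Cfsg.IrrCharacter N => ∃ g : G, ψ = irrConj N hN g θ)).card
        * Cfsg.charDegree (θ : N → ℂ)) := by
  classical
  have hc : Cfsg.classInner (fun n : N => (χ : G → ℂ) n) (θ : N → ℂ) ≠ 0 := by
    rw [he]
    exact_mod_cast he0
  have h := restrict_apply_one_eq_sum N (IsIrrCharacter.isCharacter χ.2)
  have hχcf := IsIrrCharacter.isClassFunction χ.2
  have hterm : ∀ ψ : Cfsg.IrrCharacter N,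
      (ψ : N → ℂ) 1 * Cfsg.classInner (fun n : N => (χ : G → ℂ) n) (ψ : N → ℂ)
        = if (∃ g : G, ψ = irrConj N hN g θ) then (θ : N → ℂ) 1 * (e : ℂ) else 0 := by
    intro ψ
    by_cases hψ : ∃ g : G, ψ = irrConj N hN g θ
    · rw [if_pos hψ]
      obtain ⟨g, rfl⟩ := hψ
      rw [irrConj_coe, classInner_restrict_conjFun N hN hχcf, he, conjFun_apply_one]
    · rw [if_neg hψ]
      by_cases h0 : Cfsg.classInner (fun n : N => (χ : G → ℂ) n) (ψ : N → ℂ) = 0
      · rw [h0, mul_zero]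
      · exfalso
        apply hψ
        obtain ⟨g, hg⟩ := exists_conjFun_eq_of_constituents N hN χ.2 θ.2 ψ.2 hc h0
        exact ⟨g, Subtype.ext hg⟩
  rw [Finset.sum_congr rfl (fun ψ _ => hterm ψ), ← Finset.sum_filter, Finset.sum_const,
    IsCharacter.apply_one_eq_charDegree (IsIrrCharacter.isCharacter χ.2),
    IsCharacter.apply_one_eq_charDegree (IsIrrCharacter.isCharacter θ.2)] at h
  have h' : ((Cfsg.charDegree (χ : G → ℂ) : ℕ) : ℂ)
      = ((e * ((Finset.univ.filter (fun ψ : Cfsg.IrrCharacter N =>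
          ∃ g : G, ψ = irrConj N hN g θ)).card * Cfsg.charDegree (θ : N → ℂ)) : ℕ) : ℂ) := by
    rw [h]
    push_cast
    rw [nsmul_eq_mul]
    ring
  exact_mod_cast h'

end cliffdeg

section main

variable {G : Type*} [Group G] [Fintype G] [DecidableEq G]
variable {p : ℕ} {M : Ideal Cfsg.AlgInt}

/-- the number of `p'`-degree characters of a block lying over a character of a normal subgroup not
containing a Sylow `p`-subgroup is not `1`, and divisible by `p` for `p ≤ 3` -/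
theorem card_pPrime_over (hM : Cfsg.IsPModular p M) [Fact p.Prime] (P : Sylow p G)
    (B : Set (Cfsg.IrrCharacter G)) (hB : Cfsg.IsPBlock M B) (N : Subgroup G) [hN : N.Normal]
    [Fintype N] (hPN : ¬ (P : Subgroup G) ≤ N) (θ : Cfsg.IrrCharacter N) :
    (Nat.card {χ : Cfsg.IrrCharacter G // χ ∈ B ∧ ¬ p ∣ Cfsg.charDegree (χ : G → ℂ) ∧
        Cfsg.classInner (fun n : N => (χ : G → ℂ) n) (θ : N → ℂ) ≠ 0} = 0 ∨
      2 ≤ Nat.card {χ : Cfsg.IrrCharacter G // χ ∈ B ∧ ¬ p ∣ Cfsg.charDegree (χ : G → ℂ) ∧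
        Cfsg.classInner (fun n : N => (χ : G → ℂ) n) (θ : N → ℂ) ≠ 0}) ∧
    (p ≤ 3 → p ∣ Nat.card {χ : Cfsg.IrrCharacter G // χ ∈ B ∧
        ¬ p ∣ Cfsg.charDegree (χ : G → ℂ) ∧
        Cfsg.classInner (fun n : N => (χ : G → ℂ) n) (θ : N → ℂ) ≠ 0}) := by
  classical
  have hp : p.Prime := hM.1
  haveI : Fintype (Cfsg.IrrCharacter G) := Fintype.ofFinite _
  haveI : Fintype (Cfsg.IrrCharacter N) := Fintype.ofFinite _
  -- multiplicities
  have hex : ∀ χ : Cfsg.IrrCharacter G, ∃ n : ℕ,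
      Cfsg.classInner (fun n : N => (χ : G → ℂ) n) (θ : N → ℂ) = n := fun χ =>
    IsCharacter.classInner_irr_nat (IsCharacter.restrict N (IsIrrCharacter.isCharacter χ.2)) θ.2
  choose e he using hex
  -- the `p`-element
  obtain ⟨x, hxP, hxN⟩ := SetLike.not_le_iff_exists.mp hPN
  obtain ⟨k, hk⟩ := (IsPGroup.iff_orderOf.mp P.2) ⟨x, hxP⟩
  have hxord : orderOf x = p ^ k := by
    rw [← hk, Subgroup.orderOf_mk]
  have hxpow : x ^ (p ^ k) = 1 := by
    rw [← hxord]
    exact pow_orderOf_eq_one x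
  have hpart : Cfsg.IsPPart p x x := by
    refine ⟨1, mul_one x, Commute.one_right x, ⟨k, hxord⟩, ?_⟩
    rw [orderOf_one]
    exact hp.not_dvd_one
  -- the induced class function
  obtain ⟨ϑ, hϑ⟩ : ∃ ϑ : G → ℂ, ϑ = Cfsg.indFun N (θ : N → ℂ) := ⟨_, rfl⟩
  have hϑcf : Cfsg.IsClassFunction G ϑ := by
    rw [hϑ]
    exact indFun_isClassFunction N _
  have hvan : ∀ u z : G, Cfsg.IsPPart p u z → IsConj x z → ϑ u = 0 := by
    intro u z huz hxz
    rw [hϑ]
    apply indFun_apply_of_not_mem N hN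
    intro huN
    apply hxN
    have hz : z ∈ N := by
      have h1 := IsPPart.mem_zpowers hp huz
      exact (Subgroup.zpowers_le.mpr huN) h1
    obtain ⟨c, hc⟩ := isConj_iff.mp hxz
    have h2 : x = c⁻¹ * z * c⁻¹⁻¹ := by
      rw [← hc]
      group
    rw [h2]
    exact hN.conj_mem z hz c⁻¹
  have hzero := (Cfsg.Agent.S0925.result p M hM).1 ϑ hϑcf x ⟨k, hxord⟩ hvan B hB x x hpart
    (IsConj.refl x)
  -- expand the block part
  have hinner : ∀ χ : Cfsg.IrrCharacter G, Cfsg.classInner ϑ (χ : G → ℂ) = (e χ : ℂ) := by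
    intro χ
    rw [hϑ, Cfsg.Agent.S0146.result N _ _ (IsIrrCharacter.isClassFunction χ.2),
      ← classInner_conj_symm, he χ, Complex.conj_natCast]
  have hsum0 : ∑ χ ∈ Finset.univ.filter (· ∈ B), (e χ : ℂ) * (χ : G → ℂ) x = 0 := by
    have h1 : Cfsg.blockPart B ϑ x
        = ∑ χ ∈ Finset.univ.filter (· ∈ B), (e χ : ℂ) * (χ : G → ℂ) x := by
      unfold Cfsg.blockPart
      rw [finsum_mem_eq_sum_filter_lib]
      apply Finset.sum_congr rfl
      intro χ _
      have h2 : ∀ (i1 i2 : Fintype G), @Cfsg.classInner G _ i1 ϑ (χ : G → ℂ)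
          = @Cfsg.classInner G _ i2 ϑ (χ : G → ℂ) := by
        intro i1 i2
        have : i1 = i2 := Subsingleton.elim _ _
        rw [this]
      rw [h2 _ (inferInstance : Fintype G), hinner]
    rw [← h1]
    exact hzero
  -- reduce modulo the ideal
  have hmod : Cfsg.MemLocalIdeal M
      (((∑ χ ∈ Finset.univ.filter (· ∈ B), e χ * Cfsg.charDegree (χ : G → ℂ) : ℕ) : ℕ) : ℂ) := by
    have h1 : (((∑ χ ∈ Finset.univ.filter (· ∈ B), e χ * Cfsg.charDegree (χ : G → ℂ) : ℕ) : ℕ) : ℂ)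
        = -∑ χ ∈ Finset.univ.filter (· ∈ B), (e χ : ℂ) * ((χ : G → ℂ) x - (χ : G → ℂ) 1) := by
      simp_rw [mul_sub]
      rw [Finset.sum_sub_distrib, hsum0, zero_sub, neg_neg]
      push_cast
      apply Finset.sum_congr rfl
      intro χ _
      rw [IsCharacter.apply_one_eq_charDegree (IsIrrCharacter.isCharacter χ.2)]
    rw [h1]
    apply MemLocalIdeal.neg
    apply MemLocalIdeal.sum hM
    intro χ _
    apply MemLocalIdeal.mul_left hM (memLocalRing_natCast hM _)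
    have h2 := IsCharacter.apply_mul_sub_memLocalIdeal hM (IsIrrCharacter.isCharacter χ.2)
      (Commute.one_right x) hxpow
    rwa [mul_one] at h2
  have hdvd : p ∣ ∑ χ ∈ Finset.univ.filter (· ∈ B), e χ * Cfsg.charDegree (χ : G → ℂ) :=
    (memLocalIdeal_natCast_iff hM _).mp hmod
  -- the set counted
  obtain ⟨S, hS⟩ : ∃ S : Finset (Cfsg.IrrCharacter G), S = Finset.univ.filter
      (fun χ : Cfsg.IrrCharacter G => χ ∈ B ∧ ¬ p ∣ Cfsg.charDegree (χ : G → ℂ) ∧
        Cfsg.classInner (fun n : N => (χ : G → ℂ) n) (θ : N → ℂ) ≠ 0) := ⟨_, rfl⟩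
  have hScard : Nat.card {χ : Cfsg.IrrCharacter G // χ ∈ B ∧
      ¬ p ∣ Cfsg.charDegree (χ : G → ℂ) ∧
      Cfsg.classInner (fun n : N => (χ : G → ℂ) n) (θ : N → ℂ) ≠ 0} = S.card := by
    rw [hS, Nat.card_eq_fintype_card, Fintype.card_subtype]
  rw [hScard]
  have hSmem : ∀ χ, χ ∈ S ↔ (χ ∈ B ∧ ¬ p ∣ Cfsg.charDegree (χ : G → ℂ) ∧ e χ ≠ 0) := by
    intro χ
    rw [hS, Finset.mem_filter, he χ]
    simp
  -- restrict the sum to `S`
  have hdvdS : p ∣ ∑ χ ∈ S, e χ * Cfsg.charDegree (χ : G → ℂ) := by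
    have h1 : ∑ χ ∈ Finset.univ.filter (· ∈ B), e χ * Cfsg.charDegree (χ : G → ℂ)
        = ∑ χ ∈ S, e χ * Cfsg.charDegree (χ : G → ℂ)
          + ∑ χ ∈ (Finset.univ.filter (· ∈ B)) \ S, e χ * Cfsg.charDegree (χ : G → ℂ) := by
      rw [← Finset.sum_sdiff (s₁ := S) (s₂ := Finset.univ.filter (· ∈ B)), add_comm]
      intro χ hχ
      rw [Finset.mem_filter]
      exact ⟨Finset.mem_univ _, ((hSmem χ).mp hχ).1⟩
    have h2 : p ∣ ∑ χ ∈ (Finset.univ.filter (· ∈ B)) \ S,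
        e χ * Cfsg.charDegree (χ : G → ℂ) := by
      apply Finset.dvd_sum
      intro χ hχ
      rw [Finset.mem_sdiff, Finset.mem_filter, hSmem] at hχ
      by_cases h3 : p ∣ Cfsg.charDegree (χ : G → ℂ)
      · exact Dvd.dvd.mul_left h3 _
      · have h4 : e χ = 0 := by
          by_contra h5
          exact hχ.2 ⟨hχ.1.2, h3, h5⟩
        rw [h4, zero_mul]
        exact dvd_zero p
    rw [h1] at hdvd
    exact (Nat.dvd_add_left h2).mp hdvd
  -- Clifford
  obtain ⟨c, hc⟩ : ∃ c : ℕ, c = (Finset.univ.filter (fun ψ : Cfsg.IrrCharacter N =>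
      ∃ g : G, ψ = irrConj N hN g θ)).card * Cfsg.charDegree (θ : N → ℂ) := ⟨_, rfl⟩
  have hcl : ∀ χ ∈ S, Cfsg.charDegree (χ : G → ℂ) = e χ * c := by
    intro χ hχ
    rw [hc]
    exact charDegree_eq_mult_mul_orbit N hN χ θ (e χ) (he χ) ((hSmem χ).mp hχ).2.2
  have hne : ∀ χ ∈ S, ¬ p ∣ e χ := by
    intro χ hχ hd
    apply ((hSmem χ).mp hχ).2.1
    rw [hcl χ hχ]
    exact Dvd.dvd.mul_right hd _
  have hsq : S.Nonempty → p ∣ ∑ χ ∈ S, e χ ^ 2 := by
    rintro ⟨χ₀, hχ₀⟩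
    have hpc : ¬ p ∣ c := by
      intro hd
      apply ((hSmem χ₀).mp hχ₀).2.1
      rw [hcl χ₀ hχ₀]
      exact Dvd.dvd.mul_left hd _
    have h1 : ∑ χ ∈ S, e χ * Cfsg.charDegree (χ : G → ℂ) = c * ∑ χ ∈ S, e χ ^ 2 := by
      rw [Finset.mul_sum]
      apply Finset.sum_congr rfl
      intro χ hχ
      rw [hcl χ hχ]
      ring
    rw [h1] at hdvdS
    exact (hp.dvd_mul.mp hdvdS).resolve_left hpc
  constructor
  · by_contra hcon
    push Not at hcon
    have h1 : S.card = 1 := by omega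
    obtain ⟨χ₀, hχ₀⟩ := Finset.card_eq_one.mp h1
    have h2 := hsq (by rw [hχ₀]; exact Finset.singleton_nonempty _)
    rw [hχ₀, Finset.sum_singleton] at h2
    exact hne χ₀ (by rw [hχ₀]; exact Finset.mem_singleton_self _) (hp.dvd_of_dvd_pow h2)
  · intro hp3
    by_cases hSe : S.Nonempty
    · have h1 := hsq hSe
      have h2 : ∀ χ ∈ S, e χ ^ 2 % p = 1 := by
        intro χ hχ
        have h3 := hne χ hχ
        have hp23 : p = 2 ∨ p = 3 := by
          have := hp.two_le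
          omega
        rcases hp23 with rfl | rfl
        · have h4 : e χ % 2 = 1 := by omega
          rw [Nat.pow_mod, h4]
        · have h4 : e χ % 3 = 1 ∨ e χ % 3 = 2 := by omega
          rcases h4 with h4 | h4 <;> rw [Nat.pow_mod, h4]
      have h3 : (∑ χ ∈ S, e χ ^ 2) % p = S.card % p := by
        rw [Finset.sum_nat_mod, Finset.sum_congr rfl h2, Finset.sum_const, smul_eq_mul, mul_one]
      rw [Nat.dvd_iff_mod_eq_zero] at h1 ⊢
      rw [← h3, h1]
    · rw [Finset.not_nonempty_iff_eq_empty] at hSe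
      rw [hSe, Finset.card_empty]
      exact dvd_zero p

end main

end Cfsg.Agent.Lib.Helper6
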