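import Mathlib
import Cfsg.Prelude.Def_OddOrderChar
import Cfsg.Prelude.Def_OddOrderLocal
import Cfsg.Prelude.Def_OddOrder

set_option autoImplicit false
set_option linter.unusedVariables false
set_option linter.style.longLine false

/-!
# Peterfalvi section 8, part a: the sets `A₁(M)`, `A(M)`, `A₀(M)`, the subgroups `R(a)` and the Dade
hypothesis, from the "tame embedding" clauses of row 1391.
-/

universe u
namespace Cfsg.Agent.Lib.Helper6.PF8

open Cfsg Subgroup

variable {G : Type u} [Group G]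

theorem fittingHallOf_le (M : Subgroup G) : fittingHallOf M ≤ M := by
  unfold fittingHallOf; exact Subgroup.map_subtype_le _

theorem typeCore_le (M : Subgroup G) : typeCore M ≤ M := by
  unfold typeCore
  split_ifs
  · exact Subgroup.commutator_le_self M
  · exact fittingHallOf_le M

theorem map_conj_eq_self {M : Subgroup G} {m : G} (hm : m ∈ M) :
    M.map (MulAut.conj m).toMonoidHom = M := by
  ext z; constructor
  · rintro ⟨w, hw, rfl⟩
    simp only [MulEquiv.coe_toMonoidHom, MulAut.conj_apply]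
    exact M.mul_mem (M.mul_mem hm hw) (M.inv_mem hm)
  · intro hz
    exact ⟨m⁻¹ * z * m, M.mul_mem (M.mul_mem (M.inv_mem hm) hz) hm, by
      simp [MulAut.conj_apply, mul_assoc]⟩

theorem commutator_conj_mem {M : Subgroup G} {m a : G} (hm : m ∈ M) (ha : a ∈ ⁅M, M⁆) :
    m * a * m⁻¹ ∈ ⁅M, M⁆ := by
  have h1 : (⁅M, M⁆).map (MulAut.conj m).toMonoidHom = ⁅M, M⁆ := by
    rw [Subgroup.map_commutator, map_conj_eq_self hm]
  rw [← h1]
  exact ⟨a, ha, by simp [MulAut.conj_apply]⟩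

theorem fittingHallOf_conj_mem {M : Subgroup G} {m a : G} (hm : m ∈ M)
    (ha : a ∈ fittingHallOf M) : m * a * m⁻¹ ∈ fittingHallOf M := by
  unfold fittingHallOf at ha ⊢
  obtain ⟨b, hb, rfl⟩ := ha
  refine ⟨⟨m, hm⟩ * b * ⟨m, hm⟩⁻¹, (Cfsg.fittingHall_normal M).conj_mem b hb ⟨m, hm⟩, ?_⟩
  simp

theorem typeCore_conj_mem {M : Subgroup G} {m a : G} (hm : m ∈ M) (ha : a ∈ typeCore M) :
    m * a * m⁻¹ ∈ typeCore M := by
  unfold typeCore at ha ⊢
  split_ifs at ha ⊢
  · exact commutator_conj_mem hm ha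
  · exact fittingHallOf_conj_mem hm ha

/-! ### `A₁(M)` -/

theorem one_not_mem_typeA1 (M : Subgroup G) : (1 : G) ∉ typeA1 M := fun h => h.2 rfl

theorem typeA1_subset (M : Subgroup G) : typeA1 M ⊆ (M : Set G) := fun a ha => typeCore_le M ha.1

theorem typeA1_conj_mem {M : Subgroup G} {m a : G} (hm : m ∈ M) (ha : a ∈ typeA1 M) :
    m * a * m⁻¹ ∈ typeA1 M := by
  refine ⟨typeCore_conj_mem hm ha.1, ?_⟩
  intro h
  exact ha.2 (conj_eq_one_iff.mp h)

/-! ### `A(M)` -/

theorem mem_typeA_of_typeI {M : Subgroup G} (h : IsOfTypeI M) {a : G} :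
    a ∈ typeA M ↔ a ∈ M ∧ a ≠ 1 ∧ ∃ x ∈ fittingHallOf M, x ≠ 1 ∧ a * x = x * a := by
  unfold typeA; rw [if_pos h]; rfl

theorem mem_typeA_of_not {M : Subgroup G} (h : ¬ IsOfTypeI M) {a : G} :
    a ∈ typeA M ↔ a ∈ ⁅M, M⁆ ∧ a ≠ 1 ∧ ∃ x ∈ typeCore M, x ≠ 1 ∧ a * x = x * a := by
  unfold typeA; rw [if_neg h]; rfl

theorem one_not_mem_typeA (M : Subgroup G) : (1 : G) ∉ typeA M := by
  by_cases h : IsOfTypeI M
  · rw [mem_typeA_of_typeI h]; exact fun h' => h'.2.1 rfl
  · rw [mem_typeA_of_not h]; exact fun h' => h'.2.1 rfl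

theorem typeA_subset (M : Subgroup G) : typeA M ⊆ (M : Set G) := by
  intro a ha
  by_cases h : IsOfTypeI M
  · exact ((mem_typeA_of_typeI h).mp ha).1
  · exact Subgroup.commutator_le_self M ((mem_typeA_of_not h).mp ha).1

theorem conj_comm_aux {m a x : G} (h : a * x = x * a) :
    m * a * m⁻¹ * (m * x * m⁻¹) = m * x * m⁻¹ * (m * a * m⁻¹) := by
  calc m * a * m⁻¹ * (m * x * m⁻¹) = m * (a * x) * m⁻¹ := by group
    _ = m * (x * a) * m⁻¹ := by rw [h]
    _ = m * x * m⁻¹ * (m * a * m⁻¹) := by group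

theorem typeA_conj_mem {M : Subgroup G} {m a : G} (hm : m ∈ M) (ha : a ∈ typeA M) :
    m * a * m⁻¹ ∈ typeA M := by
  by_cases h : IsOfTypeI M
  · rw [mem_typeA_of_typeI h] at ha ⊢
    obtain ⟨haM, ha1, x, hx, hx1, hax⟩ := ha
    refine ⟨M.mul_mem (M.mul_mem hm haM) (M.inv_mem hm), fun h' => ha1 (conj_eq_one_iff.mp h'),
      m * x * m⁻¹, fittingHallOf_conj_mem hm hx, fun h' => hx1 (conj_eq_one_iff.mp h'),
      conj_comm_aux hax⟩
  · rw [mem_typeA_of_not h] at ha ⊢
    obtain ⟨haM, ha1, x, hx, hx1, hax⟩ := ha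
    refine ⟨commutator_conj_mem hm haM, fun h' => ha1 (conj_eq_one_iff.mp h'),
      m * x * m⁻¹, typeCore_conj_mem hm hx, fun h' => hx1 (conj_eq_one_iff.mp h'),
      conj_comm_aux hax⟩

/-! ### `A₀(M)` -/

theorem typeA_subset_typeA0 (M : Subgroup G) : typeA M ⊆ typeA0 M := fun a ha => Or.inl ha

theorem one_not_mem_typeA0 (M : Subgroup G) : (1 : G) ∉ typeA0 M := by
  rintro (h | ⟨-, W₁, U, W₂, -, m, -, w, -, hw1, -, h⟩)
  · exact one_not_mem_typeA M h
  · apply hw1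
    have : w = 1 := by
      have h2 : m * w * m⁻¹ = 1 := h.symm
      exact conj_eq_one_iff.mp h2
    rw [this]; exact W₁.one_mem

theorem typeA0_subset (M : Subgroup G) : typeA0 M ⊆ (M : Set G) := by
  rintro a (h | ⟨-, W₁, U, W₂, hP, m, hm, w, hw, -, -, rfl⟩)
  · exact typeA_subset M h
  · have h1 : W₁ ≤ M := hP.W₁_compl.2.1
    have h2 : W₂ ≤ M := (hP.W₂_le.trans inf_le_left).trans (fittingHallOf_le M)
    have hwM : w ∈ M := (sup_le h1 h2) hw
    exact M.mul_mem (M.mul_mem hm hwM) (M.inv_mem hm)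

theorem typeA0_conj_mem {M : Subgroup G} {m a : G} (hm : m ∈ M) (ha : a ∈ typeA0 M) :
    m * a * m⁻¹ ∈ typeA0 M := by
  rcases ha with h | ⟨hI, W₁, U, W₂, hP, m', hm', w, hw, hw1, hw2, rfl⟩
  · exact Or.inl (typeA_conj_mem hm h)
  · refine Or.inr ⟨hI, W₁, U, W₂, hP, m * m', M.mul_mem hm hm', w, hw, hw1, hw2, ?_⟩
    group

/-! ### `R(a)` -/

theorem supportR_le_centralizer (M : Subgroup G) (a : G) :
    supportR M a ≤ centralizer ({a} : Set G) := by
  unfold supportR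
  split_ifs
  · exact inf_le_right
  · exact bot_le

theorem supportR_eq_bot_of_le {M : Subgroup G} {a : G} (h : centralizer ({a} : Set G) ≤ M) :
    supportR M a = ⊥ := by
  unfold supportR
  rw [dif_neg]
  exact fun h' => h'.1 h

theorem supportR_eq_of {M L : Subgroup G} {a : G} (hc : ¬ centralizer ({a} : Set G) ≤ M)
    (hL : IsCoatom L) (hCL : centralizer ({a} : Set G) ≤ L)
    (huniq : ∀ L' : Subgroup G, IsCoatom L' → centralizer ({a} : Set G) ≤ L' → L' = L) :
    supportR M a = fittingHallOf L ⊓ centralizer ({a} : Set G) := by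
  have h : ¬ centralizer ({a} : Set G) ≤ M ∧
      ∃! L : Subgroup G, IsCoatom L ∧ centralizer ({a} : Set G) ≤ L :=
    ⟨hc, L, ⟨hL, hCL⟩, fun L' h' => huniq L' h'.1 h'.2⟩
  unfold supportR
  rw [dif_pos h]
  have hs := Classical.choose_spec h.2.exists
  rw [huniq _ hs.1 hs.2]

/-! ### the set normaliser -/

theorem normalizer_eq_of_simple [IsSimpleGroup G] {M : Subgroup G} (hM : IsCoatom M) {A : Set G}
    (hne : A.Nonempty) (h1 : (1 : G) ∉ A) (hAM : A ⊆ (M : Set G))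
    (hconj : ∀ x ∈ M, ∀ a ∈ A, x * a * x⁻¹ ∈ A) : Subgroup.normalizer A = M := by
  have hle : M ≤ Subgroup.normalizer A := by
    intro x hx n
    constructor
    · exact fun hn => hconj x hx n hn
    · intro hn
      have := hconj x⁻¹ (M.inv_mem hx) _ hn
      have e : x⁻¹ * (x * n * x⁻¹) * x⁻¹⁻¹ = n := by group
      rwa [e] at this
  by_contra hneq
  have htop : Subgroup.normalizer A = ⊤ := hM.2 _ (lt_of_le_of_ne hle (Ne.symm hneq))
  -- A is a normal subset
  have hclos : Subgroup.normalClosure A ≤ M := by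
    unfold Subgroup.normalClosure
    rw [Subgroup.closure_le]
    intro z hz
    rw [Group.mem_conjugatesOfSet_iff] at hz
    obtain ⟨b, hb, hbz⟩ := hz
    obtain ⟨c, hc⟩ := isConj_iff.mp hbz
    have hcN : c ∈ Subgroup.normalizer A := by rw [htop]; exact Subgroup.mem_top c
    have := (hcN b).mp hb
    rw [hc] at this
    exact hAM this
  rcases IsSimpleGroup.eq_bot_or_eq_top_of_normal _
    (Subgroup.normalClosure_normal (s := A)) with hb | ht
  · obtain ⟨a, ha⟩ := hne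
    have : a ∈ Subgroup.normalClosure A := Subgroup.subset_normalClosure ha
    rw [hb, Subgroup.mem_bot] at this
    exact h1 (this ▸ ha)
  · rw [ht] at hclos
    exact hM.1 (top_le_iff.mp hclos)

/-! ### the clauses of row 1391 used in Peterfalvi section 8 -/

/-- the part of the conclusion of row 1391 (for the maximal subgroup `M` and the set `X`) that is
used in Peterfalvi section 8 -/
def Tame (M : Subgroup G) (X : Set G) : Prop :=
  (∀ x ∈ X, ∀ g : G, g * x * g⁻¹ ∈ X → ∃ m ∈ M, m * x * m⁻¹ = g * x * g⁻¹) ∧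
  (∀ x ∈ X, ¬ centralizer ({x} : Set G) ≤ M →
    x ∈ typeA1 M ∧ ∃! L : Subgroup G, IsCoatom L ∧ centralizer ({x} : Set G) ≤ L) ∧
  ∀ x ∈ X, ¬ centralizer ({x} : Set G) ≤ M → ∀ L : Subgroup G, IsCoatom L →
    centralizer ({x} : Set G) ≤ L →
      IsComplIn (fittingHallOf L) (M ⊓ L) L ∧
      centralizer ({x} : Set G) ≤
        Subgroup.normalizer ((fittingHallOf L ⊓ centralizer ({x} : Set G) : Subgroup G) : Set G) ∧
      IsComplIn (fittingHallOf L ⊓ centralizer ({x} : Set G)) (M ⊓ centralizer ({x} : Set G))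
        (centralizer ({x} : Set G)) ∧
      (∀ y ∈ X, (Nat.card (fittingHallOf L)).Coprime
        (Nat.card ↥(M ⊓ centralizer ({y} : Set G)))) ∧
      (x ∈ typeA L ∧ x ∉ typeA1 L)

theorem Tame.mono {M : Subgroup G} {X A : Set G} (h : Tame M X) (hAX : A ⊆ X) : Tame M A := by
  obtain ⟨h1, h2, h3⟩ := h
  refine ⟨fun x hx g hg => h1 x (hAX hx) g (hAX hg), fun x hx hc => h2 x (hAX hx) hc,
    fun x hx hc L hL hCL => ?_⟩
  obtain ⟨a, b, c, d, e⟩ := h3 x (hAX hx) hc L hL hCL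
  exact ⟨a, b, c, fun y hy => d y (hAX hy), e⟩

theorem sup_eq_of_complIn {A B C : Subgroup G} (h : IsComplIn A B C) : A ⊔ B = C := by
  apply le_antisymm (sup_le h.1 h.2.1)
  intro m hm
  obtain ⟨a, ha, b, hb, rfl⟩ := h.2.2.2 m hm
  exact Subgroup.mul_mem _ (Subgroup.mem_sup_left ha) (Subgroup.mem_sup_right hb)

/-- The Dade hypothesis for an `M`-invariant subset `A` of a tamely embedded set. -/
theorem dade_of_tame {M : Subgroup G} {A : Set G} (hT : Tame M A) (h1 : (1 : G) ∉ A)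
    (hAM : A ⊆ (M : Set G)) (hconj : ∀ x ∈ M, ∀ a ∈ A, x * a * x⁻¹ ∈ A) :
    DadeHypothesis A M (supportR M) := by
  obtain ⟨hfus, hD, hL⟩ := hT
  -- description of R(a)
  have key : ∀ a ∈ A, supportR M a = ⊥ ∧ centralizer ({a} : Set G) ≤ M ∨
      ∃ L : Subgroup G, IsCoatom L ∧ centralizer ({a} : Set G) ≤ L ∧
        ¬ centralizer ({a} : Set G) ≤ M ∧
        supportR M a = fittingHallOf L ⊓ centralizer ({a} : Set G) := by
    intro a ha
    by_cases hc : centralizer ({a} : Set G) ≤ M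
    · exact Or.inl ⟨supportR_eq_bot_of_le hc, hc⟩
    · obtain ⟨-, L, ⟨hLc, hCL⟩, huniq⟩ := hD a ha hc
      exact Or.inr ⟨L, hLc, hCL, hc,
        supportR_eq_of hc hLc hCL (fun L' h1 h2 => huniq L' ⟨h1, h2⟩)⟩
  refine ⟨h1, hAM, hconj, hfus, fun a _ => supportR_le_centralizer M a, ?_, ?_, ?_, ?_⟩
  · intro a ha c hc u hu
    rcases key a ha with ⟨hb, -⟩ | ⟨L, hLc, hCL, hnc, hR⟩
    · rw [hb, Subgroup.mem_bot] at hu ⊢
      rw [hu]; group
    · obtain ⟨-, hn, -, -, -⟩ := hL a ha hnc L hLc hCL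
      rw [hR] at hu ⊢
      exact ((hn hc) u).mp hu
  · intro a ha
    rcases key a ha with ⟨hb, -⟩ | ⟨L, hLc, hCL, hnc, hR⟩
    · rw [hb]; exact bot_inf_eq _
    · obtain ⟨-, -, hcompl, -, -⟩ := hL a ha hnc L hLc hCL
      rw [hR]; exact hcompl.2.2.1
  · intro a ha
    rcases key a ha with ⟨hb, hc⟩ | ⟨L, hLc, hCL, hnc, hR⟩
    · rw [hb, bot_sup_eq]; exact inf_eq_right.mpr hc
    · obtain ⟨-, -, hcompl, -, -⟩ := hL a ha hnc L hLc hCL
      rw [hR]; exact sup_eq_of_complIn hcompl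
  · intro a ha b hb
    rcases key a ha with ⟨hbot, -⟩ | ⟨L, hLc, hCL, hnc, hR⟩
    · rw [hbot, Subgroup.card_bot]; exact Nat.coprime_one_left _
    · obtain ⟨-, -, -, hcop, -⟩ := hL a ha hnc L hLc hCL
      rw [hR]
      exact Nat.Coprime.coprime_dvd_left (Subgroup.card_dvd_of_le inf_le_left) (hcop b hb)

/-- Row 1537 from the tame embedding clauses. -/
theorem s1537_of [IsSimpleGroup G] {M : Subgroup G} (hM : IsCoatom M)
    (hT0 : Tame M (typeA0 M)) (hsub : typeA1 M ⊆ typeA M) (hne : (typeA1 M).Nonempty)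
    (A : Set G) (hA : A = typeA1 M ∨ A = typeA M ∨ A = typeA0 M) :
    Subgroup.normalizer A = M ∧ DadeHypothesis A M (supportR M) := by
  have hsub0 : typeA1 M ⊆ typeA0 M := hsub.trans (typeA_subset_typeA0 M)
  rcases hA with rfl | rfl | rfl
  · exact ⟨normalizer_eq_of_simple hM hne (one_not_mem_typeA1 M) (typeA1_subset M)
        (fun x hx a ha => typeA1_conj_mem hx ha),
      dade_of_tame (hT0.mono hsub0) (one_not_mem_typeA1 M) (typeA1_subset M)
        (fun x hx a ha => typeA1_conj_mem hx ha)⟩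
  · exact ⟨normalizer_eq_of_simple hM (hne.mono hsub) (one_not_mem_typeA M) (typeA_subset M)
        (fun x hx a ha => typeA_conj_mem hx ha),
      dade_of_tame (hT0.mono (typeA_subset_typeA0 M)) (one_not_mem_typeA M) (typeA_subset M)
        (fun x hx a ha => typeA_conj_mem hx ha)⟩
  · exact ⟨normalizer_eq_of_simple hM (hne.mono hsub0) (one_not_mem_typeA0 M) (typeA0_subset M)
        (fun x hx a ha => typeA0_conj_mem hx ha),
      dade_of_tame hT0 (one_not_mem_typeA0 M) (typeA0_subset M)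
        (fun x hx a ha => typeA0_conj_mem hx ha)⟩

end Cfsg.Agent.Lib.Helper6.PF8
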