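import Mathlib
import Cfsg.Agent.Lib.Helper6.PF8a
import Cfsg.Agent.Lib.Lead.ComplIn

set_option autoImplicit false
set_option linter.unusedVariables false
set_option linter.style.longLine false

/-!
# Peterfalvi section 8, part b: supports (row 1539) from an abstract package of B&G facts
-/

universe u
namespace Cfsg.Agent.Lib.Helper6.PF8

open Cfsg Subgroup

variable {G : Type u} [Group G]

/-- the conjugate `g M g⁻¹` -/
abbrev cj (g : G) (M : Subgroup G) : Subgroup G := M.map (MulAut.conj g).toMonoidHom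

theorem mem_cj {g x : G} {M : Subgroup G} : x ∈ cj g M ↔ g⁻¹ * x * g ∈ M := by
  constructor
  · rintro ⟨w, hw, rfl⟩
    simp only [MulEquiv.coe_toMonoidHom, MulAut.conj_apply]
    have : g⁻¹ * (g * w * g⁻¹) * g = w := by group
    rw [this]; exact hw
  · intro h
    exact ⟨g⁻¹ * x * g, h, by simp [MulAut.conj_apply, mul_assoc]⟩

theorem conj_mem_cj {g x : G} {M : Subgroup G} (hx : x ∈ M) : g * x * g⁻¹ ∈ cj g M := by
  rw [mem_cj]
  have : g⁻¹ * (g * x * g⁻¹) * g = x := by group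
  rw [this]; exact hx

theorem cj_mono {g : G} {A B : Subgroup G} (h : A ≤ B) : cj g A ≤ cj g B := Subgroup.map_mono h

theorem cj_cj (g k : G) (M : Subgroup G) : cj g (cj k M) = cj (g * k) M := by
  ext x
  simp only [mem_cj]
  have : k⁻¹ * (g⁻¹ * x * g) * k = (g * k)⁻¹ * x * (g * k) := by group
  rw [this]

theorem cj_one (M : Subgroup G) : cj 1 M = M := by
  ext x; rw [mem_cj]; simp

theorem cj_inv_cj (g : G) (M : Subgroup G) : cj g⁻¹ (cj g M) = M := by
  rw [cj_cj, inv_mul_cancel, cj_one]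

theorem cj_cj_inv (g : G) (M : Subgroup G) : cj g (cj g⁻¹ M) = M := by
  rw [cj_cj, mul_inv_cancel, cj_one]

theorem cj_le_iff {g : G} {A B : Subgroup G} : cj g A ≤ cj g B ↔ A ≤ B :=
  ⟨fun h => by
    have := cj_mono (g := g⁻¹) h
    rwa [cj_inv_cj, cj_inv_cj] at this, cj_mono⟩

theorem cj_top (g : G) : cj g (⊤ : Subgroup G) = ⊤ := by
  ext x
  constructor
  · intro _; trivial
  · intro _; exact mem_cj.mpr (Subgroup.mem_top _)

theorem card_cj (g : G) (M : Subgroup G) : Nat.card (cj g M) = Nat.card M :=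
  Nat.card_congr ((MulAut.conj g).subgroupMap M).symm.toEquiv

theorem isCoatom_cj {M : Subgroup G} (hM : IsCoatom M) (g : G) : IsCoatom (cj g M) := by
  constructor
  · intro h
    apply hM.1
    have := congrArg (cj g⁻¹) h
    rw [cj_inv_cj, cj_top] at this
    exact this
  · intro N hN
    have h1 : M < cj g⁻¹ N := by
      have hle : M ≤ cj g⁻¹ N := by
        rw [← cj_inv_cj g M]; exact cj_mono hN.le
      refine lt_of_le_of_ne hle ?_
      intro h; apply hN.ne; rw [h, cj_cj_inv]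
    have := hM.2 _ h1
    have h2 : N = cj g (cj g⁻¹ N) := (cj_cj_inv g N).symm
    rw [h2, this, cj_top]

theorem centralizer_conj (g x : G) :
    centralizer ({g * x * g⁻¹} : Set G) = cj g (centralizer ({x} : Set G)) := by
  ext c
  rw [mem_cj, mem_centralizer_singleton_iff, mem_centralizer_singleton_iff]
  constructor
  · intro h
    calc g⁻¹ * c * g * x = g⁻¹ * (c * (g * x * g⁻¹)) * g := by group
      _ = g⁻¹ * ((g * x * g⁻¹) * c) * g := by rw [h]
      _ = x * (g⁻¹ * c * g) := by group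
  · intro h
    calc c * (g * x * g⁻¹) = g * ((g⁻¹ * c * g) * x) * g⁻¹ := by group
      _ = g * (x * (g⁻¹ * c * g)) * g⁻¹ := by rw [h]
      _ = g * x * g⁻¹ * c := by group

theorem orderOf_dvd_card_of_mem {H : Subgroup G} {x : G} (hx : x ∈ H) :
    orderOf x ∣ Nat.card H := by
  have := orderOf_dvd_natCard (⟨x, hx⟩ : ↥H)
  rwa [Subgroup.orderOf_mk] at this

/-- The B&G input used in the proof of row 1539. -/
structure BGInput (G : Type u) [Group G] : Prop where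
  core : ∀ M : Subgroup G, IsCoatom M → typeCore M = sigmaCore M
  sub : ∀ M : Subgroup G, IsCoatom M → typeA1 M ⊆ typeA M
  tame : ∀ M : Subgroup G, IsCoatom M → Tame M (typeA0 M)
  typeI_kappa : ∀ M : Subgroup G, IsCoatom M → IsOfTypeI M → kappa M = ∅
  fh_le : ∀ M : Subgroup G, IsCoatom M → fittingHallOf M ≤ sigmaCore M
  kappa_der : ∀ M : Subgroup G, IsCoatom M → ∀ p ∈ kappa M, ¬ p ∣ Nat.card ↥⁅M, M⁆
  sigmaCore_primes : ∀ M : Subgroup G, IsCoatom M → ∀ p : ℕ, p.Prime →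
    p ∣ Nat.card (sigmaCore M) → p ∈ sigma M
  common : ∀ M N : Subgroup G, IsCoatom M → IsCoatom N → ∀ x : G, x ≠ 1 → x ∈ sigmaCore M →
    x ∈ sigmaCore N → ∃ g : G, N = cj g M
  s1432 : ∀ M : Subgroup G, IsCoatom M → ∀ x ∈ sigmaCore M, x ≠ 1 →
    ∀ x' ∈ M ⊓ centralizer ({x} : Set G), x' ≠ 1 →
    (∀ p : ℕ, p.Prime → p ∣ orderOf x' → p ∉ sigma M) →
      ((∀ p : ℕ, p.Prime → p ∣ orderOf x' → p ∈ kappa M) ∧ centralizer ({x} : Set G) ≤ M) ∨
      ((∀ p : ℕ, p.Prime → p ∣ orderOf x' → p ∈ tau2 M) ∧ centralizer ({x'} : Set G) ≤ M ∧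
        ∀ L : Subgroup G, IsCoatom L → centralizer ({x'} : Set G) ≤ L → L = M)
  s1436 : ∀ M : Subgroup G, IsCoatom M → ∀ x ∈ sigmaCore M, x ≠ 1 →
    ¬ centralizer ({x} : Set G) ≤ M → ∀ N : Subgroup G, IsCoatom N →
    centralizer ({x} : Set G) ≤ N → (∃ p ∈ sigma N, p ∣ Nat.card M) → tau2 M = ∅
  partition : ∀ M N : Subgroup G, IsCoatom M → IsCoatom N → (∀ g : G, N ≠ cj g M) →
    ∀ q : ℕ, q ∈ sigma M → q ∈ sigma N → False
  tilde_disj : ∀ M N : Subgroup G, IsCoatom M → IsCoatom N → (∀ g : G, N ≠ cj g M) →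
    tildeOf M ((sigmaCore M : Set G) \ {1}) ∩ tildeOf N ((sigmaCore N : Set G) \ {1}) = ∅
  sigmaCore_cj : ∀ M : Subgroup G, IsCoatom M → ∀ g : G,
    sigmaCore (cj g M) = cj g (sigmaCore M)
  sigma_cj : ∀ (M : Subgroup G) (g : G), sigma (cj g M) = sigma M
  supportR_cj : ∀ M : Subgroup G, IsCoatom M → ∀ x ∈ sigmaCore M, x ≠ 1 → ∀ g : G,
    supportR (cj g M) (g * x * g⁻¹) = cj g (supportR M x)
  tdata : ∀ M : Subgroup G, IsCoatom M → ∀ x ∈ sigmaCore M, x ≠ 1 →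
    ¬ centralizer ({x} : Set G) ≤ M → ∀ L : Subgroup G, IsCoatom L →
    centralizer ({x} : Set G) ≤ L → ∃ q : ℕ, q ∈ sigma M ∧ q ∈ tau2 L

namespace BGInput

variable (h : BGInput G)
include h

theorem mem_typeA1_iff {M : Subgroup G} (hM : IsCoatom M) {a : G} :
    a ∈ typeA1 M ↔ a ∈ sigmaCore M ∧ a ≠ 1 := by
  unfold typeA1
  rw [h.core M hM]
  simp

theorem typeA1_eq {M : Subgroup G} (hM : IsCoatom M) :
    typeA1 M = (sigmaCore M : Set G) \ {1} := by
  unfold typeA1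
  rw [h.core M hM]

theorem typeA_comm {M : Subgroup G} (hM : IsCoatom M) {a : G} (ha : a ∈ typeA M) :
    ∃ t ∈ sigmaCore M, t ≠ 1 ∧ a * t = t * a := by
  by_cases hI : IsOfTypeI M
  · obtain ⟨-, -, x, hx, hx1, hax⟩ := (mem_typeA_of_typeI hI).mp ha
    exact ⟨x, h.fh_le M hM hx, hx1, hax⟩
  · obtain ⟨-, -, x, hx, hx1, hax⟩ := (mem_typeA_of_not hI).mp ha
    rw [h.core M hM] at hx
    exact ⟨x, hx, hx1, hax⟩

theorem kappa_contra {M : Subgroup G} (hM : IsCoatom M) {a b : G} (ha : a ∈ typeA M)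
    (hb : b ∈ zpowers a) (hb1 : b ≠ 1)
    (hκ : ∀ p : ℕ, p.Prime → p ∣ orderOf b → p ∈ kappa M) : False := by
  obtain ⟨p, hp, hpb⟩ := Nat.exists_prime_and_dvd (n := orderOf b)
    (by intro h1; exact hb1 (orderOf_eq_one_iff.mp h1))
  have hpκ := hκ p hp hpb
  have hI : ¬ IsOfTypeI M := fun hI => by
    have := h.typeI_kappa M hM hI
    rw [this] at hpκ; exact hpκ
  have haD := ((mem_typeA_of_not hI).mp ha).1
  have hbD : b ∈ ⁅M, M⁆ := (zpowers_le.mpr haD) hb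
  exact h.kappa_der M hM p hpκ (hpb.trans (orderOf_dvd_card_of_mem hbD))

/-- primes of an element of `N_σ` are not in `σ(M)` when `M`, `N` are not conjugate -/
theorem not_sigma_of_mem {M N : Subgroup G} (hM : IsCoatom M) (hN : IsCoatom N)
    (hnc : ∀ g : G, N ≠ cj g M) {x : G} (hx : x ∈ sigmaCore M) :
    ∀ p : ℕ, p.Prime → p ∣ orderOf x → p ∉ sigma N := by
  intro p hp hpx hpN
  have : p ∈ sigma M := h.sigmaCore_primes M hM p hp (hpx.trans (orderOf_dvd_card_of_mem hx))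
  exact h.partition M N hM hN hnc p this hpN

theorem part_b {S T : Subgroup G} (hS : IsCoatom S) (hT : IsCoatom T)
    (hnc : ∀ g : G, T ≠ cj g S) :
    ∀ x ∈ typeA1 S ∩ typeA T,
      ¬ centralizer ({x} : Set G) ≤ S ∧ centralizer ({x} : Set G) ≤ T := by
  rintro x ⟨hx1S, hxT⟩
  obtain ⟨hxσ, hxne⟩ := (h.mem_typeA1_iff hS).mp hx1S
  have hCT : centralizer ({x} : Set G) ≤ T := by
    by_contra hc
    obtain ⟨hx1T, -⟩ := (h.tame T hT).2.1 x (typeA_subset_typeA0 T hxT) hc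
    obtain ⟨g, hg⟩ := h.common S T hS hT x hxne hxσ ((h.mem_typeA1_iff hT).mp hx1T).1
    exact hnc g hg
  refine ⟨fun hcS => ?_, hCT⟩
  obtain ⟨t, htσ, ht1, hxt⟩ := h.typeA_comm hT hxT
  have hxT' : x ∈ T := typeA_subset T hxT
  have hxmem : x ∈ T ⊓ centralizer ({t} : Set G) :=
    ⟨hxT', mem_centralizer_singleton_iff.mpr hxt⟩
  rcases h.s1432 T hT t htσ ht1 x hxmem hxne (h.not_sigma_of_mem hS hT hnc hxσ) with
    ⟨hκ, -⟩ | ⟨-, -, huniq⟩
  · exact h.kappa_contra hT hxT (mem_zpowers x) hxne hκ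
  · have := huniq S hS hcS
    exact hnc 1 (by rw [cj_one]; exact this.symm)

theorem part_a {S T : Subgroup G} (hS : IsCoatom S) (hT : IsCoatom T)
    (hnc : ∀ g : G, T ≠ cj g S) :
    Supports T S ↔ (typeA1 S ∩ typeA T).Nonempty := by
  constructor
  · rintro ⟨-, x, hx0, hc, hCT⟩
    obtain ⟨hx1, -⟩ := (h.tame S hS).2.1 x hx0 hc
    obtain ⟨-, -, -, -, hxA, -⟩ := (h.tame S hS).2.2 x hx0 hc T hT hCT
    exact ⟨x, hx1, hxA⟩
  · rintro ⟨x, hx⟩
    obtain ⟨hc, hCT⟩ := h.part_b hS hT hnc x hx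
    exact ⟨hT, x, typeA_subset_typeA0 S (h.sub S hS hx.1), hc, hCT⟩

/-- the key step for `(c) ⇐`: if `a r ∈ A(T)` with `a ∈ S_σ#`, `1 ≠ r ∈ R_S(a)`, then the maximal
subgroup over `C_G(a)` is conjugate to `T` -/
theorem conj_of_mul_mem {S T : Subgroup G} (hS : IsCoatom S) (hT : IsCoatom T)
    (hnc : ∀ g : G, T ≠ cj g S) {a r : G} (haσ : a ∈ sigmaCore S) (ha1 : a ≠ 1)
    (hr : r ∈ supportR S a) (hr1 : r ≠ 1) (har : a * r ∈ typeA T) :
    ¬ centralizer ({a} : Set G) ≤ S ∧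
      ∃ k : G, centralizer ({a} : Set G) ≤ cj k T := by
  have hc : ¬ centralizer ({a} : Set G) ≤ S := by
    intro hc
    rw [supportR_eq_bot_of_le hc, Subgroup.mem_bot] at hr
    exact hr1 hr
  refine ⟨hc, ?_⟩
  have ha0 : a ∈ typeA0 S :=
    typeA_subset_typeA0 S (h.sub S hS ((h.mem_typeA1_iff hS).mpr ⟨haσ, ha1⟩))
  obtain ⟨-, L, ⟨hL, hCL⟩, huniqL⟩ := (h.tame S hS).2.1 a ha0 hc
  have hR : supportR S a = fittingHallOf L ⊓ centralizer ({a} : Set G) :=
    supportR_eq_of hc hL hCL (fun L' h1 h2 => huniqL L' ⟨h1, h2⟩)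
  rw [hR] at hr
  have hrσ : r ∈ sigmaCore L := h.fh_le L hL hr.1
  obtain ⟨-, -, -, hcop, -, -⟩ := (h.tame S hS).2.2 a ha0 hc L hL hCL
  have hcomm : Commute a r := by
    have := mem_centralizer_singleton_iff.mp hr.2
    exact this.symm
  have hco : (orderOf a).Coprime (orderOf r) := by
    have h1 : orderOf r ∣ Nat.card (fittingHallOf L) := orderOf_dvd_card_of_mem hr.1
    have h2 : orderOf a ∣ Nat.card ↥(S ⊓ centralizer ({a} : Set G)) :=
      orderOf_dvd_card_of_mem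
        ⟨(h.core S hS ▸ typeCore_le S) haσ, mem_centralizer_singleton_iff.mpr rfl⟩
    exact ((hcop a ha0).coprime_dvd_left h1).coprime_dvd_right h2 |>.symm
  have hr_pow : r ∈ zpowers (a * r) := Cfsg.Agent.Lib.Lead.ComplIn.mem_zpowers_mul_of_coprime hcomm hco
  have ha_pow : a ∈ zpowers (a * r) := by
    have := Cfsg.Agent.Lib.Lead.ComplIn.mem_zpowers_mul_of_coprime hcomm.symm hco.symm
    rwa [← hcomm.eq] at this
  by_contra hno
  push Not at hno
  -- `L` is not conjugate to `T`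
  have hncL : ∀ g : G, L ≠ cj g T := by
    intro g hg
    exact hno g (hg ▸ hCL)
  have hncL' : ∀ g : G, T ≠ cj g L := by
    intro g hg
    apply hncL g⁻¹
    rw [hg, cj_inv_cj]
  obtain ⟨t, htσ, ht1, hart⟩ := h.typeA_comm hT har
  have harT : a * r ∈ T := typeA_subset T har
  have hcent : ∀ b ∈ zpowers (a * r), b ∈ T ⊓ centralizer ({t} : Set G) := by
    intro b hb
    refine ⟨(zpowers_le.mpr harT) hb, ?_⟩
    have : a * r ∈ centralizer ({t} : Set G) := mem_centralizer_singleton_iff.mpr hart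
    exact (zpowers_le.mpr this) hb
  -- first `r`
  rcases h.s1432 T hT t htσ ht1 r (hcent r hr_pow) hr1 (h.not_sigma_of_mem hL hT hncL' hrσ) with
    ⟨hκ, -⟩ | ⟨-, hCr, -⟩
  · exact h.kappa_contra hT har hr_pow hr1 hκ
  · -- then `a`
    rcases h.s1432 T hT t htσ ht1 a (hcent a ha_pow) ha1 (h.not_sigma_of_mem hS hT hnc haσ) with
      ⟨hκ, -⟩ | ⟨-, hCa, -⟩
    · exact h.kappa_contra hT har ha_pow ha1 hκ
    · exact hno 1 (by rw [cj_one]; exact hCa)

omit h in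
/-- transport of "supports" -/
theorem supports_of_conj {S T : Subgroup G} (hS : IsCoatom S) (hT : IsCoatom T) {a : G}
    (ha0 : a ∈ typeA0 S) (g k : G)
    (hc : ¬ centralizer ({g * a * g⁻¹} : Set G) ≤ cj g S)
    (hk : centralizer ({g * a * g⁻¹} : Set G) ≤ cj k T) :
    Supports (cj (g⁻¹ * k) T) S := by
  refine ⟨isCoatom_cj hT _, a, ha0, ?_, ?_⟩
  · intro hle
    apply hc
    rw [centralizer_conj]
    exact cj_mono hle
  · rw [centralizer_conj] at hk
    have := cj_mono (g := g⁻¹) hk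
    rwa [cj_inv_cj, cj_cj] at this

theorem part_c {S T : Subgroup G} (hS : IsCoatom S) (hT : IsCoatom T)
    (hnc : ∀ g : G, T ≠ cj g S) :
    (∃ g : G, Supports (cj g T) S) ↔
      (tildeOf S (typeA1 S) ∩ tildeOf T (typeA T)).Nonempty := by
  constructor
  · rintro ⟨g, -, x, hx0, hc, hCT⟩
    obtain ⟨hx1, -⟩ := (h.tame S hS).2.1 x hx0 hc
    obtain ⟨hxσ, hxne⟩ := (h.mem_typeA1_iff hS).mp hx1
    -- conjugate by `g⁻¹`
    have hS' : IsCoatom (cj g⁻¹ S) := isCoatom_cj hS _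
    have hx'σ : g⁻¹ * x * g⁻¹⁻¹ ∈ sigmaCore (cj g⁻¹ S) := by
      rw [h.sigmaCore_cj S hS]; exact conj_mem_cj hxσ
    have hx'ne : g⁻¹ * x * g⁻¹⁻¹ ≠ 1 := fun h' => hxne (conj_eq_one_iff.mp h')
    have hx'0 : g⁻¹ * x * g⁻¹⁻¹ ∈ typeA0 (cj g⁻¹ S) :=
      typeA_subset_typeA0 _ (h.sub _ hS' ((h.mem_typeA1_iff hS').mpr ⟨hx'σ, hx'ne⟩))
    have hc' : ¬ centralizer ({g⁻¹ * x * g⁻¹⁻¹} : Set G) ≤ cj g⁻¹ S := by
      rw [centralizer_conj, cj_le_iff]; exact hc
    have hCT' : centralizer ({g⁻¹ * x * g⁻¹⁻¹} : Set G) ≤ T := by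
      rw [centralizer_conj]
      have := cj_mono (g := g⁻¹) hCT
      rwa [cj_inv_cj] at this
    obtain ⟨-, -, -, -, hxA, -⟩ := (h.tame _ hS').2.2 _ hx'0 hc' T hT hCT'
    refine ⟨x, ⟨x, hx1, 1, Subgroup.one_mem _, 1, by simp⟩,
      ⟨g⁻¹ * x * g⁻¹⁻¹, hxA, 1, Subgroup.one_mem _, g, by group⟩⟩
  · rintro ⟨z, ⟨a, ha1, r, hr, y, hz⟩, ⟨a', ha', r', hr', y', hz'⟩⟩
    obtain ⟨haσ, hane⟩ := (h.mem_typeA1_iff hS).mp ha1
    by_cases ha'1 : a' ∈ typeA1 T
    · exfalso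
      have h1 : z ∈ tildeOf S ((sigmaCore S : Set G) \ {1}) := by
        rw [← h.typeA1_eq hS]; exact ⟨a, ha1, r, hr, y, hz⟩
      have h2 : z ∈ tildeOf T ((sigmaCore T : Set G) \ {1}) := by
        rw [← h.typeA1_eq hT]; exact ⟨a', ha'1, r', hr', y', hz'⟩
      have := h.tilde_disj S T hS hT hnc
      exact (Set.eq_empty_iff_forall_notMem.mp this) z ⟨h1, h2⟩
    · have hCa' : centralizer ({a'} : Set G) ≤ T := by
        by_contra hc
        exact ha'1 ((h.tame T hT).2.1 a' (typeA_subset_typeA0 T ha') hc).1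
      rw [supportR_eq_bot_of_le hCa', Subgroup.mem_bot] at hr'
      subst hr'
      -- `a' = g (a r) g⁻¹` with `g = y'⁻¹ y`
      have hEq : a' = (y'⁻¹ * y) * (a * r) * (y'⁻¹ * y)⁻¹ := by
        have h3 : y * (a * r) * y⁻¹ = y' * (a' * 1) * y'⁻¹ := hz.symm.trans hz'
        have h4 : a' = y'⁻¹ * (y' * (a' * 1) * y'⁻¹) * y' := by group
        rw [h4, ← h3]; group
      set g := y'⁻¹ * y with hg
      have hS' : IsCoatom (cj g S) := isCoatom_cj hS _
      have ha''σ : g * a * g⁻¹ ∈ sigmaCore (cj g S) := by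
        rw [h.sigmaCore_cj S hS]; exact conj_mem_cj haσ
      have ha''ne : g * a * g⁻¹ ≠ 1 := fun h' => hane (conj_eq_one_iff.mp h')
      have hr'' : g * r * g⁻¹ ∈ supportR (cj g S) (g * a * g⁻¹) := by
        rw [h.supportR_cj S hS a haσ hane]; exact conj_mem_cj hr
      have hmul : g * a * g⁻¹ * (g * r * g⁻¹) = a' := by
        rw [hEq]; group
      have hnc' : ∀ k : G, T ≠ cj k (cj g S) := by
        intro k hk
        rw [cj_cj] at hk
        exact hnc _ hk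
      have ha0 : a ∈ typeA0 S := typeA_subset_typeA0 S (h.sub S hS ha1)
      by_cases hr1 : r = 1
      · -- `a' = g a g⁻¹ ∈ A₁(S^g) ∩ A(T)`
        have hEq' : a' = g * a * g⁻¹ := by
          rw [← hmul, hr1]; group
        have hmem : g * a * g⁻¹ ∈ typeA1 (cj g S) ∩ typeA T :=
          ⟨(h.mem_typeA1_iff hS').mpr ⟨ha''σ, ha''ne⟩, hEq' ▸ ha'⟩
        obtain ⟨hc, hCT⟩ := h.part_b hS' hT hnc' _ hmem
        refine ⟨g⁻¹ * 1, supports_of_conj hS hT ha0 g 1 hc ?_⟩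
        rw [cj_one]; exact hCT
      · have hr''1 : g * r * g⁻¹ ≠ 1 := fun h' => hr1 (conj_eq_one_iff.mp h')
        obtain ⟨hc, k, hk⟩ := h.conj_of_mul_mem hS' hT hnc' ha''σ ha''ne hr'' hr''1
          (hmul ▸ ha')
        exact ⟨g⁻¹ * k, supports_of_conj hS hT ha0 g k hc hk⟩

omit h in
theorem dvd_card_of_mem_tau2 [Finite G] {M : Subgroup G} {q : ℕ} (hq : q ∈ tau2 M) :
    q ∣ Nat.card M := by
  obtain ⟨hqp, -, -, h1⟩ := hq
  unfold PRankLE at h1
  push Not at h1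
  obtain ⟨A, -, hA, hcard⟩ := h1
  -- `A` is nontrivial of exponent `q`
  have hne : ∃ a ∈ A, a ≠ 1 := by
    by_contra hno
    push Not at hno
    have : A = ⊥ := (Subgroup.eq_bot_iff_forall A).mpr hno
    rw [this, Subgroup.card_bot, pow_one] at hcard
    have := hqp.one_lt
    omega
  obtain ⟨a, haA, ha1⟩ := hne
  have hord : orderOf a = q := by
    have hdvd : orderOf a ∣ q := orderOf_dvd_of_pow_eq_one (hA a haA)
    rcases (Nat.dvd_prime hqp).mp hdvd with h' | h'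
    · exact absurd (orderOf_eq_one_iff.mp h') ha1
    · exact h'
  rw [← hord]
  exact orderOf_dvd_natCard a

theorem part_d [Finite G] {S T : Subgroup G} (hS : IsCoatom S) (hT : IsCoatom T)
    (hnc : ∀ g : G, T ≠ cj g S) :
    tildeOf S (typeA1 S) ∩ tildeOf T (typeA T) = ∅ ∨
      tildeOf T (typeA1 T) ∩ tildeOf S (typeA S) = ∅ := by
  by_contra hno
  push Not at hno
  obtain ⟨h1, h2⟩ := hno
  have hnc' : ∀ g : G, S ≠ cj g T := by
    intro g hg
    apply hnc g⁻¹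
    rw [hg, cj_inv_cj]
  obtain ⟨g, -, x, hx0, hcx, hCx⟩ :=
    (h.part_c hS hT hnc).mpr h1
  obtain ⟨k, -, y, hy0, hcy, hCy⟩ :=
    (h.part_c hT hS hnc').mpr h2
  obtain ⟨hxσ, hxne⟩ := (h.mem_typeA1_iff hS).mp ((h.tame S hS).2.1 x hx0 hcx).1
  obtain ⟨hyσ, hyne⟩ := (h.mem_typeA1_iff hT).mp ((h.tame T hT).2.1 y hy0 hcy).1
  -- `q' ∈ σ(T) ∩ τ₂(S^k)`
  obtain ⟨q, hqT, hqS⟩ := h.tdata T hT y hyσ hyne hcy (cj k S) (isCoatom_cj hS k) hCy
  -- conjugate `(S, x, T^g)` by `k`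
  have hS' : IsCoatom (cj k S) := isCoatom_cj hS k
  have hx'σ : k * x * k⁻¹ ∈ sigmaCore (cj k S) := by
    rw [h.sigmaCore_cj S hS]; exact conj_mem_cj hxσ
  have hx'ne : k * x * k⁻¹ ≠ 1 := fun h' => hxne (conj_eq_one_iff.mp h')
  have hc' : ¬ centralizer ({k * x * k⁻¹} : Set G) ≤ cj k S := by
    rw [centralizer_conj, cj_le_iff]; exact hcx
  have hC' : centralizer ({k * x * k⁻¹} : Set G) ≤ cj k (cj g T) := by
    rw [centralizer_conj]; exact cj_mono hCx
  have hτ := h.s1436 (cj k S) hS' _ hx'σ hx'ne hc' (cj k (cj g T))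
    (isCoatom_cj (isCoatom_cj hT g) k) hC'
    ⟨q, by rw [h.sigma_cj, h.sigma_cj]; exact hqT, dvd_card_of_mem_tau2 hqS⟩
  rw [hτ] at hqS
  exact hqS

/-- Row 1539 from the B&G package. -/
theorem s1539_of [Finite G] (S T : Subgroup G) (hS : IsCoatom S) (hT : IsCoatom T)
    (hnc : ∀ g : G, T.map (MulAut.conj g).toMonoidHom ≠ S) :
    (Cfsg.Supports T S ↔ (Cfsg.typeA1 S ∩ Cfsg.typeA T).Nonempty) ∧
    (∀ x ∈ Cfsg.typeA1 S ∩ Cfsg.typeA T,
      ¬ Subgroup.centralizer ({x} : Set G) ≤ S ∧ Subgroup.centralizer ({x} : Set G) ≤ T) ∧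
    ((∃ g : G, Cfsg.Supports (T.map (MulAut.conj g).toMonoidHom) S) ↔
      (Cfsg.tildeOf S (Cfsg.typeA1 S) ∩ Cfsg.tildeOf T (Cfsg.typeA T)).Nonempty) ∧
    (Cfsg.tildeOf S (Cfsg.typeA1 S) ∩ Cfsg.tildeOf T (Cfsg.typeA T) = ∅ ∨
      Cfsg.tildeOf T (Cfsg.typeA1 T) ∩ Cfsg.tildeOf S (Cfsg.typeA S) = ∅) := by
  have hnc' : ∀ g : G, T ≠ cj g S := by
    intro g hg
    apply hnc g⁻¹
    have := cj_inv_cj g S
    rw [← hg] at this
    exact this
  exact ⟨h.part_a hS hT hnc', h.part_b hS hT hnc', h.part_c hS hT hnc', h.part_d hS hT hnc'⟩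

end BGInput

/-! ### Type II: row 1538 -/

theorem normalizer_subgroup_eq [IsSimpleGroup G] {M N : Subgroup G} (hM : IsCoatom M)
    (hN : N ≠ ⊥) (hNM : N ≤ M) (hconj : ∀ x ∈ M, ∀ a ∈ N, x * a * x⁻¹ ∈ N) :
    Subgroup.normalizer (N : Set G) = M := by
  have hle : M ≤ Subgroup.normalizer (N : Set G) := by
    intro x hx
    rw [Subgroup.mem_normalizer_iff]
    intro n
    constructor
    · exact fun hn => hconj x hx n hn
    · intro hn
      have := hconj x⁻¹ (M.inv_mem hx) _ hn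
      have e : x⁻¹ * (x * n * x⁻¹) * x⁻¹⁻¹ = n := by group
      rwa [e] at this
  by_contra hneq
  have htop : Subgroup.normalizer (N : Set G) = ⊤ :=
    hM.2 _ (lt_of_le_of_ne hle (Ne.symm hneq))
  have hnorm : N.Normal := Subgroup.normalizer_eq_top_iff.mp htop
  rcases IsSimpleGroup.eq_bot_or_eq_top_of_normal N hnorm with hb | ht
  · exact hN hb
  · rw [ht] at hNM; exact hM.1 (top_le_iff.mp hNM)

theorem fittingOf_le (M : Subgroup G) : fittingOf M ≤ M := by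
  unfold fittingOf; exact Subgroup.map_subtype_le _

theorem fittingHallOf_le_fittingOf (M : Subgroup G) : fittingHallOf M ≤ fittingOf M := by
  unfold fittingHallOf fittingOf
  apply Subgroup.map_mono
  unfold fittingHall fittingSubgroup
  exact sSup_le_sSup (fun N hN => ⟨hN.1, hN.2.1⟩)

theorem fittingOf_conj_mem {M : Subgroup G} {m a : G} (hm : m ∈ M)
    (ha : a ∈ fittingOf M) : m * a * m⁻¹ ∈ fittingOf M := by
  unfold fittingOf at ha ⊢
  obtain ⟨b, hb, rfl⟩ := ha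
  have hn : (fittingSubgroup ↥M).Normal := by
    unfold fittingSubgroup
    exact Subgroup.sSup_normal _ (fun _ h => h.1)
  refine ⟨⟨m, hm⟩ * b * ⟨m, hm⟩⁻¹, hn.conj_mem b hb ⟨m, hm⟩, ?_⟩
  simp

/-- TI-ness of a tamely embedded set all of whose elements have their centraliser in `M` -/
theorem isTISubset_of_tame {M : Subgroup G} {X : Set G} (hT : Tame M X)
    (hnorm : Subgroup.normalizer X = M)
    (key : ∀ x ∈ X, centralizer ({x} : Set G) ≤ M) : IsTISubset X := by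
  intro g hg x hx hgx
  exfalso
  rw [hnorm] at hg
  obtain ⟨m, hm, hmx⟩ := hT.1 x hx g hgx
  have hcen : m⁻¹ * g ∈ centralizer ({x} : Set G) := by
    rw [mem_centralizer_singleton_iff]
    calc m⁻¹ * g * x = m⁻¹ * (g * x * g⁻¹) * g := by group
      _ = m⁻¹ * (m * x * m⁻¹) * g := by rw [hmx]
      _ = x * (m⁻¹ * g) := by group
  have := key x hx hcen
  apply hg
  have e : g = m * (m⁻¹ * g) := by group
  rw [e]; exact M.mul_mem hm this

/-- Row 1538 from the tame embedding clauses. -/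
theorem s1538_of [IsSimpleGroup G] {M : Subgroup G} (hM : IsCoatom M)
    (hT0 : Tame M (typeA0 M)) (hsub : typeA1 M ⊆ typeA M) (hne : (typeA1 M).Nonempty)
    (hII : IsOfTypeII M) (hcore : typeCore M = fittingHallOf M) :
    (IsTISubset (typeA0 M) ∧ Subgroup.normalizer (typeA0 M) = M) ∧
    (IsTISubset (typeA M) ∧ Subgroup.normalizer (typeA M) = M) ∧
    (IsTISubset (typeA1 M) ∧ Subgroup.normalizer (typeA1 M) = M) := by
  obtain ⟨W₁, U, W₂, hP, -, -, hTI, -, -, -, -⟩ := hII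
  have hsub0 : typeA1 M ⊆ typeA0 M := hsub.trans (typeA_subset_typeA0 M)
  have key : ∀ x ∈ typeA0 M, centralizer ({x} : Set G) ≤ M := by
    intro x hx
    by_contra hc
    obtain ⟨hx1, -⟩ := hT0.2.1 x hx hc
    have hxH : x ∈ fittingHallOf M := by
      have := hx1.1
      rw [SetLike.mem_coe, hcore] at this
      exact this
    have hx1' : x ≠ 1 := fun h' => hx1.2 h'
    have hxF : x ∈ fittingOf M := fittingHallOf_le_fittingOf M hxH
    have hFne : fittingOf M ≠ ⊥ := by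
      intro hb
      rw [hb, Subgroup.mem_bot] at hxF
      exact hx1' hxF
    have hN : Subgroup.normalizer (fittingOf M : Set G) = M :=
      normalizer_subgroup_eq hM hFne (fittingOf_le M) (fun y hy a ha => fittingOf_conj_mem hy ha)
    obtain ⟨c, hcC, hcM⟩ := SetLike.not_le_iff_exists.mp hc
    have hcN : c ∉ Subgroup.normalizer (fittingOf M : Set G) := by rw [hN]; exact hcM
    have hcx : c * x * c⁻¹ = x := by
      have := mem_centralizer_singleton_iff.mp hcC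
      rw [this]; group
    have := hTI c hcN x hxF (by rw [hcx]; exact hxF)
    exact hx1' this
  have s := fun A hA => s1537_of hM hT0 hsub hne A hA
  refine ⟨⟨?_, (s _ (Or.inr (Or.inr rfl))).1⟩, ⟨?_, (s _ (Or.inr (Or.inl rfl))).1⟩,
    ⟨?_, (s _ (Or.inl rfl)).1⟩⟩
  · exact isTISubset_of_tame hT0 (s _ (Or.inr (Or.inr rfl))).1 key
  · exact isTISubset_of_tame (hT0.mono (typeA_subset_typeA0 M)) (s _ (Or.inr (Or.inl rfl))).1
      (fun x hx => key x (typeA_subset_typeA0 M hx))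
  · exact isTISubset_of_tame (hT0.mono hsub0) (s _ (Or.inl rfl)).1
      (fun x hx => key x (hsub0 hx))

end Cfsg.Agent.Lib.Helper6.PF8
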