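import Mathlib
import Cfsg.Agent.Lib.Helper6.PF8b
import Cfsg.Agent.Lib.Helper7.BGRows
import Cfsg.Agent.Lib.Helper7.BGK11
import Cfsg.Agent.Lib.Helper3.BG15g
import Cfsg.Agent.Lib.Helper3.BG17h
import Cfsg.Agent.Lib.Lead.BGN8

/-!
# Peterfalvi section 8 from the B&G rows: discharging the inputs of `PF8a`/`PF8b`

All theorems take the needed B&G rows (`BGRows.RowNNNN G`) as hypotheses.
-/

set_option autoImplicit false
set_option linter.unusedVariables false
set_option linter.style.longLine false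
set_option linter.unusedSectionVars false

universe u

namespace Cfsg.Agent.Lib.Helper6.PF8

open Cfsg Subgroup
open Cfsg.Agent.Lib.Helper7.BGRows

variable {G : Type u} [Group G] [Finite G]

/-- the part of row 1391 used in Peterfalvi section 8 -/
def Weak1391 (G : Type u) [Group G] [Finite G] : Prop :=
  ∀ (hG : IsMinSimpleOddOrder G) (M : Subgroup G) (hM : IsCoatom M), Tame M (typeA0 M)

theorem weak_of_row1391 (h : Row1391 G) : Weak1391 G := by
  intro hG M hM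
  obtain ⟨h1, h2, h3⟩ := h hG M hM (typeA0 M) (Or.inr rfl)
  refine ⟨h1, h2, ?_⟩
  intro x hx hc L hL hCL
  obtain ⟨a, b, c, d, e, -⟩ := h3 x hx hc L hL hCL
  exact ⟨a, b, c, d, e⟩

theorem core_of (h1351 : Row1351 G) (h1352 : Row1352 G) (h1357 : Row1357 G) (h1365 : Row1365 G)
    (h1382 : Row1382 G) (hG : IsMinSimpleOddOrder G) {M : Subgroup G} (hM : IsCoatom M) :
    typeCore M = sigmaCore M := by
  classical
  obtain ⟨K, U, hKU⟩ := Cfsg.Agent.Lib.Helper3.BG17.exists_decomp h1351 h1352 hG hM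
  unfold typeCore
  by_cases h : IsOfTypeIII M ∨ IsOfTypeIV M
  · rw [if_pos h]
    obtain ⟨hK1, hU, -⟩ := (h1382 hG M hM K U hKU).mp h
    rw [(h1365 hG M hM K U hKU hK1).1, hU, bot_sup_eq]
  · rw [if_neg h]
    by_contra hne
    obtain ⟨hU, -, hKp⟩ := h1357 hG M hM K U hKU hne
    have hK1 : K ≠ ⊥ := by
      intro hK
      rw [hK, Subgroup.card_bot] at hKp
      exact Nat.not_prime_one hKp
    exact h ((h1382 hG M hM K U hKU).mpr ⟨hK1, hU, hne⟩)

theorem typeI_K_bot (h1355 : Row1355 G) (h1364 : Row1364 G) (hG : IsMinSimpleOddOrder G)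
    {M : Subgroup G} (hM : IsCoatom M) {K U : Subgroup G} (hKU : IsSigmaDecomposition M K U)
    (hI : IsOfTypeI M) : K = ⊥ :=
  Cfsg.Agent.Lib.Helper3.BG17.K_bot_of_typeF h1364 hG hM hKU (h1355 hG M hM).2.1 hI.1

theorem typeI_not_III_IV (h1351 : Row1351 G) (h1352 : Row1352 G) (h1355 : Row1355 G)
    (h1364 : Row1364 G) (h1382 : Row1382 G) (hG : IsMinSimpleOddOrder G) {M : Subgroup G}
    (hM : IsCoatom M) (hI : IsOfTypeI M) : ¬ (IsOfTypeIII M ∨ IsOfTypeIV M) := by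
  obtain ⟨K, U, hKU⟩ := Cfsg.Agent.Lib.Helper3.BG17.exists_decomp h1351 h1352 hG hM
  intro h
  obtain ⟨hK1, -, -⟩ := (h1382 hG M hM K U hKU).mp h
  exact hK1 (typeI_K_bot h1355 h1364 hG hM hKU hI)

theorem kappa_empty_of_K_bot {M K : Subgroup G} (hK : IsPiHallOf (kappa M) K M) (hK1 : K = ⊥) :
    kappa M = ∅ := by
  ext p
  simp only [Set.mem_empty_iff_false, iff_false]
  intro hp
  have h := hK.2.2 p hp.1 hp
  rw [hK1, Subgroup.relIndex_bot_left] at h
  exact h hp.2.1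

theorem sub_of (h1351 : Row1351 G) (h1352 : Row1352 G) (h1355 : Row1355 G) (h1357 : Row1357 G)
    (h1364 : Row1364 G) (h1365 : Row1365 G) (h1382 : Row1382 G) (hG : IsMinSimpleOddOrder G)
    {M : Subgroup G} (hM : IsCoatom M) : typeA1 M ⊆ typeA M := by
  classical
  intro a ha
  have hcore := core_of h1351 h1352 h1357 h1365 h1382 hG hM
  by_cases hI : IsOfTypeI M
  · rw [mem_typeA_of_typeI hI]
    have hno := typeI_not_III_IV h1351 h1352 h1355 h1364 h1382 hG hM hI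
    have hF : typeCore M = fittingHallOf M := by unfold typeCore; rw [if_neg hno]
    have haF : a ∈ fittingHallOf M := hF ▸ ha.1
    exact ⟨fittingHallOf_le M haF, fun h => ha.2 h, a, haF, fun h => ha.2 h, rfl⟩
  · rw [mem_typeA_of_not hI]
    have haσ : a ∈ sigmaCore M := hcore ▸ ha.1
    exact ⟨(h1355 hG M hM).2.2.1 haσ, fun h => ha.2 h, a, ha.1, fun h => ha.2 h, rfl⟩

theorem ne_of (h1351 : Row1351 G) (h1352 : Row1352 G) (h1355 : Row1355 G) (h1357 : Row1357 G)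
    (h1365 : Row1365 G) (h1382 : Row1382 G) (hG : IsMinSimpleOddOrder G)
    {M : Subgroup G} (hM : IsCoatom M) : (typeA1 M).Nonempty := by
  have hcore := core_of h1351 h1352 h1357 h1365 h1382 hG hM
  obtain ⟨hF1, hFσ, -⟩ := h1355 hG M hM
  obtain ⟨x, hx1⟩ := (Subgroup.ne_bot_iff_exists_ne_one).mp hF1
  refine ⟨(x : G), ?_, ?_⟩
  · show (x : G) ∈ typeCore M
    rw [hcore]; exact hFσ x.2
  · intro h
    apply hx1
    exact Subtype.ext h

/-- all inputs of Peterfalvi section 8 from the B&G rows -/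
theorem bgInput_of (h1351 : Row1351 G) (h1352 : Row1352 G) (h1355 : Row1355 G)
    (h1357 : Row1357 G) (h1364 : Row1364 G) (h1365 : Row1365 G) (h1382 : Row1382 G)
    (hW : Weak1391 G) (h1430 : Row1430 G) (h1431 : Row1431 G) (h1436 : Row1436 G)
    (hG : IsMinSimpleOddOrder G) : BGInput G where
  core := fun M hM => core_of h1351 h1352 h1357 h1365 h1382 hG hM
  sub := fun M hM => sub_of h1351 h1352 h1355 h1357 h1364 h1365 h1382 hG hM
  tame := fun M hM => hW hG M hM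
  typeI_kappa := by
    intro M hM hI
    obtain ⟨K, U, hKU⟩ := Cfsg.Agent.Lib.Helper3.BG17.exists_decomp h1351 h1352 hG hM
    exact kappa_empty_of_K_bot hKU.hall (typeI_K_bot h1355 h1364 hG hM hKU hI)
  fh_le := fun M hM => (h1355 hG M hM).2.1
  kappa_der := by
    intro M hM p hp
    obtain ⟨K, U, hKU⟩ := Cfsg.Agent.Lib.Helper3.BG17.exists_decomp h1351 h1352 hG hM
    have hK1 : K ≠ ⊥ := by
      intro hK
      have := kappa_empty_of_K_bot hKU.hall hK
      rw [this] at hp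
      exact hp
    have e := Cfsg.Agent.Lib.Lead.BGN.kappa_eq_tau1 hG h1430 hM hKU hK1
    rw [e] at hp
    exact hp.2.2.2.1
  sigmaCore_primes := fun M hM => (Cfsg.Agent.Lib.Helper7.BGA.s1350 hG M hM).1.2.1
  common := by
    intro M N hM hN x hx1 hxM hxN
    exact Cfsg.Agent.Lib.Helper7.BGK.conj_of_common_elt h1430 h1431 hG hM hN hx1 hxM hxN
  s1432 := by
    intro M hM x hx hx1 x' hx' hx'1 hσ
    rcases Cfsg.Agent.Lib.Helper7.BGK.s1432_of h1430 h1431 hG M hM x hx hx1 x' hx' hx'1 hσ with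
      h | ⟨h1, -, h3⟩
    · exact Or.inl h
    · exact Or.inr ⟨h1, h3⟩
  s1436 := by
    intro M hM x hx hx1 hxM N hN hxN hp
    exact ((h1436 hG M hM x hx hx1 hxM N hN hxN).1 hp).2
  partition := by
    intro M N hM hN hnc q hqM hqN
    exact Cfsg.Agent.Lib.Helper3.BG15.sigma_partition hG hM hN hnc hqM hqN
  tilde_disj := by
    intro M N hM hN hnc
    exact Cfsg.Agent.Lib.Helper7.BGK.tilde_disjoint_of h1430 h1431 hG hM hN hnc
  sigmaCore_cj := fun M hM g => Cfsg.Agent.Lib.Helper7.BGK.sigmaCore_cj hG hM g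
  sigma_cj := fun M g => Cfsg.Agent.Lib.Helper7.BGK.sigma_cj M g
  supportR_cj := by
    intro M hM x hx hx1 g
    exact Cfsg.Agent.Lib.Helper7.BGK.supportR_cj h1430 h1431 hG hM hx hx1 g
  tdata := by
    intro M hM x hx hx1 hxM L hL hxL
    rcases Cfsg.Agent.Lib.Helper7.BGK.supp_cases h1430 h1431 hG hM hx hx1 with h | ⟨-, h⟩
    · exact absurd h.1 hxM
    · obtain ⟨L₀, X, q, hL₀, hT, -, hCL₀, huniq, -, -⟩ := h
      have e : L = L₀ := huniq L hL hxL
      exact ⟨q, hT.hqM, e ▸ hT.hqL⟩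

/-- row 1537 from the B&G rows -/
theorem s1537_rows (h1351 : Row1351 G) (h1352 : Row1352 G) (h1355 : Row1355 G)
    (h1357 : Row1357 G) (h1364 : Row1364 G) (h1365 : Row1365 G) (h1382 : Row1382 G)
    (hW : Weak1391 G) (hG : IsMinSimpleOddOrder G) (M : Subgroup G) (hM : IsCoatom M)
    (A : Set G) (hA : A = typeA1 M ∨ A = typeA M ∨ A = typeA0 M) :
    Subgroup.normalizer A = M ∧ DadeHypothesis A M (supportR M) := by
  have : IsSimpleGroup G := hG.2.1
  exact s1537_of hM (hW hG M hM) (sub_of h1351 h1352 h1355 h1357 h1364 h1365 h1382 hG hM)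
    (ne_of h1351 h1352 h1355 h1357 h1365 h1382 hG hM) A hA

theorem normalizer_le_of_cj {U U' M : Subgroup G} {x : G} (hx : x ∈ M) (hU' : U' = cj x U)
    (h : Subgroup.normalizer (U' : Set G) ≤ M) : Subgroup.normalizer (U : Set G) ≤ M := by
  intro n hn
  have hn' : x * n * x⁻¹ ∈ Subgroup.normalizer (U' : Set G) := by
    rw [Subgroup.mem_normalizer_iff] at hn ⊢
    intro g
    rw [hU']
    show g ∈ cj x U ↔ x * n * x⁻¹ * g * (x * n * x⁻¹)⁻¹ ∈ cj x U
    have hn2 : x⁻¹ * g * x ∈ U ↔ n * (x⁻¹ * g * x) * n⁻¹ ∈ U := hn (x⁻¹ * g * x)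
    rw [mem_cj, mem_cj, hn2]
    have e : x⁻¹ * (x * n * x⁻¹ * g * (x * n * x⁻¹)⁻¹) * x = n * (x⁻¹ * g * x) * n⁻¹ := by group
    rw [e]
  have h2 := h hn'
  have e : n = x⁻¹ * (x * n * x⁻¹) * x := by group
  rw [e]; exact M.mul_mem (M.mul_mem (M.inv_mem hx) h2) hx

theorem typeII_not_III_IV (hG : IsMinSimpleOddOrder G) {M : Subgroup G} (hM : IsCoatom M)
    (hII : IsOfTypeII M) : ¬ (IsOfTypeIII M ∨ IsOfTypeIV M) := by
  obtain ⟨W₁, U, W₂, hP, -, -, -, -, hN, -, -⟩ := hII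
  have hdM : (⁅M, M⁆ : Subgroup G) ≤ M := Subgroup.commutator_le_self M
  have hdtop : (⁅M, M⁆ : Subgroup G) ≠ ⊤ := by
    intro h
    rw [h] at hdM
    exact hM.1 (top_le_iff.mp hdM)
  have hsolv : Group.IsSolvable ↥(⁅M, M⁆ : Subgroup G) :=
    Cfsg.Agent.Lib.Helper1.BG7.isSolvable_of_ne_top hG hdtop
  have hFd : fittingHallOf M ≤ ⁅M, M⁆ := hP.U_compl.1
  have hcop : (Nat.card (fittingHallOf M)).Coprime ((fittingHallOf M).relIndex ⁅M, M⁆) := by
    apply Nat.Coprime.coprime_dvd_right _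
      (Cfsg.Agent.Lib.Lead.FittingHall.fittingHallOf_coprime M)
    rw [← Subgroup.relIndex_mul_relIndex (fittingHallOf M) ⁅M, M⁆ M hFd hdM]
    exact dvd_mul_right _ _
  rintro (⟨W₁', U', W₂', hP', -, -, -, -, hN'⟩ | ⟨W₁', U', W₂', hP', -, -, -, -, hN'⟩)
  · obtain ⟨x, hx, hU'⟩ :=
      Cfsg.Agent.Lib.Helper3.BG17.compl_conj hsolv hcop hP.U_compl hP'.U_compl
    exact hN (normalizer_le_of_cj (hdM hx) hU' hN')
  · obtain ⟨x, hx, hU'⟩ :=
      Cfsg.Agent.Lib.Helper3.BG17.compl_conj hsolv hcop hP.U_compl hP'.U_compl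
    exact hN (normalizer_le_of_cj (hdM hx) hU' hN')

/-- row 1538 from the B&G rows -/
theorem s1538_rows (h1351 : Row1351 G) (h1352 : Row1352 G) (h1355 : Row1355 G)
    (h1357 : Row1357 G) (h1364 : Row1364 G) (h1365 : Row1365 G) (h1382 : Row1382 G)
    (hW : Weak1391 G) (hG : IsMinSimpleOddOrder G) (M : Subgroup G) (hM : IsCoatom M)
    (hII : IsOfTypeII M) :
    (IsTISubset (typeA0 M) ∧ Subgroup.normalizer (typeA0 M) = M) ∧
    (IsTISubset (typeA M) ∧ Subgroup.normalizer (typeA M) = M) ∧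
    (IsTISubset (typeA1 M) ∧ Subgroup.normalizer (typeA1 M) = M) := by
  classical
  have : IsSimpleGroup G := hG.2.1
  have hcore : typeCore M = fittingHallOf M := by
    unfold typeCore; rw [if_neg (typeII_not_III_IV hG hM hII)]
  exact s1538_of hM (hW hG M hM) (sub_of h1351 h1352 h1355 h1357 h1364 h1365 h1382 hG hM)
    (ne_of h1351 h1352 h1355 h1357 h1365 h1382 hG hM) hII hcore

/-- row 1539 from the B&G rows -/
theorem s1539_rows (h1351 : Row1351 G) (h1352 : Row1352 G) (h1355 : Row1355 G)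
    (h1357 : Row1357 G) (h1364 : Row1364 G) (h1365 : Row1365 G) (h1382 : Row1382 G)
    (hW : Weak1391 G) (h1430 : Row1430 G) (h1431 : Row1431 G) (h1436 : Row1436 G)
    (hG : IsMinSimpleOddOrder G) (S T : Subgroup G) (hS : IsCoatom S) (hT : IsCoatom T)
    (hnc : ∀ g : G, T.map (MulAut.conj g).toMonoidHom ≠ S) :
    (Cfsg.Supports T S ↔ (Cfsg.typeA1 S ∩ Cfsg.typeA T).Nonempty) ∧
    (∀ x ∈ Cfsg.typeA1 S ∩ Cfsg.typeA T,
      ¬ Subgroup.centralizer ({x} : Set G) ≤ S ∧ Subgroup.centralizer ({x} : Set G) ≤ T) ∧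
    ((∃ g : G, Cfsg.Supports (T.map (MulAut.conj g).toMonoidHom) S) ↔
      (Cfsg.tildeOf S (Cfsg.typeA1 S) ∩ Cfsg.tildeOf T (Cfsg.typeA T)).Nonempty) ∧
    (Cfsg.tildeOf S (Cfsg.typeA1 S) ∩ Cfsg.tildeOf T (Cfsg.typeA T) = ∅ ∨
      Cfsg.tildeOf T (Cfsg.typeA1 T) ∩ Cfsg.tildeOf S (Cfsg.typeA S) = ∅) :=
  (bgInput_of h1351 h1352 h1355 h1357 h1364 h1365 h1382 hW h1430 h1431 h1436 hG).s1539_of
    S T hS hT hnc

end Cfsg.Agent.Lib.Helper6.PF8
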