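import Mathlib
import Cfsg.Agent.Lib.Lead.Sib4
import Cfsg.Agent.Lib.Lead.Dade3
import Cfsg.Agent.Lib.Helper6.DadeVChar2
import Cfsg.Agent.Lib.Helper6.IndFunTI

/-!
# Coherence for the Dade isometry on the characters induced from a Frobenius-like kernel
-/

set_option autoImplicit false
set_option linter.unusedVariables false
set_option linter.style.longLine false
set_option linter.unusedSectionVars false

open Cfsg

namespace Cfsg.Agent.Lib.Helper6.PF8

open Cfsg.Agent.Lib.Helper6 Cfsg.Agent.Lib.Lead.Coh Cfsg.Agent.Lib.Lead.Sib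
open scoped ComplexConjugate

section dadecoh
variable {G : Type*} [Group G] [Fintype G] {A : Set G} {L : Subgroup G} {H : G → Subgroup G}

theorem dadeIso_add (A : Set G) (L : Subgroup G) (H : G → Subgroup G) (α β : L → ℂ) :
    dadeIsometry A L H (α + β) = dadeIsometry A L H α + dadeIsometry A L H β := by
  classical
  funext g
  unfold dadeIsometry
  simp only [Pi.add_apply]
  split_ifs with h
  · rfl
  · simp

theorem dadeIso_zsmul (A : Set G) (L : Subgroup G) (H : G → Subgroup G) (n : ℤ) (α : L → ℂ) :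
    dadeIsometry A L H (n • α) = n • dadeIsometry A L H α := by
  classical
  funext g
  unfold dadeIsometry
  simp only [Pi.smul_apply]
  split_ifs with h
  · rfl
  · simp

theorem dadeIso_one (hD : DadeHypothesis A L H) (α : L → ℂ) : dadeIsometry A L H α 1 = 0 := by
  apply Cfsg.Agent.Lib.Lead.Dade.dade_apply_of_not
  rintro ⟨a, ha, x, u, hu, hx⟩
  have h1 : (a : G) * u = 1 := by rw [← hx]; group
  have hu' : u = (a : G)⁻¹ := eq_inv_of_mul_eq_one_right h1
  have haH : (a : G) ∈ H (a : G) := by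
    have := (H (a : G)).inv_mem hu
    rw [hu', inv_inv] at this
    exact this
  have haC : (a : G) ∈ L ⊓ Subgroup.centralizer ({(a : G)} : Set G) :=
    ⟨a.2, Subgroup.mem_centralizer_singleton_iff.mpr rfl⟩
  have hb : (a : G) ∈ (⊥ : Subgroup G) := by
    rw [← hD.inf_eq_bot a ha]; exact ⟨haH, haC⟩
  rw [Subgroup.mem_bot] at hb
  exact hD.one_not_mem (hb ▸ ha)

variable [Fintype L]

theorem dade_isometry_iia (hD : DadeHypothesis A L H) (K : Subgroup L) [hK : K.Normal]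
    (hAK : ∀ x : L, x ∈ K → x ≠ 1 → (x : G) ∈ A) :
    IsLinearIsometryOn (zspanOn (inducedIrrAbove K ⊥) {1}ᶜ) (dadeIsometry A L H) ∧
    ∀ α ∈ zspanOn (inducedIrrAbove K ⊥) {1}ᶜ, dadeIsometry A L H α 1 = 0 := by
  have key : ∀ α ∈ zspanOn (inducedIrrAbove K ⊥) {1}ᶜ,
      IsGeneralizedCharacter L α ∧ ∀ x : L, (x : G) ∉ A → α x = 0 := by
    intro α hα
    obtain ⟨hαs, hα1⟩ := mem_zspanOn_one.1 hα
    obtain ⟨hgen, hoff⟩ := zspan_iia_props K hαs
    refine ⟨hgen, fun x hx => ?_⟩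
    by_cases hxK : x ∈ K
    · by_cases hx1 : x = 1
      · rw [hx1]; exact hα1
      · exact absurd (hAK x hxK hx1) hx
    · exact hoff x hxK
  refine ⟨⟨?_, ?_, ?_, ?_⟩, ?_⟩
  · intro α _ β _
    exact dadeIso_add A L H α β
  · intro α _ n
    exact dadeIso_zsmul A L H n α
  · intro α hα β hβ
    obtain ⟨hαg, hαA⟩ := key α hα
    obtain ⟨hβg, hβA⟩ := key β hβ
    exact (Cfsg.Agent.Lib.Lead.Dade.s1500 hD α
      (Cfsg.Agent.Lib.Helper6.IsGeneralizedCharacter.isClassFunction hαg) hαA).1 β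
      (Cfsg.Agent.Lib.Helper6.IsGeneralizedCharacter.isClassFunction hβg) hβA
  · intro α hα
    obtain ⟨hαg, hαA⟩ := key α hα
    exact dade_isGeneralizedCharacter hD hαg hαA
  · intro α _
    exact dadeIso_one hD α

theorem dade_cs (hD : DadeHypothesis A L H) (hodd : Odd (Nat.card L))
    (K : Subgroup L) [hKn : K.Normal] (hK1 : K ≠ ⊥) (hsolv : Group.IsSolvable K)
    (hFK : ∀ k ∈ K, k ≠ 1 → ∀ x : L, x * k = k * x → x ∈ K)
    (hout : ∃ x : L, x ∉ K)
    (hAK : ∀ x : L, x ∈ K → x ≠ 1 → (x : G) ∈ A) :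
    (∀ ξ ∈ inducedIrrAbove K ⊥, IsIrrCharacter L ξ) ∧
    ∃ R : (L → ℂ) → Finset (G → ℂ),
      IsCoherenceSystem (inducedIrrAbove K ⊥) (dadeIsometry A L H) R := by
  classical
  letI : Fintype K := Fintype.ofFinite K
  obtain ⟨x₀, hw₀K⟩ := hout
  have hirr : ∀ ξ ∈ inducedIrrAbove K ⊥, IsIrrCharacter L ξ := by
    rintro ξ ⟨θ, hθ, hθ1, -, rfl⟩
    exact Cfsg.Agent.Lib.Lead.Frob.indFun_irr_of_FK K hFK hθ hθ1
  have hconj : ∀ χ ∈ inducedIrrAbove K ⊥,
      Cfsg.conjFun χ ∈ inducedIrrAbove K ⊥ ∧ Cfsg.conjFun χ ≠ χ := by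
    intro χ hχ
    refine ⟨iia_conj K ⊥ hχ, fun h => ?_⟩
    have hreal : ∀ g : L, (χ g).im = 0 := by
      intro g
      have h1 : (starRingEnd ℂ) (χ g) = χ g := congrFun h g
      exact Complex.conj_eq_iff_im.1 h1
    have h1 := eq_one_of_real_of_odd hodd χ (hirr χ hχ) hreal
    obtain ⟨θ, -, -, -, rfl⟩ := hχ
    have h2 := indFun_apply_of_not_mem K hKn θ hw₀K
    rw [h1] at h2
    exact one_ne_zero h2
  have hSne : (inducedIrrAbove K ⊥).Nonempty := by
    obtain ⟨χ, hχ, -⟩ := exists_linear_iia K ⊥ hsolv (bot_lt_iff_ne_bot.2 hK1)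
    exact ⟨χ, hχ⟩
  obtain ⟨hτ, hτ1⟩ := dade_isometry_iia hD K hAK
  obtain ⟨R, hS⟩ := s1514 (inducedIrrAbove K ⊥) hSne hirr hconj
    (dadeIsometry A L H) hτ hτ1
  exact ⟨hirr, R, hS⟩

/-- coherence of the characters induced from `K` for the Dade isometry, outside the Sibley case -/
theorem dade_coherent_of_good (hD : DadeHypothesis A L H) (hodd : Odd (Nat.card L))
    (K : Subgroup L) [hKn : K.Normal] (hK1 : K ≠ ⊥) (hKnil : Group.IsNilpotent K)
    (hFK : ∀ k ∈ K, k ≠ 1 → ∀ x : L, x * k = k * x → x ∈ K)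
    (hout : ∃ x : L, x ∉ K)
    (hAK : ∀ x : L, x ∈ K → x ≠ 1 → (x : G) ∈ A)
    (hgood : (¬ ∃ p m : ℕ, p.Prime ∧ Nat.card K = p ^ m) ∨ (∀ a b : K, a * b = b * a) ∨
      ∃ p m : ℕ, p.Prime ∧ Nat.card K = p ^ m ∧ K.index ∣ p - 1) :
    IsCoherent (inducedIrrAbove K ⊥) {1}ᶜ (dadeIsometry A L H) := by
  classical
  letI : Fintype K := Fintype.ofFinite K
  have hsolv : Group.IsSolvable K := inferInstance
  obtain ⟨hirr, R, hS⟩ := dade_cs hD hodd K hK1 hsolv hFK hout hAK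
  have hK'K : ⁅K, K⁆ < K := commutator_lt_self K hK1
  have hfrob := frob_of_FK K hFK ⁅K, K⁆ (Subgroup.commutator_le_self K)
  have hnilq : Group.IsNilpotent (↥K ⧸ (⊥ : Subgroup L).subgroupOf K) := inferInstance
  have h1521 := fun hg => s1521 K hsolv (dadeIsometry A L H) R hS hodd ⊥ bot_le hnilq
    ⁅K, K⁆ (sup_bot_eq _).symm hK'K hfrob hg
  rcases hgood with hpp | hab | ⟨p, m, hp, hcard, hdvd⟩
  · apply h1521
    right; right; left
    rintro ⟨p, m, hp, h⟩
    rw [Subgroup.relIndex_bot_left] at h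
    exact hpp ⟨p, m, hp, h⟩
  · apply h1521
    right; right; right; left
    rw [Subgroup.commutator_le]
    intro a ha b hb
    rw [Subgroup.mem_bot, commutatorElement_def]
    have e : a * b = b * a := congrArg Subtype.val (hab ⟨a, ha⟩ ⟨b, hb⟩)
    rw [e]; group
  · apply h1521
    right; right; right; right
    refine ⟨p, m, hp, ?_, hdvd⟩
    rw [Subgroup.relIndex_bot_left]; exact hcard

/-- when all the supports `H a` are trivial, the Dade isometry is induction -/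
theorem dade_eq_indFun_of_trivial (hD : DadeHypothesis A L H) (hH : ∀ a ∈ A, H a = ⊥)
    {α : L → ℂ} (hα : IsClassFunction L α) (hαA : ∀ x : L, (x : G) ∉ A → α x = 0) :
    dadeIsometry A L H α = indFun L α := by
  funext g
  by_cases h : ∃ a : ↥L, (a : G) ∈ A ∧ ∃ x : G, ∃ u ∈ H (a : G), x * g * x⁻¹ = (a : G) * u
  · obtain ⟨a, ha, x, u, hu, hx⟩ := h
    rw [Cfsg.Agent.Lib.Lead.Dade.dade_apply hD hα a ha hu hx]
    have hu1 : u = 1 := by
      rw [hH a ha, Subgroup.mem_bot] at hu; exact hu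
    rw [hu1, mul_one] at hx
    have hcf := indFun_isClassFunction L α
    rw [← hcf g x, hx, dade_indFun_apply hD hα hαA a ha, hH a ha, Subgroup.card_bot]
    simp
  · rw [Cfsg.Agent.Lib.Lead.Dade.dade_apply_of_not h, dade_indFun_apply_of_not hαA h]

/-- transfer of coherence between two maps agreeing on the relevant lattice -/
theorem isCoherent_congr {S : Set (L → ℂ)} {B : Set L} {τ τ' : (L → ℂ) → (G → ℂ)}
    (h : IsCoherent S B τ) (heq : ∀ α ∈ zspanOn S B, τ' α = τ α) : IsCoherent S B τ' := by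
  obtain ⟨h1, τ₁, hτ₁, hag⟩ := h
  exact ⟨h1, τ₁, hτ₁, fun α hα => (hag α hα).trans (heq α hα).symm⟩

end dadecoh

end Cfsg.Agent.Lib.Helper6.PF8
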