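import Mathlib
import Cfsg.Agent.Lib.Helper6.PF8c
import Cfsg.Agent.Lib.Helper6.PF8d
import Cfsg.Agent.Lib.Lead.CNSolv

/-!
# Row 1542: coherence for a maximal subgroup of Type I that is a Frobenius group
-/

set_option autoImplicit false
set_option linter.unusedVariables false
set_option linter.style.longLine false
set_option linter.unusedSectionVars false

universe u

open Cfsg

namespace Cfsg.Agent.Lib.Helper6.PF8

open Cfsg.Agent.Lib.Helper7.BGRows

/-- the quotient by a Frobenius kernel of odd order has exponent equal to its order -/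
theorem index_eq_exponent_of_FK {M : Type*} [Group M] [Finite M] (K : Subgroup M) [hK : K.Normal]
    (hK1 : K ≠ ⊥) (hodd : Odd (Nat.card M))
    (hFK : ∀ k ∈ K, k ≠ 1 → ∀ x : M, x * k = k * x → x ∈ K)
    (U : Subgroup M) (hU : Subgroup.IsComplement' K U) :
    K.index = Monoid.exponent (M ⧸ K) := by
  classical
  have hZ : IsZGroup U := by
    refine ⟨fun r hr S => ?_⟩
    have : Fact r.Prime := ⟨hr⟩
    have hP'p : IsPGroup r ((S : Subgroup U).map U.subtype) := S.2.map _
    have hP'U : (S : Subgroup U).map U.subtype ≤ U := Subgroup.map_subtype_le _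
    have hnil : Group.IsNilpotent ↥((S : Subgroup U).map U.subtype) := hP'p.isNilpotent
    have hodd' : Odd (Nat.card ↥((S : Subgroup U).map U.subtype)) :=
      Odd.of_dvd_nat hodd (Subgroup.card_subgroup_dvd_card _)
    have hfpf : ∀ h ∈ (S : Subgroup U).map U.subtype, h ≠ 1 →
        K ⊓ Subgroup.centralizer {h} = ⊥ := by
      intro h hh hh1
      rw [eq_bot_iff]
      intro k hk
      rw [Subgroup.mem_bot]
      by_contra hk1
      have hkh : k * h = h * k := Subgroup.mem_centralizer_singleton_iff.mp hk.2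
      have hhK : h ∈ K := hFK k hk.1 hk1 h hkh.symm
      have hb : h ∈ K ⊓ U := ⟨hhK, hP'U hh⟩
      rw [hU.disjoint.eq_bot, Subgroup.mem_bot] at hb
      exact hh1 hb
    have hc : IsCyclic ↥((S : Subgroup U).map U.subtype) :=
      Cfsg.Agent.Lib.Lead.CNSolv.cyclic_of_odd_nilpotent_fpf K hK1 _ hnil hodd' hfpf
    have e : (S : Subgroup U) ≃* ((S : Subgroup U).map U.subtype) :=
      (S : Subgroup U).equivMapOfInjective U.subtype U.subtype_injective
    exact isCyclic_of_surjective e.symm e.symm.surjective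
  have e1 : Monoid.exponent (M ⧸ K) = Monoid.exponent U :=
    Monoid.exponent_eq_of_mulEquiv hU.symm.QuotientMulEquiv
  rw [e1, IsZGroup.exponent_eq_card U, hU.symm.index_eq_card]

section s1542
variable {G : Type u} [Group G] [Fintype G]

theorem vanish_off_typeA {L : Subgroup G} [Fintype L] (hI : IsOfTypeI L) {α : L → ℂ}
    (hα : α ∈ zspanOn (inducedIrrAbove (fittingHall L) ⊥) {1}ᶜ) :
    IsGeneralizedCharacter L α ∧ ∀ x : L, (x : G) ∉ typeA L → α x = 0 := by
  obtain ⟨hαs, hα1⟩ := Cfsg.Agent.Lib.Lead.Coh.mem_zspanOn_one.1 hα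
  obtain ⟨hgen, hoff⟩ := Cfsg.Agent.Lib.Lead.Sib.zspan_iia_props (fittingHall L) hαs
  refine ⟨hgen, fun x hx => ?_⟩
  by_cases hxK : x ∈ fittingHall L
  · by_cases hx1 : x = 1
    · rw [hx1]; exact hα1
    · exfalso
      apply hx
      rw [mem_typeA_of_typeI hI]
      have hx1' : (x : G) ≠ 1 := fun h => hx1 (Subtype.ext h)
      exact ⟨x.2, hx1', x, (Cfsg.Agent.Lib.Helper3.BG17.mem_fittingHall_iff x).1 hxK, hx1', rfl⟩
  · exact hoff x hxK

/-- row 1542 from the Dade hypothesis for `A(L)` -/
theorem s1542_of {L : Subgroup G} [Fintype L] (hG : IsMinSimpleOddOrder G) (hL : IsCoatom L)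
    (hD : DadeHypothesis (typeA L) L (supportR L)) (hI : IsOfTypeI L)
    (hfrob : ∀ x ∈ fittingHallOf L, x ≠ 1 →
      L ⊓ Subgroup.centralizer ({x} : Set G) ≤ fittingHallOf L) :
    (∀ χ ∈ inducedIrrAbove (fittingHall L) ⊥, IsIrrCharacter L χ) ∧
    IsCoherent (inducedIrrAbove (fittingHall L) ⊥) {1}ᶜ
      (dadeIsometry (typeA L) L (supportR L)) := by
  classical
  have hsimple : IsSimpleGroup G := hG.2.1
  obtain ⟨hF, hcases⟩ := hI
  have hI' : IsOfTypeI L := ⟨hF, hcases⟩
  obtain ⟨hsolvL, hoddL, hK1, hKtop, U, hU1, hUc, -, -⟩ := hF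
  have hmem : ∀ z : L, z ∈ fittingHall L ↔ (z : G) ∈ fittingHallOf L :=
    Cfsg.Agent.Lib.Helper3.BG17.mem_fittingHall_iff
  have hKnil : Group.IsNilpotent (fittingHall L) :=
    Cfsg.Agent.Lib.Lead.FittingHall.fittingHall_isNilpotent L
  have hFK : ∀ k ∈ fittingHall L, k ≠ 1 → ∀ x : L, x * k = k * x → x ∈ fittingHall L := by
    intro k hk hk1 x hxk
    rw [hmem]
    apply hfrob (k : G) ((hmem k).1 hk) (fun h => hk1 (Subtype.ext h))
    exact ⟨x.2, Subgroup.mem_centralizer_singleton_iff.mpr (congrArg Subtype.val hxk)⟩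
  have hout : ∃ x : L, x ∉ fittingHall L := by
    by_contra h
    push Not at h
    exact hKtop ((Subgroup.eq_top_iff' _).mpr h)
  have hAK : ∀ x : L, x ∈ fittingHall L → x ≠ 1 → (x : G) ∈ typeA L := by
    intro x hx hx1
    rw [mem_typeA_of_typeI hI']
    have hx1' : (x : G) ≠ 1 := fun h => hx1 (Subtype.ext h)
    exact ⟨x.2, hx1', x, (hmem x).1 hx, hx1', rfl⟩
  have hsolvK : Group.IsSolvable (fittingHall L) := inferInstance
  have hirr := (dade_cs hD hoddL (fittingHall L) hK1 hsolvK hFK hout hAK).1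
  refine ⟨hirr, ?_⟩
  rcases hcases with hTI | ⟨hab, -, -⟩ | ⟨hexp, -⟩
  · -- the kernel is a TI-subgroup: the Dade isometry is induction
    have hHF1 : fittingHallOf L ≠ ⊥ := by
      intro h
      apply hK1
      rw [eq_bot_iff]
      intro z hz
      have := (hmem z).1 hz
      rw [h, Subgroup.mem_bot] at this
      rw [Subgroup.mem_bot]
      exact Subtype.ext this
    have hnorm : Subgroup.normalizer ((fittingHallOf L : Subgroup G) : Set G) = L :=
      normalizer_subgroup_eq hL hHF1 (fittingHallOf_le L)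
        (fun x hx a ha => fittingHallOf_conj_mem hx ha)
    have hTI' : ∀ g : G, g ∉ L → ∀ t ∈ fittingHallOf L, g * t * g⁻¹ ∈ fittingHallOf L →
        t = 1 := by
      intro g hg t ht htg
      exact hTI g (by rw [hnorm]; exact hg) t ht htg
    have hsupp : ∀ a ∈ typeA L, supportR L a = ⊥ := by
      intro a ha
      apply supportR_eq_bot_of_le
      obtain ⟨haL, ha1, x, hx, hx1, hax⟩ := (mem_typeA_of_typeI hI').mp ha
      have haF : a ∈ fittingHallOf L := by
        apply hfrob x hx hx1
        exact ⟨haL, Subgroup.mem_centralizer_singleton_iff.mpr hax⟩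
      intro c hc
      by_contra hcL
      have hca : c * a = a * c := Subgroup.mem_centralizer_singleton_iff.mp hc
      have e : c * a * c⁻¹ = a := by rw [hca]; group
      exact ha1 (hTI' c hcL a haF (by rw [e]; exact haF))
    have hcoh := Cfsg.Agent.Lib.Lead.Sib.sibley_K (fittingHallOf L) L hoddL (fittingHallOf_le L)
      (fittingHall L) hmem hK1 hKnil hFK hout hTI'
    apply isCoherent_congr hcoh
    intro α hα
    obtain ⟨hgen, hαA⟩ := vanish_off_typeA hI' hα
    exact dade_eq_indFun_of_trivial hD hsupp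
      (Cfsg.Agent.Lib.Helper6.IsGeneralizedCharacter.isClassFunction hgen) hαA
  · -- abelian kernel
    apply dade_coherent_of_good hD hoddL (fittingHall L) hK1 hKnil hFK hout hAK
    right; left
    intro a b
    apply Subtype.ext
    apply Subtype.ext
    have := hab.is_comm.comm (⟨((a : L) : G), (hmem a).1 a.2⟩ : ↥(fittingHallOf L))
      ⟨((b : L) : G), (hmem b).1 b.2⟩
    have h3 : ((a : L) : G) * ((b : L) : G) = ((b : L) : G) * ((a : L) : G) :=
      congrArg Subtype.val this
    exact h3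
  · -- the exponent of `L / K` divides `p - 1`
    apply dade_coherent_of_good hD hoddL (fittingHall L) hK1 hKnil hFK hout hAK
    by_cases hpp : ∃ p m : ℕ, p.Prime ∧ Nat.card (fittingHall L) = p ^ m
    · right; right
      obtain ⟨p, m, hp, hcard⟩ := hpp
      refine ⟨p, m, hp, hcard, ?_⟩
      have hpd : p ∣ Nat.card (fittingHallOf L) := by
        rw [Cfsg.Agent.Lib.Lead.FittingHall.card_fittingHallOf, hcard]
        have hm : m ≠ 0 := by
          rintro rfl
          rw [pow_zero] at hcard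
          exact hK1 (Subgroup.card_eq_one.mp hcard)
        exact dvd_pow_self p hm
      have h2 := hexp p hp hpd
      rw [index_eq_exponent_of_FK (fittingHall L) hK1 hoddL hFK U hUc]
      exact h2
    · left; exact hpp

/-- row 1542 from the B&G rows -/
theorem s1542_rows (h1351 : Row1351 G) (h1352 : Row1352 G) (h1355 : Row1355 G)
    (h1357 : Row1357 G) (h1364 : Row1364 G) (h1365 : Row1365 G) (h1382 : Row1382 G)
    (hW : Weak1391 G) (hG : IsMinSimpleOddOrder G) (L : Subgroup G) [Fintype L]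
    (hL : IsCoatom L) (hI : IsOfTypeI L)
    (hfrob : ∀ x ∈ fittingHallOf L, x ≠ 1 →
      L ⊓ Subgroup.centralizer ({x} : Set G) ≤ fittingHallOf L) :
    (∀ χ ∈ inducedIrrAbove (fittingHall L) ⊥, IsIrrCharacter L χ) ∧
    IsCoherent (inducedIrrAbove (fittingHall L) ⊥) {1}ᶜ
      (dadeIsometry (typeA L) L (supportR L)) :=
  s1542_of hG hL
    (s1537_rows h1351 h1352 h1355 h1357 h1364 h1365 h1382 hW hG L hL (typeA L)
      (Or.inr (Or.inl rfl))).2 hI hfrob

end s1542

end Cfsg.Agent.Lib.Helper6.PF8
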