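import Mathlib
import Cfsg.Agent.Lib.Helper6.PF8e
import Cfsg.Agent.Lib.Helper3.BG17m

/-!
# Rows 1537, 1538, 1542 from the weak form of row 1391 (`BG17.TameEmbedding`)

The clause `x ∈ typeA L` of row 1391 is not needed for these rows.
-/

set_option autoImplicit false
set_option linter.unusedVariables false
set_option linter.style.longLine false
set_option linter.unusedSectionVars false

universe u

namespace Cfsg.Agent.Lib.Helper6.PF8

open Cfsg Subgroup
open Cfsg.Agent.Lib.Helper7.BGRows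

section general
variable {G : Type u} [Group G]

/-- the clauses of row 1391 needed for the Dade hypothesis -/
def Tame2 (M : Subgroup G) (X : Set G) : Prop :=
  (∀ x ∈ X, ∀ g : G, g * x * g⁻¹ ∈ X → ∃ m ∈ M, m * x * m⁻¹ = g * x * g⁻¹) ∧
  (∀ x ∈ X, ¬ centralizer ({x} : Set G) ≤ M →
    x ∈ typeA1 M ∧ ∃! L : Subgroup G, IsCoatom L ∧ centralizer ({x} : Set G) ≤ L) ∧
  ∀ x ∈ X, ¬ centralizer ({x} : Set G) ≤ M → ∀ L : Subgroup G, IsCoatom L →
    centralizer ({x} : Set G) ≤ L →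
      IsComplIn (fittingHallOf L) (M ⊓ L) L ∧
      centralizer ({x} : Set G) ≤
        Subgroup.normalizer ((fittingHallOf L ⊓ centralizer ({x} : Set G) : Subgroup G) : Set G) ∧
      IsComplIn (fittingHallOf L ⊓ centralizer ({x} : Set G)) (M ⊓ centralizer ({x} : Set G))
        (centralizer ({x} : Set G)) ∧
      (∀ y ∈ X, (Nat.card (fittingHallOf L)).Coprime
        (Nat.card ↥(M ⊓ centralizer ({y} : Set G))))

theorem Tame2.mono {M : Subgroup G} {X A : Set G} (h : Tame2 M X) (hAX : A ⊆ X) :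
    Tame2 M A := by
  obtain ⟨h1, h2, h3⟩ := h
  refine ⟨fun x hx g hg => h1 x (hAX hx) g (hAX hg), fun x hx hc => h2 x (hAX hx) hc,
    fun x hx hc L hL hCL => ?_⟩
  obtain ⟨a, b, c, d⟩ := h3 x (hAX hx) hc L hL hCL
  exact ⟨a, b, c, fun y hy => d y (hAX hy)⟩

theorem tame2_of_tame {M : Subgroup G} {X : Set G} (h : Tame M X) : Tame2 M X := by
  obtain ⟨h1, h2, h3⟩ := h
  refine ⟨h1, h2, fun x hx hc L hL hCL => ?_⟩
  obtain ⟨a, b, c, d, -⟩ := h3 x hx hc L hL hCL
  exact ⟨a, b, c, d⟩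

theorem tame2_of_embedding {M : Subgroup G} {X : Set G}
    (h : Cfsg.Agent.Lib.Helper3.BG17.TameEmbedding M X) : Tame2 M X := by
  obtain ⟨h1, h2, h3⟩ := h
  refine ⟨h1, h2, fun x hx hc L hL hCL => ?_⟩
  obtain ⟨a, b, c, d, -⟩ := h3 x hx hc L hL hCL
  exact ⟨a, b, c, d⟩

/-- The Dade hypothesis for an `M`-invariant subset `A` of a tamely embedded set. -/
theorem dade_of_tame2 {M : Subgroup G} {A : Set G} (hT : Tame2 M A) (h1 : (1 : G) ∉ A)
    (hAM : A ⊆ (M : Set G)) (hconj : ∀ x ∈ M, ∀ a ∈ A, x * a * x⁻¹ ∈ A) :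
    DadeHypothesis A M (supportR M) := by
  obtain ⟨hfus, hD, hL⟩ := hT
  have key : ∀ a ∈ A, supportR M a = ⊥ ∧ centralizer ({a} : Set G) ≤ M ∨
      ∃ L : Subgroup G, IsCoatom L ∧ centralizer ({a} : Set G) ≤ L ∧
        ¬ centralizer ({a} : Set G) ≤ M ∧
        supportR M a = fittingHallOf L ⊓ centralizer ({a} : Set G) := by
    intro a ha
    by_cases hc : centralizer ({a} : Set G) ≤ M
    · exact Or.inl ⟨supportR_eq_bot_of_le hc, hc⟩
    · obtain ⟨-, L, ⟨hLc, hCL⟩, huniq⟩ := hD a ha hc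
      exact Or.inr ⟨L, hLc, hCL, hc,
        supportR_eq_of hc hLc hCL (fun L' h1 h2 => huniq L' ⟨h1, h2⟩)⟩
  refine ⟨h1, hAM, hconj, hfus, fun a _ => supportR_le_centralizer M a, ?_, ?_, ?_, ?_⟩
  · intro a ha c hc u hu
    rcases key a ha with ⟨hb, -⟩ | ⟨L, hLc, hCL, hnc, hR⟩
    · rw [hb, Subgroup.mem_bot] at hu ⊢
      rw [hu]; group
    · obtain ⟨-, hn, -, -⟩ := hL a ha hnc L hLc hCL
      rw [hR] at hu ⊢
      exact ((hn hc) u).mp hu
  · intro a ha
    rcases key a ha with ⟨hb, -⟩ | ⟨L, hLc, hCL, hnc, hR⟩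
    · rw [hb]; exact bot_inf_eq _
    · obtain ⟨-, -, hcompl, -⟩ := hL a ha hnc L hLc hCL
      rw [hR]; exact hcompl.2.2.1
  · intro a ha
    rcases key a ha with ⟨hb, hc⟩ | ⟨L, hLc, hCL, hnc, hR⟩
    · rw [hb, bot_sup_eq]; exact inf_eq_right.mpr hc
    · obtain ⟨-, -, hcompl, -⟩ := hL a ha hnc L hLc hCL
      rw [hR]; exact sup_eq_of_complIn hcompl
  · intro a ha b hb
    rcases key a ha with ⟨hbot, -⟩ | ⟨L, hLc, hCL, hnc, hR⟩
    · rw [hbot, Subgroup.card_bot]; exact Nat.coprime_one_left _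
    · obtain ⟨-, -, -, hcop⟩ := hL a ha hnc L hLc hCL
      rw [hR]
      exact Nat.Coprime.coprime_dvd_left (Subgroup.card_dvd_of_le inf_le_left) (hcop b hb)

/-- Row 1537 from the weak tame embedding clauses. -/
theorem s1537_of2 [IsSimpleGroup G] {M : Subgroup G} (hM : IsCoatom M)
    (hT0 : Tame2 M (typeA0 M)) (hsub : typeA1 M ⊆ typeA M) (hne : (typeA1 M).Nonempty)
    (A : Set G) (hA : A = typeA1 M ∨ A = typeA M ∨ A = typeA0 M) :
    Subgroup.normalizer A = M ∧ DadeHypothesis A M (supportR M) := by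
  have hsub0 : typeA1 M ⊆ typeA0 M := hsub.trans (typeA_subset_typeA0 M)
  rcases hA with rfl | rfl | rfl
  · exact ⟨normalizer_eq_of_simple hM hne (one_not_mem_typeA1 M) (typeA1_subset M)
        (fun x hx a ha => typeA1_conj_mem hx ha),
      dade_of_tame2 (hT0.mono hsub0) (one_not_mem_typeA1 M) (typeA1_subset M)
        (fun x hx a ha => typeA1_conj_mem hx ha)⟩
  · exact ⟨normalizer_eq_of_simple hM (hne.mono hsub) (one_not_mem_typeA M) (typeA_subset M)
        (fun x hx a ha => typeA_conj_mem hx ha),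
      dade_of_tame2 (hT0.mono (typeA_subset_typeA0 M)) (one_not_mem_typeA M) (typeA_subset M)
        (fun x hx a ha => typeA_conj_mem hx ha)⟩
  · exact ⟨normalizer_eq_of_simple hM (hne.mono hsub0) (one_not_mem_typeA0 M) (typeA0_subset M)
        (fun x hx a ha => typeA0_conj_mem hx ha),
      dade_of_tame2 hT0 (one_not_mem_typeA0 M) (typeA0_subset M)
        (fun x hx a ha => typeA0_conj_mem hx ha)⟩

theorem isTISubset_of_tame2 {M : Subgroup G} {X : Set G} (hT : Tame2 M X)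
    (hnorm : Subgroup.normalizer X = M)
    (key : ∀ x ∈ X, centralizer ({x} : Set G) ≤ M) : IsTISubset X := by
  intro g hg x hx hgx
  exfalso
  rw [hnorm] at hg
  obtain ⟨m, hm, hmx⟩ := hT.1 x hx g hgx
  have hcen : m⁻¹ * g ∈ centralizer ({x} : Set G) := by
    rw [Subgroup.mem_centralizer_singleton_iff]
    calc m⁻¹ * g * x = m⁻¹ * (g * x * g⁻¹) * g := by group
      _ = m⁻¹ * (m * x * m⁻¹) * g := by rw [hmx]
      _ = x * (m⁻¹ * g) := by group
  have := key x hx hcen
  apply hg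
  have e : g = m * (m⁻¹ * g) := by group
  rw [e]; exact M.mul_mem hm this

/-- Row 1538 from the weak tame embedding clauses. -/
theorem s1538_of2 [IsSimpleGroup G] {M : Subgroup G} (hM : IsCoatom M)
    (hT0 : Tame2 M (typeA0 M)) (hsub : typeA1 M ⊆ typeA M) (hne : (typeA1 M).Nonempty)
    (hII : IsOfTypeII M) (hcore : typeCore M = fittingHallOf M) :
    (IsTISubset (typeA0 M) ∧ Subgroup.normalizer (typeA0 M) = M) ∧
    (IsTISubset (typeA M) ∧ Subgroup.normalizer (typeA M) = M) ∧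
    (IsTISubset (typeA1 M) ∧ Subgroup.normalizer (typeA1 M) = M) := by
  obtain ⟨W₁, U, W₂, hP, -, -, hTI, -, -, -, -⟩ := hII
  have hsub0 : typeA1 M ⊆ typeA0 M := hsub.trans (typeA_subset_typeA0 M)
  have key : ∀ x ∈ typeA0 M, centralizer ({x} : Set G) ≤ M := by
    intro x hx
    by_contra hc
    obtain ⟨hx1, -⟩ := hT0.2.1 x hx hc
    have hxH : x ∈ fittingHallOf M := by
      have := hx1.1
      rw [SetLike.mem_coe, hcore] at this
      exact this
    have hx1' : x ≠ 1 := fun h' => hx1.2 h'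
    have hxF : x ∈ fittingOf M := fittingHallOf_le_fittingOf M hxH
    have hFne : fittingOf M ≠ ⊥ := by
      intro hb
      rw [hb, Subgroup.mem_bot] at hxF
      exact hx1' hxF
    have hN : Subgroup.normalizer (fittingOf M : Set G) = M :=
      normalizer_subgroup_eq hM hFne (fittingOf_le M) (fun y hy a ha => fittingOf_conj_mem hy ha)
    obtain ⟨c, hcC, hcM⟩ := SetLike.not_le_iff_exists.mp hc
    have hcN : c ∉ Subgroup.normalizer (fittingOf M : Set G) := by rw [hN]; exact hcM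
    have hcx : c * x * c⁻¹ = x := by
      have := Subgroup.mem_centralizer_singleton_iff.mp hcC
      rw [this]; group
    have := hTI c hcN x hxF (by rw [hcx]; exact hxF)
    exact hx1' this
  have s := fun A hA => s1537_of2 hM hT0 hsub hne A hA
  refine ⟨⟨?_, (s _ (Or.inr (Or.inr rfl))).1⟩, ⟨?_, (s _ (Or.inr (Or.inl rfl))).1⟩,
    ⟨?_, (s _ (Or.inl rfl)).1⟩⟩
  · exact isTISubset_of_tame2 hT0 (s _ (Or.inr (Or.inr rfl))).1 key
  · exact isTISubset_of_tame2 (hT0.mono (typeA_subset_typeA0 M)) (s _ (Or.inr (Or.inl rfl))).1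
      (fun x hx => key x (typeA_subset_typeA0 M hx))
  · exact isTISubset_of_tame2 (hT0.mono hsub0) (s _ (Or.inl rfl)).1
      (fun x hx => key x (hsub0 hx))

end general

section rows
variable {G : Type u} [Group G] [Finite G]

/-- the weak form of row 1391 -/
def Weak2 (G : Type u) [Group G] [Finite G] : Prop :=
  ∀ (hG : IsMinSimpleOddOrder G) (M : Subgroup G) (hM : IsCoatom M), Tame2 M (typeA0 M)

theorem weak2_of_rows (h1351 : Row1351 G) (h1352 : Row1352 G) (h1354 : Row1354 G)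
    (h1355 : Row1355 G) (h1356 : Row1356 G) (h1357 : Row1357 G) (h1364 : Row1364 G)
    (h1365 : Row1365 G) (h1366 : Row1366 G) (h1368 : Row1368 G) (h1370 : Row1370 G)
    (h1374 : Row1374 G) (h1375 : Row1375 G) (h1378 : Row1378 G) (h1381 : Row1381 G)
    (h1382 : Row1382 G) (h1432 : Row1432 G) (h1436 : Row1436 G) : Weak2 G :=
  fun hG M hM => tame2_of_embedding
    (Cfsg.Agent.Lib.Helper3.BG17.s1391_partial_of h1351 h1352 h1354 h1355 h1356 h1357 h1364
      h1365 h1366 h1368 h1370 h1374 h1375 h1378 h1381 h1382 h1432 h1436 hG M hM (typeA0 M)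
      (Or.inr rfl))

/-- row 1537 from the B&G rows (weak form of row 1391) -/
theorem s1537_rows2 (h1351 : Row1351 G) (h1352 : Row1352 G) (h1355 : Row1355 G)
    (h1357 : Row1357 G) (h1364 : Row1364 G) (h1365 : Row1365 G) (h1382 : Row1382 G)
    (hW : Weak2 G) (hG : IsMinSimpleOddOrder G) (M : Subgroup G) (hM : IsCoatom M)
    (A : Set G) (hA : A = typeA1 M ∨ A = typeA M ∨ A = typeA0 M) :
    Subgroup.normalizer A = M ∧ DadeHypothesis A M (supportR M) := by
  have : IsSimpleGroup G := hG.2.1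
  exact s1537_of2 hM (hW hG M hM) (sub_of h1351 h1352 h1355 h1357 h1364 h1365 h1382 hG hM)
    (ne_of h1351 h1352 h1355 h1357 h1365 h1382 hG hM) A hA

/-- row 1538 from the B&G rows (weak form of row 1391) -/
theorem s1538_rows2 (h1351 : Row1351 G) (h1352 : Row1352 G) (h1355 : Row1355 G)
    (h1357 : Row1357 G) (h1364 : Row1364 G) (h1365 : Row1365 G) (h1382 : Row1382 G)
    (hW : Weak2 G) (hG : IsMinSimpleOddOrder G) (M : Subgroup G) (hM : IsCoatom M)
    (hII : IsOfTypeII M) :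
    (IsTISubset (typeA0 M) ∧ Subgroup.normalizer (typeA0 M) = M) ∧
    (IsTISubset (typeA M) ∧ Subgroup.normalizer (typeA M) = M) ∧
    (IsTISubset (typeA1 M) ∧ Subgroup.normalizer (typeA1 M) = M) := by
  classical
  have : IsSimpleGroup G := hG.2.1
  have hcore : typeCore M = fittingHallOf M := by
    unfold typeCore; rw [if_neg (typeII_not_III_IV hG hM hII)]
  exact s1538_of2 hM (hW hG M hM) (sub_of h1351 h1352 h1355 h1357 h1364 h1365 h1382 hG hM)
    (ne_of h1351 h1352 h1355 h1357 h1365 h1382 hG hM) hII hcore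

end rows

section r1542
variable {G : Type u} [Group G] [Fintype G]

/-- row 1542 from the B&G rows (weak form of row 1391) -/
theorem s1542_rows2 (h1351 : Row1351 G) (h1352 : Row1352 G) (h1355 : Row1355 G)
    (h1357 : Row1357 G) (h1364 : Row1364 G) (h1365 : Row1365 G) (h1382 : Row1382 G)
    (hW : Weak2 G) (hG : IsMinSimpleOddOrder G) (L : Subgroup G) [Fintype L]
    (hL : IsCoatom L) (hI : IsOfTypeI L)
    (hfrob : ∀ x ∈ fittingHallOf L, x ≠ 1 →
      L ⊓ Subgroup.centralizer ({x} : Set G) ≤ fittingHallOf L) :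
    (∀ χ ∈ inducedIrrAbove (fittingHall L) ⊥, IsIrrCharacter L χ) ∧
    IsCoherent (inducedIrrAbove (fittingHall L) ⊥) {1}ᶜ
      (dadeIsometry (typeA L) L (supportR L)) :=
  s1542_of hG hL
    (s1537_rows2 h1351 h1352 h1355 h1357 h1364 h1365 h1382 hW hG L hL (typeA L)
      (Or.inr (Or.inl rfl))).2 hI hfrob

end r1542

end Cfsg.Agent.Lib.Helper6.PF8
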