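import Mathlib

set_option autoImplicit false

/-!
`PGL₂(q)`, `q ≡ 3 (mod 4)` a prime with `q + 1` a power of two: the image of the normaliser of a
non-split torus is a 2-group, and any two of its conjugates share an involution (two planes of
trace zero matrices in the three dimensional space `sl₂` meet).
-/

namespace Cfsg.Agent.Lib.Helper6.PGL2Mersenne

open Matrix
open scoped Pointwise MatrixGroups

variable {q : ℕ} [Fact q.Prime]

/-- the torus matrices -/
def tM (a b : ZMod q) : Matrix (Fin 2) (Fin 2) (ZMod q) := !![a, b; -b, a]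

/-- the reflection matrices -/
def vM (c d : ZMod q) : Matrix (Fin 2) (Fin 2) (ZMod q) := !![c, d; d, -c]

theorem tM_mul_tM (a b a' b' : ZMod q) :
    tM a b * tM a' b' = tM (a * a' - b * b') (a * b' + b * a') := by
  ext i j
  fin_cases i <;> fin_cases j <;> simp [tM, Matrix.mul_apply, Fin.sum_univ_two] <;> ring

theorem tM_mul_vM (a b c d : ZMod q) :
    tM a b * vM c d = vM (a * c + b * d) (a * d - b * c) := by
  ext i j
  fin_cases i <;> fin_cases j <;> simp [tM, vM, Matrix.mul_apply, Fin.sum_univ_two] <;> ring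

theorem vM_mul_tM (a b c d : ZMod q) :
    vM c d * tM a b = vM (c * a - d * b) (c * b + d * a) := by
  ext i j
  fin_cases i <;> fin_cases j <;> simp [tM, vM, Matrix.mul_apply, Fin.sum_univ_two] <;> ring

theorem vM_mul_vM (c d c' d' : ZMod q) :
    vM c d * vM c' d' = tM (c * c' + d * d') (c * d' - d * c') := by
  ext i j
  fin_cases i <;> fin_cases j <;> simp [tM, vM, Matrix.mul_apply, Fin.sum_univ_two] <;> ring

theorem tM_one_zero : tM (1 : ZMod q) 0 = 1 := by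
  ext i j
  fin_cases i <;> fin_cases j <;> simp [tM]

theorem smul_tM (s a b : ZMod q) : s • tM a b = tM (s * a) (s * b) := by
  ext i j
  fin_cases i <;> fin_cases j <;> simp [tM]

theorem smul_vM (s c d : ZMod q) : s • vM c d = vM (s * c) (s * d) := by
  ext i j
  fin_cases i <;> fin_cases j <;> simp [vM]

theorem adjugate_tM (a b : ZMod q) : (tM a b).adjugate = tM a (-b) := by
  rw [Matrix.adjugate_fin_two]
  ext i j
  fin_cases i <;> fin_cases j <;> simp [tM]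

theorem adjugate_vM (c d : ZMod q) : (vM c d).adjugate = vM (-c) (-d) := by
  rw [Matrix.adjugate_fin_two]
  ext i j
  fin_cases i <;> fin_cases j <;> simp [vM]

theorem det_vM (c d : ZMod q) : (vM c d).det = -(c ^ 2 + d ^ 2) := by
  rw [Matrix.det_fin_two]
  simp [vM]
  ring

/-- the normaliser of the non-split torus in `GL₂(q)` -/
def N0 (q : ℕ) [Fact q.Prime] : Subgroup (GL (Fin 2) (ZMod q)) where
  carrier := {g | ∃ a b : ZMod q, (g : Matrix (Fin 2) (Fin 2) (ZMod q)) = tM a b ∨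
    (g : Matrix (Fin 2) (Fin 2) (ZMod q)) = vM a b}
  one_mem' := ⟨1, 0, Or.inl (by rw [tM_one_zero]; rfl)⟩
  mul_mem' := by
    rintro g h ⟨a, b, hg⟩ ⟨a', b', hh⟩
    rcases hg with hg | hg <;> rcases hh with hh | hh
    · exact ⟨_, _, Or.inl (by rw [Units.val_mul, hg, hh, tM_mul_tM])⟩
    · exact ⟨_, _, Or.inr (by rw [Units.val_mul, hg, hh, tM_mul_vM])⟩
    · exact ⟨_, _, Or.inr (by rw [Units.val_mul, hg, hh, vM_mul_tM])⟩
    · exact ⟨_, _, Or.inl (by rw [Units.val_mul, hg, hh, vM_mul_vM])⟩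
  inv_mem' := by
    rintro g ⟨a, b, hg⟩
    rcases hg with hg | hg
    · have : ((g⁻¹ : GL (Fin 2) (ZMod q)) : Matrix (Fin 2) (Fin 2) (ZMod q))
          = tM (Ring.inverse (tM a b).det * a) (Ring.inverse (tM a b).det * (-b)) := by
        rw [Matrix.coe_units_inv, Matrix.inv_def, hg, adjugate_tM, smul_tM]
      exact ⟨_, _, Or.inl this⟩
    · have : ((g⁻¹ : GL (Fin 2) (ZMod q)) : Matrix (Fin 2) (Fin 2) (ZMod q))
          = vM (Ring.inverse (vM a b).det * (-a)) (Ring.inverse (vM a b).det * (-b)) := by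
        rw [Matrix.coe_units_inv, Matrix.inv_def, hg, adjugate_vM, smul_vM]
      exact ⟨_, _, Or.inr this⟩

theorem mem_N0 (g : GL (Fin 2) (ZMod q)) :
    g ∈ N0 q ↔ ∃ a b : ZMod q, (g : Matrix (Fin 2) (Fin 2) (ZMod q)) = tM a b ∨
      (g : Matrix (Fin 2) (Fin 2) (ZMod q)) = vM a b := Iff.rfl

/-- scalar matrices are central -/
theorem scalar_mem_center (g : GL (Fin 2) (ZMod q)) (s : ZMod q)
    (hg : (g : Matrix (Fin 2) (Fin 2) (ZMod q)) = s • (1 : Matrix (Fin 2) (Fin 2) (ZMod q))) :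
    g ∈ Subgroup.center (GL (Fin 2) (ZMod q)) := by
  rw [Subgroup.mem_center_iff]
  intro h
  apply Units.ext
  rw [Units.val_mul, Units.val_mul, hg]
  simp

section arith

variable (hq4 : q % 4 = 3)

include hq4

theorem sq_add_sq_ne_zero (a b : ZMod q) (h : a ^ 2 + b ^ 2 = 0) : a = 0 ∧ b = 0 := by
  have hns : ¬ IsSquare (-1 : ZMod q) := by
    rw [ZMod.exists_sq_eq_neg_one_iff]
    omega
  by_cases hb : b = 0
  · subst hb
    simp at h
    exact ⟨h, rfl⟩
  · exfalso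
    apply hns
    refine ⟨a / b, ?_⟩
    field_simp
    linear_combination -h

/-- `J^q = -J` for `J = tM 0 1` -/
theorem J_pow_q : (tM (0 : ZMod q) 1) ^ q = -tM (0 : ZMod q) 1 := by
  have hJ2 : tM (0 : ZMod q) 1 * tM (0 : ZMod q) 1 = -1 := by
    rw [tM_mul_tM]
    ext i j
    fin_cases i <;> fin_cases j <;> simp [tM]
  have hq : q = 2 * (2 * (q / 4) + 1) + 1 := by omega
  have key : ∀ n : ℕ, (tM (0 : ZMod q) 1) ^ (2 * (2 * n + 1) + 1) = -tM (0 : ZMod q) 1 := by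
    intro n
    rw [pow_succ, pow_mul, pow_two, hJ2, Odd.neg_one_pow ⟨n, rfl⟩]
    simp
  have := key (q / 4)
  rwa [← hq] at this

/-- the norm: `(a + bJ)^(q+1) = a² + b²` -/
theorem tM_pow (a b : ZMod q) :
    (tM a b) ^ (q + 1) = (a ^ 2 + b ^ 2) • (1 : Matrix (Fin 2) (Fin 2) (ZMod q)) := by
  have e : tM a b = a • (1 : Matrix (Fin 2) (Fin 2) (ZMod q)) + b • tM (0 : ZMod q) 1 := by
    ext i j
    fin_cases i <;> fin_cases j <;> simp [tM]
  have hcomm : Commute (a • (1 : Matrix (Fin 2) (Fin 2) (ZMod q))) (b • tM (0 : ZMod q) 1) :=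
    ((Commute.one_left _).smul_left a).smul_right b
  have h1 : (tM a b) ^ q = tM a (-b) := by
    rw [e, add_pow_char_of_commute q hcomm, smul_pow, smul_pow, one_pow, ZMod.pow_card,
      ZMod.pow_card, J_pow_q hq4]
    ext i j
    fin_cases i <;> fin_cases j <;> simp [tM]
  rw [pow_succ, h1, tM_mul_tM]
  ext i j
  fin_cases i <;> fin_cases j <;> simp [tM] <;> ring

end arith

/-- the image of `N0` in `PGL₂(q)` -/
def H0 (q : ℕ) [Fact q.Prime] :
    Subgroup (GL (Fin 2) (ZMod q) ⧸ Subgroup.center (GL (Fin 2) (ZMod q))) :=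
  (N0 q).map (QuotientGroup.mk' (Subgroup.center (GL (Fin 2) (ZMod q))))

theorem isPGroup_H0 {k : ℕ} (hk : q + 1 = 2 ^ k) (hq4 : q % 4 = 3) : IsPGroup 2 (H0 q) := by
  rintro ⟨h, hh⟩
  obtain ⟨g, hg, rfl⟩ := hh
  obtain ⟨a, b, hab | hab⟩ := hg
  · refine ⟨k, ?_⟩
    apply Subtype.ext
    rw [Subgroup.coe_pow, Subgroup.coe_one]
    show (QuotientGroup.mk' _ g) ^ 2 ^ k = 1
    rw [← map_pow, QuotientGroup.mk'_apply, QuotientGroup.eq_one_iff, ← hk]
    apply scalar_mem_center _ (a ^ 2 + b ^ 2)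
    rw [Units.val_pow_eq_pow_val, hab, tM_pow hq4]
  · refine ⟨1, ?_⟩
    apply Subtype.ext
    rw [Subgroup.coe_pow, Subgroup.coe_one]
    show (QuotientGroup.mk' _ g) ^ 2 ^ 1 = 1
    rw [← map_pow, QuotientGroup.mk'_apply, QuotientGroup.eq_one_iff]
    apply scalar_mem_center _ (a * a + b * b)
    rw [pow_one, pow_two, Units.val_mul, hab, vM_mul_vM]
    ext i j
    fin_cases i <;> fin_cases j <;> simp [tM] <;> ring

/-- the off-diagonal asymmetry of `m * vM c d * adj m` -/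
def asym (m : Matrix (Fin 2) (Fin 2) (ZMod q)) (c d : ZMod q) : ZMod q :=
  (m * vM c d * m.adjugate) 0 1 - (m * vM c d * m.adjugate) 1 0

theorem asym_linear (m : Matrix (Fin 2) (Fin 2) (ZMod q)) (c d : ZMod q) :
    asym m c d = c * asym m 1 0 + d * asym m 0 1 := by
  unfold asym
  rw [Matrix.adjugate_fin_two]
  simp [vM, Matrix.mul_apply, Fin.sum_univ_two]
  ring

theorem exists_asym_zero (m : Matrix (Fin 2) (Fin 2) (ZMod q)) :
    ∃ c d : ZMod q, (c ≠ 0 ∨ d ≠ 0) ∧ asym m c d = 0 := by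
  by_cases h : asym m 1 0 = 0 ∧ asym m 0 1 = 0
  · exact ⟨1, 0, Or.inl one_ne_zero, h.1⟩
  · refine ⟨asym m 0 1, -asym m 1 0, ?_, ?_⟩
    · by_contra hcon
      push Not at hcon
      exact h ⟨neg_eq_zero.1 hcon.2, hcon.1⟩
    · rw [asym_linear]
      ring

theorem two_ne_zero' (hq4 : q % 4 = 3) : (2 : ZMod q) ≠ 0 := by
  intro h
  have h2 : ((2 : ℕ) : ZMod q) = 0 := by exact_mod_cast h
  rw [ZMod.natCast_eq_zero_iff] at h2
  have := Nat.le_of_dvd (by norm_num) h2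
  omega

/-- some reflection of `N0` is conjugated into `N0` by `m` -/
theorem conj_mem_N0 (hq4 : q % 4 = 3) (m : GL (Fin 2) (ZMod q)) :
    ∃ v ∈ N0 q, v ∉ Subgroup.center (GL (Fin 2) (ZMod q)) ∧ m * v * m⁻¹ ∈ N0 q := by
  obtain ⟨c, d, hcd, hz⟩ := exists_asym_zero (m : Matrix (Fin 2) (Fin 2) (ZMod q))
  have hdet : (vM c d).det ≠ 0 := by
    rw [det_vM, neg_ne_zero]
    intro h
    obtain ⟨h1, h2⟩ := sq_add_sq_ne_zero hq4 c d h
    rcases hcd with h | h <;> contradiction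
  let v : GL (Fin 2) (ZMod q) := Matrix.GeneralLinearGroup.mkOfDetNeZero (vM c d) hdet
  have hv : (v : Matrix (Fin 2) (Fin 2) (ZMod q)) = vM c d := rfl
  refine ⟨v, ⟨c, d, Or.inr hv⟩, ?_, ?_⟩
  · intro hcen
    rw [Subgroup.mem_center_iff] at hcen
    have hJdet : (tM (0 : ZMod q) 1).det ≠ 0 := by
      rw [Matrix.det_fin_two]
      simp [tM]
    let j : GL (Fin 2) (ZMod q) := Matrix.GeneralLinearGroup.mkOfDetNeZero (tM 0 1) hJdet
    have h1 := congrArg Units.val (hcen j)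
    rw [Units.val_mul, Units.val_mul] at h1
    change tM 0 1 * vM c d = vM c d * tM 0 1 at h1
    rw [tM_mul_vM, vM_mul_tM] at h1
    have e00 := congrFun (congrFun h1 0) 0
    have e01 := congrFun (congrFun h1 0) 1
    simp [vM] at e00 e01
    have h2 := two_ne_zero' hq4
    have hc : c = 0 := by
      have : 2 * c = 0 := by linear_combination -e01
      rcases mul_eq_zero.1 this with h | h
      · exact absurd h h2
      · exact h
    have hd : d = 0 := by
      have : 2 * d = 0 := by linear_combination e00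
      rcases mul_eq_zero.1 this with h | h
      · exact absurd h h2
      · exact h
    rcases hcd with h | h <;> contradiction
  · set Y : Matrix (Fin 2) (Fin 2) (ZMod q) :=
      ((m * v * m⁻¹ : GL (Fin 2) (ZMod q)) : Matrix (Fin 2) (Fin 2) (ZMod q)) with hYdef
    have hY : Y = Ring.inverse (m : Matrix (Fin 2) (Fin 2) (ZMod q)).det •
        ((m : Matrix (Fin 2) (Fin 2) (ZMod q)) * vM c d *
          (m : Matrix (Fin 2) (Fin 2) (ZMod q)).adjugate) := by
      rw [hYdef, Units.val_mul, Units.val_mul, Matrix.coe_units_inv, Matrix.inv_def, hv,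
        Matrix.mul_smul]
    have htr : Y 0 0 + Y 1 1 = 0 := by
      have h1 := Matrix.trace_units_conj m (vM c d)
      rw [Matrix.trace_fin_two, Matrix.trace_fin_two] at h1
      have h2 : Y = (m : Matrix (Fin 2) (Fin 2) (ZMod q)) * vM c d *
          ((m⁻¹ : GL (Fin 2) (ZMod q)) : Matrix (Fin 2) (Fin 2) (ZMod q)) := by
        rw [hYdef, Units.val_mul, Units.val_mul, hv]
      rw [h2, h1]
      simp [vM]
    have hsym : Y 0 1 = Y 1 0 := by
      unfold asym at hz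
      rw [sub_eq_zero] at hz
      rw [hY, Matrix.smul_apply, Matrix.smul_apply, hz]
    refine ⟨Y 0 0, Y 0 1, Or.inr ?_⟩
    change Y = vM (Y 0 0) (Y 0 1)
    ext i j
    fin_cases i <;> fin_cases j
    · simp [vM]
    · simp [vM]
    · simp [vM, hsym]
    · simp [vM]
      linear_combination htr

/-- any two conjugates of a Sylow 2-subgroup of `PGL₂(q)` meet non-trivially -/
theorem main {k : ℕ} (hk : q + 1 = 2 ^ k) (hq : 7 ≤ q)
    (H : Sylow 2 (GL (Fin 2) (ZMod q) ⧸ Subgroup.center (GL (Fin 2) (ZMod q))))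
    (x : GL (Fin 2) (ZMod q) ⧸ Subgroup.center (GL (Fin 2) (ZMod q))) :
    (H : Subgroup (GL (Fin 2) (ZMod q) ⧸ Subgroup.center (GL (Fin 2) (ZMod q)))) ⊓
      MulAut.conj x • (H : Subgroup _) ≠ ⊥ := by
  have hq4 : q % 4 = 3 := by
    have hk3 : 3 ≤ k := by
      by_contra hlt
      have : k ≤ 2 := by omega
      have h4 : 2 ^ k ≤ 2 ^ 2 := Nat.pow_le_pow_right (by norm_num) this
      omega
    obtain ⟨j, rfl⟩ : ∃ j, k = j + 3 := ⟨k - 3, by omega⟩
    have : 2 ^ (j + 3) = 8 * 2 ^ j := by ring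
    omega
  obtain ⟨H₁, hH₁⟩ := (isPGroup_H0 hk hq4).exists_le_sylow
  obtain ⟨y, hy⟩ := MulAction.exists_smul_eq
    (GL (Fin 2) (ZMod q) ⧸ Subgroup.center (GL (Fin 2) (ZMod q))) H₁ H
  have hH : (H : Subgroup (GL (Fin 2) (ZMod q) ⧸ Subgroup.center (GL (Fin 2) (ZMod q))))
      = MulAut.conj y • (H₁ : Subgroup _) := by
    rw [← hy]
    rfl
  obtain ⟨g₁, rfl⟩ := QuotientGroup.mk_surjective y
  obtain ⟨g₂, hg₂⟩ := QuotientGroup.mk_surjective
    (x * (QuotientGroup.mk g₁ : GL (Fin 2) (ZMod q) ⧸ Subgroup.center (GL (Fin 2) (ZMod q))))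
  obtain ⟨v, hvN, hvZ, hconj⟩ := conj_mem_N0 hq4 (g₂⁻¹ * g₁)
  set b : GL (Fin 2) (ZMod q) ⧸ Subgroup.center (GL (Fin 2) (ZMod q)) :=
    QuotientGroup.mk (g₁ * v * g₁⁻¹) with hb
  have hb1 : b ∈ (H : Subgroup (GL (Fin 2) (ZMod q) ⧸ Subgroup.center (GL (Fin 2) (ZMod q)))) := by
    rw [hH]
    refine (Subgroup.mem_smul_pointwise_iff_exists _ _ _).2
      ⟨QuotientGroup.mk v, hH₁ ⟨v, hvN, rfl⟩, ?_⟩
    rw [MulAut.smul_def, MulAut.conj_apply, hb]
    rfl
  have hb2 : b ∈ MulAut.conj x •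
      (H : Subgroup (GL (Fin 2) (ZMod q) ⧸ Subgroup.center (GL (Fin 2) (ZMod q)))) := by
    rw [hH, ← mul_smul, ← map_mul, ← hg₂]
    refine (Subgroup.mem_smul_pointwise_iff_exists _ _ _).2
      ⟨QuotientGroup.mk ((g₂⁻¹ * g₁) * v * (g₂⁻¹ * g₁)⁻¹), hH₁ ⟨_, hconj, rfl⟩, ?_⟩
    rw [MulAut.smul_def, MulAut.conj_apply, hb]
    have e : g₁ * v * g₁⁻¹ = g₂ * ((g₂⁻¹ * g₁) * v * (g₂⁻¹ * g₁)⁻¹) * g₂⁻¹ := by group
    rw [e]
    rfl
  have hb0 : b ≠ 1 := by
    rw [hb, Ne, QuotientGroup.eq_one_iff]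
    intro hmem
    apply hvZ
    have := (inferInstance : (Subgroup.center (GL (Fin 2) (ZMod q))).Normal).conj_mem _ hmem g₁⁻¹
    have e : g₁⁻¹ * (g₁ * v * g₁⁻¹) * g₁⁻¹⁻¹ = v := by group
    rwa [e] at this
  intro hbot
  have hmem : b ∈ (H : Subgroup (GL (Fin 2) (ZMod q) ⧸ Subgroup.center (GL (Fin 2) (ZMod q)))) ⊓
      MulAut.conj x • (H : Subgroup _) := ⟨hb1, hb2⟩
  rw [hbot, Subgroup.mem_bot] at hmem
  exact hb0 hmem

end Cfsg.Agent.Lib.Helper6.PGL2Mersenne
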