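import Mathlib
import Cfsg.Agent.Lib.Helper6.BlkCoverDefect
import Cfsg.Agent.Lib.Helper6.BlkCover3
import Cfsg.Agent.Lib.Helper6.BlkContrib
import Cfsg.Agent.Lib.Helper6.BlkHeightZero
import Cfsg.Agent.Lib.Helper6.BlkDefectClasses
import Cfsg.Agent.Lib.Helper6.BlkDefConj
import Cfsg.Agent.Lib.Helper6.BlkDefect
import Cfsg.Agent.Lib.Helper6.BLLin
import Cfsg.Agent.Lib.Helper6.BlkQuot2
import Cfsg.Agent.Lib.Helper6.Norm
import Cfsg.Agent.Lib.Helper6.Mult
import Cfsg.Agent.Lib.Helper6.Orthogonality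
import Cfsg.Agent.Lib.Helper3.DetChar
import Cfsg.Agent.S0908

/-!
# Blocks of normal subgroups of `p`-power index: abelian defect groups (part 1)

The key non-vanishing lemma: a character in a block with abelian defect group `P` does not vanish
identically off a subgroup `T` which contains all `p`-regular elements but not `P`.  As a
consequence, if `G = N P` with `N` normal of `p`-power index, every character of the block
restricts irreducibly to `N`.
-/

set_option autoImplicit false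
set_option linter.unusedSectionVars false
open Cfsg

namespace Cfsg.Agent.Lib.Helper6.PIdx

open Cfsg.Agent.Lib.Helper6
open scoped ComplexConjugate

section

variable {G : Type*} [Group G] [Fintype G] [DecidableEq G]
variable {p : ℕ} {M : Ideal Cfsg.AlgInt}

/-- a character of a block with abelian defect group `P` does not vanish identically off a
subgroup containing all `p`-regular elements but not `P` -/
theorem exists_ne_zero_off (hM : Cfsg.IsPModular p M) [Fact p.Prime] (χ₀ : Cfsg.IrrCharacter G)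
    (P : Subgroup G) (hPD : Cfsg.IsDefectGroup p M (Cfsg.blockOf M (χ₀ : G → ℂ)) P)
    (hPab : ∀ x ∈ P, ∀ y ∈ P, x * y = y * x)
    (T : Subgroup G) (hT : ∀ g : G, ¬ p ∣ orderOf g → g ∈ T) (hPT : ¬ P ≤ T)
    (χ : Cfsg.IrrCharacter G) (hχ : χ ∈ Cfsg.blockOf M (χ₀ : G → ℂ)) :
    ∃ g : G, g ∉ T ∧ (χ : G → ℂ) g ≠ 0 := by
  by_contra hcon
  push Not at hcon
  have hp : p.Prime := hM.1
  have hd := Cfsg.Agent.S0908.result p M hM _ ⟨χ₀, rfl⟩ P hPD
  have hPp := IsDefectGroup.isPGroup hPD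
  obtain ⟨h, ⟨hcR, hcI, hcen⟩, Q, hPQ⟩ := hPD
  have hreg : ¬ p ∣ orderOf h := pRegular_of_blockCoeff hM χ₀ h hcI
  have hχ₀ : χ₀ ∈ Cfsg.blockOf M (χ₀ : G → ℂ) := sameBlock_refl hM _
  obtain ⟨x, hxP, hxT⟩ := SetLike.not_le_iff_exists.mp hPT
  have hPC : P ≤ Subgroup.centralizer ({h} : Set G) := by
    rw [hPQ]
    exact Subgroup.map_subtype_le _
  have hxh : x * h = h * x := by
    have := hPC hxP
    rwa [Subgroup.mem_centralizer_singleton_iff] at this
  obtain ⟨k, hk⟩ := hPp ⟨x, hxP⟩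
  have hxk : x ^ (p ^ k) = 1 := by
    have := congrArg Subtype.val hk
    simpa using this
  have hcop : (p ^ k).Coprime (orderOf h) :=
    Nat.Coprime.pow_left k ((Nat.Prime.coprime_iff_not_dvd hp).mpr hreg)
  obtain ⟨m, hm⟩ := exists_pow_eq_self_of_coprime hcop
  have hpow : ((x * h) ^ (p ^ k)) ^ m = h := by
    rw [(show Commute x h from hxh).mul_pow, hxk, one_mul]
    exact hm
  have hCle : Subgroup.centralizer ({x * h} : Set G) ≤ Subgroup.centralizer ({h} : Set G) := by
    intro c hc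
    rw [Subgroup.mem_centralizer_singleton_iff] at hc ⊢
    have h1 : Commute c (x * h) := hc
    have h2 := (h1.pow_right (p ^ k)).pow_right m
    rw [hpow] at h2
    exact h2
  have hPle : P ≤ Subgroup.centralizer ({x * h} : Set G) := by
    intro y hy
    rw [Subgroup.mem_centralizer_singleton_iff]
    have h1 : y * x = x * y := hPab y hy x hxP
    have h2 : y * h = h * y := by
      have := hPC hy
      rwa [Subgroup.mem_centralizer_singleton_iff] at this
    calc y * (x * h) = (y * x) * h := by rw [mul_assoc]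
      _ = x * (y * h) := by rw [h1, mul_assoc]
      _ = (x * h) * y := by rw [h2, mul_assoc]
  have hvh : (Nat.card (Subgroup.centralizer ({h} : Set G))).factorization p
      = Cfsg.blockDefect p (Cfsg.blockOf M (χ₀ : G → ℂ)) :=
    le_antisymm (le_blockDefect_of_blockCoeff hM χ₀ h hcI)
      (blockDefect_le_of_centralChar hM χ₀ h (hcen χ₀ hχ₀))
  have hvxh : (Nat.card (Subgroup.centralizer ({x * h} : Set G))).factorization p
      = Cfsg.blockDefect p (Cfsg.blockOf M (χ₀ : G → ℂ)) := by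
    apply le_antisymm
    · rw [← hvh]
      exact (Nat.factorization_le_iff_dvd Nat.card_pos.ne' Nat.card_pos.ne').mpr
        (Subgroup.card_dvd_of_le hCle) p
    · have h1 : p ^ Cfsg.blockDefect p (Cfsg.blockOf M (χ₀ : G → ℂ))
          ∣ Nat.card (Subgroup.centralizer ({x * h} : Set G)) := by
        rw [← hd]
        exact Subgroup.card_dvd_of_le hPle
      exact (hp.pow_dvd_iff_le_factorization Nat.card_pos.ne').mp h1
  obtain ⟨ψ, hψ, hht⟩ := exists_height_zero (p := p) _ χ hχ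
  have e1 := factorization_eq_sInf_add_height (p := p) _ ψ hψ
  have e2 := factorization_card_eq_sInf_add_defect (p := p) _ χ₀ hχ₀
  have e3 := factorization_card_centralizer_add hp h
  have e4 := factorization_card_centralizer_add hp (x * h)
  have hval1 : (Subgroup.centralizer ({h} : Set G)).index.factorization p
      = (Cfsg.charDegree (ψ : G → ℂ)).factorization p := by omega
  have hval2 : (Subgroup.centralizer ({x * h} : Set G)).index.factorization p
      = (Cfsg.charDegree (ψ : G → ℂ)).factorization p := by omega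
  have hxhT : x * h ∉ T := by
    intro hmem
    apply hxT
    have := T.mul_mem hmem (T.inv_mem (hT h hreg))
    simpa using this
  have hχ0 : (χ : G → ℂ) (x * h) = 0 := hcon _ hxhT
  have hsb : Cfsg.SameBlock M (χ : G → ℂ) (ψ : G → ℂ) :=
    SameBlock.trans' hM (SameBlock.symm' hχ) hψ
  have h1 := hsb (x * h)
  have hcc0 : Cfsg.centralChar (χ : G → ℂ) (x * h) = 0 := by
    unfold Cfsg.centralChar
    rw [hχ0]
    simp
  rw [hcc0, zero_sub] at h1
  have h2 : Cfsg.MemLocalIdeal M (Cfsg.centralChar (ψ : G → ℂ) (x * h)) := by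
    have := MemLocalIdeal.neg h1
    rwa [neg_neg] at this
  have h3 : Cfsg.MemLocalIdeal M ((ψ : G → ℂ) (x * h)) :=
    (centralChar_memLocalIdeal_iff hM ψ.2 _ hval2).mp h2
  have h4 := IsCharacter.apply_mul_sub_memLocalIdeal hM (IsIrrCharacter.isCharacter ψ.2)
    (show Commute x h from hxh) hxk
  have h5 : Cfsg.MemLocalIdeal M ((ψ : G → ℂ) h) := by
    have := MemLocalIdeal.sub hM h3 h4
    rwa [sub_sub_cancel] at this
  exact hcen ψ hψ ((centralChar_memLocalIdeal_iff hM ψ.2 _ hval1).mpr h5)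

/-- if `G = N P` with `P` abelian then `G / N` is abelian -/
theorem quotient_comm (N P : Subgroup G) [N.Normal] (hsup : N ⊔ P = ⊤)
    (hPab : ∀ x ∈ P, ∀ y ∈ P, x * y = y * x) : IsMulCommutative (G ⧸ N) := by
  have key : ∀ g : G, ∃ x ∈ P, (QuotientGroup.mk g : G ⧸ N) = QuotientGroup.mk x := by
    intro g
    have hg : g ∈ N ⊔ P := by
      rw [hsup]
      exact Subgroup.mem_top g
    obtain ⟨n, hn, x, hx, rfl⟩ := Subgroup.mem_sup_of_normal_left.mp hg
    refine ⟨x, hx, ?_⟩
    rw [QuotientGroup.mk_mul, (QuotientGroup.eq_one_iff n).mpr hn, one_mul]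
  refine ⟨⟨fun a b => ?_⟩⟩
  obtain ⟨g₁, rfl⟩ := QuotientGroup.mk_surjective a
  obtain ⟨g₂, rfl⟩ := QuotientGroup.mk_surjective b
  obtain ⟨x₁, hx₁, e₁⟩ := key g₁
  obtain ⟨x₂, hx₂, e₂⟩ := key g₂
  rw [e₁, e₂, ← QuotientGroup.mk_mul, ← QuotientGroup.mk_mul, hPab x₁ hx₁ x₂ hx₂]

/-- a character which is fixed by no nontrivial linear character of the abelian quotient `G / N`
restricts irreducibly to `N` -/
theorem restrict_irr_of_twists (N : Subgroup G) [hN : N.Normal] [Fintype N]
    (hA : IsMulCommutative (G ⧸ N)) (χ : Cfsg.IrrCharacter G)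
    (hKL : ∀ f : (G ⧸ N) →* ℂˣ, f ≠ 1 →
      ∃ g : G, f (QuotientGroup.mk g) ≠ 1 ∧ (χ : G → ℂ) g ≠ 0) :
    Cfsg.IsIrrCharacter N (fun n : N => (χ : G → ℂ) n) := by
  classical
  have hχchar := IsIrrCharacter.isCharacter χ.2
  apply isIrrCharacter_of_classInner_self_eq_one (IsCharacter.restrict N hχchar)
  haveI : Finite ((G ⧸ N) →* ℂˣ) := by
    apply Nat.finite_of_card_ne_zero
    rw [card_homs_of_comm hA]
    exact Nat.card_pos.ne'
  haveI : Fintype ((G ⧸ N) →* ℂˣ) := Fintype.ofFinite _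
  have hcA : (Nat.card (G ⧸ N) : ℂ) ≠ 0 := by exact_mod_cast Nat.card_pos.ne'
  have hcG : (Nat.card G : ℂ) ≠ 0 := by exact_mod_cast Nat.card_pos.ne'
  have hcN : (Nat.card N : ℂ) ≠ 0 := by exact_mod_cast Nat.card_pos.ne'
  have htw : ∀ f : (G ⧸ N) →* ℂˣ,
      Cfsg.classInner (fun g => ((f (QuotientGroup.mk g) : ℂˣ) : ℂ) * (χ : G → ℂ) g) (χ : G → ℂ)
        = if f = 1 then 1 else 0 := by
    intro f
    have hirr : Cfsg.IsIrrCharacter G
        (fun g => ((f (QuotientGroup.mk g) : ℂˣ) : ℂ) * (χ : G → ℂ) g) :=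
      Cfsg.Agent.Lib.Helper3.DetChar.isIrrCharacter_hom_mul (f.comp (QuotientGroup.mk' N)) χ.2
    rw [classInner_isIrrCharacter hirr χ.2]
    by_cases hf : f = 1
    · rw [if_pos hf, if_pos]
      subst hf
      funext g
      simp
    · rw [if_neg hf, if_neg]
      intro heq
      obtain ⟨g, hg1, hg2⟩ := hKL f hf
      have h0 := congrFun heq g
      have h3 : ((f (QuotientGroup.mk g) : ℂˣ) : ℂ) = 1 := by
        have h4 : (((f (QuotientGroup.mk g) : ℂˣ) : ℂ) - 1) * (χ : G → ℂ) g = 0 := by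
          rw [sub_mul, one_mul]
          exact sub_eq_zero.mpr h0
        rcases mul_eq_zero.mp h4 with h5 | h5
        · exact sub_eq_zero.mp h5
        · exact absurd h5 hg2
      exact hg1 (Units.ext h3)
  have hind : ∀ g : G, subgroupInd N g
      = (Nat.card (G ⧸ N) : ℂ)⁻¹
        * ∑ f : (G ⧸ N) →* ℂˣ, ((f (QuotientGroup.mk g) : ℂˣ) : ℂ) := by
    intro g
    rw [sum_homs_apply hA]
    unfold subgroupInd
    by_cases hg : g ∈ N
    · rw [if_pos hg, if_pos ((QuotientGroup.eq_one_iff g).mpr hg), inv_mul_cancel₀ hcA]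
    · rw [if_neg hg, if_neg (fun h => hg ((QuotientGroup.eq_one_iff g).mp h)), mul_zero]
  have h2 : ∀ f : (G ⧸ N) →* ℂˣ,
      ∑ g : G, (((f (QuotientGroup.mk g) : ℂˣ) : ℂ) * (χ : G → ℂ) g) * conj ((χ : G → ℂ) g)
        = if f = 1 then (Nat.card G : ℂ) else 0 := by
    intro f
    have h3 := htw f
    unfold Cfsg.classInner at h3
    rw [(inv_mul_eq_iff_eq_mul₀ hcG).mp h3]
    split_ifs <;> simp
  have hsum : ∑ n : N, (χ : G → ℂ) n * conj ((χ : G → ℂ) n)
      = (Nat.card (G ⧸ N) : ℂ)⁻¹ * (Nat.card G : ℂ) := by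
    rw [← sum_subgroupInd_mul N (fun g => (χ : G → ℂ) g * conj ((χ : G → ℂ) g))]
    have h1 : ∀ g : G, subgroupInd N g * ((χ : G → ℂ) g * conj ((χ : G → ℂ) g))
        = (Nat.card (G ⧸ N) : ℂ)⁻¹ * ∑ f : (G ⧸ N) →* ℂˣ,
          (((f (QuotientGroup.mk g) : ℂˣ) : ℂ) * (χ : G → ℂ) g) * conj ((χ : G → ℂ) g) := by
      intro g
      rw [hind g, mul_assoc, Finset.sum_mul]
      congr 1
      apply Finset.sum_congr rfl
      intro f _
      ring
    rw [Finset.sum_congr rfl (fun g _ => h1 g), ← Finset.mul_sum, Finset.sum_comm]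
    congr 1
    rw [Finset.sum_congr rfl (fun f _ => h2 f), Finset.sum_eq_single (1 : (G ⧸ N) →* ℂˣ)]
    · rw [if_pos rfl]
    · intro f _ hf
      rw [if_neg hf]
    · intro h
      exact absurd (Finset.mem_univ _) h
  have hG : Nat.card G = Nat.card N * Nat.card (G ⧸ N) := by
    rw [← Subgroup.index_eq_card, Subgroup.card_mul_index]
  unfold Cfsg.classInner
  beta_reduce
  rw [hsum, hG]
  push_cast
  field_simp

/-- in a block with abelian defect group `P` of a group `G = N P`, where `N` is normal of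
`p`-power index, every character restricts irreducibly to `N` -/
theorem restrict_irr (hM : Cfsg.IsPModular p M) [Fact p.Prime] (N : Subgroup G) [hN : N.Normal]
    [Fintype N] (hidx : ∃ k : ℕ, N.index = p ^ k) (χ₀ : Cfsg.IrrCharacter G) (P : Subgroup G)
    (hPD : Cfsg.IsDefectGroup p M (Cfsg.blockOf M (χ₀ : G → ℂ)) P)
    (hPab : ∀ x ∈ P, ∀ y ∈ P, x * y = y * x) (hsup : N ⊔ P = ⊤)
    (χ : Cfsg.IrrCharacter G) (hχ : χ ∈ Cfsg.blockOf M (χ₀ : G → ℂ)) :
    Cfsg.IsIrrCharacter N (fun n : N => (χ : G → ℂ) n) := by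
  apply restrict_irr_of_twists N (quotient_comm N P hsup hPab) χ
  intro f hf
  have hNT : N ≤ (f.comp (QuotientGroup.mk' N)).ker := by
    intro n hn
    rw [MonoidHom.mem_ker, MonoidHom.comp_apply, QuotientGroup.mk'_apply,
      (QuotientGroup.eq_one_iff n).mpr hn, map_one]
  have hreg : ∀ g : G, ¬ p ∣ orderOf g → g ∈ (f.comp (QuotientGroup.mk' N)).ker :=
    fun g hg => hNT (mem_of_pRegular_of_index N hM.1 hidx g hg)
  have hPT : ¬ P ≤ (f.comp (QuotientGroup.mk' N)).ker := by
    intro hPT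
    apply hf
    have htop : (f.comp (QuotientGroup.mk' N)).ker = ⊤ := by
      rw [eq_top_iff, ← hsup]
      exact sup_le hNT hPT
    apply MonoidHom.ext
    intro a
    obtain ⟨g, rfl⟩ := QuotientGroup.mk_surjective a
    have hg : g ∈ (f.comp (QuotientGroup.mk' N)).ker := by
      rw [htop]
      exact Subgroup.mem_top g
    rw [MonoidHom.mem_ker, MonoidHom.comp_apply, QuotientGroup.mk'_apply] at hg
    rw [hg, MonoidHom.one_apply]
  obtain ⟨g, hgT, hg0⟩ := exists_ne_zero_off hM χ₀ P hPD hPab _ hreg hPT χ hχ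
  refine ⟨g, ?_, hg0⟩
  intro h1
  apply hgT
  rw [MonoidHom.mem_ker, MonoidHom.comp_apply, QuotientGroup.mk'_apply]
  exact h1

end

end Cfsg.Agent.Lib.Helper6.PIdx
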