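import Mathlib
import Cfsg.Prelude.Def_Blocks
import Cfsg.Prelude.Def_BlockRank
import Cfsg.Agent.Lib.Helper6.BlkRank
import Cfsg.Agent.Lib.Helper6.BlkRankLemmas
import Cfsg.Agent.Lib.Helper6.BlkVanish
import Cfsg.Agent.Lib.Helper6.BlkQuot3
import Cfsg.Agent.Lib.Helper6.BlkQuot4
import Cfsg.Agent.Lib.Helper6.BlkNormalP
import Cfsg.Agent.Lib.Helper6.BlkPrincipal

set_option autoImplicit false
set_option linter.unusedSectionVars false

/-!
# The `p`-regular rank of the principal block modulo a central `p`-subgroup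

For a central `p`-subgroup `Z` of `G` the principal blocks of `G` and of `G / Z` have the same
`p`-regular rank (the same number of irreducible Brauer characters).
-/

namespace Cfsg.Agent.Lib.Helper6

open Cfsg
open scoped ComplexConjugate

section

variable {G : Type*} [Group G]
variable {p : ℕ} {M : Ideal Cfsg.AlgInt}

theorem pRegularPart_apply_of_not_dvd (χ : G → ℂ) {g : G} (hg : ¬ p ∣ orderOf g) :
    Cfsg.pRegularPart p χ g = χ g := by
  unfold Cfsg.pRegularPart Cfsg.IsPRegular
  rw [if_pos hg]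

theorem pRegularPart_apply_of_dvd (χ : G → ℂ) {g : G} (hg : p ∣ orderOf g) :
    Cfsg.pRegularPart p χ g = 0 := by
  unfold Cfsg.pRegularPart Cfsg.IsPRegular
  rw [if_neg (not_not.mpr hg)]

/-- a `p`-regular element times a nontrivial central `p`-element is `p`-singular -/
theorem dvd_orderOf_central_mul [Finite G] (hp : p.Prime) {z g : G} (hz : ∀ h : G, z * h = h * z)
    {k : ℕ} (hzk : z ^ p ^ k = 1) (hz1 : z ≠ 1) (hg : ¬ p ∣ orderOf g) : p ∣ orderOf (z * g) := by
  by_contra hzg
  obtain ⟨n, hn⟩ : ∃ n : ℕ, n = orderOf g * orderOf (z * g) := ⟨_, rfl⟩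
  have hcop : Nat.Coprime n p := by
    rw [hn]
    apply Nat.Coprime.mul_left
    · exact ((hp.coprime_iff_not_dvd).mpr hg).symm
    · exact ((hp.coprime_iff_not_dvd).mpr hzg).symm
  have h1 : (z * g) ^ n = 1 := by
    rw [hn, mul_comm, pow_mul, pow_orderOf_eq_one, one_pow]
  have hc : Commute z g := hz g
  have h2 : (z * g) ^ n = z ^ n * g ^ n := hc.mul_pow n
  have h3 : g ^ n = 1 := by
    rw [hn, pow_mul, pow_orderOf_eq_one, one_pow]
  rw [h2, h3, mul_one] at h1
  have h4 : orderOf z ∣ n := orderOf_dvd_of_pow_eq_one h1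
  have h5 : orderOf z ∣ p ^ k := orderOf_dvd_of_pow_eq_one hzk
  have h6 : orderOf z ∣ Nat.gcd n (p ^ k) := Nat.dvd_gcd h4 h5
  rw [Nat.Coprime.pow_right k hcop] at h6
  exact hz1 (orderOf_eq_one_iff.mp (Nat.dvd_one.mp h6))

end

section

variable {G : Type*} [Group G] [Fintype G] [DecidableEq G]
variable {p : ℕ} {M : Ideal Cfsg.AlgInt}

/-- the `p`-regular part of a member of a block lies in the span of the block -/
theorem pRegularPart_eq_sum_block (hM : Cfsg.IsPModular p M) [Fintype (Cfsg.IrrCharacter G)]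
    (χ₀ : Cfsg.IrrCharacter G) [DecidablePred (· ∈ Cfsg.blockOf M (χ₀ : G → ℂ))]
    (χ' : Cfsg.IrrCharacter G) (hχ' : χ' ∈ Cfsg.blockOf M (χ₀ : G → ℂ)) (g : G) :
    Cfsg.pRegularPart p (χ' : G → ℂ) g
      = ∑ χ ∈ Finset.univ.filter (· ∈ Cfsg.blockOf M (χ₀ : G → ℂ)),
          Cfsg.classInner (Cfsg.pRegularPart p (χ' : G → ℂ)) (χ : G → ℂ) * (χ : G → ℂ) g := by
  by_cases hg : p ∣ orderOf g
  · rw [pRegularPart_apply_of_dvd _ hg]
    symm
    unfold Cfsg.classInner
    have h1 : ∀ χ : Cfsg.IrrCharacter G,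
        ((Nat.card G : ℂ)⁻¹ * ∑ y : G, Cfsg.pRegularPart p (χ' : G → ℂ) y * conj ((χ : G → ℂ) y))
          * (χ : G → ℂ) g
        = (Nat.card G : ℂ)⁻¹ * ∑ y : G, Cfsg.pRegularPart p (χ' : G → ℂ) y
            * (conj ((χ : G → ℂ) y) * (χ : G → ℂ) g) := by
      intro χ
      rw [mul_assoc, Finset.sum_mul]
      congr 1
      apply Finset.sum_congr rfl
      intro y _
      ring
    rw [Finset.sum_congr rfl (fun χ _ => h1 χ), ← Finset.mul_sum, Finset.sum_comm]
    have h2 : ∀ y : G, ∑ χ ∈ Finset.univ.filter (· ∈ Cfsg.blockOf M (χ₀ : G → ℂ)),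
        Cfsg.pRegularPart p (χ' : G → ℂ) y * (conj ((χ : G → ℂ) y) * (χ : G → ℂ) g) = 0 := by
      intro y
      rw [← Finset.mul_sum]
      by_cases hy : p ∣ orderOf y
      · rw [pRegularPart_apply_of_dvd _ hy, zero_mul]
      · have h4 := weak_block_orthogonality_finset hM χ₀ y g hy hg
        have h5 : ∑ χ ∈ Finset.univ.filter (· ∈ Cfsg.blockOf M (χ₀ : G → ℂ)),
            conj ((χ : G → ℂ) y) * (χ : G → ℂ) g
            = conj (∑ χ ∈ Finset.univ.filter (· ∈ Cfsg.blockOf M (χ₀ : G → ℂ)),
              (χ : G → ℂ) y * conj ((χ : G → ℂ) g)) := by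
          rw [map_sum]
          apply Finset.sum_congr rfl
          intro χ _
          rw [map_mul, Complex.conj_conj]
        rw [h5, h4, map_zero, mul_zero]
    rw [Finset.sum_congr rfl (fun y _ => h2 y), Finset.sum_const_zero, mul_zero]
  · have h1 := congrFun (pRegProj_pRegularPart hM χ₀ χ' hχ') g
    rw [pRegProj_apply, Finset.sum_apply] at h1
    rw [← h1]
    apply Finset.sum_congr rfl
    intro χ _
    simp only [Pi.smul_apply, smul_eq_mul]
    rw [pRegularPart_apply_of_not_dvd _ hg]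

/-- summing an irreducible character with the central subgroup in its kernel over translates -/
theorem sum_central_shift_of_ker {χ : G → ℂ} (hχ : Cfsg.IsIrrCharacter G χ) (Z : Subgroup G)
    [Fintype Z] (hZc : ∀ z ∈ Z, ∀ h : G, z * h = h * z) (g : G)
    (h : ∀ z ∈ Z, χ z = χ 1) :
    ∑ z : Z, χ ((z : G) * g) = (Nat.card Z : ℂ) * χ g := by
  have h1 := IsIrrCharacter.apply_one_ne_zero hχ
  have h2 : ∀ z : Z, χ ((z : G) * g) = χ g := by
    intro z
    rw [IsIrrCharacter.apply_central_mul hχ (hZc z z.2), h z z.2, mul_div_assoc, mul_comm,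
      div_mul_cancel₀ _ h1]
  rw [Finset.sum_congr rfl (fun z _ => h2 z), Finset.sum_const, Finset.card_univ,
    ← Nat.card_eq_fintype_card, nsmul_eq_mul]

/-- summing an irreducible character nontrivial on the central subgroup over translates -/
theorem sum_central_shift_of_not_ker {χ : G → ℂ} (hχ : Cfsg.IsIrrCharacter G χ) (Z : Subgroup G)
    [Fintype Z] (hZc : ∀ z ∈ Z, ∀ h : G, z * h = h * z) (g : G)
    (h : ¬ ∀ z ∈ Z, χ z = χ 1) :
    ∑ z : Z, χ ((z : G) * g) = 0 := by
  have h1 := IsIrrCharacter.apply_one_ne_zero hχ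
  push Not at h
  obtain ⟨z₀, hz₀, hne⟩ := h
  have h3 : ∑ z : Z, χ ((z : G) * g) = (χ z₀ / χ 1) * ∑ z : Z, χ ((z : G) * g) := by
    conv_lhs => rw [← Equiv.sum_comp (Equiv.mulLeft (⟨z₀, hz₀⟩ : Z)) (fun z : Z => χ ((z : G) * g))]
    rw [Finset.mul_sum]
    apply Finset.sum_congr rfl
    intro z _
    change χ (((⟨z₀, hz₀⟩ * z : Z) : G) * g) = _
    rw [Subgroup.coe_mul, mul_assoc, IsIrrCharacter.apply_central_mul hχ (hZc z₀ hz₀)]
    ring
  have h4 : (1 - χ z₀ / χ 1) * ∑ z : Z, χ ((z : G) * g) = 0 := by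
    rw [sub_mul, one_mul, ← h3, sub_self]
  rcases mul_eq_zero.mp h4 with h5 | h5
  · exfalso
    apply hne
    have : χ z₀ / χ 1 = 1 := (sub_eq_zero.mp h5).symm
    rw [div_eq_one_iff_eq h1] at this
    exact this
  · exact h5

end

section

variable {p : ℕ} {M : Ideal Cfsg.AlgInt}

/-- the `p`-regular rank of the principal block is unchanged modulo a central `p`-subgroup -/
theorem blockRank_principalBlock_quotient_central {G : Type*} [Group G] [Finite G]
    (hM : Cfsg.IsPModular p M) (Z : Subgroup G) [hZn : Z.Normal]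
    (hZc : ∀ z ∈ Z, ∀ h : G, z * h = h * z) (hZp : IsPGroup p Z) :
    Cfsg.blockRank p (Cfsg.principalBlock M G)
      = Cfsg.blockRank p (Cfsg.principalBlock M (G ⧸ Z)) := by
  classical
  have : Fintype G := Fintype.ofFinite G
  have : Fintype (G ⧸ Z) := Fintype.ofFinite _
  have : Fintype Z := Fintype.ofFinite _
  have : Fintype (Cfsg.IrrCharacter G) := Fintype.ofFinite _
  have hp : p.Prime := hM.1
  obtain ⟨Φ, hΦ⟩ : ∃ Φ : ((G ⧸ Z) → ℂ) →ₗ[ℂ] (G → ℂ),
      ∀ (F : (G ⧸ Z) → ℂ) (g : G), Φ F g = if ¬ p ∣ orderOf g then F (QuotientGroup.mk g) else 0 :=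
    ⟨{ toFun := fun F g => if ¬ p ∣ orderOf g then F (QuotientGroup.mk g) else 0
       map_add' := by
        intro F F'
        funext g
        simp only [Pi.add_apply]
        split_ifs <;> simp
       map_smul' := by
        intro c F
        funext g
        simp only [Pi.smul_apply, RingHom.id_apply, smul_eq_mul]
        split_ifs <;> simp }, fun _ _ => rfl⟩
  have hord : ∀ g : G, orderOf (QuotientGroup.mk g : G ⧸ Z) ∣ orderOf g := fun g =>
    orderOf_map_dvd (QuotientGroup.mk' Z) g
  have hΦreg : ∀ ψ : (G ⧸ Z) → ℂ, Φ (Cfsg.pRegularPart p ψ)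
      = Cfsg.pRegularPart p (fun g : G => ψ (QuotientGroup.mk g)) := by
    intro ψ
    funext g
    rw [hΦ]
    by_cases hg : p ∣ orderOf g
    · rw [if_neg (not_not.mpr hg), pRegularPart_apply_of_dvd _ hg]
    · rw [if_pos hg, pRegularPart_apply_of_not_dvd _ hg, pRegularPart_apply_of_not_dvd]
      exact fun h => hg (dvd_trans h (hord g))
  obtain ⟨SQ, hSQ⟩ : ∃ SQ : Submodule ℂ ((G ⧸ Z) → ℂ), SQ = Submodule.span ℂ
      ((fun χ : Cfsg.IrrCharacter (G ⧸ Z) => Cfsg.pRegularPart p (χ : G ⧸ Z → ℂ)) ''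
        (Cfsg.principalBlock M (G ⧸ Z))) := ⟨_, rfl⟩
  have hcent : ∃ k : ℕ, (Subgroup.centralizer (Z : Set G)).index = p ^ k := by
    refine ⟨0, ?_⟩
    have : Subgroup.centralizer (Z : Set G) = ⊤ := by
      rw [eq_top_iff]
      intro h _
      rw [Subgroup.mem_centralizer_iff]
      intro z hz
      exact hZc z hz h
    rw [this, Subgroup.index_top, pow_zero]
  -- the members of the principal block with `Z` in the kernel come from the quotient
  have hdefl : ∀ χ : Cfsg.IrrCharacter G, χ ∈ Cfsg.principalBlock M G →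
      (∀ z ∈ Z, (χ : G → ℂ) z = (χ : G → ℂ) 1) →
      Cfsg.pRegularPart p (χ : G → ℂ) ∈ SQ.map Φ := by
    intro χ hχ hker
    obtain ⟨β, hβ⟩ := IsIrrCharacter.exists_deflation Z χ hker
    have hβB : β ∈ Cfsg.principalBlock M (G ⧸ Z) := by
      have h1 : Cfsg.SameBlock M (fun g : G => ((oneIrr (G ⧸ Z) : Cfsg.IrrCharacter (G ⧸ Z)) :
          G ⧸ Z → ℂ) (QuotientGroup.mk g)) (fun g : G => (β : G ⧸ Z → ℂ) (QuotientGroup.mk g)) := by
        rw [← hβ]
        exact hχ
      exact sameBlock_of_sameBlock_inflation Z hM hZp hcent (oneIrr (G ⧸ Z)) β h1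
    rw [hβ, ← hΦreg]
    apply Submodule.mem_map_of_mem
    rw [hSQ]
    apply Submodule.subset_span
    exact ⟨β, hβB, rfl⟩
  have hspan : Submodule.span ℂ ((fun χ : Cfsg.IrrCharacter G =>
      Cfsg.pRegularPart p (χ : G → ℂ)) '' (Cfsg.principalBlock M G)) = SQ.map Φ := by
    apply le_antisymm
    · rw [Submodule.span_le]
      rintro _ ⟨χ', hχ', rfl⟩
      have hR1 := pRegularPart_eq_sum_block (p := p) hM (oneIrr G) χ' hχ'
      -- the expansion over the members with `Z` in the kernel
      have hexp : Cfsg.pRegularPart p (χ' : G → ℂ)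
          = ∑ χ ∈ Finset.univ.filter (· ∈ Cfsg.blockOf M ((oneIrr G : Cfsg.IrrCharacter G) : G → ℂ)),
              (if (∀ z ∈ Z, (χ : G → ℂ) z = (χ : G → ℂ) 1) then
                ((Nat.card Z : ℂ) * Cfsg.classInner (Cfsg.pRegularPart p (χ' : G → ℂ)) (χ : G → ℂ))
                  • Cfsg.pRegularPart p (χ : G → ℂ) else 0) := by
        funext g
        rw [Finset.sum_apply]
        by_cases hg : p ∣ orderOf g
        · rw [pRegularPart_apply_of_dvd _ hg]
          symm
          apply Finset.sum_eq_zero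
          intro χ _
          split_ifs
          · rw [Pi.smul_apply, pRegularPart_apply_of_dvd _ hg, smul_zero]
          · rfl
        · -- only the identity of `Z` contributes
          have h1 : ∑ z : Z, Cfsg.pRegularPart p (χ' : G → ℂ) ((z : G) * g)
              = Cfsg.pRegularPart p (χ' : G → ℂ) g := by
            rw [Finset.sum_eq_single (1 : Z)]
            · rw [Subgroup.coe_one, one_mul]
            · intro z _ hz1
              obtain ⟨k, hk⟩ := hZp z
              have hk' : (z : G) ^ p ^ k = 1 := by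
                have := congrArg (fun t : Z => (t : G)) hk
                simpa using this
              have hz1' : (z : G) ≠ 1 := fun h => hz1 (Subtype.ext h)
              exact pRegularPart_apply_of_dvd _
                (dvd_orderOf_central_mul hp (hZc z z.2) hk' hz1' hg)
            · intro h
              exact absurd (Finset.mem_univ _) h
          rw [← h1]
          simp only [hR1]
          rw [Finset.sum_comm]
          apply Finset.sum_congr rfl
          intro χ _
          rw [← Finset.mul_sum]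
          split_ifs with hk
          · rw [sum_central_shift_of_ker χ.2 Z hZc g hk, Pi.smul_apply, smul_eq_mul,
              pRegularPart_apply_of_not_dvd _ hg]
            ring
          · rw [sum_central_shift_of_not_ker χ.2 Z hZc g hk, mul_zero]
            rfl
      change Cfsg.pRegularPart p (χ' : G → ℂ) ∈ SQ.map Φ
      rw [hexp]
      apply Submodule.sum_mem
      intro χ hχ
      rw [Finset.mem_filter] at hχ
      split_ifs with hk
      · apply Submodule.smul_mem
        exact hdefl χ hχ.2 hk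
      · exact Submodule.zero_mem _
    · rw [hSQ, Submodule.map_span, Submodule.span_le]
      rintro _ ⟨_, ⟨ψ, hψ, rfl⟩, rfl⟩
      rw [hΦreg]
      apply Submodule.subset_span
      refine ⟨inflIrr Z ψ, ?_, rfl⟩
      exact sameBlock_inflation Z hM (oneIrr (G ⧸ Z)) ψ hψ
  -- injectivity on the span
  have hvan : ∀ v ∈ SQ, ∀ q : G ⧸ Z, p ∣ orderOf q → v q = 0 := by
    intro v hv
    rw [hSQ] at hv
    induction hv using Submodule.span_induction with
    | mem x hx =>
      obtain ⟨ψ, _, rfl⟩ := hx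
      intro q hq
      exact pRegularPart_apply_of_dvd _ hq
    | zero => intro q _; rfl
    | add x y _ _ hx hy =>
      intro q hq
      rw [Pi.add_apply, hx q hq, hy q hq, add_zero]
    | smul c x _ hx =>
      intro q hq
      rw [Pi.smul_apply, hx q hq, smul_zero]
  have hinj : Function.Injective (Φ.domRestrict SQ) := by
    rw [← LinearMap.ker_eq_bot, LinearMap.ker_eq_bot']
    intro v hv
    apply Subtype.ext
    funext q
    change (v : (G ⧸ Z) → ℂ) q = 0
    by_cases hq : p ∣ orderOf q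
    · exact hvan v v.2 q hq
    · obtain ⟨w, hw, hwp⟩ := exists_pRegular_lift Z hp q hq
      have h1 : Φ (v : (G ⧸ Z) → ℂ) w = 0 := by
        have : Φ.domRestrict SQ v = 0 := hv
        rw [LinearMap.domRestrict_apply] at this
        rw [this]
        rfl
      rw [hΦ, if_pos hwp, hw] at h1
      exact h1
  unfold Cfsg.blockRank
  rw [hspan, ← hSQ, ← LinearMap.range_domRestrict]
  exact LinearMap.finrank_range_of_inj hinj

end

end Cfsg.Agent.Lib.Helper6
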