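import Mathlib
import Cfsg.Prelude.Def_BlockRank
import Cfsg.Prelude.Def_BlockLocal
import Cfsg.Agent.Lib.Helper6.PIdx1
import Cfsg.Agent.Lib.Helper6.Linear
import Cfsg.Agent.Lib.Helper6.Constituent
import Cfsg.Agent.Lib.Helper6.RankCentralQuot
import Cfsg.Agent.Lib.Helper3.GallagherDecomp

/-!
# Blocks of normal subgroups of `p`-power index: abelian defect groups (part 2)

Counting the characters over a given one, the rank, and the assembly.
-/

set_option autoImplicit false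
set_option linter.unusedSectionVars false
set_option linter.style.haveILetI false
open Cfsg

namespace Cfsg.Agent.Lib.Helper6.PIdx

open Cfsg.Agent.Lib.Helper6
open scoped ComplexConjugate

section

variable {G : Type*} [Group G] [Fintype G] [DecidableEq G]
variable {p : ℕ} {M : Ideal Cfsg.AlgInt}

/-- the characters of `G` with the same irreducible restriction to `N` as `χ'` correspond to the
linear characters of the abelian group `G / N` -/
theorem card_fiber (N : Subgroup G) [hN : N.Normal] [Fintype N] (hA : IsMulCommutative (G ⧸ N))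
    (χ' : Cfsg.IrrCharacter G) (hθ : Cfsg.IsIrrCharacter N (fun n : N => (χ' : G → ℂ) n)) :
    Nat.card {χ : Cfsg.IrrCharacter G // ∀ n : N, (χ : G → ℂ) n = (χ' : G → ℂ) n} = N.index := by
  classical
  rw [Subgroup.index_eq_card, ← card_homs_of_comm hA]
  symm
  apply Nat.card_congr
  refine Equiv.ofBijective
    (fun f => ⟨⟨fun g => ((f (QuotientGroup.mk g) : ℂˣ) : ℂ) * (χ' : G → ℂ) g,
      Cfsg.Agent.Lib.Helper3.DetChar.isIrrCharacter_hom_mul (f.comp (QuotientGroup.mk' N)) χ'.2⟩,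
      ?_⟩) ⟨?_, ?_⟩
  · intro n
    show ((f (QuotientGroup.mk (n : G)) : ℂˣ) : ℂ) * (χ' : G → ℂ) n = (χ' : G → ℂ) n
    rw [(QuotientGroup.eq_one_iff (n : G)).mpr n.2, map_one, Units.val_one, one_mul]
  · intro f f' h
    have h1 := congrArg (fun x => ((x.1 : Cfsg.IrrCharacter G) : G → ℂ)) h
    simp only at h1
    have h2 := Cfsg.Agent.Lib.Helper3.GallagherDecomp.mul_infl_injective N χ'.2 hθ
      (fun a => ((f a : ℂˣ) : ℂ)) (fun a => ((f' a : ℂˣ) : ℂ)) h1
    apply MonoidHom.ext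
    intro a
    exact Units.ext (congrFun h2 a)
  · rintro ⟨χ, hχ⟩
    haveI : Fintype (Cfsg.IrrCharacter (G ⧸ N)) := Fintype.ofFinite _
    have hres : (fun n : N => (χ : G → ℂ) n) = (fun n : N => (χ' : G → ℂ) n) := funext hχ
    have hover : Cfsg.classInner (fun n : N => (χ : G → ℂ) n) (fun n : N => (χ' : G → ℂ) n)
        ≠ 0 := by
      rw [hres, classInner_isIrrCharacter hθ hθ, if_pos rfl]
      exact one_ne_zero
    obtain ⟨β, hβ⟩ :=
      Cfsg.Agent.Lib.Helper3.GallagherDecomp.exists_infl_of_over N χ'.2 hθ χ.2 hover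
    have h1 : (β : G ⧸ N → ℂ) 1 = 1 := by
      have e1 := congrFun hβ 1
      have e2 : (χ : G → ℂ) 1 = (χ' : G → ℂ) 1 := by
        have := hχ 1
        simpa using this
      have e3 : (χ' : G → ℂ) 1 ≠ 0 := IsIrrCharacter.apply_one_ne_zero χ'.2
      simp only [Pi.mul_apply, QuotientGroup.mk_one] at e1
      rw [e2] at e1
      have e4 : ((β : G ⧸ N → ℂ) 1 - 1) * (χ' : G → ℂ) 1 = 0 := by
        rw [sub_mul, one_mul, ← e1, sub_self]
      rcases mul_eq_zero.mp e4 with e5 | e5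
      · exact sub_eq_zero.mp e5
      · exact absurd e5 e3
    refine ⟨linearCharHom (IsIrrCharacter.isCharacter β.2) h1, ?_⟩
    apply Subtype.ext
    apply Subtype.ext
    funext g
    show ((linearCharHom (IsIrrCharacter.isCharacter β.2) h1 (QuotientGroup.mk g) : ℂˣ) : ℂ)
      * (χ' : G → ℂ) g = (χ : G → ℂ) g
    rw [linearCharHom_apply, hβ]
    rfl

/-- counting by fibres of constant size -/
theorem card_eq_mul_of_fibers {α β : Type*} [Finite α] [Finite β] (r : α → β) (k : ℕ)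
    (h : ∀ y : β, Nat.card {x : α // r x = y} = k) : Nat.card α = k * Nat.card β := by
  classical
  haveI : Fintype β := Fintype.ofFinite β
  rw [← Nat.card_congr (Equiv.sigmaFiberEquiv r), Nat.card_sigma]
  simp only [h, Finset.sum_const, Finset.card_univ, smul_eq_mul]
  rw [Nat.card_eq_fintype_card, mul_comm]

open Classical in
/-- extension by zero from a subgroup, as a linear map -/
noncomputable def extLin (N : Subgroup G) : (N → ℂ) →ₗ[ℂ] (G → ℂ) where
  toFun θ := fun g => if h : g ∈ N then θ ⟨g, h⟩ else 0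
  map_add' a b := by
    funext g
    by_cases h : g ∈ N <;> simp [h]
  map_smul' c a := by
    funext g
    by_cases h : g ∈ N <;> simp [h]

open Classical in
theorem extLin_apply_of_mem (N : Subgroup G) (θ : N → ℂ) {g : G} (h : g ∈ N) :
    extLin N θ g = θ ⟨g, h⟩ := by
  show (if h : g ∈ N then θ ⟨g, h⟩ else 0) = θ ⟨g, h⟩
  rw [dif_pos h]

open Classical in
theorem extLin_apply_of_not_mem (N : Subgroup G) (θ : N → ℂ) {g : G} (h : g ∉ N) :
    extLin N θ g = 0 := by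
  show (if h : g ∈ N then θ ⟨g, h⟩ else 0) = 0
  rw [dif_neg h]

theorem extLin_injective (N : Subgroup G) : Function.Injective (extLin N) := by
  intro a b h
  funext n
  have h1 := congrFun h (n : G)
  rw [extLin_apply_of_mem N a n.2, extLin_apply_of_mem N b n.2] at h1
  exact h1

theorem extLin_pRegularPart (N : Subgroup G) (hreg : ∀ g : G, ¬ p ∣ orderOf g → g ∈ N)
    (χ : G → ℂ) :
    extLin N (Cfsg.pRegularPart p (fun n : N => χ n)) = Cfsg.pRegularPart p χ := by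
  funext g
  by_cases hg : g ∈ N
  · rw [extLin_apply_of_mem N _ hg]
    by_cases hr : p ∣ orderOf g
    · have hr' : p ∣ orderOf (⟨g, hg⟩ : N) := by
        rw [Subgroup.orderOf_mk]
        exact hr
      rw [pRegularPart_apply_of_dvd χ hr, pRegularPart_apply_of_dvd (fun n : N => χ n) hr']
    · have hr' : ¬ p ∣ orderOf (⟨g, hg⟩ : N) := by
        rw [Subgroup.orderOf_mk]
        exact hr
      rw [pRegularPart_apply_of_not_dvd χ hr,
        pRegularPart_apply_of_not_dvd (fun n : N => χ n) hr']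
  · rw [extLin_apply_of_not_mem N _ hg]
    have hr : p ∣ orderOf g := by
      by_contra hr
      exact hg (hreg g hr)
    rw [pRegularPart_apply_of_dvd χ hr]

/-- if restriction to `N` maps `B` onto `b` and `N` contains all `p`-regular elements then `B`
and `b` have the same `p`-regular rank -/
theorem blockRank_eq_of_restrict (N : Subgroup G) (hreg : ∀ g : G, ¬ p ∣ orderOf g → g ∈ N)
    (B : Set (Cfsg.IrrCharacter G)) (b : Set (Cfsg.IrrCharacter N))
    (h1 : ∀ χ ∈ B, ∃ θ ∈ b, ∀ n : N, (χ : G → ℂ) n = (θ : N → ℂ) n)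
    (h2 : ∀ θ ∈ b, ∃ χ ∈ B, ∀ n : N, (χ : G → ℂ) n = (θ : N → ℂ) n) :
    Cfsg.blockRank p B = Cfsg.blockRank p b := by
  unfold Cfsg.blockRank
  have himg : (fun χ : Cfsg.IrrCharacter G => Cfsg.pRegularPart p (χ : G → ℂ)) '' B
      = extLin N '' ((fun θ : Cfsg.IrrCharacter N => Cfsg.pRegularPart p (θ : N → ℂ)) '' b) := by
    ext F
    constructor
    · rintro ⟨χ, hχ, rfl⟩
      obtain ⟨θ, hθ, hθe⟩ := h1 χ hχ
      refine ⟨_, ⟨θ, hθ, rfl⟩, ?_⟩
      have he : (θ : N → ℂ) = fun n : N => (χ : G → ℂ) n := by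
        funext n
        exact (hθe n).symm
      show extLin N (Cfsg.pRegularPart p (θ : N → ℂ)) = Cfsg.pRegularPart p (χ : G → ℂ)
      rw [he]
      exact extLin_pRegularPart N hreg _
    · rintro ⟨_, ⟨θ, hθ, rfl⟩, rfl⟩
      obtain ⟨χ, hχ, hχe⟩ := h2 θ hθ
      refine ⟨χ, hχ, ?_⟩
      have he : (θ : N → ℂ) = fun n : N => (χ : G → ℂ) n := by
        funext n
        exact (hχe n).symm
      show Cfsg.pRegularPart p (χ : G → ℂ) = extLin N (Cfsg.pRegularPart p (θ : N → ℂ))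
      rw [he]
      exact (extLin_pRegularPart N hreg _).symm
  rw [himg, ← Submodule.map_span]
  exact (LinearEquiv.finrank_eq
    (Submodule.equivMapOfInjective (extLin N) (extLin_injective N) _)).symm

/-- **Blocks of a normal subgroup of `p`-power index, abelian defect groups.** -/
theorem main (hM : Cfsg.IsPModular p M) [Fact p.Prime] (N : Subgroup G) [hN : N.Normal]
    [Fintype N] (hNi : ∃ k : ℕ, N.index = p ^ k) (b : Set (Cfsg.IrrCharacter N))
    (hb : Cfsg.IsPBlock M b) (hstab : ∀ g : G, Cfsg.StabilizesBlock N b g)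
    (B : Set (Cfsg.IrrCharacter G)) (hB : Cfsg.IsPBlock M B)
    (hcov : ∃ χ ∈ B, ∃ θ ∈ b,
      Cfsg.classInner (fun n : N => (χ : G → ℂ) n) (θ : N → ℂ) ≠ 0)
    (P : Subgroup G) (hPD : Cfsg.IsDefectGroup p M B P)
    (hPab : ∀ x ∈ P, ∀ y ∈ P, x * y = y * x) :
    N ⊔ P = ⊤ ∧ Cfsg.IsDefectGroup p M b ((P ⊓ N).subgroupOf N) ∧
      (∀ χ ∈ B, ∃ θ ∈ b, ∀ n : N, (χ : G → ℂ) n = (θ : N → ℂ) n) ∧
      (∀ θ ∈ b, Nat.card {χ : Cfsg.IrrCharacter G //
        χ ∈ B ∧ ∀ n : N, (χ : G → ℂ) n = (θ : N → ℂ) n} = N.index) ∧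
      Nat.card B = N.index * Nat.card b ∧ Cfsg.blockRank p B = Cfsg.blockRank p b := by
  have hp : p.Prime := hM.1
  obtain ⟨χ₁, hχ₁, θ₁, hθ₁, hc⟩ := hcov
  obtain ⟨χ₀, hBeq⟩ := hB
  obtain ⟨θ₀, hbeq⟩ := hb
  have hB1 : B = Cfsg.blockOf M (χ₁ : G → ℂ) := by
    rw [hBeq]
    rw [hBeq] at hχ₁
    exact blockOf_eq_of_mem hM hχ₁
  have hb1 : b = Cfsg.blockOf M (θ₁ : N → ℂ) := by
    rw [hbeq]
    rw [hbeq] at hθ₁
    exact blockOf_eq_of_mem hM hθ₁
  subst hB1
  subst hb1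
  have hst : GStable N hN (Cfsg.blockOf M (θ₁ : N → ℂ)) := by
    intro ψ hψ g
    obtain ⟨ψ', hψ', hconj⟩ := (hstab g⁻¹).2 ψ hψ
    have he : irrConj N hN g ψ = ψ' := by
      apply Subtype.ext
      funext n
      rw [irrConj_coe, conjFun_apply]
      symm
      apply hconj ⟨g * n * g⁻¹, hN.conj_mem n n.2 g⟩ n
      show (n : G) = g⁻¹ * (g * (n : G) * g⁻¹) * g⁻¹⁻¹
      group
    rw [he]
    exact hψ'
  have hover₁ : χ₁ ∈ overSet N (Cfsg.blockOf M (θ₁ : N → ℂ)) := ⟨θ₁, hθ₁, hc⟩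
  have hBover : ∀ χ ∈ Cfsg.blockOf M (χ₁ : G → ℂ),
      χ ∈ overSet N (Cfsg.blockOf M (θ₁ : N → ℂ)) :=
    fun χ hχ => overSet_union_blocks N hN hM θ₁ hst χ₁ hover₁ χ hχ
  have hoverB : ∀ χ ∈ overSet N (Cfsg.blockOf M (θ₁ : N → ℂ)),
      χ ∈ Cfsg.blockOf M (χ₁ : G → ℂ) := by
    rintro χ ⟨θ, hθ, hcθ⟩
    exact sameBlock_of_cover_of_index N hM hNi χ₁ χ θ₁ θ hθ hc hcθ
  obtain ⟨hidx', hdefb, _⟩ := fong_cover N hN hM θ₁ hst χ₁ hover₁
    (fun χ' hχ' => le_of_eq (congrArg (Cfsg.blockDefect p)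
      (blockOf_eq_of_mem hM (hoverB χ' hχ')).symm)) P hPD
  have hsup : N ⊔ P = ⊤ := by
    obtain ⟨k, hk⟩ := hNi
    have hle : N ≤ P ⊔ N := le_sup_right
    have hdvd : (P ⊔ N).index ∣ p ^ k := by
      rw [← hk]
      exact Subgroup.index_dvd_of_le hle
    obtain ⟨j, _, hj⟩ := (Nat.dvd_prime_pow hp).mp hdvd
    have hj0 : j = 0 := by
      by_contra hne
      apply hidx'
      rw [hj]
      exact dvd_pow_self p hne
    rw [hj0, pow_zero] at hj
    rw [sup_comm]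
    exact Subgroup.index_eq_one.mp hj
  have hirr : ∀ χ ∈ Cfsg.blockOf M (χ₁ : G → ℂ),
      Cfsg.IsIrrCharacter N (fun n : N => (χ : G → ℂ) n) :=
    fun χ hχ => restrict_irr hM N hNi χ₁ P hPD hPab hsup χ hχ
  have hA := quotient_comm N P hsup hPab
  have h3 : ∀ χ ∈ Cfsg.blockOf M (χ₁ : G → ℂ), ∃ θ ∈ Cfsg.blockOf M (θ₁ : N → ℂ),
      ∀ n : N, (χ : G → ℂ) n = (θ : N → ℂ) n := by
    intro χ hχ
    refine ⟨⟨_, hirr χ hχ⟩, ?_, fun n => rfl⟩
    apply mem_of_constituent_of_mem_overSet N hN hst (hBover χ hχ)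
    rw [classInner_isIrrCharacter (hirr χ hχ) (hirr χ hχ), if_pos rfl]
    exact one_ne_zero
  have h2' : ∀ θ ∈ Cfsg.blockOf M (θ₁ : N → ℂ), ∃ χ ∈ Cfsg.blockOf M (χ₁ : G → ℂ),
      ∀ n : N, (χ : G → ℂ) n = (θ : N → ℂ) n := by
    intro θ hθ
    obtain ⟨χ, hχc⟩ := exists_irr_over N θ
    have hχB := hoverB χ ⟨θ, hθ, hχc⟩
    refine ⟨χ, hχB, ?_⟩
    have hi := hirr χ hχB
    rw [classInner_isIrrCharacter hi θ.2] at hχc
    have heq : (fun n : N => (χ : G → ℂ) n) = (θ : N → ℂ) := by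
      by_contra hne
      rw [if_neg hne] at hχc
      exact hχc rfl
    intro n
    exact congrFun heq n
  have h4 : ∀ θ ∈ Cfsg.blockOf M (θ₁ : N → ℂ), Nat.card {χ : Cfsg.IrrCharacter G //
      χ ∈ Cfsg.blockOf M (χ₁ : G → ℂ) ∧ ∀ n : N, (χ : G → ℂ) n = (θ : N → ℂ) n} = N.index := by
    intro θ hθ
    obtain ⟨χ', hχ'B, hχ'e⟩ := h2' θ hθ
    have hθirr : Cfsg.IsIrrCharacter N (fun n : N => (χ' : G → ℂ) n) := hirr χ' hχ'B
    rw [← card_fiber N hA χ' hθirr]
    apply Nat.card_congr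
    apply Equiv.subtypeEquivRight
    intro χ
    constructor
    · rintro ⟨_, h⟩ n
      rw [h n, hχ'e n]
    · intro h
      have hres : ∀ n : N, (χ : G → ℂ) n = (θ : N → ℂ) n := fun n => by rw [h n, hχ'e n]
      refine ⟨?_, hres⟩
      apply hoverB
      refine ⟨θ, hθ, ?_⟩
      have he : (fun n : N => (χ : G → ℂ) n) = (θ : N → ℂ) := funext hres
      rw [he, classInner_isIrrCharacter θ.2 θ.2, if_pos rfl]
      exact one_ne_zero
  have h5 : Nat.card ↥(Cfsg.blockOf M (χ₁ : G → ℂ))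
      = N.index * Nat.card ↥(Cfsg.blockOf M (θ₁ : N → ℂ)) := by
    have hr : ∀ χ : ↥(Cfsg.blockOf M (χ₁ : G → ℂ)), ∃ θ : ↥(Cfsg.blockOf M (θ₁ : N → ℂ)),
        ∀ n : N, ((χ : Cfsg.IrrCharacter G) : G → ℂ) n
          = ((θ : Cfsg.IrrCharacter N) : N → ℂ) n := by
      intro χ
      obtain ⟨θ, hθ, h⟩ := h3 χ.1 χ.2
      exact ⟨⟨θ, hθ⟩, h⟩
    choose r hr' using hr
    apply card_eq_mul_of_fibers r
    intro θ
    rw [← h4 θ.1 θ.2]
    apply Nat.card_congr
    exact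
      { toFun := fun x => ⟨x.1.1, x.1.2, fun n => by rw [hr' x.1 n, x.2]⟩
        invFun := fun y => ⟨⟨y.1, y.2.1⟩, by
          apply Subtype.ext
          apply Subtype.ext
          funext n
          rw [← hr' ⟨y.1, y.2.1⟩ n]
          exact y.2.2 n⟩
        left_inv := fun x => rfl
        right_inv := fun y => rfl }
  have h6 := blockRank_eq_of_restrict (p := p) N
    (fun g hg => mem_of_pRegular_of_index N hp hNi g hg) _ _ h3 h2'
  exact ⟨hsup, hdefb, h3, h4, h5, h6⟩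

end

end Cfsg.Agent.Lib.Helper6.PIdx
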