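import Mathlib
import Cfsg.Prelude.Def_Local
import Cfsg.Agent.Lib.Helper2.PLengthSeries

/-! `p`-length one from a normal `p'`-subgroup containing all `p`-regular elements of the normal
closure of a Sylow `p`-subgroup (group-theoretic half of S4711). -/

set_option autoImplicit false

namespace Cfsg.Agent.Lib.Helper6.PL1

open Cfsg

variable {G : Type*} [Group G]

/-- a four-term series -/
def serC (K HK : Subgroup G) : ℕ → Subgroup G
  | 0 => ⊥
  | 1 => K
  | 2 => HK
  | _ + 3 => ⊤

theorem relIndex_pow_of_regular_mem [Finite G] (p : ℕ) [hp : Fact p.Prime] (H K : Subgroup G)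
    [K.Normal] (h : ∀ x ∈ H, ¬ p ∣ orderOf x → x ∈ K) : ∃ k, K.relIndex H = p ^ k := by
  have hP : IsPGroup p (↥H ⧸ K.subgroupOf H) := by
    intro q
    obtain ⟨x, rfl⟩ := QuotientGroup.mk_surjective q
    obtain ⟨e, m, hm, hn⟩ :=
      Nat.exists_eq_pow_mul_and_not_dvd (orderOf_pos (x : G)).ne' p hp.out.ne_one
    refine ⟨e, ?_⟩
    have hy : ((x : G) ^ p ^ e) ∈ K := by
      apply h _ (H.pow_mem x.2 _)
      intro hdvd
      apply hm
      have h1 : ((x : G) ^ p ^ e) ^ m = 1 := by
        rw [← pow_mul, ← hn]; exact pow_orderOf_eq_one _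
      exact hdvd.trans (orderOf_dvd_of_pow_eq_one h1)
    rw [← QuotientGroup.mk_pow, QuotientGroup.eq_one_iff, Subgroup.mem_subgroupOf]
    simpa using hy
  obtain ⟨k, hk⟩ := IsPGroup.iff_card.mp hP
  exact ⟨k, by rw [Subgroup.relIndex, Subgroup.index_eq_card, hk]⟩

/-- `p`-length one from a normal `p'`-subgroup `K` containing the `p`-regular elements of the
normal closure of a Sylow `p`-subgroup -/
theorem pLengthLE_one_of_kernel [Finite G] (p : ℕ) [hp : Fact p.Prime] (P : Sylow p G)
    (K : Subgroup G) [hK : K.Normal] (hKp : (Nat.card K).Coprime p)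
    (h : ∀ x ∈ Subgroup.normalClosure ((P : Subgroup G) : Set G), ¬ p ∣ orderOf x → x ∈ K) :
    PLengthLE p 1 G := by
  obtain ⟨H, hH⟩ : ∃ H : Subgroup G, H = Subgroup.normalClosure ((P : Subgroup G) : Set G) :=
    ⟨_, rfl⟩
  rw [← hH] at h
  have hPH : (P : Subgroup G) ≤ H := by rw [hH]; exact Subgroup.le_normalClosure
  haveI : H.Normal := by rw [hH]; exact Subgroup.normalClosure_normal
  have hn : ∀ n, (serC K (H ⊔ K) n).Normal := by
    intro n
    match n with
    | 0 => exact (inferInstance : (⊥ : Subgroup G).Normal)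
    | 1 => exact hK
    | 2 => exact (inferInstance : (H ⊔ K).Normal)
    | m + 3 => exact (inferInstance : (⊤ : Subgroup G).Normal)
  have heven : ∀ n, Even n →
      ((serC K (H ⊔ K) n).relIndex (serC K (H ⊔ K) (n + 1))).Coprime p := by
    intro n hn'
    match n, hn' with
    | 0, _ =>
      show ((⊥ : Subgroup G).relIndex K).Coprime p
      rw [Subgroup.relIndex_bot_left]; exact hKp
    | 1, h1 => exact absurd h1 (by decide)
    | 2, _ =>
      show ((H ⊔ K).relIndex ⊤).Coprime p
      rw [Subgroup.relIndex_top_right]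
      have h1 : (H ⊔ K).index ∣ (P : Subgroup G).index :=
        Subgroup.index_dvd_of_le (hPH.trans le_sup_left)
      have h2 : ¬ p ∣ (P : Subgroup G).index := P.not_dvd_index
      rw [Nat.coprime_comm, Nat.Prime.coprime_iff_not_dvd hp.out]
      exact fun h3 => h2 (h3.trans h1)
    | m + 3, _ =>
      show ((⊤ : Subgroup G).relIndex ⊤).Coprime p
      rw [Subgroup.relIndex_self]; exact Nat.coprime_one_left p
  have hodd : ∀ n, ¬ Even n →
      ∃ k, (serC K (H ⊔ K) n).relIndex (serC K (H ⊔ K) (n + 1)) = p ^ k := by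
    intro n hn'
    match n, hn' with
    | 0, h0 => exact absurd (by decide : Even 0) h0
    | 1, _ =>
      show ∃ k, K.relIndex (H ⊔ K) = p ^ k
      rw [Subgroup.relIndex_sup_right]
      exact relIndex_pow_of_regular_mem p H K h
    | 2, h2 => exact absurd (by decide : Even 2) h2
    | m + 3, _ =>
      exact ⟨0, by
        show (⊤ : Subgroup G).relIndex ⊤ = p ^ 0
        rw [Subgroup.relIndex_self, pow_zero]⟩
  have key := Cfsg.Agent.Lib.Helper2.PLQ.le_upperPSeries_of_series p (serC K (H ⊔ K)) hn rfl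
    heven hodd 3
  show (upperPSeries p G (2 * 1 + 1)).1 = ⊤
  exact eq_top_iff.mpr key

end Cfsg.Agent.Lib.Helper6.PL1
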