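import Mathlib
import Cfsg.Agent.Lib.Helper6.PL1A
import Cfsg.Agent.Lib.Helper6.BlkOrth2
import Cfsg.Agent.Lib.Helper6.BlkKer
import Cfsg.Agent.Lib.Helper6.BlkPrincipal
import Cfsg.Agent.Lib.Helper6.BlkPrincipalKer
import Cfsg.Agent.Lib.Helper6.BlkNormalP
import Cfsg.Agent.Lib.Helper6.BlkCover
import Cfsg.Agent.Lib.Helper6.QuotChar
import Cfsg.Agent.Lib.Helper6.Auto
import Cfsg.Agent.Lib.Helper6.CharBasic
import Cfsg.Agent.Lib.Helper6.Constituent
import Cfsg.Agent.Lib.Helper6.ClassMult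
import Cfsg.Agent.Lib.Lead.PLength

/-! S4711: `p`-length one iff the characters of the principal block restrict irreducibly to the
normalizer of a Sylow `p`-subgroup (character-theoretic half and assembly). -/

set_option autoImplicit false
set_option maxHeartbeats 1000000

namespace Cfsg.Agent.Lib.Helper6.PL1

open Cfsg Cfsg.Agent.Lib.Helper6
open scoped ComplexConjugate

section Basic

variable {G : Type*} [Group G] [Finite G]

theorem exists_nat_norm_le {χ : G → ℂ} (hχ : IsCharacter G χ) :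
    ∃ n : ℕ, χ 1 = n ∧ ∀ g, ‖χ g‖ ≤ n := by
  obtain ⟨n, ρ, rfl⟩ := hχ
  refine ⟨n, by rw [Representation.char_one, Module.finrank_fin_fun], fun g => ?_⟩
  have := norm_character_le ρ g
  rwa [Module.finrank_fin_fun] at this

omit [Finite G] in
theorem eq_of_re_eq {z : ℂ} {d : ℝ} (h1 : ‖z‖ ≤ d) (h2 : z.re = d) : z = (d : ℂ) := by
  have h3 : ‖z‖ ^ 2 = z.re * z.re + z.im * z.im := by
    rw [Complex.sq_norm, Complex.normSq_apply]
  have h4 : ‖z‖ ^ 2 ≤ d ^ 2 := pow_le_pow_left₀ (norm_nonneg z) h1 2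
  have h5 : z.im * z.im ≤ 0 := by rw [h3, h2] at h4; nlinarith
  have h6 : z.im = 0 := mul_self_eq_zero.mp (le_antisymm h5 (mul_self_nonneg _))
  apply Complex.ext
  · rw [h2]; simp
  · rw [h6]; simp

/-- composition of an irreducible character with a surjective homomorphism -/
theorem IsIrrCharacter.comp_surjective {H K : Type*} [Group H] [Group K] [Finite H]
    (f : H →* K) (hf : Function.Surjective f) {β : K → ℂ} (hβ : IsIrrCharacter K β) :
    IsIrrCharacter H (fun h => β (f h)) := by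
  classical
  haveI : Fintype H := Fintype.ofFinite H
  haveI : Finite K := Finite.of_surjective f hf
  have h1 : IsIrrCharacter (H ⧸ f.ker)
      (fun q => β (QuotientGroup.quotientKerEquivOfSurjective f hf q)) :=
    IsIrrCharacter.comp_mulEquiv (QuotientGroup.quotientKerEquivOfSurjective f hf) hβ
  exact IsIrrCharacter.comp_mk f.ker h1

variable (M : Ideal AlgInt) (G)

/-- the kernel of the principal block -/
noncomputable def prinKer : Subgroup G :=
  ⨅ χ : {χ : IrrCharacter G // χ ∈ principalBlock M G},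
    charKer (IsIrrCharacter.isCharacter χ.1.2)

variable {M G}

theorem mem_prinKer (g : G) :
    g ∈ prinKer G M ↔ ∀ χ ∈ principalBlock M G, (χ : G → ℂ) g = (χ : G → ℂ) 1 := by
  unfold prinKer
  rw [Subgroup.mem_iInf]
  constructor
  · intro h χ hχ
    exact (mem_charKer _ g).mp (h ⟨χ, hχ⟩)
  · intro h χ
    exact (mem_charKer _ g).mpr (h χ.1 χ.2)

theorem prinKer_normal : (prinKer G M).Normal :=
  Subgroup.normal_iInf_normal (fun _ => charKer_normal _)

theorem prinKer_coprime {p : ℕ} [hp : Fact p.Prime] (hM : IsPModular p M) :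
    (Nat.card (prinKer G M)).Coprime p := by
  classical
  haveI : Fintype G := Fintype.ofFinite G
  rw [Nat.coprime_comm, Nat.Prime.coprime_iff_not_dvd hp.out]
  intro hdvd
  obtain ⟨x, hx⟩ := exists_prime_orderOf_dvd_card' p hdvd
  have hxK : (x : G) ∈ prinKer G M := x.2
  have h1 : (x : G) ∈ blockKer (blockOf M ((oneIrr G : IrrCharacter G) : G → ℂ)) := by
    intro χ hχ
    exact (mem_prinKer _).mp hxK χ hχ
  have h2 := not_dvd_orderOf_of_mem_blockKer hM (oneIrr G) h1
  apply h2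
  rw [Subgroup.orderOf_coe, hx]

end Basic

section Main

variable {G : Type*} [Group G] [Finite G] {p : ℕ} {M : Ideal AlgInt}

/-- Clifford for the normal subgroup `P` of `N_G(P)` and the trivial character -/
theorem sum_eq_zero_of_not_const (P : Subgroup G) [Fintype ↥P] {χ : G → ℂ}
    (hres : IsIrrCharacter ↥(Subgroup.normalizer (P : Set G))
      (fun n : ↥(Subgroup.normalizer (P : Set G)) => χ n))
    (hnc : ¬ ∀ u : ↥P, χ u = χ 1) : ∑ u : ↥P, χ u = 0 := by
  classical
  haveI : Fintype ↥(Subgroup.normalizer (P : Set G)) := Fintype.ofFinite _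
  haveI : Fintype ↥(P.subgroupOf (Subgroup.normalizer (P : Set G))) := Fintype.ofFinite _
  let e : ↥(P.subgroupOf (Subgroup.normalizer (P : Set G))) ≃* ↥P :=
    Subgroup.subgroupOfEquivOfLe Subgroup.le_normalizer
  by_contra hs
  apply hnc
  have hs' : ∑ n : ↥(P.subgroupOf (Subgroup.normalizer (P : Set G))),
      (fun n : ↥(Subgroup.normalizer (P : Set G)) => χ n) n ≠ 0 := by
    intro h0
    apply hs
    rw [← h0]
    exact (Fintype.sum_equiv e.toEquiv _ _ (fun _ => rfl)).symm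
  have hc := IsIrrCharacter.const_on_normal_of_sum_ne_zero
    (P.subgroupOf (Subgroup.normalizer (P : Set G))) hres hs'
  intro u
  exact hc (e.symm u)

theorem mem_prinKer_of_mem_normalClosure (hM : IsPModular p M) [hp : Fact p.Prime]
    (P : Sylow p G)
    (hirr : ∀ χ ∈ principalBlock M G,
      IsIrrCharacter ↥(Subgroup.normalizer ((P : Subgroup G) : Set G))
        (fun n : ↥(Subgroup.normalizer ((P : Subgroup G) : Set G)) => (χ : G → ℂ) n))
    (x : G) (hxH : x ∈ Subgroup.normalClosure ((P : Subgroup G) : Set G))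
    (hx : ¬ p ∣ orderOf x) : x ∈ prinKer G M := by
  classical
  haveI : Fintype G := Fintype.ofFinite G
  haveI : Fintype (IrrCharacter G) := Fintype.ofFinite _
  haveI : Fintype ↥(P : Subgroup G) := Fintype.ofFinite _
  obtain ⟨Bf, hBf⟩ : ∃ Bf : Finset (IrrCharacter G), Bf = Finset.univ.filter
      (· ∈ blockOf M ((oneIrr G : IrrCharacter G) : G → ℂ)) := ⟨_, rfl⟩
  have hBmem : ∀ χ, χ ∈ Bf ↔ χ ∈ principalBlock M G := by
    intro χ
    rw [hBf, Finset.mem_filter]
    exact ⟨fun h => h.2, fun h => ⟨Finset.mem_univ _, h⟩⟩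
  obtain ⟨c, hc⟩ : ∃ c : ℂ, c = (Fintype.card ↥(P : Subgroup G) : ℂ) := ⟨_, rfl⟩
  -- the sums over `P`
  have hS0 : ∀ χ ∈ Bf, (¬ ∀ u : ↥(P : Subgroup G), (χ : G → ℂ) u = (χ : G → ℂ) 1) →
      ∑ u : ↥(P : Subgroup G), (χ : G → ℂ) u = 0 := by
    intro χ hχ hnc
    exact sum_eq_zero_of_not_const (P : Subgroup G) (hirr χ ((hBmem χ).mp hχ)) hnc
  have hS1 : ∀ χ : IrrCharacter G, (∀ u : ↥(P : Subgroup G), (χ : G → ℂ) u = (χ : G → ℂ) 1) →
      ∑ u : ↥(P : Subgroup G), (χ : G → ℂ) u = c * (χ : G → ℂ) 1 := by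
    intro χ hχ
    rw [Finset.sum_congr rfl (fun u _ => hχ u), Finset.sum_const, Finset.card_univ,
      nsmul_eq_mul, hc]
  -- elements of `P` other than `1` are `p`-singular
  have hsing : ∀ u : ↥(P : Subgroup G), u ≠ 1 → p ∣ orderOf (u : G) := by
    intro u hu
    obtain ⟨k, hk⟩ := P.isPGroup' u
    have h1 : orderOf u ∣ p ^ k := orderOf_dvd_of_pow_eq_one hk
    obtain ⟨j, -, hj'⟩ := (Nat.dvd_prime_pow hp.out).mp h1
    have hj0 : j ≠ 0 := by
      rintro rfl
      rw [pow_zero, orderOf_eq_one_iff] at hj'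
      exact hu hj'
    rw [Subgroup.orderOf_coe, hj']
    exact dvd_pow_self p hj0
  -- the key identity
  have star : ∀ y : G, ¬ p ∣ orderOf y →
      ∑ χ ∈ Bf, (χ : G → ℂ) y * (χ : G → ℂ) 1
        = c * ∑ χ ∈ Bf.filter (fun χ : IrrCharacter G => ∀ u : ↥(P : Subgroup G),
            (χ : G → ℂ) u = (χ : G → ℂ) 1), (χ : G → ℂ) y * (χ : G → ℂ) 1 := by
    intro y hy
    have hT1 : ∑ u : ↥(P : Subgroup G), ∑ χ ∈ Bf, (χ : G → ℂ) y * conj ((χ : G → ℂ) u)
        = ∑ χ ∈ Bf, (χ : G → ℂ) y * (χ : G → ℂ) 1 := by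
      rw [Finset.sum_eq_single (1 : ↥(P : Subgroup G))]
      · apply Finset.sum_congr rfl
        intro χ _
        rw [Subgroup.coe_one, IsIrrCharacter.conj_apply_one χ.2]
      · intro u _ hu
        rw [hBf]
        exact weak_block_orthogonality_finset hM (oneIrr G) y (u : G) hy (hsing u hu)
      · intro h; exact absurd (Finset.mem_univ _) h
    have hT2 : ∑ u : ↥(P : Subgroup G), ∑ χ ∈ Bf, (χ : G → ℂ) y * conj ((χ : G → ℂ) u)
        = ∑ χ ∈ Bf, (χ : G → ℂ) y * conj (∑ u : ↥(P : Subgroup G), (χ : G → ℂ) u) := by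
      rw [Finset.sum_comm]
      apply Finset.sum_congr rfl
      intro χ _
      rw [map_sum, Finset.mul_sum]
    rw [← hT1, hT2, Finset.sum_filter, Finset.mul_sum]
    apply Finset.sum_congr rfl
    intro χ hχ
    by_cases hQ : ∀ u : ↥(P : Subgroup G), (χ : G → ℂ) u = (χ : G → ℂ) 1
    · rw [if_pos hQ, hS1 χ hQ, map_mul, IsIrrCharacter.conj_apply_one χ.2, hc,
        Complex.conj_natCast]
      ring
    · rw [if_neg hQ, hS0 χ hχ hQ, map_zero, mul_zero, mul_zero]
  -- characters in `X` are trivial on the normal closure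
  have hX : ∀ χ ∈ Bf.filter (fun χ : IrrCharacter G => ∀ u : ↥(P : Subgroup G),
      (χ : G → ℂ) u = (χ : G → ℂ) 1), (χ : G → ℂ) x = (χ : G → ℂ) 1 := by
    intro χ hχ
    have hQ := (Finset.mem_filter.mp hχ).2
    haveI := charKer_normal (IsIrrCharacter.isCharacter χ.2)
    have hle : Subgroup.normalClosure ((P : Subgroup G) : Set G)
        ≤ charKer (IsIrrCharacter.isCharacter χ.2) := by
      apply Subgroup.normalClosure_le_normal
      intro u hu
      exact (mem_charKer _ u).mpr (hQ ⟨u, hu⟩)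
    exact (mem_charKer _ x).mp (hle hxH)
  have h1 : ¬ p ∣ orderOf (1 : G) := by
    rw [orderOf_one]; exact hp.out.one_lt.ne' ∘ Nat.dvd_one.mp
  have e1 := star x hx
  have e2 := star 1 h1
  have e1' : ∑ χ ∈ Bf.filter (fun χ : IrrCharacter G => ∀ u : ↥(P : Subgroup G),
      (χ : G → ℂ) u = (χ : G → ℂ) 1), (χ : G → ℂ) x * (χ : G → ℂ) 1
      = ∑ χ ∈ Bf.filter (fun χ : IrrCharacter G => ∀ u : ↥(P : Subgroup G),
      (χ : G → ℂ) u = (χ : G → ℂ) 1), (χ : G → ℂ) 1 * (χ : G → ℂ) 1 :=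
    Finset.sum_congr rfl (fun χ hχ => by rw [hX χ hχ])
  rw [e1'] at e1
  have e3 : ∑ χ ∈ Bf, ((χ : G → ℂ) 1 - (χ : G → ℂ) x) * (χ : G → ℂ) 1 = 0 := by
    rw [Finset.sum_congr rfl (fun χ _ => sub_mul _ _ _), Finset.sum_sub_distrib, e1, e2, sub_self]
  have e4 : ∑ χ ∈ Bf, (((χ : G → ℂ) 1 - (χ : G → ℂ) x) * (χ : G → ℂ) 1).re = 0 := by
    rw [← Complex.re_sum, e3, Complex.zero_re]
  have hterm : ∀ χ ∈ Bf, (((χ : G → ℂ) 1 - (χ : G → ℂ) x) * (χ : G → ℂ) 1).re = 0 := by
    refine (Finset.sum_eq_zero_iff_of_nonneg ?_).mp e4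
    intro χ _
    obtain ⟨n, hn1, hnle⟩ := exists_nat_norm_le (IsIrrCharacter.isCharacter χ.2)
    rw [hn1]
    have h2 : ((χ : G → ℂ) x).re ≤ n := le_trans (Complex.re_le_norm _) (hnle x)
    have h3 : (((n : ℂ) - (χ : G → ℂ) x) * (n : ℂ)).re = ((n : ℝ) - ((χ : G → ℂ) x).re) * n := by
      simp
    rw [h3]
    exact mul_nonneg (by linarith) (Nat.cast_nonneg n)
  rw [mem_prinKer]
  intro χ hχ
  have h0 := hterm χ ((hBmem χ).mpr hχ)
  obtain ⟨n, hn1, hnle⟩ := exists_nat_norm_le (IsIrrCharacter.isCharacter χ.2)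
  have hn0 : (n : ℝ) ≠ 0 := by
    intro h
    apply IsIrrCharacter.apply_one_ne_zero χ.2
    rw [hn1]
    exact_mod_cast h
  rw [hn1] at h0
  have h3 : (((n : ℂ) - (χ : G → ℂ) x) * (n : ℂ)).re = ((n : ℝ) - ((χ : G → ℂ) x).re) * n := by
    simp
  rw [h3] at h0
  have h4 : ((χ : G → ℂ) x).re = n := by
    rcases mul_eq_zero.mp h0 with h | h
    · linarith
    · exact absurd h hn0
  rw [hn1]
  have := eq_of_re_eq (hnle x) h4
  rw [this]
  simp

/-- the forward direction -/
theorem forward (hM : IsPModular p M) [hp : Fact p.Prime] (P : Sylow p G)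
    (hPL : PLengthLE p 1 G) (χ : IrrCharacter G) (hχ : χ ∈ principalBlock M G) :
    IsIrrCharacter ↥(Subgroup.normalizer ((P : Subgroup G) : Set G))
      (fun n : ↥(Subgroup.normalizer ((P : Subgroup G) : Set G)) => (χ : G → ℂ) n) := by
  classical
  haveI : Fintype G := Fintype.ofFinite G
  obtain ⟨hYn, -⟩ := pPrimeCore_normal_and_coprime (G := G) p
  haveI := hYn
  obtain ⟨-, -, hsup, -⟩ := Cfsg.Agent.Lib.Lead.PLength.pLengthLE_one_core p hPL P
  have hconst : ∀ n ∈ pPrimeCore p G, (χ : G → ℂ) n = (χ : G → ℂ) 1 :=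
    fun n hn => apply_eq_apply_one_of_mem_principalBlock hM χ hχ n hn
  obtain ⟨β, hβ⟩ := IsIrrCharacter.exists_deflation (pPrimeCore p G) χ hconst
  have hf : Function.Surjective ((QuotientGroup.mk' (pPrimeCore p G)).comp
      (Subgroup.normalizer ((P : Subgroup G) : Set G)).subtype) := by
    intro q
    obtain ⟨g, rfl⟩ := QuotientGroup.mk_surjective q
    have hg : g ∈ pPrimeCore p G ⊔ Subgroup.normalizer ((P : Subgroup G) : Set G) := by
      rw [hsup]; exact Subgroup.mem_top g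
    have hg' : g ∈ ((pPrimeCore p G ⊔ Subgroup.normalizer ((P : Subgroup G) : Set G) :
        Subgroup G) : Set G) := hg
    rw [Subgroup.normal_mul] at hg'
    obtain ⟨y, hy, n, hn, rfl⟩ := Set.mem_mul.mp hg'
    refine ⟨⟨n, hn⟩, ?_⟩
    show (QuotientGroup.mk n : G ⧸ pPrimeCore p G) = QuotientGroup.mk (y * n)
    rw [QuotientGroup.mk_mul, (QuotientGroup.eq_one_iff y).mpr hy, one_mul]
  have h1 := IsIrrCharacter.comp_surjective _ hf β.2
  have h2 : (fun n : ↥(Subgroup.normalizer ((P : Subgroup G) : Set G)) => (χ : G → ℂ) n)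
      = fun n => (β : _ → ℂ) (((QuotientGroup.mk' (pPrimeCore p G)).comp
      (Subgroup.normalizer ((P : Subgroup G) : Set G)).subtype) n) := by
    funext n
    rw [hβ]
    rfl
  rw [h2]
  exact h1

/-- S4711 -/
theorem main (p : ℕ) [hp : Fact p.Prime] (M : Ideal AlgInt) (hM : IsPModular p M)
    (P : Sylow p G) :
    PLengthLE p 1 G ↔ ∀ χ ∈ principalBlock M G,
      IsIrrCharacter ↥(Subgroup.normalizer ((P : Subgroup G) : Set G))
        (fun n : ↥(Subgroup.normalizer ((P : Subgroup G) : Set G)) => (χ : G → ℂ) n) := by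
  constructor
  · intro h χ hχ
    exact forward hM P h χ hχ
  · intro hirr
    haveI : (prinKer G M).Normal := prinKer_normal
    exact pLengthLE_one_of_kernel p P (prinKer G M) (prinKer_coprime hM)
      (fun x hxH hx => mem_prinKer_of_mem_normalClosure hM P hirr x hxH hx)

end Main

end Cfsg.Agent.Lib.Helper6.PL1
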