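import Mathlib
import Cfsg.Agent.Lib.Helper8.PRDefs
import Cfsg.Agent.Lib.Helper6.PRB1
import Cfsg.Agent.Lib.Helper6.PRB2
import Cfsg.Agent.Lib.Helper9.PRB3a

/-! S4033 farm (helper8), piece B6 `conj_into_BB`, part 1: free actions and the first count. -/

set_option autoImplicit false

namespace Cfsg.Agent.Lib.Helper8.PR


/-- if all point stabilizers equal `S`, the index of `S` divides the size of the set. -/
theorem h6_index_dvd_card_of_stabilizer_eq {A : Type*} [Group A] {X : Type*} [MulAction A X]
    [Finite X] (S : Subgroup A) (h : ∀ x : X, MulAction.stabilizer A x = S) :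
    S.index ∣ Nat.card X := by
  classical
  let e : X ≃ (Quotient (MulAction.orbitRel A X)) × (A ⧸ S) :=
    (MulAction.selfEquivSigmaOrbitsQuotientStabilizer A X).trans
      ((Equiv.sigmaCongrRight fun (ω : Quotient (MulAction.orbitRel A X)) =>
        (Subgroup.quotientEquivOfEq (h (Quotient.out ω)))).trans
        (Equiv.sigmaEquivProd _ _))
  have := Nat.card_congr e
  rw [Nat.card_prod] at this
  rw [this]
  exact Dvd.intro_left _ rfl

/-- set version: an invariant finite subset all of whose points have stabilizer `S`. -/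
theorem h6_index_dvd_ncard_of_stabilizer_eq {A : Type*} [Group A] {X : Type*} [MulAction A X]
    (S : Subgroup A) (Y : Set X) (hY : Y.Finite) (hinv : ∀ (a : A) (y : X), y ∈ Y → a • y ∈ Y)
    (h : ∀ y ∈ Y, MulAction.stabilizer A y = S) : S.index ∣ Y.ncard := by
  let P : SubMulAction A X := ⟨Y, fun a {y} hy => hinv a y hy⟩
  have : Finite P := hY.to_subtype
  have h1 : ∀ y : P, MulAction.stabilizer A y = S := by
    intro y
    rw [SubMulAction.stabilizer_of_subMul]
    exact h y.1 y.2
  have := h6_index_dvd_card_of_stabilizer_eq S h1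
  rwa [show Nat.card P = Y.ncard from (Nat.card_coe_set_eq Y)] at this


variable {G : Type*} [Group G]



/-- first count: if no conjugate of `x` lies in `B_g`, then `|B_g : Z'|` divides `m`. -/
theorem h6_relIndex_dvd_of_no_conj [Finite G] {p m : ℕ} (H : Hyp G p m) (h2 : TwoRho G p) {g x : G}
    (hg : PReg p g) (hgz : g ∉ Subgroup.center G) (hx : PReg p x) (hxz : x ∉ Subgroup.center G)
    (hno : ∀ h : G, h * x * h⁻¹ ∉ BB p g) : (Zp G p).relIndex (BB p g) ∣ m := by
  have hm : idx x = m := (H.cls _ hx).resolve_left hxz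
  have key : ∀ q : G ⧸ Subgroup.centralizer ({x} : Set G),
      MulAction.stabilizer (BB p g) q = (Zp G p).subgroupOf (BB p g) := by
    intro q
    induction q using QuotientGroup.induction_on with
    | H h =>
      ext b
      rw [MulAction.mem_stabilizer_iff, Subgroup.mem_subgroupOf]
      have e1 : b • (h : G ⧸ Subgroup.centralizer ({x} : Set G)) =
          (((b : G) * h : G) : G ⧸ Subgroup.centralizer ({x} : Set G)) := rfl
      rw [e1, QuotientGroup.eq, Subgroup.mem_centralizer_singleton_iff]
      constructor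
      · intro hcomm
        -- b commutes with k = h x h⁻¹
        have hk : (b : G) * (h * x * h⁻¹) = (h * x * h⁻¹) * (b : G) := by
          have e2 : (b : G)⁻¹ * (h * x * h⁻¹) = (h * x * h⁻¹) * (b : G)⁻¹ := by
            calc (b : G)⁻¹ * (h * x * h⁻¹) = h * ((((b : G) * h)⁻¹ * h) * x) * h⁻¹ := by group
              _ = h * (x * (((b : G) * h)⁻¹ * h)) * h⁻¹ := by rw [hcomm]
              _ = (h * x * h⁻¹) * (b : G)⁻¹ := by group
          calc (b : G) * (h * x * h⁻¹) = (b : G) * ((h * x * h⁻¹) * (b : G)⁻¹) * (b : G) := by group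
            _ = (b : G) * ((b : G)⁻¹ * (h * x * h⁻¹)) * (b : G) := by rw [e2]
            _ = (h * x * h⁻¹) * (b : G) := by group
        have hbp : PReg p (b : G) := b.2.2.2
        by_cases hbz : (b : G) ∈ Subgroup.center G
        · exact ⟨hbz, hbp⟩
        · exfalso
          have hC := cent_eq_of_mem_BB H hg hgz b.2 hbz
          apply hno h
          rw [mem_BB_iff H h2 hg hgz]
          refine ⟨?_, hx.conj h⟩
          rw [← hC, Subgroup.mem_centralizer_singleton_iff]
          exact hk.symm
      · intro hb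
        have hbc := Subgroup.mem_center_iff.mp hb.1
        have e3 : ((b : G) * h)⁻¹ * h = h⁻¹ * (b : G)⁻¹ * h := by group
        rw [e3]
        have hbinv : ∀ y : G, y * (b : G)⁻¹ = (b : G)⁻¹ * y := by
          intro y
          have := hbc y
          calc y * (b : G)⁻¹ = (b : G)⁻¹ * ((b : G) * y) * (b : G)⁻¹ := by group
            _ = (b : G)⁻¹ * (y * (b : G)) * (b : G)⁻¹ := by rw [← this]
            _ = (b : G)⁻¹ * y := by group
        calc h⁻¹ * (b : G)⁻¹ * h * x = h⁻¹ * ((b : G)⁻¹ * (h * x)) := by group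
          _ = h⁻¹ * ((h * x) * (b : G)⁻¹) := by rw [hbinv]
          _ = x * (h⁻¹ * ((b : G)⁻¹ * h)) := by rw [← hbinv h]; group
          _ = x * (h⁻¹ * (b : G)⁻¹ * h) := by group
  have := h6_index_dvd_card_of_stabilizer_eq _ key
  have e : Nat.card (G ⧸ Subgroup.centralizer ({x} : Set G)) = m := hm
  rw [e] at this
  exact this

end Cfsg.Agent.Lib.Helper8.PR
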