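import Mathlib
import Cfsg.Agent.Lib.Helper8.PRDefs
import Cfsg.Agent.Lib.Helper6.PRB1
import Cfsg.Agent.Lib.Helper6.PRB2
import Cfsg.Agent.Lib.Helper9.PRB3a
import Cfsg.Agent.Lib.Helper4.PRB3b
import Cfsg.Agent.Lib.Helper4.PRB5
import Cfsg.Agent.Lib.Helper6.PRB6a

/-! S4033 farm (helper8), piece B6 `conj_into_BB`, part 2: the second count and the conclusion. -/

set_option autoImplicit false

namespace Cfsg.Agent.Lib.Helper8.PR


variable {G : Type*} [Group G]

/-- an element of `r`-power order outside a normal subgroup `K` forces `r ∣ |L : K|` for `L ≥ K, b`. -/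
theorem h6_prime_dvd_relIndex [Finite G] {r : ℕ} (hr : r.Prime) (K L : Subgroup G) [K.Normal]
    (hKL : K ≤ L) {b : G} (hb : IsPow r b) (hbL : b ∈ L) (hbK : b ∉ K) : r ∣ K.relIndex L := by
  obtain ⟨k, hk⟩ := hb
  set A := Subgroup.zpowers b ⊔ K with hA
  have hAL : A ≤ L := sup_le (by rw [Subgroup.zpowers_le]; exact hbL) hKL
  have hKA : K ≤ A := le_sup_right
  have h1 : r ∣ K.relIndex A := by
    rw [hA, Subgroup.relIndex_sup_right]
    have hd : K.relIndex (Subgroup.zpowers b) ∣ r ^ k := by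
      have := Subgroup.relIndex_dvd_card K (Subgroup.zpowers b)
      rwa [Nat.card_zpowers, hk] at this
    obtain ⟨j, -, hj⟩ := (Nat.dvd_prime_pow hr).mp hd
    have hj0 : j ≠ 0 := by
      rintro rfl
      rw [pow_zero, Subgroup.relIndex_eq_one] at hj
      exact hbK (hj (Subgroup.mem_zpowers b))
    rw [hj]
    exact dvd_pow_self r hj0
  have h2 := Subgroup.relIndex_mul_relIndex K A L hKA hAL
  exact h1.trans (Dvd.intro _ h2)

/-- `Nat.card K * |L : K| = Nat.card L`. -/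
theorem h6_card_mul_relIndex (K L : Subgroup G) (hKL : K ≤ L) :
    Nat.card K * K.relIndex L = Nat.card L := by
  rw [← Subgroup.relIndex_bot_left K, ← Subgroup.relIndex_bot_left L]
  exact Subgroup.relIndex_mul_relIndex ⊥ K L bot_le hKL

/-- every prime of `ρ` divides `|B_g : Z'|`. -/
theorem h6_rho_dvd_relIndex [Finite G] {p m : ℕ} (H : Hyp G p m) (h2 : TwoRho G p) {g : G}
    (hg : PReg p g) (hgz : g ∉ Subgroup.center G) {r : ℕ} (hr : InRho G p r) :
    ∃ b ∈ BB p g, IsPow r b ∧ b ∉ Subgroup.center G ∧ r ∣ (Zp G p).relIndex (BB p g) := by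
  obtain ⟨b, hbC, hbz, hbr⟩ := exists_rho_cent H hg hgz hr
  have hbp : PReg p b := h6_preg_of_isPow H.hp hr.1 hr.2.1 hbr
  have hbB : b ∈ BB p g := (mem_BB_iff H h2 hg hgz b).mpr ⟨hbC, hbp⟩
  refine ⟨b, hbB, hbr, hbz, ?_⟩
  exact h6_prime_dvd_relIndex hr.1 (Zp G p) (BB p g) (Zp_le_BB p g) hbr hbB (fun h => hbz h.1)

/-- the order of `B_g` does not depend on `g`. -/
theorem h6_card_BB_eq [Finite G] {p m : ℕ} (H : Hyp G p m) (h2 : TwoRho G p) {g y : G}
    (hg : PReg p g) (hgz : g ∉ Subgroup.center G) (hy : PReg p y) (hyz : y ∉ Subgroup.center G) :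
    Nat.card (BB p g) = Nat.card (BB p y) := by
  obtain ⟨hc1, k1, hk1⟩ := card_BB H h2 hg hgz
  obtain ⟨hc2, k2, hk2⟩ := card_BB H h2 hy hyz
  have h1 : idx g = m := (H.cls _ hg).resolve_left hgz
  have h2' : idx y = m := (H.cls _ hy).resolve_left hyz
  have hmpos : 0 < m := by have := H.hm; omega
  have hcard : Nat.card (Subgroup.centralizer ({g} : Set G)) =
      Nat.card (Subgroup.centralizer ({y} : Set G)) := by
    have e1 := Subgroup.card_mul_index (Subgroup.centralizer ({g} : Set G))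
    have e2 := Subgroup.card_mul_index (Subgroup.centralizer ({y} : Set G))
    unfold idx at h1 h2'
    rw [h1] at e1
    rw [h2'] at e2
    exact Nat.eq_of_mul_eq_mul_right hmpos (e1.trans e2.symm)
  rw [hk1, hk2] at hcard
  -- p'-parts agree
  have hp := H.hp
  have d1 : Nat.card (BB p g) ∣ Nat.card (BB p y) := by
    have : Nat.card (BB p g) ∣ p ^ k2 * Nat.card (BB p y) := Dvd.intro_left _ hcard
    exact (Nat.Coprime.dvd_mul_left (Nat.Coprime.pow_right k2 hc1)).mp this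
  have d2 : Nat.card (BB p y) ∣ Nat.card (BB p g) := by
    have : Nat.card (BB p y) ∣ p ^ k1 * Nat.card (BB p g) := Dvd.intro_left _ hcard.symm
    exact (Nat.Coprime.dvd_mul_left (Nat.Coprime.pow_right k1 hc2)).mp this
  exact Nat.dvd_antisymm d1 d2

theorem h6_relIndex_BB_eq [Finite G] {p m : ℕ} (H : Hyp G p m) (h2 : TwoRho G p) {g y : G}
    (hg : PReg p g) (hgz : g ∉ Subgroup.center G) (hy : PReg p y) (hyz : y ∉ Subgroup.center G) :
    (Zp G p).relIndex (BB p g) = (Zp G p).relIndex (BB p y) := by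
  have e1 := h6_card_mul_relIndex (Zp G p) (BB p g) (Zp_le_BB p g)
  have e2 := h6_card_mul_relIndex (Zp G p) (BB p y) (Zp_le_BB p y)
  rw [h6_card_BB_eq H h2 hg hgz hy hyz, ← e2] at e1
  exact Nat.eq_of_mul_eq_mul_left Nat.card_pos e1

theorem h6_isPow_mul {r : ℕ} (hr : r.Prime) {a b : G} (hab : a * b = b * a) (ha : IsPow r a)
    (hb : IsPow r b) : IsPow r (a * b) := by
  obtain ⟨i, hi⟩ := ha
  obtain ⟨j, hj⟩ := hb
  have h1 : orderOf (a * b) ∣ Nat.lcm (orderOf a) (orderOf b) := Commute.orderOf_mul_dvd_lcm hab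
  have h2 : Nat.lcm (orderOf a) (orderOf b) ∣ r ^ (max i j) := by
    rw [hi, hj]
    exact Nat.lcm_dvd (pow_dvd_pow r (le_max_left i j)) (pow_dvd_pow r (le_max_right i j))
  obtain ⟨l, -, hl⟩ := (Nat.dvd_prime_pow hr).mp (h1.trans h2)
  exact ⟨l, hl⟩

/-- the `r`-elements of the abelian group `B_g`. -/
def h6_VV (p r : ℕ) (hr : r.Prime) (g : G) : Subgroup G where
  carrier := {v | v ∈ BB p g ∧ IsPow r v}
  one_mem' := ⟨Subgroup.one_mem _, 0, by simp⟩
  mul_mem' := by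
    rintro a b ⟨ha, hra⟩ ⟨hb, hrb⟩
    exact ⟨Subgroup.mul_mem _ ha hb, h6_isPow_mul hr (BB_comm ha hb) hra hrb⟩
  inv_mem' := by
    rintro a ⟨ha, i, hi⟩
    exact ⟨Subgroup.inv_mem _ ha, i, by rw [orderOf_inv, hi]⟩

theorem h6_mem_VV {p r : ℕ} (hr : r.Prime) {g v : G} :
    v ∈ h6_VV p r hr g ↔ v ∈ BB p g ∧ IsPow r v := Iff.rfl

theorem h6_card_VV [Finite G] {p r : ℕ} (hr : r.Prime) (g : G) :
    ∃ n : ℕ, Nat.card (h6_VV p r hr g) = r ^ n := by
  haveI : Fact r.Prime := ⟨hr⟩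
  apply IsPGroup.iff_card.mp
  rw [IsPGroup.iff_orderOf]
  intro v
  obtain ⟨k, hk⟩ := v.2.2
  exact ⟨k, by rw [← hk, Subgroup.orderOf_coe]⟩




/-- the conjugation action of a subgroup on the group. -/
@[reducible] def h6_conjAct (T : Subgroup G) : MulAction T G :=
  MulAction.compHom G ((MulAut.conj : G →* MulAut G).comp T.subtype)

/-- second count: a Sylow `r₁`-subgroup acting on the `r₂`-elements of a suitable `B`. -/
theorem h6_pow_lt [Finite G] {p m : ℕ} (H : Hyp G p m) (h2 : TwoRho G p) {g : G}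
    (hg : PReg p g) (hgz : g ∉ Subgroup.center G) (hdiv : (Zp G p).relIndex (BB p g) ∣ m)
    {r1 r2 : ℕ} (h1 : InRho G p r1) (h2' : InRho G p r2) (hne : r1 ≠ r2) :
    r1 ^ m.factorization r1 < r2 ^ m.factorization r2 := by
  have hr1 := h1.1
  have hr2 := h2'.1
  haveI : Fact r1.Prime := ⟨hr1⟩
  have hmpos : 0 < m := by have := H.hm; omega
  -- r1 ∣ m
  obtain ⟨-, -, -, -, hr1d⟩ := h6_rho_dvd_relIndex H h2 hg hgz h1
  have hr1m : r1 ∣ m := hr1d.trans hdiv
  -- a Sylow r1-subgroup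
  obtain ⟨T1⟩ : Nonempty (Sylow r1 G) := inferInstance
  obtain ⟨y, hyT, hyz, hTN⟩ := sylow_le_normalizer H h2 h1.2.1 hr1m T1
  have hyr : IsPow r1 y := h4_isPow_of_mem_sylow T1 hyT
  have hyp : PReg p y := h6_preg_of_isPow H.hp hr1 h1.2.1 hyr
  have hdiv' : (Zp G p).relIndex (BB p y) ∣ m := by
    rw [← h6_relIndex_BB_eq H h2 hg hgz hyp hyz]; exact hdiv
  -- the r2-elements of B_y
  obtain ⟨b, hbB, hbr, hbz, -⟩ := h6_rho_dvd_relIndex H h2 hyp hyz h2'
  obtain ⟨V, hV⟩ : ∃ V : Subgroup G, V = h6_VV p r2 hr2 y := ⟨_, rfl⟩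
  have hmemV : ∀ v : G, v ∈ V ↔ v ∈ BB p y ∧ IsPow r2 v := by
    intro v; rw [hV]; exact Iff.rfl
  have hbV : b ∈ V := (hmemV b).mpr ⟨hbB, hbr⟩
  have hVB : V ≤ BB p y := fun v hv => ((hmemV v).mp hv).1
  obtain ⟨c, hc⟩ : ∃ c : ℕ, c = (Zp G p).relIndex V := ⟨_, rfl⟩
  have hc_dvd : c ∣ (Zp G p).relIndex (BB p y) := by
    have e1 : (Zp G p).relIndex (V ⊔ Zp G p) = c := by rw [hc]; exact Subgroup.relIndex_sup_right V (Zp G p)
    have hle : V ⊔ Zp G p ≤ BB p y := sup_le hVB (Zp_le_BB p y)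
    have := Subgroup.relIndex_mul_relIndex (Zp G p) (V ⊔ Zp G p) (BB p y) le_sup_right hle
    rw [e1] at this
    exact Dvd.intro _ this
  have hcm : c ∣ m := hc_dvd.trans hdiv'
  obtain ⟨V0, hV0⟩ : ∃ V0 : Subgroup G, V0 = Zp G p ⊓ V := ⟨_, rfl⟩
  have hV0V : V0 ≤ V := by rw [hV0]; exact inf_le_right
  have hV0c : Nat.card V0 * c = Nat.card V := by
    have := h6_card_mul_relIndex V0 V hV0V
    rwa [hV0, Subgroup.inf_relIndex_right, ← hc, ← hV0] at this
  obtain ⟨n, hn⟩ : ∃ n : ℕ, Nat.card V = r2 ^ n := by rw [hV]; exact h6_card_VV hr2 y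
  obtain ⟨j, hj⟩ : ∃ j, c = r2 ^ j := by
    have : c ∣ r2 ^ n := hn ▸ Dvd.intro_left _ hV0c
    obtain ⟨j, -, hj⟩ := (Nat.dvd_prime_pow hr2).mp this
    exact ⟨j, hj⟩
  obtain ⟨a0, ha0⟩ : ∃ a0, Nat.card V0 = r2 ^ a0 := by
    have : Nat.card V0 ∣ r2 ^ n := hn ▸ Dvd.intro _ hV0c
    obtain ⟨j, -, hj⟩ := (Nat.dvd_prime_pow hr2).mp this
    exact ⟨j, hj⟩
  have hc1 : c ≠ 1 := by
    intro h
    rw [hc, Subgroup.relIndex_eq_one] at h
    exact hbz (h hbV).1
  have hcpos : 0 < c := by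
    rcases Nat.eq_zero_or_pos c with h0 | h0
    · rw [h0, mul_zero] at hV0c
      have : 0 < Nat.card V := Nat.card_pos
      omega
    · exact h0
  have hjle : j ≤ m.factorization r2 :=
    (hr2.pow_dvd_iff_le_factorization hmpos.ne').mp (hj ▸ hcm)
  have hcle : c ≤ r2 ^ m.factorization r2 := by
    rw [hj]; exact Nat.pow_le_pow_right hr2.pos hjle
  -- the action of T1 on Ω
  let act : MulAction (T1 : Subgroup G) G := h6_conjAct (T1 : Subgroup G)
  have hsmul : ∀ (u : (T1 : Subgroup G)) (v : G), u • v = (u : G) * v * (u : G)⁻¹ := fun u v => rfl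
  obtain ⟨Ω, hΩ⟩ : ∃ Ω : Set G, Ω = {v | v ∈ V ∧ v ∉ Subgroup.center G} := ⟨_, rfl⟩
  have hmemΩ : ∀ v : G, v ∈ Ω ↔ v ∈ V ∧ v ∉ Subgroup.center G := by
    intro v; rw [hΩ]; exact Iff.rfl
  have hΩinv : ∀ (u : (T1 : Subgroup G)) (v : G), v ∈ Ω → u • v ∈ Ω := by
    intro u v hv
    obtain ⟨hvV, hvz⟩ := (hmemΩ v).mp hv
    obtain ⟨hvB, hvr⟩ := (hmemV v).mp hvV
    rw [hsmul, hmemΩ, hmemV]
    refine ⟨⟨?_, ?_⟩, ?_⟩
    · exact ((Subgroup.mem_normalizer_iff.mp (hTN u.2)) v).mp hvB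
    · obtain ⟨k, hk⟩ := hvr
      refine ⟨k, ?_⟩
      rw [← hk, ← MulAut.conj_apply, MulEquiv.orderOf_eq]
    · intro hz
      apply hvz
      have := Subgroup.Normal.conj_mem (inferInstance : (Subgroup.center G).Normal) _ hz (u : G)⁻¹
      have e : (u : G)⁻¹ * ((u : G) * v * (u : G)⁻¹) * ((u : G)⁻¹)⁻¹ = v := by group
      rwa [e] at this
  have hstab : ∀ v ∈ Ω, MulAction.stabilizer (T1 : Subgroup G) v =
      (Subgroup.centralizer ({y} : Set G)).subgroupOf (T1 : Subgroup G) := by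
    intro v hv
    obtain ⟨hvV, hvz⟩ := (hmemΩ v).mp hv
    obtain ⟨hvB, hvr⟩ := (hmemV v).mp hvV
    ext u
    rw [MulAction.mem_stabilizer_iff, hsmul, Subgroup.mem_subgroupOf,
      ← cent_eq_of_mem_BB H hyp hyz hvB hvz, Subgroup.mem_centralizer_singleton_iff]
    constructor
    · intro h
      calc (u : G) * v = ((u : G) * v * (u : G)⁻¹) * (u : G) := by group
        _ = v * (u : G) := by rw [h]
    · intro h
      calc (u : G) * v * (u : G)⁻¹ = (v * (u : G)) * (u : G)⁻¹ := by rw [h]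
        _ = v := by group
  have hdvd := h6_index_dvd_ncard_of_stabilizer_eq
    ((Subgroup.centralizer ({y} : Set G)).subgroupOf (T1 : Subgroup G)) Ω (Set.toFinite _) hΩinv hstab
  obtain ⟨I, hI⟩ : ∃ I : ℕ, I = ((Subgroup.centralizer ({y} : Set G)).subgroupOf (T1 : Subgroup G)).index :=
    ⟨_, rfl⟩
  rw [← hI] at hdvd
  -- |Ω| = |V| - |V0|
  have hΩcard : Ω.ncard = Nat.card V - Nat.card V0 := by
    have e : Ω = (V : Set G) \ (V0 : Set G) := by
      ext v
      rw [hmemΩ, Set.mem_sdiff, SetLike.mem_coe, SetLike.mem_coe, hV0, Subgroup.mem_inf]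
      constructor
      · rintro ⟨hvV, hvz⟩
        exact ⟨hvV, fun h => hvz h.1.1⟩
      · rintro ⟨hvV, hnot⟩
        refine ⟨hvV, fun hz => hnot ⟨⟨hz, ?_⟩, hvV⟩⟩
        exact ((hmemV v).mp hvV).1.2.2
    rw [e, Set.ncard_sdiff (by exact_mod_cast hV0V), ← Nat.card_coe_set_eq, ← Nat.card_coe_set_eq]
    rfl
  -- I is a power of r1
  have hT1card : Nat.card (T1 : Subgroup G) = r1 ^ (Nat.card G).factorization r1 := T1.card_eq_multiplicity
  obtain ⟨i, hi⟩ : ∃ i, I = r1 ^ i := by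
    have : I ∣ Nat.card (T1 : Subgroup G) := hI ▸ Subgroup.index_dvd_card _
    rw [hT1card] at this
    obtain ⟨i, -, hi⟩ := (Nat.dvd_prime_pow hr1).mp this
    exact ⟨i, hi⟩
  -- I ≤ c - 1
  have hIle : I ≤ c - 1 := by
    have e : Nat.card V - Nat.card V0 = Nat.card V0 * (c - 1) := by
      rw [← hV0c, Nat.mul_sub_one]
    rw [hΩcard, e, ha0, hi] at hdvd
    have hcop : Nat.Coprime (r1 ^ i) (r2 ^ a0) :=
      Nat.Coprime.pow _ _ ((Nat.coprime_primes hr1 hr2).mpr hne)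
    have := hcop.dvd_of_dvd_mul_left hdvd
    rw [hi]
    exact Nat.le_of_dvd (by omega) this
  -- I ≥ r1 ^ v(m)
  have hIge : r1 ^ m.factorization r1 ≤ I := by
    set C := Subgroup.centralizer ({y} : Set G) with hC
    obtain ⟨E, hE⟩ : ∃ E : Subgroup G, E = C ⊓ (T1 : Subgroup G) := ⟨_, rfl⟩
    have hET : E ≤ (T1 : Subgroup G) := by rw [hE]; exact inf_le_right
    have hEC : E ≤ C := by rw [hE]; exact inf_le_left
    have e1 : Nat.card E * I = Nat.card (T1 : Subgroup G) := by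
      have := h6_card_mul_relIndex E (T1 : Subgroup G) hET
      rw [hE, Subgroup.inf_relIndex_right, ← hE] at this
      rw [hI]
      exact this
    obtain ⟨d, hd⟩ : ∃ d, Nat.card E = r1 ^ d := by
      have : Nat.card E ∣ r1 ^ (Nat.card G).factorization r1 := hT1card ▸ Dvd.intro _ e1
      obtain ⟨d, -, hd⟩ := (Nat.dvd_prime_pow hr1).mp this
      exact ⟨d, hd⟩
    have hdC : d ≤ (Nat.card C).factorization r1 := by
      have : r1 ^ d ∣ Nat.card C := hd ▸ Subgroup.card_dvd_of_le hEC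
      exact (hr1.pow_dvd_iff_le_factorization Nat.card_pos.ne').mp this
    have hNm : (Nat.card G).factorization r1 = (Nat.card C).factorization r1 + m.factorization r1 := by
      have h1' : idx y = m := (H.cls _ hyp).resolve_left hyz
      have := Subgroup.card_mul_index C
      unfold idx at h1'
      rw [h1'] at this
      rw [← this, Nat.factorization_mul Nat.card_pos.ne' hmpos.ne']
      rfl
    rw [hd, hi, hT1card, ← pow_add] at e1
    have e2 : d + i = (Nat.card G).factorization r1 := Nat.pow_right_injective hr1.two_le e1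
    rw [hi]
    apply Nat.pow_le_pow_right hr1.pos
    omega
  omega


/-- B6 -/
theorem conj_into_BB [Finite G] {p m : ℕ} (H : Hyp G p m) (h2 : TwoRho G p) {g x : G} (hg : PReg p g)
    (hgz : g ∉ Subgroup.center G) (hx : PReg p x) (hxz : x ∉ Subgroup.center G) :
    ∃ h : G, h * x * h⁻¹ ∈ BB p g := by
  by_contra hcon
  push Not at hcon
  have hdiv := h6_relIndex_dvd_of_no_conj H h2 hg hgz hx hxz hcon
  obtain ⟨q1, q2, h12, hq1, hq2⟩ := h2
  have a := h6_pow_lt H ⟨q1, q2, h12, hq1, hq2⟩ hg hgz hdiv hq1 hq2 h12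
  have b := h6_pow_lt H ⟨q1, q2, h12, hq1, hq2⟩ hg hgz hdiv hq2 hq1 (Ne.symm h12)
  omega

end Cfsg.Agent.Lib.Helper8.PR
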