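import Mathlib
import Cfsg.Prelude.Def_Local
import Cfsg.Agent.Lib.Helper1.PConstrainedLocal3
import Cfsg.Agent.Lib.Helper7.PConstrained3

set_option autoImplicit false
open Cfsg
open scoped Pointwise

namespace Cfsg.Agent.Lib.Helper6.PT

open Cfsg.Agent.Lib.Helper1

/-- `p`-constraint from the centralizer condition on one Sylow `p`-subgroup of `O_{p',p}(G)` -/
theorem isPConstrained_of_sylow {G : Type*} [Group G] [Finite G] {p : ℕ} [hp : Fact p.Prime]
    (Q : Subgroup G) (hQL : Q ≤ pPrimePCore p G) (hQp : IsPGroup p Q)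
    (hQS : ¬ p ∣ Q.relIndex (pPrimePCore p G))
    (hCQ : Subgroup.centralizer (Q : Set G) ≤ pPrimePCore p G) : IsPConstrained p G := by
  classical
  intro P
  have hQ'p : IsPGroup p ↥(Q.subgroupOf (pPrimePCore p G)) := hQp.comap_subtype
  have hidx : ¬ p ∣ (Q.subgroupOf (pPrimePCore p G)).index := hQS
  obtain ⟨g, hg⟩ := MulAction.exists_smul_eq ↥(pPrimePCore p G) (hQ'p.toSylow hidx) P
  intro x hx
  have h1 : (g : G)⁻¹ * x * (g : G) ∈ Subgroup.centralizer (Q : Set G) := by
    rw [Subgroup.mem_centralizer_iff]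
    intro q hq
    have hqL : q ∈ pPrimePCore p G := hQL hq
    have hmem : (g * ⟨q, hqL⟩ * g⁻¹ : ↥(pPrimePCore p G)) ∈ (P : Subgroup ↥(pPrimePCore p G)) := by
      rw [← hg, Sylow.coe_subgroup_smul, Subgroup.mem_smul_pointwise_iff_exists]
      refine ⟨⟨q, hqL⟩, ?_, ?_⟩
      · show (⟨q, hqL⟩ : ↥(pPrimePCore p G)) ∈ Q.subgroupOf (pPrimePCore p G)
        exact Subgroup.mem_subgroupOf.mpr hq
      · rfl
    have hmem' : (g : G) * q * (g : G)⁻¹
        ∈ ((P : Subgroup ↥(pPrimePCore p G)).map (pPrimePCore p G).subtype : Subgroup G) :=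
      ⟨_, hmem, by simp⟩
    have h2 := Subgroup.mem_centralizer_iff.mp hx _ hmem'
    calc q * ((g : G)⁻¹ * x * g) = (g : G)⁻¹ * (((g : G) * q * (g : G)⁻¹) * x) * g := by group
      _ = (g : G)⁻¹ * (x * ((g : G) * q * (g : G)⁻¹)) * g := by rw [h2]
      _ = ((g : G)⁻¹ * x * g) * q := by group
  have h3 := hCQ h1
  have h4 : x = (g : G) * ((g : G)⁻¹ * x * g) * (g : G)⁻¹ := by group
  rw [h4]
  exact (pPrimePCore p G).mul_mem ((pPrimePCore p G).mul_mem g.2 h3) ((pPrimePCore p G).inv_mem g.2)

/-- in a `p`-constrained group the `p'`-core of the centralizer of a `p`-subgroup lies in the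
`p'`-core of the group -/
theorem mem_pPrimeCore_of_mem_pPrimeCore_centralizer {G : Type*} [Group G] [Finite G] {p : ℕ}
    [hp : Fact p.Prime] (hG : IsPConstrained p G) (R : Subgroup G) (hR : IsPGroup p R)
    (x : ↥(Subgroup.centralizer (R : Set G)))
    (hx : x ∈ pPrimeCore p ↥(Subgroup.centralizer (R : Set G))) :
    (x : G) ∈ pPrimeCore p G := by
  classical
  have hNc : (Nat.card (pPrimeCore p G)).Coprime p := pPrimeCore_card_coprime p
  haveI hKn : (pPrimeCore p G).Normal := pPrimeCore_normal p G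
  rw [isPConstrained_iff_quotient,
    isPConstrained_iff_of_pPrimeCore_eq_bot (pPrimeCore_quotient_eq_bot p)] at hG
  obtain ⟨Pbar, hPbar⟩ : ∃ Pbar, Pbar = R.map (QuotientGroup.mk' (pPrimeCore p G)) := ⟨_, rfl⟩
  have hPbarp : IsPGroup p Pbar := by rw [hPbar]; exact hR.map _
  have hQ : IsPGroup p (pCore p (G ⧸ pPrimeCore p G)) := pCore_isPGroup p
  have h1 := (local_constrained_aux (pCore p (G ⧸ pPrimeCore p G)) hQ hG Pbar
      (Subgroup.centralizer (Pbar : Set (G ⧸ pPrimeCore p G))) hPbarp
      (Subgroup.centralizer_le_normalizer _) le_rfl (Or.inr le_rfl)).1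
  rw [hPbar, centralizer_map_mk_eq _ hNc R hR] at h1
  have hmem : ∀ k : ((QuotientGroup.mk' (pPrimeCore p G)).subgroupMap
      (Subgroup.centralizer (R : Set G))).ker,
      ((k : ↥(Subgroup.centralizer (R : Set G))) : G) ∈ pPrimeCore p G := by
    rintro ⟨k, hk⟩
    rw [MonoidHom.mem_ker] at hk
    have h1 := congrArg Subtype.val hk
    have h2 : (QuotientGroup.mk' (pPrimeCore p G)) (k : G) = 1 := h1
    rw [QuotientGroup.mk'_apply, QuotientGroup.eq_one_iff] at h2
    exact h2
  have hker : (Nat.card ((QuotientGroup.mk' (pPrimeCore p G)).subgroupMap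
      (Subgroup.centralizer (R : Set G))).ker).Coprime p := by
    let φ : ((QuotientGroup.mk' (pPrimeCore p G)).subgroupMap
        (Subgroup.centralizer (R : Set G))).ker →* pPrimeCore p G :=
      { toFun := fun k => ⟨((k : ↥(Subgroup.centralizer (R : Set G))) : G), hmem k⟩
        map_one' := rfl
        map_mul' := fun a b => rfl }
    have hφ : Function.Injective φ := by
      intro a b hab
      have := congrArg Subtype.val hab
      exact Subtype.ext (Subtype.ext this)
    exact Nat.Coprime.coprime_dvd_left (Subgroup.card_dvd_of_injective φ hφ) hNc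
  have h2 := pPrimeCore_eq_comap_of_coprime_ker (p := p)
    ((QuotientGroup.mk' (pPrimeCore p G)).subgroupMap (Subgroup.centralizer (R : Set G)))
    ((QuotientGroup.mk' (pPrimeCore p G)).subgroupMap_surjective _) hker
  rw [h2, h1, Subgroup.mem_comap, Subgroup.mem_bot] at hx
  exact hmem ⟨x, hx⟩

/-- the `p'`-core of the centralizer of a `p`-subgroup of a `p`-constrained group -/
theorem pPrimeCore_centralizer_eq {G : Type*} [Group G] [Finite G] {p : ℕ}
    [hp : Fact p.Prime] (hG : IsPConstrained p G) (R : Subgroup G) (hR : IsPGroup p R) :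
    pPrimeCore p ↥(Subgroup.centralizer (R : Set G))
      = (pPrimeCore p G).subgroupOf (Subgroup.centralizer (R : Set G)) := by
  apply le_antisymm
  · intro x hx
    rw [Subgroup.mem_subgroupOf]
    exact mem_pPrimeCore_of_mem_pPrimeCore_centralizer hG R hR x hx
  · haveI hKn : (pPrimeCore p G).Normal := pPrimeCore_normal p G
    apply le_pPrimeCore (hKn.subgroupOf _)
    have hNc : (Nat.card (pPrimeCore p G)).Coprime p := pPrimeCore_card_coprime p
    have hdvd : Nat.card ↥((pPrimeCore p G).subgroupOf (Subgroup.centralizer (R : Set G)))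
        ∣ Nat.card ↥(pPrimeCore p G) := by
      let φ : ↥((pPrimeCore p G).subgroupOf (Subgroup.centralizer (R : Set G))) →* pPrimeCore p G :=
        { toFun := fun k => ⟨((k : ↥(Subgroup.centralizer (R : Set G))) : G), k.2⟩
          map_one' := rfl
          map_mul' := fun a b => rfl }
      have hφ : Function.Injective φ := by
        intro a b hab
        have := congrArg Subtype.val hab
        exact Subtype.ext (Subtype.ext this)
      exact Subgroup.card_dvd_of_injective φ hφ
    exact Nat.Coprime.coprime_dvd_left hdvd hNc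

end Cfsg.Agent.Lib.Helper6.PT
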