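import Mathlib
import Cfsg.Prelude.Def_Blocks
import Cfsg.Agent.Lib.Helper6.BlkCover

set_option autoImplicit false
set_option linter.unusedSectionVars false
open Cfsg

namespace Cfsg.Agent.Lib.Helper6.PT

open Cfsg.Agent.Lib.Helper6
open scoped ComplexConjugate

section omega

variable {G : Type*} [Group G] [Fintype G] [DecidableEq G]
variable (N : Subgroup G) [Fintype N] (hN : N.Normal)

/-- the central-character value of an invariant function supported on a normal subgroup is read off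
from any irreducible constituent of the restriction -/
theorem sum_mul_div_eq_of_constituent (a : N → ℂ)
    (ha : ∀ (g : G) (n : N), a ⟨g * n * g⁻¹, hN.conj_mem n n.2 g⟩ = a n)
    {ξ : G → ℂ} (hξ : Cfsg.IsIrrCharacter G ξ) (ψ : Cfsg.IrrCharacter N)
    (hc : Cfsg.classInner (fun n : N => ξ n) (ψ : N → ℂ) ≠ 0) :
    (∑ n : N, a n * ξ n) / ξ 1 = (∑ n : N, a n * (ψ : N → ℂ) n) / (ψ : N → ℂ) 1 := by
  classical
  haveI : Fintype (Cfsg.IrrCharacter N) := Fintype.ofFinite _
  haveI := hN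
  obtain ⟨m, hm⟩ : ∃ m : Cfsg.IrrCharacter N → ℂ,
      m = fun ψ' : Cfsg.IrrCharacter N =>
        Cfsg.classInner (fun n : N => ξ n) (ψ' : N → ℂ) := ⟨_, rfl⟩
  have hres : (fun n : N => ξ n) = ∑ ψ' : Cfsg.IrrCharacter N, m ψ' • (ψ' : N → ℂ) := by
    rw [hm]
    exact classFunction_eq_sum _ (IsCharacter.isClassFunction
      (IsCharacter.restrict N (IsIrrCharacter.isCharacter hξ)))
  have hpt : ∀ n : N, ξ n = ∑ ψ' : Cfsg.IrrCharacter N, m ψ' * (ψ' : N → ℂ) n := by
    intro n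
    have := congrFun hres n
    simp only [Finset.sum_apply, Pi.smul_apply, smul_eq_mul] at this
    exact this
  have hkey : ∀ ψ' : Cfsg.IrrCharacter N, m ψ' ≠ 0 →
      (∑ n : N, a n * (ψ' : N → ℂ) n) = (∑ n : N, a n * (ψ : N → ℂ) n) ∧
        (ψ' : N → ℂ) 1 = (ψ : N → ℂ) 1 := by
    intro ψ' hψ'
    rw [hm] at hψ'
    obtain ⟨g, hg⟩ := exists_conjFun_eq_of_constituents N hN hξ ψ.2 ψ'.2 hc hψ'
    constructor
    · rw [hg]
      rw [← Equiv.sum_comp (MulAut.conjNormal g : MulAut N).toEquiv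
        (fun n => a n * (ψ : N → ℂ) n)]
      apply Finset.sum_congr rfl
      intro n _
      rw [conjFun_apply]
      have h1 : (MulAut.conjNormal g : MulAut N).toEquiv n
          = ⟨g * n * g⁻¹, hN.conj_mem n n.2 g⟩ := by
        apply Subtype.ext
        simp
      rw [h1, ha]
    · rw [hg, conjFun_apply]
      apply congrArg
      apply Subtype.ext
      simp
  obtain ⟨T, hT⟩ : ∃ T : ℂ, T = ∑ ψ' : Cfsg.IrrCharacter N, m ψ' := ⟨_, rfl⟩
  have h1 : ∑ n : N, a n * ξ n = T * ∑ n : N, a n * (ψ : N → ℂ) n := by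
    have e1 : ∑ n : N, a n * ξ n
        = ∑ ψ' : Cfsg.IrrCharacter N, m ψ' * ∑ n : N, a n * (ψ' : N → ℂ) n := by
      rw [Finset.sum_congr rfl (fun n _ => by rw [hpt n, Finset.mul_sum])]
      rw [Finset.sum_comm]
      apply Finset.sum_congr rfl
      intro ψ' _
      rw [Finset.mul_sum]
      apply Finset.sum_congr rfl
      intro n _
      ring
    rw [e1, hT, Finset.sum_mul]
    apply Finset.sum_congr rfl
    intro ψ' _
    by_cases h0 : m ψ' = 0
    · rw [h0, zero_mul, zero_mul]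
    · rw [(hkey ψ' h0).1]
  have h2 : ξ 1 = T * (ψ : N → ℂ) 1 := by
    have e1 : ξ 1 = ξ ((1 : N) : G) := by simp
    rw [e1, hpt 1, hT, Finset.sum_mul]
    apply Finset.sum_congr rfl
    intro ψ' _
    by_cases h0 : m ψ' = 0
    · rw [h0, zero_mul, zero_mul]
    · rw [(hkey ψ' h0).2]
  have hT0 : T ≠ 0 := by
    intro h0
    apply IsIrrCharacter.apply_one_ne_zero hξ
    rw [h2, h0, zero_mul]
  rw [h1, h2, mul_div_mul_left _ _ hT0]

end omega

end Cfsg.Agent.Lib.Helper6.PT
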