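import Mathlib
import Cfsg.Prelude.Def_Blocks
import Cfsg.Prelude.Def_BrauerPairs
import Cfsg.Agent.Lib.Helper6.FongThm
import Cfsg.Agent.Lib.Helper6.BrConj2
import Cfsg.Agent.Lib.Helper6.BlkPairs
import Cfsg.Agent.Lib.Helper6.BrFM2
import Cfsg.Agent.Lib.Helper6.BlkCoverDefect

set_option autoImplicit false
set_option linter.unusedSectionVars false
open Cfsg

namespace Cfsg.Agent.Lib.Helper6.PT

open Cfsg.Agent.Lib.Helper6
open scoped ComplexConjugate Pointwise

section pnil

variable {X : Type*} [Group X] [Fintype X] [DecidableEq X]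
variable {p : ℕ} [Fact p.Prime] {M : Ideal Cfsg.AlgInt}

/-- a `p`-element of a `p'`-subgroup is trivial -/
theorem eq_one_of_mem_of_pow_eq_one (K : Subgroup X) (hKp : ¬ p ∣ Nat.card K) {k : X} (hk : k ∈ K)
    {j : ℕ} (hj : k ^ p ^ j = 1) : k = 1 := by
  have hpp : p.Prime := Fact.out
  have h1 : orderOf k ∣ p ^ j := orderOf_dvd_of_pow_eq_one hj
  have h2 : orderOf k ∣ Nat.card K := Subgroup.orderOf_dvd_natCard K hk
  have hcop : (p ^ j).Coprime (Nat.card K) :=
    Nat.Coprime.pow_left j ((Nat.Prime.coprime_iff_not_dvd hpp).mpr hKp)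
  have h3 : orderOf k ∣ 1 := by
    have := Nat.dvd_gcd h1 h2
    rwa [hcop] at this
  exact orderOf_eq_one_iff.mp (Nat.dvd_one.mp h3)

/-- elements of a `p`-subgroup have `p`-power order -/
theorem exists_pow_eq_one_of_mem (R : Subgroup X) (hR : IsPGroup p R) {r : X} (hr : r ∈ R) :
    ∃ j : ℕ, r ^ p ^ j = 1 := by
  obtain ⟨j, hj⟩ := hR ⟨r, hr⟩
  refine ⟨j, ?_⟩
  have := congrArg Subtype.val hj
  simpa using this

/-- decomposition of elements of `K R` -/
theorem exists_mul_of_sup_eq_top (K : Subgroup X) (hK : K.Normal) (R : Subgroup X)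
    (hKR : K ⊔ R = ⊤) (x : X) : ∃ k ∈ K, ∃ r ∈ R, x = k * r := by
  haveI := hK
  have hx : x ∈ K ⊔ R := by rw [hKR]; exact Subgroup.mem_top x
  have h1 : (↑(K ⊔ R) : Set X) = (K : Set X) * (R : Set X) := Subgroup.normal_mul K R
  have h2 : x ∈ (K : Set X) * (R : Set X) := by rw [← h1]; exact hx
  obtain ⟨k, hk, r, hr, hkr⟩ := Set.mem_mul.mp h2
  exact ⟨k, hk, r, hr, hkr.symm⟩

/-- In a `p`-nilpotent group `X = K R` (`K` a normal `p'`-subgroup, `R` a `p`-subgroup) and for an
invariant irreducible character `θ` of `K`, the Brauer-map image at `R` of the idempotent of `θ`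
singles out exactly one block of `C_X(R)`. -/
theorem sameBlock_of_pNilpotent (hM : Cfsg.IsPModular p M)
    (K : Subgroup X) [Fintype K] (hK : K.Normal) (hKp : ¬ p ∣ Nat.card K)
    (R : Subgroup X) (hR : IsPGroup p R) (hKR : K ⊔ R = ⊤)
    [Fintype (Subgroup.centralizer (R : Set X))]
    (θ : Cfsg.IrrCharacter K)
    (hinv : ∀ (g : X) (n : K), (θ : K → ℂ) ⟨g * n * g⁻¹, hK.conj_mem n n.2 g⟩ = (θ : K → ℂ) n)
    (ξ₁ ξ₂ : Cfsg.IrrCharacter (Subgroup.centralizer (R : Set X)))
    (h₁ : Cfsg.MemLocalIdeal M (Cfsg.brauerOmega R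
      (Cfsg.extendByZero K (Cfsg.blockCoeff ({θ} : Set (Cfsg.IrrCharacter K))))
      (ξ₁ : Subgroup.centralizer (R : Set X) → ℂ) - 1))
    (h₂ : Cfsg.MemLocalIdeal M (Cfsg.brauerOmega R
      (Cfsg.extendByZero K (Cfsg.blockCoeff ({θ} : Set (Cfsg.IrrCharacter K))))
      (ξ₂ : Subgroup.centralizer (R : Set X) → ℂ) - 1)) :
    Cfsg.SameBlock M (ξ₁ : Subgroup.centralizer (R : Set X) → ℂ)
      (ξ₂ : Subgroup.centralizer (R : Set X) → ℂ) := by
  classical
  have hpp : p.Prime := Fact.out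
  haveI : Fintype ↥(⊤ : Subgroup X) := Fintype.ofFinite _
  -- the quotient by `K` is a `p`-group
  have hquot : IsPGroup p (X ⧸ K) := by
    haveI := hK
    intro q
    obtain ⟨x, rfl⟩ := QuotientGroup.mk_surjective q
    obtain ⟨k, hk, r, hr, rfl⟩ := exists_mul_of_sup_eq_top K hK R hKR x
    obtain ⟨j, hj⟩ := exists_pow_eq_one_of_mem R hR hr
    refine ⟨j, ?_⟩
    have h1 : ((k * r : X) : X ⧸ K) = ((r : X) : X ⧸ K) := by
      rw [QuotientGroup.mk_mul]
      have : ((k : X) : X ⧸ K) = 1 := (QuotientGroup.eq_one_iff k).mpr hk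
      rw [this, one_mul]
    rw [h1, ← QuotientGroup.mk_pow, hj]
    rfl
  have hidx : ∃ j : ℕ, (K.subgroupOf (⊤ : Subgroup X)).index = p ^ j := by
    haveI := hK
    obtain ⟨j, hj⟩ := IsPGroup.iff_card.1 hquot
    refine ⟨j, ?_⟩
    show K.relIndex ⊤ = p ^ j
    rw [Subgroup.relIndex_top_right, Subgroup.index_eq_card]
    exact hj
  have hcon : ∀ P₁ : Sylow p ↥(⊤ : Subgroup X),
      Subgroup.centralizer (((P₁ : Subgroup ↥(⊤ : Subgroup X)).map
        (⊤ : Subgroup X).subtype : Subgroup X) : Set X) ≤ ⊤ := fun _ => le_top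
  obtain ⟨B, hB, hBmem, hBsyl, -⟩ := fong_aux hM K hK hKp θ hinv ⊤ inferInstance le_top hidx hcon
  -- `R` is a defect group
  obtain ⟨P, hRP⟩ := IsPGroup.exists_le_sylow hR
  have hPR : (P : Subgroup X) = R := by
    apply le_antisymm _ hRP
    intro x hx
    obtain ⟨k, hk, r, hr, rfl⟩ := exists_mul_of_sup_eq_top K hK R hKR x
    have hkP : k ∈ (P : Subgroup X) := by
      have : k = (k * r) * r⁻¹ := by group
      rw [this]
      exact (P : Subgroup X).mul_mem hx ((P : Subgroup X).inv_mem (hRP hr))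
    obtain ⟨j, hj⟩ := exists_pow_eq_one_of_mem (P : Subgroup X) P.isPGroup' hkP
    rw [eq_one_of_mem_of_pow_eq_one K hKp hk hj, one_mul]
    exact hr
  have hRD : Cfsg.IsDefectGroup p M B R := by
    rw [← hPR]
    exact hBsyl P
  -- the idempotent coefficients of `B`
  have hA : GStable K hK ({θ} : Set (Cfsg.IrrCharacter K)) := by
    intro ψ hψ g
    rw [Set.mem_singleton_iff] at hψ ⊢
    rw [hψ]
    apply Subtype.ext
    rw [irrConj_coe]
    funext n
    rw [conjFun_apply]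
    exact hinv g n
  have hBover : B = overSet K ({θ} : Set (Cfsg.IrrCharacter K)) := by
    ext χ
    rw [hBmem χ]
    constructor
    · intro h
      exact ⟨θ, rfl, h⟩
    · rintro ⟨θ', hθ', h⟩
      rw [Set.mem_singleton_iff] at hθ'
      rw [hθ'] at h
      exact h
  have hcoeff : Cfsg.blockCoeff B
      = Cfsg.extendByZero K (Cfsg.blockCoeff ({θ} : Set (Cfsg.IrrCharacter K))) := by
    funext g
    rw [hBover]
    exact blockCoeff_overSet_eq K hK hA g
  rw [← hcoeff] at h₁ h₂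
  -- the two Brauer pairs
  have hEc := blockMat_mem_centerAlg B
  have hEs : blockMat B ∈ sMat hM X := isPBlock_mem_sMat hM hB
  have htc : resMat (Subgroup.centralizer (R : Set X)) (blockMat B)
      ∈ centerAlg (Subgroup.centralizer (R : Set X)) := resMat_mem_centerAlg _ hEc
  have hts : resMat (Subgroup.centralizer (R : Set X)) (blockMat B)
      ∈ sMat hM (Subgroup.centralizer (R : Set X)) := resMat_mem_sMat _ hM hEs
  have hpair : ∀ ξ : Cfsg.IrrCharacter (Subgroup.centralizer (R : Set X)),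
      Cfsg.MemLocalIdeal M (Cfsg.brauerOmega R (Cfsg.blockCoeff B)
        (ξ : Subgroup.centralizer (R : Set X) → ℂ) - 1) →
      Cfsg.IsBrauerPairOf p M B R
        (Cfsg.blockOf M (ξ : Subgroup.centralizer (R : Set X) → ℂ)) := by
    intro ξ h
    rw [brauerOmega_blockCoeff_eq] at h
    exact ⟨⟨hR, ⟨ξ, rfl⟩⟩, hB,
      (oneOn_resMat_iff R B _).mp ((oneOn_blockOf_iff hM htc hts ξ).mpr h)⟩
  obtain ⟨n, hn, hconj⟩ := exists_normalizer_conj hM B R hRD _ _ (hpair ξ₁ h₁) (hpair ξ₂ h₂)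
  -- the conjugating element acts trivially on the characters of the centralizer
  have hξ₂ : ξ₂ ∈ Cfsg.blockOf M (ξ₂ : Subgroup.centralizer (R : Set X) → ℂ) :=
    sameBlock_refl hM _
  rw [hconj] at hξ₂
  obtain ⟨ξ, hξ, hξeq⟩ := hξ₂
  have hfix : autIrr (nAut (Subgroup.centralizer (R : Set X)) n
      (normalizer_le_normalizer_centralizer R hn)) ξ = ξ := by
    obtain ⟨k, hk, r, hr, hnkr⟩ := exists_mul_of_sup_eq_top K hK R hKR n
    -- `k` normalizes `R`
    have hkN : k ∈ Subgroup.normalizer (R : Set X) := by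
      have : k = n * r⁻¹ := by rw [hnkr]; group
      rw [this]
      exact (Subgroup.normalizer (R : Set X)).mul_mem hn
        ((Subgroup.normalizer (R : Set X)).inv_mem (Subgroup.le_normalizer hr))
    -- `k` centralizes `R`
    have hkC : k ∈ Subgroup.centralizer (R : Set X) := by
      rw [Subgroup.mem_centralizer_iff]
      intro s hs
      have hsR : k * s * k⁻¹ ∈ R := (Subgroup.mem_normalizer_iff.mp hkN s).mp hs
      have hcR : k * s * k⁻¹ * s⁻¹ ∈ R := R.mul_mem hsR (R.inv_mem hs)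
      have hcK : k * s * k⁻¹ * s⁻¹ ∈ K := by
        have h1 : s * k⁻¹ * s⁻¹ ∈ K := hK.conj_mem k⁻¹ (K.inv_mem hk) s
        have h2 : k * s * k⁻¹ * s⁻¹ = k * (s * k⁻¹ * s⁻¹) := by group
        rw [h2]
        exact K.mul_mem hk h1
      obtain ⟨j, hj⟩ := exists_pow_eq_one_of_mem R hR hcR
      have h1 := eq_one_of_mem_of_pow_eq_one K hKp hcK hj
      have h2 : k * s = (k * s * k⁻¹ * s⁻¹) * (s * k) := by group
      rw [h2, h1, one_mul]
    apply Subtype.ext
    funext c
    rw [autIrr_apply]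
    have hcl := IsCharacter.isClassFunction (IsIrrCharacter.isCharacter ξ.2)
    have h1 : ((nAut (Subgroup.centralizer (R : Set X)) n
        (normalizer_le_normalizer_centralizer R hn))⁻¹ : MulAut _) c
        = (⟨k, hkC⟩ : Subgroup.centralizer (R : Set X))⁻¹ * c * ⟨k, hkC⟩ := by
      apply Subtype.ext
      rw [nAut_inv_apply_coe]
      have hc := c.2
      rw [Subgroup.mem_centralizer_iff] at hc
      -- `r` commutes with `k⁻¹ c k`
      have hkck : k⁻¹ * (c : X) * k ∈ Subgroup.centralizer (R : Set X) :=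
        (Subgroup.centralizer (R : Set X)).mul_mem
          ((Subgroup.centralizer (R : Set X)).mul_mem
            ((Subgroup.centralizer (R : Set X)).inv_mem hkC) c.2) hkC
      have h3 := Subgroup.mem_centralizer_iff.mp hkck r hr
      show n⁻¹ * (c : X) * n = k⁻¹ * (c : X) * k
      rw [hnkr]
      calc (k * r)⁻¹ * (c : X) * (k * r) = r⁻¹ * ((k⁻¹ * (c : X) * k) * r) := by group
        _ = r⁻¹ * (r * (k⁻¹ * (c : X) * k)) := by rw [h3]
        _ = k⁻¹ * (c : X) * k := by group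
    rw [h1]
    have h4 := hcl c (⟨k, hkC⟩ : Subgroup.centralizer (R : Set X))⁻¹
    rw [inv_inv] at h4
    exact h4
  rw [hfix] at hξeq
  rw [← hξeq]
  exact hξ

end pnil

end Cfsg.Agent.Lib.Helper6.PT
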