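import Mathlib
import Cfsg.Prelude.Def_Blocks
import Cfsg.Prelude.Def_BrauerPairs
import Cfsg.Agent.Lib.Helper6.PT2
import Cfsg.Agent.Lib.Helper6.PT3
import Cfsg.Agent.Lib.Helper6.BlkCover3
import Cfsg.Agent.Lib.Helper6.BlkFRDict

set_option autoImplicit false
set_option linter.unusedSectionVars false
open Cfsg

namespace Cfsg.Agent.Lib.Helper6.PT

open Cfsg.Agent.Lib.Helper6
open scoped ComplexConjugate Pointwise

section bo

variable {Y : Type*} [Group Y] [Fintype Y] [DecidableEq Y]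

/-- cardinality of `K ∩ H` inside `H` divides the cardinality of `K` -/
theorem card_subgroupOf_dvd_card (K H : Subgroup Y) :
    Nat.card ↥(K.subgroupOf H) ∣ Nat.card ↥K := by
  let φ : ↥(K.subgroupOf H) →* K :=
    { toFun := fun k => ⟨((k : ↥H) : Y), Subgroup.mem_subgroupOf.mp k.2⟩
      map_one' := rfl
      map_mul' := fun a b => rfl }
  have hφ : Function.Injective φ := by
    intro a b hab
    have := congrArg Subtype.val hab
    exact Subtype.ext (Subtype.ext this)
  exact Subgroup.card_dvd_of_injective φ hφ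

/-- the Brauer-map value of an invariant function supported on a normal subgroup -/
theorem brauerOmega_extendByZero_eq (K : Subgroup Y) [Fintype K] (hK : K.Normal) (R : Subgroup Y)
    [Fintype (Subgroup.centralizer (R : Set Y))]
    [Fintype (K.subgroupOf (Subgroup.centralizer (R : Set Y)))]
    (b : K → ℂ) (hb : ∀ (g : Y) (k : K), b ⟨g * k * g⁻¹, hK.conj_mem k k.2 g⟩ = b k)
    (ξ : Cfsg.IrrCharacter (Subgroup.centralizer (R : Set Y)))
    (ψ : Cfsg.IrrCharacter (K.subgroupOf (Subgroup.centralizer (R : Set Y))))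
    (hc : Cfsg.classInner (fun n : K.subgroupOf (Subgroup.centralizer (R : Set Y)) =>
      (ξ : Subgroup.centralizer (R : Set Y) → ℂ) n)
      (ψ : K.subgroupOf (Subgroup.centralizer (R : Set Y)) → ℂ) ≠ 0) :
    Cfsg.brauerOmega R (Cfsg.extendByZero K b) (ξ : Subgroup.centralizer (R : Set Y) → ℂ)
      = (∑ n : K.subgroupOf (Subgroup.centralizer (R : Set Y)),
          b ⟨((n : Subgroup.centralizer (R : Set Y)) : Y), Subgroup.mem_subgroupOf.mp n.2⟩
            * (ψ : K.subgroupOf (Subgroup.centralizer (R : Set Y)) → ℂ) n)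
        / (ψ : K.subgroupOf (Subgroup.centralizer (R : Set Y)) → ℂ) 1 := by
  classical
  have hN : (K.subgroupOf (Subgroup.centralizer (R : Set Y))).Normal := hK.subgroupOf _
  obtain ⟨a, ha⟩ : ∃ a : K.subgroupOf (Subgroup.centralizer (R : Set Y)) → ℂ,
      a = fun n : ↥(K.subgroupOf (Subgroup.centralizer (R : Set Y))) =>
        b ⟨((n : Subgroup.centralizer (R : Set Y)) : Y),
        Subgroup.mem_subgroupOf.mp n.2⟩ := ⟨_, rfl⟩
  have hext : ∀ x : Subgroup.centralizer (R : Set Y),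
      Cfsg.extendByZero K b (x : Y)
        = Cfsg.extendByZero (K.subgroupOf (Subgroup.centralizer (R : Set Y))) a x := by
    intro x
    by_cases hx : (x : Y) ∈ K
    · have hx' : x ∈ K.subgroupOf (Subgroup.centralizer (R : Set Y)) :=
        Subgroup.mem_subgroupOf.mpr hx
      rw [extendByZero_of_mem K b hx, extendByZero_of_mem _ a hx', ha]
    · have hx' : x ∉ K.subgroupOf (Subgroup.centralizer (R : Set Y)) := fun h =>
        hx (Subgroup.mem_subgroupOf.mp h)
      rw [extendByZero_of_not_mem K b hx, extendByZero_of_not_mem _ a hx']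
  have hainv : ∀ (g : Subgroup.centralizer (R : Set Y))
      (n : K.subgroupOf (Subgroup.centralizer (R : Set Y))),
      a ⟨g * n * g⁻¹, hN.conj_mem n n.2 g⟩ = a n := by
    intro g n
    rw [ha]
    exact hb (g : Y) ⟨((n : Subgroup.centralizer (R : Set Y)) : Y), Subgroup.mem_subgroupOf.mp n.2⟩
  have h1 := sum_mul_div_eq_of_constituent (K.subgroupOf (Subgroup.centralizer (R : Set Y))) hN a
    hainv ξ.2 ψ hc
  unfold Cfsg.brauerOmega
  rw [finsum_eq_sum_of_fintype, ← Finset.sum_div]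
  rw [Finset.sum_congr rfl (fun x _ => by rw [hext x])]
  rw [sum_extendByZero_mul, h1, ha]

/-- the idempotent coefficients of a single character transported to a subgroup -/
theorem blockCoeff_singleton_irrSub (K T : Subgroup Y) [Fintype K] [Fintype T] (hKT : K ≤ T)
    (θ : Cfsg.IrrCharacter K) (k : K.subgroupOf T) :
    Cfsg.blockCoeff ({irrSub K T hKT θ} : Set (Cfsg.IrrCharacter (K.subgroupOf T))) k
      = Cfsg.blockCoeff ({θ} : Set (Cfsg.IrrCharacter K)) (Subgroup.subgroupOfEquivOfLe hKT k) := by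
  unfold Cfsg.blockCoeff
  rw [finsum_mem_singleton, finsum_mem_singleton, irrSub_apply, irrSub_apply,
    Nat.card_congr (Subgroup.subgroupOfEquivOfLe hKT).toEquiv, map_one]

/-- a singleton of an invariant character is a stable set -/
theorem gStable_singleton (K : Subgroup Y) [Fintype K] (hK : K.Normal) (θ : Cfsg.IrrCharacter K)
    (hinv : ∀ (g : Y) (n : K), (θ : K → ℂ) ⟨g * n * g⁻¹, hK.conj_mem n n.2 g⟩ = (θ : K → ℂ) n) :
    GStable K hK ({θ} : Set (Cfsg.IrrCharacter K)) := by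
  intro ψ hψ g
  rw [Set.mem_singleton_iff] at hψ ⊢
  rw [hψ]
  apply Subtype.ext
  rw [irrConj_coe]
  funext n
  rw [conjFun_apply]
  exact hinv g n

/-- decomposition of elements of the centralizer of `R` in `K R` -/
theorem exists_mul_of_mem_centralizer {p : ℕ} [Fact p.Prime] (K : Subgroup Y) (hK : K.Normal)
    (hKp : ¬ p ∣ Nat.card K) (R : Subgroup Y) (hR : IsPGroup p R) (hKR : K ⊔ R = ⊤) (g : Y)
    (hg : g ∈ Subgroup.centralizer (R : Set Y)) :
    ∃ k ∈ K, k ∈ Subgroup.centralizer (R : Set Y) ∧ ∃ r ∈ R, g = k * r := by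
  obtain ⟨k, hk, r, hr, hgkr⟩ := exists_mul_of_sup_eq_top K hK R hKR g
  refine ⟨k, hk, ?_, r, hr, hgkr⟩
  rw [Subgroup.mem_centralizer_iff]
  intro s hs
  have hgs := Subgroup.mem_centralizer_iff.mp hg s hs
  -- `s' = r s r⁻¹`
  have hs' : r * s * r⁻¹ ∈ R := R.mul_mem (R.mul_mem hr hs) (R.inv_mem hr)
  have h1 : k * (r * s * r⁻¹) * k⁻¹ = s := by
    have : k * (r * s * r⁻¹) * k⁻¹ = (k * r) * s * (k * r)⁻¹ := by group
    rw [this, ← hgkr]
    have : g * s * g⁻¹ = (g * s) * g⁻¹ := rfl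
    rw [← hgs]
    group
  -- the commutator lies in `K ∩ R`
  have hcR : k * (r * s * r⁻¹) * k⁻¹ * (r * s * r⁻¹)⁻¹ ∈ R := by
    rw [h1]
    exact R.mul_mem hs (R.inv_mem hs')
  have hcK : k * (r * s * r⁻¹) * k⁻¹ * (r * s * r⁻¹)⁻¹ ∈ K := by
    have h2 : (r * s * r⁻¹) * k⁻¹ * (r * s * r⁻¹)⁻¹ ∈ K :=
      hK.conj_mem k⁻¹ (K.inv_mem hk) (r * s * r⁻¹)
    have h3 : k * (r * s * r⁻¹) * k⁻¹ * (r * s * r⁻¹)⁻¹
        = k * ((r * s * r⁻¹) * k⁻¹ * (r * s * r⁻¹)⁻¹) := by group
    rw [h3]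
    exact K.mul_mem hk h2
  obtain ⟨j, hj⟩ := exists_pow_eq_one_of_mem R hR hcR
  have h4 := eq_one_of_mem_of_pow_eq_one K hKp hcK hj
  rw [h1] at h4
  -- so `s = r s r⁻¹` and `k s k⁻¹ = s`
  have h5 : r * s * r⁻¹ = s := by
    have : r * s * r⁻¹ = (s * (r * s * r⁻¹)⁻¹)⁻¹ * s := by group
    rw [this, h4, inv_one, one_mul]
  rw [h5] at h1
  have : s * k = (k * s * k⁻¹) * k := by rw [h1]
  rw [this]
  group

end bo

end Cfsg.Agent.Lib.Helper6.PT
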