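import Mathlib
import Cfsg.Prelude.Def_Blocks
import Cfsg.Prelude.Def_BrauerPairs
import Cfsg.Agent.Lib.Helper6.PT4
import Cfsg.Agent.Lib.Helper6.BrConj

set_option autoImplicit false
set_option linter.unusedSectionVars false
open Cfsg

namespace Cfsg.Agent.Lib.Helper6.PT

open Cfsg.Agent.Lib.Helper6
open scoped ComplexConjugate Pointwise

section transport

variable {G : Type*} [Group G] [Fintype G] [DecidableEq G]
variable {p : ℕ} [Fact p.Prime] {M : Ideal Cfsg.AlgInt}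

/-- the centralizer of `R` inside the subgroup `Γ` -/
abbrev cenIn (R Γ : Subgroup G) : Subgroup Γ :=
  Subgroup.centralizer ((R.subgroupOf Γ : Subgroup Γ) : Set Γ)

/-- `K ∩ C_Γ(R)` inside `C_Γ(R)` -/
abbrev kerIn (K R Γ : Subgroup G) : Subgroup (cenIn R Γ) :=
  (K.subgroupOf Γ).subgroupOf (cenIn R Γ)

/-- `K ∩ C_G(R)` inside `C_G(R)` -/
abbrev kerG (K R : Subgroup G) : Subgroup (Subgroup.centralizer (R : Set G)) :=
  K.subgroupOf (Subgroup.centralizer (R : Set G))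

/-- `C_K(R)` computed inside `Γ ≥ K R` agrees with `C_K(R)` computed in `G` -/
noncomputable def nEquiv (K R Γ : Subgroup G) (hKΓ : K ≤ Γ) (hRΓ : R ≤ Γ) :
    ↥(kerIn K R Γ) ≃* ↥(kerG K R) where
  toFun n' := ⟨⟨(((n' : cenIn R Γ) : Γ) : G), by
      rw [Subgroup.mem_centralizer_iff]
      intro r hr
      have h1 := (n' : cenIn R Γ).2
      rw [Subgroup.mem_centralizer_iff] at h1
      have h2 := h1 ⟨r, hRΓ hr⟩ (Subgroup.mem_subgroupOf.mpr hr)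
      exact congrArg Subtype.val h2⟩,
    Subgroup.mem_subgroupOf.mpr
      (Subgroup.mem_subgroupOf.mp (Subgroup.mem_subgroupOf.mp n'.2))⟩
  invFun n := ⟨⟨⟨((n : Subgroup.centralizer (R : Set G)) : G),
      hKΓ (Subgroup.mem_subgroupOf.mp n.2)⟩, by
      rw [Subgroup.mem_centralizer_iff]
      rintro ⟨r, hrΓ⟩ hr
      have hr' : r ∈ R := Subgroup.mem_subgroupOf.mp hr
      have h1 := (n : Subgroup.centralizer (R : Set G)).2
      rw [Subgroup.mem_centralizer_iff] at h1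
      exact Subtype.ext (h1 r hr')⟩,
    Subgroup.mem_subgroupOf.mpr (Subgroup.mem_subgroupOf.mpr (Subgroup.mem_subgroupOf.mp n.2))⟩
  left_inv n' := by
    apply Subtype.ext
    apply Subtype.ext
    apply Subtype.ext
    rfl
  right_inv n := by
    apply Subtype.ext
    apply Subtype.ext
    rfl
  map_mul' a b := by
    apply Subtype.ext
    apply Subtype.ext
    rfl

theorem nEquiv_apply_coe (K R Γ : Subgroup G) (hKΓ : K ≤ Γ) (hRΓ : R ≤ Γ) (n' : kerIn K R Γ) :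
    (((nEquiv K R Γ hKΓ hRΓ n' : kerG K R) : Subgroup.centralizer (R : Set G)) : G)
      = (((n' : cenIn R Γ) : Γ) : G) := rfl

/-- at most one irreducible character of `C_K(R)` passes the Brauer-map test of an invariant
irreducible character of the normal `p'`-subgroup `K` -/
theorem unique_of_omega (hM : Cfsg.IsPModular p M) (K : Subgroup G) [Fintype K] (hK : K.Normal)
    (hKp : ¬ p ∣ Nat.card K) (R : Subgroup G) (hR : IsPGroup p R)
    [Fintype (Subgroup.centralizer (R : Set G))] [Fintype (kerG K R)]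
    (θ : Cfsg.IrrCharacter K)
    (hinv : ∀ (g : G) (n : K), (θ : K → ℂ) ⟨g * n * g⁻¹, hK.conj_mem n n.2 g⟩ = (θ : K → ℂ) n)
    (ψ₁ ψ₂ : Cfsg.IrrCharacter (kerG K R))
    (h₁ : Cfsg.MemLocalIdeal M ((∑ n : kerG K R,
      Cfsg.blockCoeff ({θ} : Set (Cfsg.IrrCharacter K))
        ⟨((n : Subgroup.centralizer (R : Set G)) : G), Subgroup.mem_subgroupOf.mp n.2⟩
        * (ψ₁ : kerG K R → ℂ) n) / (ψ₁ : kerG K R → ℂ) 1 - 1))
    (h₂ : Cfsg.MemLocalIdeal M ((∑ n : kerG K R,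
      Cfsg.blockCoeff ({θ} : Set (Cfsg.IrrCharacter K))
        ⟨((n : Subgroup.centralizer (R : Set G)) : G), Subgroup.mem_subgroupOf.mp n.2⟩
        * (ψ₂ : kerG K R → ℂ) n) / (ψ₂ : kerG K R → ℂ) 1 - 1)) :
    ψ₁ = ψ₂ := by
  classical
  obtain ⟨Γ, hΓ⟩ : ∃ Γ : Subgroup G, Γ = K ⊔ R := ⟨_, rfl⟩
  have hKΓ : K ≤ Γ := by rw [hΓ]; exact le_sup_left
  have hRΓ : R ≤ Γ := by rw [hΓ]; exact le_sup_right
  haveI : Fintype Γ := Fintype.ofFinite _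
  haveI : Fintype (K.subgroupOf Γ) := Fintype.ofFinite _
  have hKX : (K.subgroupOf Γ).Normal := hK.subgroupOf Γ
  have hcardKX : Nat.card (K.subgroupOf Γ) = Nat.card K :=
    Nat.card_congr (Subgroup.subgroupOfEquivOfLe hKΓ).toEquiv
  have hKXp : ¬ p ∣ Nat.card (K.subgroupOf Γ) := by rw [hcardKX]; exact hKp
  have hRX : IsPGroup p (R.subgroupOf Γ) := hR.comap_subtype
  have hsup : K.subgroupOf Γ ⊔ R.subgroupOf Γ = ⊤ := by
    rw [← Subgroup.subgroupOf_sup hKΓ hRΓ, ← hΓ, Subgroup.subgroupOf_self]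
  haveI : Fintype (cenIn R Γ) := Fintype.ofFinite _
  haveI : Fintype (kerIn K R Γ) := Fintype.ofFinite _
  have hinvX : ∀ (g : Γ) (n : K.subgroupOf Γ),
      ((irrSub K Γ hKΓ θ : Cfsg.IrrCharacter (K.subgroupOf Γ)) : K.subgroupOf Γ → ℂ)
        ⟨g * n * g⁻¹, hKX.conj_mem n n.2 g⟩
      = ((irrSub K Γ hKΓ θ : Cfsg.IrrCharacter (K.subgroupOf Γ)) : K.subgroupOf Γ → ℂ) n := by
    intro g n
    rw [irrSub_apply, irrSub_apply]
    exact hinv (g : G) (Subgroup.subgroupOfEquivOfLe hKΓ n)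
  have hbX : ∀ (g : Γ) (k : K.subgroupOf Γ),
      Cfsg.blockCoeff ({irrSub K Γ hKΓ θ} : Set (Cfsg.IrrCharacter (K.subgroupOf Γ)))
        ⟨g * k * g⁻¹, hKX.conj_mem k k.2 g⟩
      = Cfsg.blockCoeff ({irrSub K Γ hKΓ θ} : Set (Cfsg.IrrCharacter (K.subgroupOf Γ))) k :=
    fun g k => blockCoeff_conj_of_gStable (K.subgroupOf Γ) hKX
      (gStable_singleton (K.subgroupOf Γ) hKX _ hinvX) g k
  -- comparison of the two tests
  have key : ∀ ψ : Cfsg.IrrCharacter (kerG K R),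
      (∑ n' : kerIn K R Γ,
        Cfsg.blockCoeff ({irrSub K Γ hKΓ θ} : Set (Cfsg.IrrCharacter (K.subgroupOf Γ)))
          ⟨((n' : cenIn R Γ) : Γ), Subgroup.mem_subgroupOf.mp n'.2⟩
          * (mapIrr (nEquiv K R Γ hKΓ hRΓ).symm ψ : kerIn K R Γ → ℂ) n')
        / (mapIrr (nEquiv K R Γ hKΓ hRΓ).symm ψ : kerIn K R Γ → ℂ) 1
      = (∑ n : kerG K R,
        Cfsg.blockCoeff ({θ} : Set (Cfsg.IrrCharacter K))
          ⟨((n : Subgroup.centralizer (R : Set G)) : G), Subgroup.mem_subgroupOf.mp n.2⟩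
          * (ψ : kerG K R → ℂ) n) / (ψ : kerG K R → ℂ) 1 := by
    intro ψ
    rw [mapIrr_apply_one]
    congr 1
    rw [← Equiv.sum_comp (nEquiv K R Γ hKΓ hRΓ).toEquiv]
    apply Finset.sum_congr rfl
    intro n' _
    rw [blockCoeff_singleton_irrSub, mapIrr_apply]
    rfl
  obtain ⟨ξ₁, hξ₁⟩ := exists_irr_over (kerIn K R Γ) (mapIrr (nEquiv K R Γ hKΓ hRΓ).symm ψ₁)
  obtain ⟨ξ₂, hξ₂⟩ := exists_irr_over (kerIn K R Γ) (mapIrr (nEquiv K R Γ hKΓ hRΓ).symm ψ₂)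
  have e₁ := brauerOmega_extendByZero_eq (K.subgroupOf Γ) hKX (R.subgroupOf Γ)
    (Cfsg.blockCoeff ({irrSub K Γ hKΓ θ} : Set (Cfsg.IrrCharacter (K.subgroupOf Γ)))) hbX ξ₁
    (mapIrr (nEquiv K R Γ hKΓ hRΓ).symm ψ₁) hξ₁
  have e₂ := brauerOmega_extendByZero_eq (K.subgroupOf Γ) hKX (R.subgroupOf Γ)
    (Cfsg.blockCoeff ({irrSub K Γ hKΓ θ} : Set (Cfsg.IrrCharacter (K.subgroupOf Γ)))) hbX ξ₂
    (mapIrr (nEquiv K R Γ hKΓ hRΓ).symm ψ₂) hξ₂
  rw [key ψ₁] at e₁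
  rw [key ψ₂] at e₂
  rw [← e₁] at h₁
  rw [← e₂] at h₂
  have hsb := sameBlock_of_pNilpotent hM (K.subgroupOf Γ) hKX hKXp (R.subgroupOf Γ) hRX hsup
    (irrSub K Γ hKΓ θ) hinvX ξ₁ ξ₂ h₁ h₂
  have hNX : (kerIn K R Γ).Normal := hKX.subgroupOf _
  have hNXp : ¬ p ∣ Nat.card (kerIn K R Γ) := fun h =>
    hKXp (dvd_trans h (card_subgroupOf_dvd_card _ _))
  have hc := constituent_of_sameBlock_of_coprime (kerIn K R Γ) hNX hM hNXp ξ₁ ξ₂ hsb
    (mapIrr (nEquiv K R Γ hKΓ hRΓ).symm ψ₁) hξ₁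
  obtain ⟨g, hg⟩ := exists_conjFun_eq_of_constituents (kerIn K R Γ) hNX ξ₂.2
    (mapIrr (nEquiv K R Γ hKΓ hRΓ).symm ψ₁).2 (mapIrr (nEquiv K R Γ hKΓ hRΓ).symm ψ₂).2 hc hξ₂
  have htriv : conjFun (kerIn K R Γ) hNX
      (mapIrr (nEquiv K R Γ hKΓ hRΓ).symm ψ₁ : kerIn K R Γ → ℂ) g
      = (mapIrr (nEquiv K R Γ hKΓ hRΓ).symm ψ₁ : kerIn K R Γ → ℂ) := by
    obtain ⟨k, hk, hkC, r, hr, hgkr⟩ := exists_mul_of_mem_centralizer (K.subgroupOf Γ) hKX hKXp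
      (R.subgroupOf Γ) hRX hsup (g : Γ) g.2
    funext n'
    rw [conjFun_apply]
    have hcl := IsCharacter.isClassFunction
      (IsIrrCharacter.isCharacter (mapIrr (nEquiv K R Γ hKΓ hRΓ).symm ψ₁).2)
    have e : (⟨g * n' * g⁻¹, hNX.conj_mem n' n'.2 g⟩ : kerIn K R Γ)
        = (⟨⟨k, hkC⟩, Subgroup.mem_subgroupOf.mpr hk⟩ : kerIn K R Γ) * n'
          * (⟨⟨k, hkC⟩, Subgroup.mem_subgroupOf.mpr hk⟩ : kerIn K R Γ)⁻¹ := by
      apply Subtype.ext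
      apply Subtype.ext
      show (g : Γ) * ((n' : cenIn R Γ) : Γ) * (g : Γ)⁻¹ = k * ((n' : cenIn R Γ) : Γ) * k⁻¹
      rw [hgkr]
      have h3 := Subgroup.mem_centralizer_iff.mp (n' : cenIn R Γ).2 r hr
      calc (k * r) * ((n' : cenIn R Γ) : Γ) * (k * r)⁻¹
          = k * ((r * ((n' : cenIn R Γ) : Γ)) * r⁻¹) * k⁻¹ := by group
        _ = k * ((((n' : cenIn R Γ) : Γ) * r) * r⁻¹) * k⁻¹ := by rw [h3]
        _ = k * ((n' : cenIn R Γ) : Γ) * k⁻¹ := by group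
    rw [e]
    exact hcl n' _
  have h5 : mapIrr (nEquiv K R Γ hKΓ hRΓ).symm ψ₂ = mapIrr (nEquiv K R Γ hKΓ hRΓ).symm ψ₁ :=
    Subtype.ext (hg.trans htriv)
  exact ((mapIrr (nEquiv K R Γ hKΓ hRΓ).symm).injective h5).symm

end transport

end Cfsg.Agent.Lib.Helper6.PT
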