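import Mathlib
import Cfsg.Prelude.Def_Blocks
import Cfsg.Prelude.Def_BrauerPairs
import Cfsg.Prelude.Def_Local
import Cfsg.Agent.Lib.Helper6.PT1
import Cfsg.Agent.Lib.Helper6.PT5
import Cfsg.Agent.Lib.Helper6.BrSat1
import Cfsg.Agent.Lib.Helper6.BrFull
import Cfsg.Agent.Lib.Helper6.BrPair3

set_option autoImplicit false
set_option linter.unusedSectionVars false
open Cfsg

namespace Cfsg.Agent.Lib.Helper6.PT

open Cfsg.Agent.Lib.Helper6
open scoped ComplexConjugate Pointwise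

section principalType

variable {G : Type*} [Group G] [Fintype G] [DecidableEq G]
variable {p : ℕ} [Fact p.Prime] {M : Ideal Cfsg.AlgInt}

/-- In a `p`-constrained group the block of the characters over an invariant irreducible character
of `O_{p'}(G)` is of principal type: for every `p`-subgroup `R` exactly one block of `C_G(R)`
induces it. -/
theorem principal_type (hM : Cfsg.IsPModular p M) (K : Subgroup G) [Fintype K] (hK : K.Normal)
    (hKdef : K = pPrimeCore p G) (hG : IsPConstrained p G) (θ : Cfsg.IrrCharacter K)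
    (hinv : ∀ (g : G) (n : K), (θ : K → ℂ) ⟨g * n * g⁻¹, hK.conj_mem n n.2 g⟩ = (θ : K → ℂ) n)
    (B : Set (Cfsg.IrrCharacter G)) (hB : Cfsg.IsPBlock M B)
    (hBmem : ∀ χ : Cfsg.IrrCharacter G, χ ∈ B ↔
      Cfsg.classInner (fun n : K => (χ : G → ℂ) n) (θ : K → ℂ) ≠ 0)
    (hBsyl : ∀ P : Sylow p G, Cfsg.IsDefectGroup p M B (P : Subgroup G))
    (R : Subgroup G) (hR : IsPGroup p R) :
    ∃! f : Set (Cfsg.IrrCharacter (Subgroup.centralizer (R : Set G))),
      Cfsg.IsInducedBlock M (Subgroup.centralizer (R : Set G)) f B := by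
  classical
  haveI : Fintype (Subgroup.centralizer (R : Set G)) := Fintype.ofFinite _
  haveI : Fintype (kerG K R) := Fintype.ofFinite _
  have hpp : p.Prime := Fact.out
  have hKp : ¬ p ∣ Nat.card K := by
    rw [hKdef]
    exact (Nat.Prime.coprime_iff_not_dvd hpp).mp
      (Cfsg.Agent.Lib.Helper1.pPrimeCore_card_coprime (G := G) p).symm
  -- existence
  obtain ⟨S, hRS⟩ := IsPGroup.exists_le_sylow hR
  haveI : Fintype (Subgroup.centralizer (((S : Subgroup G)) : Set G)) := Fintype.ofFinite _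
  obtain ⟨e, he⟩ := exists_isBrauerPairOf_of_isDefectGroup (S : Subgroup G) hM S.isPGroup' hB
    (hBsyl S)
  obtain ⟨f₀, hf₀, hle⟩ := exists_subpair hM he.1 hRS
  have hf₀B : Cfsg.IsBrauerPairOf p M B R f₀ :=
    (isBrauerPairOf_iff_of_chain hM B hB ⟨R, f₀⟩ ⟨(S : Subgroup G), e⟩ hle).mp he
  refine ⟨f₀, (isBrauerPairOf_iff_isInducedBlock hM R hR f₀ B).mp hf₀B, ?_⟩
  intro f hf
  have hfB := (isBrauerPairOf_iff_isInducedBlock hM R hR f B).mpr hf
  -- the idempotent coefficients of `B`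
  have hA : GStable K hK ({θ} : Set (Cfsg.IrrCharacter K)) := gStable_singleton K hK θ hinv
  have hBover : B = overSet K ({θ} : Set (Cfsg.IrrCharacter K)) := by
    ext χ
    rw [hBmem χ]
    constructor
    · intro h
      exact ⟨θ, rfl, h⟩
    · rintro ⟨θ', hθ', h⟩
      rw [Set.mem_singleton_iff] at hθ'
      rw [hθ'] at h
      exact h
  have hcoeff : Cfsg.blockCoeff B
      = Cfsg.extendByZero K (Cfsg.blockCoeff ({θ} : Set (Cfsg.IrrCharacter K))) := by
    funext g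
    rw [hBover]
    exact blockCoeff_overSet_eq K hK hA g
  have hb : ∀ (g : G) (k : K),
      Cfsg.blockCoeff ({θ} : Set (Cfsg.IrrCharacter K)) ⟨g * k * g⁻¹, hK.conj_mem k k.2 g⟩
        = Cfsg.blockCoeff ({θ} : Set (Cfsg.IrrCharacter K)) k :=
    fun g k => blockCoeff_conj_of_gStable K hK hA g k
  have hN : (kerG K R).Normal := hK.subgroupOf _
  have hNp : ¬ p ∣ Nat.card (kerG K R) := fun h =>
    hKp (dvd_trans h (card_subgroupOf_dvd_card _ _))
  -- the test satisfied by the constituents of the members of a Brauer pair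
  have htest : ∀ f' : Set (Cfsg.IrrCharacter (Subgroup.centralizer (R : Set G))),
      Cfsg.IsBrauerPairOf p M B R f' → ∀ ξ ∈ f', ∀ ψ : Cfsg.IrrCharacter (kerG K R),
      Cfsg.classInner (fun n : kerG K R => (ξ : Subgroup.centralizer (R : Set G) → ℂ) n)
        (ψ : kerG K R → ℂ) ≠ 0 →
      Cfsg.MemLocalIdeal M ((∑ n : kerG K R,
        Cfsg.blockCoeff ({θ} : Set (Cfsg.IrrCharacter K))
          ⟨((n : Subgroup.centralizer (R : Set G)) : G), Subgroup.mem_subgroupOf.mp n.2⟩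
          * (ψ : kerG K R → ℂ) n) / (ψ : kerG K R → ℂ) 1 - 1) := by
    intro f' hf' ξ hξ ψ hc
    have h1 := hf'.2.2 ξ hξ
    rw [hcoeff, brauerOmega_extendByZero_eq K hK R _ hb ξ ψ hc] at h1
    exact h1
  obtain ⟨ξ₀, hξ₀⟩ := isPBlock_nonempty hM hf₀
  obtain ⟨ψ₀, hψ₀⟩ := exists_constituent_restrict (kerG K R) ξ₀.2
  have hΩ₀ := htest f₀ hf₀B ξ₀ hξ₀ ψ₀ hψ₀
  -- invariance of the distinguished character
  have hψinv : ∀ (g : Subgroup.centralizer (R : Set G)) (n : kerG K R),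
      (ψ₀ : kerG K R → ℂ) ⟨g * n * g⁻¹, hN.conj_mem n n.2 g⟩ = (ψ₀ : kerG K R → ℂ) n := by
    intro g n
    have hc' : Cfsg.classInner
        (fun n : kerG K R => (ξ₀ : Subgroup.centralizer (R : Set G) → ℂ) n)
        ((irrConj (kerG K R) hN g ψ₀ : Cfsg.IrrCharacter (kerG K R)) : kerG K R → ℂ) ≠ 0 := by
      rw [irrConj_coe, classInner_restrict_conjFun (kerG K R) hN
        (IsIrrCharacter.isClassFunction ξ₀.2)]
      exact hψ₀
    have h2 := unique_of_omega hM K hK hKp R hR θ hinv ψ₀ (irrConj (kerG K R) hN g ψ₀) hΩ₀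
      (htest f₀ hf₀B ξ₀ hξ₀ _ hc')
    have h3 : (ψ₀ : kerG K R → ℂ) n
        = ((irrConj (kerG K R) hN g ψ₀ : Cfsg.IrrCharacter (kerG K R)) : kerG K R → ℂ) n := by
      rw [← h2]
    rw [irrConj_coe, conjFun_apply] at h3
    exact h3.symm
  -- Fong's theorem in the centralizer
  have hGC : IsPConstrained p ↥(Subgroup.centralizer (R : Set G)) :=
    (Cfsg.Agent.Lib.Helper1.isPConstrained_local hG R hR).2
  have hNeq : kerG K R = pPrimeCore p ↥(Subgroup.centralizer (R : Set G)) := by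
    rw [pPrimeCore_centralizer_eq hG R hR, hKdef]
  haveI : Fintype ↥(pPrimePCore p ↥(Subgroup.centralizer (R : Set G))) := Fintype.ofFinite _
  have hM₁ : (pPrimePCore p ↥(Subgroup.centralizer (R : Set G))).Normal :=
    Cfsg.Agent.Lib.Helper7.pPrimePCore_normal_inst p
  have hNM : kerG K R ≤ pPrimePCore p ↥(Subgroup.centralizer (R : Set G)) := by
    rw [hNeq]
    exact Cfsg.Agent.Lib.Helper7.pPrimeCore_le_pPrimePCore p
  have hidx : ∃ k : ℕ, ((kerG K R).subgroupOf
      (pPrimePCore p ↥(Subgroup.centralizer (R : Set G)))).index = p ^ k := by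
    rw [hNeq, Subgroup.index_eq_card]
    exact IsPGroup.iff_card.1 (Cfsg.Agent.Lib.Helper7.isPGroup_pPrimePCore_quotient p)
  obtain ⟨BC, hBC, hBCmem, -, -⟩ := fong_aux hM (kerG K R) hN hNp ψ₀ hψinv
    (pPrimePCore p ↥(Subgroup.centralizer (R : Set G))) hM₁ hNM hidx hGC
  have hf₀eq : f₀ = BC := isPBlock_eq_of_mem hM hf₀ hBC hξ₀ ((hBCmem ξ₀).mpr hψ₀)
  -- the other block
  obtain ⟨ξ, hξ⟩ := isPBlock_nonempty hM hfB.1.2
  obtain ⟨ψ, hψ⟩ := exists_constituent_restrict (kerG K R) ξ.2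
  have hψeq := unique_of_omega hM K hK hKp R hR θ hinv ψ₀ ψ hΩ₀ (htest f hfB ξ hξ ψ hψ)
  rw [← hψeq] at hψ
  rw [hf₀eq]
  exact isPBlock_eq_of_mem hM hfB.1.2 hBC hξ ((hBCmem ξ).mpr hψ)

end principalType

end Cfsg.Agent.Lib.Helper6.PT
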