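import Mathlib
import Cfsg.Prelude.Def_Blocks
import Cfsg.Agent.Lib.Helper6.BlkLocal
import Cfsg.Agent.Lib.Helper6.BlkOrth3
import Cfsg.Agent.Lib.Helper6.BlkPrincipal
import Cfsg.Agent.Lib.Helper6.Auto

set_option autoImplicit false
set_option linter.unusedSectionVars false
open Cfsg

namespace Cfsg.Agent.Lib.Helper6

section parity

variable {p : ℕ} {M : Ideal Cfsg.AlgInt}

/-- a sum over a finite set with a fixed point free involution preserving the summand is twice
an element of the local ring -/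
theorem sum_eq_two_mul_of_involution (hM : Cfsg.IsPModular p M) {α : Type*} [DecidableEq α]
    (ι : α → α) (f : α → ℂ) :
    ∀ (n : ℕ) (S : Finset α), S.card = n → (∀ x ∈ S, ι x ∈ S) → (∀ x ∈ S, ι (ι x) = x) →
      (∀ x ∈ S, ι x ≠ x) → (∀ x ∈ S, f (ι x) = f x) → (∀ x ∈ S, Cfsg.MemLocalRing M (f x)) →
      ∃ z : ℂ, Cfsg.MemLocalRing M z ∧ ∑ x ∈ S, f x = 2 * z := by
  intro n
  induction n using Nat.strong_induction_on with
  | _ n ih =>
    intro S hS h1 h2 h3 h4 h5
    rcases S.eq_empty_or_nonempty with hemp | ⟨x, hx⟩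
    · refine ⟨0, memLocalRing_zero hM, ?_⟩
      rw [hemp, Finset.sum_empty, mul_zero]
    · have hιx : ι x ∈ S.erase x := Finset.mem_erase.mpr ⟨h3 x hx, h1 x hx⟩
      obtain ⟨S', hS'⟩ : ∃ S', S' = (S.erase x).erase (ι x) := ⟨_, rfl⟩
      have hsub : S' ⊆ S := by
        rw [hS']
        exact (Finset.erase_subset _ _).trans (Finset.erase_subset _ _)
      have hcard : S'.card < n := by
        rw [hS', Finset.card_erase_of_mem hιx, Finset.card_erase_of_mem hx, hS]
        have : 0 < S.card := Finset.card_pos.mpr ⟨x, hx⟩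
        omega
      have hmem : ∀ y, y ∈ S' ↔ y ∈ S ∧ y ≠ x ∧ y ≠ ι x := by
        intro y
        rw [hS', Finset.mem_erase, Finset.mem_erase]
        tauto
      obtain ⟨z, hz, hsum⟩ := ih S'.card hcard S' rfl
        (by
          intro y hy
          rw [hmem] at hy ⊢
          refine ⟨h1 y hy.1, ?_, ?_⟩
          · intro h
            apply hy.2.2
            rw [← h, h2 y hy.1]
          · intro h
            apply hy.2.1
            rw [← h2 y hy.1, h, h2 x hx])
        (fun y hy => h2 y (hsub hy)) (fun y hy => h3 y (hsub hy))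
        (fun y hy => h4 y (hsub hy)) (fun y hy => h5 y (hsub hy))
      refine ⟨f x + z, MemLocalRing.add hM (h5 x hx) hz, ?_⟩
      rw [← Finset.add_sum_erase S f hx, ← Finset.add_sum_erase (S.erase x) f hιx, ← hS', hsum,
        h4 x hx]
      ring

end parity

section principal

open scoped ComplexConjugate

variable {G : Type*} [Group G] [Fintype G] [DecidableEq G]
variable {M : Ideal Cfsg.AlgInt}

/-- an irreducible character of odd degree which takes the same value at every element of odd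
order and its inverse lies in the principal `2`-block -/
theorem mem_principalBlock_of_odd_of_inv_eq (hM : Cfsg.IsPModular 2 M) (χ : Cfsg.IrrCharacter G)
    (hodd : Odd (Cfsg.charDegree (χ : G → ℂ)))
    (hinv : ∀ x : G, ¬ 2 ∣ orderOf x → (χ : G → ℂ) x⁻¹ = (χ : G → ℂ) x) :
    χ ∈ Cfsg.principalBlock M G := by
  classical
  by_contra hcon
  have hcon' : ¬ Cfsg.SameBlock M ((oneIrr G : Cfsg.IrrCharacter G) : G → ℂ) (χ : G → ℂ) := hcon
  have h1 := sum_pRegular_eq_zero_of_not_sameBlock hM (oneIrr G) χ hcon'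
  have hχc := IsIrrCharacter.isCharacter χ.2
  rw [finsum_mem_eq_finite_toFinset_sum _ (Set.toFinite _)] at h1
  obtain ⟨S, hS⟩ : ∃ S : Finset G, S = (Set.toFinite {x : G | ¬ 2 ∣ orderOf x}).toFinset :=
    ⟨_, rfl⟩
  rw [← hS] at h1
  have hSmem : ∀ x, x ∈ S ↔ ¬ 2 ∣ orderOf x := by
    intro x
    rw [hS, Set.Finite.mem_toFinset, Set.mem_ofPred_eq]
  have h1S : (1 : G) ∈ S := by
    rw [hSmem, orderOf_one]
    norm_num
  have h2 : ∑ x ∈ S, (χ : G → ℂ) x = 0 := by
    rw [← h1]
    apply Finset.sum_congr rfl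
    intro x hx
    have : ((oneIrr G : Cfsg.IrrCharacter G) : G → ℂ) x = 1 := rfl
    rw [this, one_mul, ← IsCharacter.apply_inv hχc, hinv x ((hSmem x).mp hx)]
  rw [← Finset.add_sum_erase S _ h1S] at h2
  obtain ⟨z, hz, hsum⟩ := sum_eq_two_mul_of_involution hM (fun x : G => x⁻¹) (χ : G → ℂ)
    (S.erase 1).card (S.erase 1) rfl
    (by
      intro x hx
      rw [Finset.mem_erase] at hx ⊢
      refine ⟨inv_ne_one.mpr hx.1, ?_⟩
      rw [hSmem, orderOf_inv]
      exact (hSmem x).mp hx.2)
    (fun x _ => inv_inv x)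
    (by
      intro x hx hxx
      rw [Finset.mem_erase] at hx
      have hx2 : x ^ 2 = 1 := by
        rw [sq]
        nth_rewrite 1 [← hxx]
        exact inv_mul_cancel x
      have h3 : orderOf x ∣ 2 := orderOf_dvd_of_pow_eq_one hx2
      rcases (Nat.dvd_prime Nat.prime_two).mp h3 with h4 | h4
      · exact hx.1 (orderOf_eq_one_iff.mp h4)
      · apply (hSmem x).mp hx.2
        rw [h4])
    (by
      intro x hx
      rw [Finset.mem_erase] at hx
      exact hinv x ((hSmem x).mp hx.2))
    (fun x _ => memLocalRing_of_isIntegral hM (IsCharacter.isIntegral_apply hχc x))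
  rw [hsum, IsCharacter.apply_one_eq_charDegree hχc] at h2
  have h3 : Cfsg.MemLocalIdeal M ((Cfsg.charDegree (χ : G → ℂ) : ℕ) : ℂ) := by
    have : ((Cfsg.charDegree (χ : G → ℂ) : ℕ) : ℂ) = ((2 : ℕ) : ℂ) * (-z) := by
      have := eq_neg_of_add_eq_zero_left h2
      rw [this]
      push_cast
      ring
    rw [this]
    exact MemLocalIdeal.mul_right hM (memLocalIdeal_prime hM) (MemLocalRing.neg hz)
  rw [memLocalIdeal_natCast_iff hM] at h3
  exact (Nat.not_even_iff_odd.mpr hodd) (even_iff_two_dvd.mpr h3)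

end principal

end Cfsg.Agent.Lib.Helper6
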