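import Mathlib
import Cfsg.Prelude.Def_Blocks
import Cfsg.Agent.Lib.Helper6.BlkAlg
import Cfsg.Agent.Lib.Helper6.BlkIdem
import Cfsg.Agent.Lib.Helper6.BlkCenter
import Cfsg.Agent.Lib.Helper6.BlkNormalP
import Cfsg.Agent.Lib.Helper6.BlkKer
import Cfsg.Agent.Lib.Helper6.BlkNil

set_option autoImplicit false
set_option linter.unusedSectionVars false
open Cfsg

namespace Cfsg.Agent.Lib.Helper6

open scoped ComplexConjugate

section kermat

variable {X : Type*} [Group X] [Fintype X] [DecidableEq X]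
variable {p : ℕ} {M : Ideal Cfsg.AlgInt}

/-- the coefficient function of the idempotent `(1/|K|) Σ_{k ∈ K} k` -/
noncomputable def kerFun (K : Subgroup X) : X → ℂ := fun x => by
  classical exact if x ∈ K then (Nat.card K : ℂ)⁻¹ else 0

/-- the idempotent of a subgroup as a matrix -/
noncomputable def kerMat (K : Subgroup X) : Matrix X X ℂ := regMat (kerFun K)

theorem kerFun_of_mem (K : Subgroup X) {x : X} (hx : x ∈ K) : kerFun K x = (Nat.card K : ℂ)⁻¹ := by
  unfold kerFun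
  rw [if_pos hx]

theorem kerFun_of_not_mem (K : Subgroup X) {x : X} (hx : x ∉ K) : kerFun K x = 0 := by
  unfold kerFun
  rw [if_neg hx]

theorem kerFun_isClassFunction (K : Subgroup X) [hK : K.Normal] :
    Cfsg.IsClassFunction X (kerFun K) := by
  intro g h
  by_cases hg : g ∈ K
  · rw [kerFun_of_mem K hg, kerFun_of_mem K (hK.conj_mem g hg h)]
  · have : h * g * h⁻¹ ∉ K := by
      intro hc
      apply hg
      have := hK.conj_mem _ hc h⁻¹
      have e : h⁻¹ * (h * g * h⁻¹) * h⁻¹⁻¹ = g := by group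
      rwa [e] at this
    rw [kerFun_of_not_mem K hg, kerFun_of_not_mem K this]

theorem kerMat_mem_centerAlg (K : Subgroup X) [K.Normal] : kerMat K ∈ centerAlg X :=
  regMat_mem_centerAlg (kerFun_isClassFunction K)

theorem kerMat_apply_one (K : Subgroup X) (x : X) : kerMat K x 1 = kerFun K x := by
  unfold kerMat
  rw [regMat_apply, inv_one, mul_one]

theorem kerMat_mem_sMat (hM : Cfsg.IsPModular p M) (K : Subgroup X)
    (hK : ¬ p ∣ Nat.card K) : kerMat K ∈ sMat hM X := by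
  apply regMat_mem_sMat hM
  intro x
  by_cases hx : x ∈ K
  · rw [kerFun_of_mem K hx]
    exact memLocalRing_inv_natCast hM hK
  · rw [kerFun_of_not_mem K hx]
    exact memLocalRing_zero hM

theorem cOmega_kerMat (K : Subgroup X) [Fintype K] (θ : X → ℂ) :
    cOmega θ (kerMat K) = ((Nat.card K : ℂ)⁻¹ * ∑ k : K, θ k) / θ 1 := by
  classical
  unfold kerMat
  rw [cOmega_regMat]
  congr 1
  have h1 : ∑ g : X, kerFun K g * θ g
      = ∑ g ∈ Finset.univ.filter (fun g : X => g ∈ K), (Nat.card K : ℂ)⁻¹ * θ g := by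
    rw [Finset.sum_filter]
    apply Finset.sum_congr rfl
    intro g _
    by_cases hg : g ∈ K
    · rw [kerFun_of_mem K hg, if_pos hg]
    · rw [kerFun_of_not_mem K hg, if_neg hg, zero_mul]
  rw [h1, ← Finset.mul_sum]
  congr 1
  refine Finset.sum_bij' (fun g hg => (⟨g, (Finset.mem_filter.mp hg).2⟩ : K)) (fun k _ => (k : X))
    ?_ ?_ ?_ ?_ ?_
  · intro g hg; exact Finset.mem_univ _
  · intro k _; exact Finset.mem_filter.mpr ⟨Finset.mem_univ _, k.2⟩
  · intro g hg; rfl
  · intro k _; rfl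
  · intro g hg; rfl

/-- the value of an irreducible character on the idempotent of a normal subgroup in the kernel -/
theorem cOmega_kerMat_of_const (K : Subgroup X) [Fintype K] {θ : X → ℂ} (hθ : Cfsg.IsIrrCharacter X θ)
    (h : ∀ k ∈ K, θ k = θ 1) : cOmega θ (kerMat K) = 1 := by
  rw [cOmega_kerMat]
  have h1 : ∑ k : K, θ k = (Nat.card K : ℂ) * θ 1 := by
    rw [Finset.sum_congr rfl (fun (k : K) _ => h (k : X) k.2), Finset.sum_const, Finset.card_univ,
      ← Nat.card_eq_fintype_card, nsmul_eq_mul]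
  rw [h1]
  have hK0 : (Nat.card K : ℂ) ≠ 0 := by exact_mod_cast Nat.card_pos.ne'
  have hθ1 := IsIrrCharacter.apply_one_ne_zero hθ
  field_simp

/-- the value of an irreducible character on the idempotent of a normal subgroup not in the
kernel -/
theorem cOmega_kerMat_of_not_const (K : Subgroup X) [K.Normal] [Fintype K] {θ : X → ℂ}
    (hθ : Cfsg.IsIrrCharacter X θ) (h : ¬ ∀ k ∈ K, θ k = θ 1) : cOmega θ (kerMat K) = 0 := by
  rw [cOmega_kerMat]
  have h1 : ∑ k : K, θ k = 0 := by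
    by_contra hne
    apply h
    intro k hk
    exact IsIrrCharacter.const_on_normal_of_sum_ne_zero K hθ hne ⟨k, hk⟩
  rw [h1, mul_zero, zero_div]

theorem cOmega_kerMat_dichotomy (K : Subgroup X) [K.Normal] {θ : X → ℂ}
    (hθ : Cfsg.IsIrrCharacter X θ) :
    ((∀ k ∈ K, θ k = θ 1) ∧ cOmega θ (kerMat K) = 1) ∨
      ((¬ ∀ k ∈ K, θ k = θ 1) ∧ cOmega θ (kerMat K) = 0) := by
  haveI : Fintype K := Fintype.ofFinite _
  by_cases h : ∀ k ∈ K, θ k = θ 1
  · exact Or.inl ⟨h, cOmega_kerMat_of_const K hθ h⟩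
  · exact Or.inr ⟨h, cOmega_kerMat_of_not_const K hθ h⟩

/-- the idempotent of a normal subgroup is an idempotent -/
theorem kerMat_mul_self (K : Subgroup X) [K.Normal] : kerMat K * kerMat K = kerMat K := by
  have hc := kerMat_mem_centerAlg K
  apply eq_of_cOmega_eq ((centerAlg X).mul_mem hc hc) hc
  intro χ
  rw [cOmega_mul χ.2 hc hc.1]
  rcases cOmega_kerMat_dichotomy K χ.2 with ⟨_, h⟩ | ⟨_, h⟩
  · rw [h, mul_one]
  · rw [h, mul_zero]

theorem kerMat_idem_mMat (hM : Cfsg.IsPModular p M) (K : Subgroup X) [K.Normal] :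
    MMat M (kerMat K * kerMat K - kerMat K) := by
  rw [kerMat_mul_self, sub_self]
  intro s t
  exact memLocalIdeal_zero hM

/-- membership in the kernel through the idempotent -/
theorem const_iff_cOmega_kerMat (hM : Cfsg.IsPModular p M) (K : Subgroup X) [K.Normal]
    {θ : X → ℂ} (hθ : Cfsg.IsIrrCharacter X θ) :
    (∀ k ∈ K, θ k = θ 1) ↔ Cfsg.MemLocalIdeal M (cOmega θ (kerMat K) - 1) := by
  rcases cOmega_kerMat_dichotomy K hθ with ⟨h1, h2⟩ | ⟨h1, h2⟩
  · rw [h2, sub_self]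
    exact ⟨fun _ => memLocalIdeal_zero hM, fun _ => h1⟩
  · rw [h2, zero_sub]
    constructor
    · intro h; exact absurd h h1
    · intro h
      exfalso
      apply not_memLocalIdeal_one hM
      have := MemLocalIdeal.neg h
      rwa [neg_neg] at this

theorem not_const_iff_cOmega_kerMat (hM : Cfsg.IsPModular p M) (K : Subgroup X) [K.Normal]
    {θ : X → ℂ} (hθ : Cfsg.IsIrrCharacter X θ) :
    (¬ ∀ k ∈ K, θ k = θ 1) ↔ Cfsg.MemLocalIdeal M (cOmega θ (kerMat K)) := by
  rcases cOmega_kerMat_dichotomy K hθ with ⟨h1, h2⟩ | ⟨h1, h2⟩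
  · rw [h2]
    constructor
    · intro h; exact absurd h1 h
    · intro h; exact absurd h (not_memLocalIdeal_one hM)
  · rw [h2]
    exact ⟨fun _ => memLocalIdeal_zero hM, fun _ => h1⟩

/-- in a block, either all members have the normal `p'`-subgroup `K` in the kernel or none -/
theorem block_const_or_not (hM : Cfsg.IsPModular p M) (K : Subgroup X) [K.Normal]
    (hK : ¬ p ∣ Nat.card K) {A : Set (Cfsg.IrrCharacter X)} (hA : Cfsg.IsPBlock M A) :
    (∀ θ ∈ A, ∀ k ∈ K, (θ : X → ℂ) k = (θ : X → ℂ) 1) ∨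
      (∀ θ ∈ A, ¬ ∀ k ∈ K, (θ : X → ℂ) k = (θ : X → ℂ) 1) := by
  haveI : Fintype K := Fintype.ofFinite _
  obtain ⟨θ₀, rfl⟩ := hA
  by_cases h0 : ∀ k ∈ K, (θ₀ : X → ℂ) k = (θ₀ : X → ℂ) 1
  · left
    intro θ hθ
    exact const_on_normal_of_sameBlock_of_coprime K hM hK θ₀ θ hθ h0
  · right
    intro θ hθ hc
    apply h0
    exact const_on_normal_of_sameBlock_of_coprime K hM hK θ θ₀ (SameBlock.symm' hθ) hc

end kermat

end Cfsg.Agent.Lib.Helper6
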