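import Mathlib
import Cfsg.Prelude.Def_Blocks
import Cfsg.Prelude.Def_BrauerPairs
import Cfsg.Agent.Lib.Helper6.PiKer1
import Cfsg.Agent.Lib.Helper6.BlkInd
import Cfsg.Agent.Lib.Helper6.BrPair3

set_option autoImplicit false
set_option linter.unusedSectionVars false
open Cfsg

namespace Cfsg.Agent.Lib.Helper6

open scoped ComplexConjugate

section unitratio

variable {p : ℕ} {M : Ideal Cfsg.AlgInt}

/-- a ratio of natural numbers prime to `p` is not in the local ideal -/
theorem not_memLocalIdeal_ratio (hM : Cfsg.IsPModular p M) {a b : ℕ} (ha : ¬ p ∣ a)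
    (hb : b ≠ 0) : ¬ Cfsg.MemLocalIdeal M ((a : ℂ) / (b : ℂ)) := by
  intro h
  have h1 : Cfsg.MemLocalIdeal M ((a : ℂ) / (b : ℂ) * (b : ℂ)) :=
    MemLocalIdeal.mul_right hM h (memLocalRing_natCast hM b)
  have hb0 : (b : ℂ) ≠ 0 := by exact_mod_cast hb
  rw [div_mul_cancel₀ _ hb0] at h1
  exact ha ((memLocalIdeal_natCast_iff hM a).mp h1)

end unitratio

section transfer

variable {G : Type*} [Group G] [Fintype G] [DecidableEq G]
variable {p : ℕ} {M : Ideal Cfsg.AlgInt}
variable (H : Subgroup G) [Fintype H]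

/-- the restriction of the idempotent of `K` to the subgroup `H` -/
theorem resMat_kerMat (K : Subgroup G) :
    resMat H (kerMat K)
      = ((Nat.card (K.subgroupOf H) : ℂ) / (Nat.card K : ℂ)) • kerMat (K.subgroupOf H) := by
  unfold kerMat
  rw [resMat_regMat, ← regMat_smul]
  congr 1
  funext h
  rw [resFun_apply, Pi.smul_apply, smul_eq_mul]
  have hK0 : (Nat.card K : ℂ) ≠ 0 := by exact_mod_cast Nat.card_pos.ne'
  have hK'0 : (Nat.card (K.subgroupOf H) : ℂ) ≠ 0 := by exact_mod_cast Nat.card_pos.ne'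
  by_cases hh : (h : G) ∈ K
  · have hh' : h ∈ K.subgroupOf H := Subgroup.mem_subgroupOf.mpr hh
    rw [kerFun_of_mem K hh, kerFun_of_mem _ hh']
    field_simp
  · have hh' : h ∉ K.subgroupOf H := fun hc => hh (Subgroup.mem_subgroupOf.mp hc)
    rw [kerFun_of_not_mem K hh, kerFun_of_not_mem _ hh', mul_zero]

/-- a normal `p'`-subgroup lies in the kernel of an induced block iff its intersection with the
subgroup lies in the kernel of the inducing block -/
theorem IsInducedBlock.const_iff (hM : Cfsg.IsPModular p M) {b : Set (Cfsg.IrrCharacter H)}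
    {B : Set (Cfsg.IrrCharacter G)} (hind : Cfsg.IsInducedBlock M H b B)
    (K : Subgroup G) [hKn : K.Normal] (hK : ¬ p ∣ Nat.card K) :
    (∀ χ ∈ B, ∀ k ∈ K, (χ : G → ℂ) k = (χ : G → ℂ) 1) ↔
      (∀ ξ ∈ b, ∀ h ∈ K.subgroupOf H, (ξ : H → ℂ) h = (ξ : H → ℂ) 1) := by
  classical
  haveI : (K.subgroupOf H).Normal := hKn.subgroupOf H
  have hK' : ¬ p ∣ Nat.card (K.subgroupOf H) := by
    intro hd
    apply hK
    exact hd.trans (Subgroup.card_comap_dvd_of_injective K H.subtype H.subtype_injective)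
  have hK0 : Nat.card K ≠ 0 := Nat.card_pos.ne'
  have htc := kerMat_mem_centerAlg K
  have hts := kerMat_mem_sMat hM K hK
  obtain ⟨ξ₀, hξ₀⟩ := isPBlock_nonempty hM hind.1
  obtain ⟨χ₀, hχ₀⟩ := isPBlock_nonempty hM hind.2.1
  have key : ∀ ξ ∈ b, ∀ χ ∈ B, Cfsg.MemLocalIdeal M
      ((Nat.card (K.subgroupOf H) : ℂ) / (Nat.card K : ℂ)
        * cOmega (ξ : H → ℂ) (kerMat (K.subgroupOf H)) - cOmega (χ : G → ℂ) (kerMat K)) := by
    intro ξ hξ χ hχ
    have := IsInducedBlock.cOmega_sub H hM hind ξ hξ χ hχ htc hts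
    rw [resMat_kerMat, cOmega_smul] at this
    exact this
  constructor
  · intro h ξ hξ
    have h1 := key ξ hξ χ₀ hχ₀
    rw [cOmega_kerMat_of_const K χ₀.2 (h χ₀ hχ₀)] at h1
    rcases cOmega_kerMat_dichotomy (K.subgroupOf H) ξ.2 with ⟨h2, _⟩ | ⟨_, h2⟩
    · exact h2
    · exfalso
      rw [h2, mul_zero, zero_sub] at h1
      apply not_memLocalIdeal_one hM
      have := MemLocalIdeal.neg h1
      rwa [neg_neg] at this
  · intro h χ hχ
    have h1 := key ξ₀ hξ₀ χ hχ
    rw [cOmega_kerMat_of_const (K.subgroupOf H) ξ₀.2 (h ξ₀ hξ₀), mul_one] at h1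
    rcases cOmega_kerMat_dichotomy K χ.2 with ⟨h2, _⟩ | ⟨_, h2⟩
    · exact h2
    · exfalso
      rw [h2, sub_zero] at h1
      exact not_memLocalIdeal_ratio hM hK' hK0 h1

end transfer

section step

variable {G : Type*} [Group G] [Fintype G] [DecidableEq G]
variable {p : ℕ} {M : Ideal Cfsg.AlgInt}
variable (P C : Subgroup G) [Fintype C] [Fintype (Subgroup.centralizer (P : Set G))]
variable (hPC : P ≤ Subgroup.normalizer (C : Set G))

/-- the Brauer truncation of the idempotent of a subgroup `K` of `C` -/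
theorem trMat_kerMat (hCK : Subgroup.centralizer (P : Set G) ≤ C) (K : Subgroup C) :
    trMat P C (kerMat K)
      = ((Nat.card (K.comap (Subgroup.inclusion hCK)) : ℂ) / (Nat.card K : ℂ))
        • kerMat (K.comap (Subgroup.inclusion hCK)) := by
  rw [(trMat_rInv P C (kerMat K)).eq_regMat]
  unfold kerMat
  rw [← regMat_smul]
  congr 1
  funext c
  have h0 := trMat_apply_one P C hCK (regMat (kerFun K)) c
  have h1 : regMat (kerFun K) ⟨c, hCK c.2⟩ 1 = kerFun K ⟨c, hCK c.2⟩ := by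
    rw [regMat_apply, inv_one, mul_one]
  rw [h0, h1, Pi.smul_apply, smul_eq_mul]
  have hK0 : (Nat.card K : ℂ) ≠ 0 := by exact_mod_cast Nat.card_pos.ne'
  have hK'0 : (Nat.card (K.comap (Subgroup.inclusion hCK)) : ℂ) ≠ 0 := by
    exact_mod_cast Nat.card_pos.ne'
  by_cases hh : (⟨c, hCK c.2⟩ : C) ∈ K
  · have hh' : c ∈ K.comap (Subgroup.inclusion hCK) := hh
    rw [kerFun_of_mem K hh, kerFun_of_mem _ hh']
    field_simp
  · have hh' : c ∉ K.comap (Subgroup.inclusion hCK) := hh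
    rw [kerFun_of_not_mem K hh, kerFun_of_not_mem _ hh', mul_zero]

/-- invariance of the idempotent of an invariant subgroup -/
theorem kerMat_kInv (K : Subgroup C)
    (hinv : ∀ (x : G) (hx : x ∈ P) (k : C), k ∈ K → nAut C x (hPC hx) k ∈ K) :
    KInv P C hPC (kerMat K) := by
  intro x hx k
  rw [kerMat_apply_one, kerMat_apply_one]
  by_cases hk : k ∈ K
  · rw [kerFun_of_mem K hk, kerFun_of_mem K (hinv x hx k hk)]
  · have : nAut C x (hPC hx) k ∉ K := by
      intro hc
      apply hk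
      have hx' : x⁻¹ ∈ P := P.inv_mem hx
      have h1 := hinv x⁻¹ hx' _ hc
      have e : nAut C x⁻¹ (hPC hx') (nAut C x (hPC hx) k) = k := by
        apply Subtype.ext
        rw [nAut_apply_coe, nAut_apply_coe]
        group
      rwa [e] at h1
    rw [kerFun_of_not_mem K hk, kerFun_of_not_mem K this]

/-- the kernel statement passes down a normal step: if the truncated subgroup is in the kernel of
`e`, the subgroup is in the kernel of the stable block `g` -/
theorem const_of_const_trunc (hM : Cfsg.IsPModular p M) (hP : IsPGroup p P)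
    (hCK : Subgroup.centralizer (P : Set G) ≤ C)
    {e : Set (Cfsg.IrrCharacter (Subgroup.centralizer (P : Set G)))} (he : e.Nonempty)
    {g : Set (Cfsg.IrrCharacter C)} (hg : Cfsg.IsPBlock M g) (hgs : PStable P C hPC g)
    (hξg : ∀ ξ ∈ e, Cfsg.MemLocalIdeal M
      (trOmega P C (ξ : Subgroup.centralizer (P : Set G) → ℂ) g - 1))
    (K : Subgroup C) [K.Normal] (hK : ¬ p ∣ Nat.card K)
    (hinv : ∀ (x : G) (hx : x ∈ P) (k : C), k ∈ K → nAut C x (hPC hx) k ∈ K)
    (h : ∀ ξ ∈ e, ∀ c ∈ K.comap (Subgroup.inclusion hCK),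
      (ξ : Subgroup.centralizer (P : Set G) → ℂ) c = (ξ : Subgroup.centralizer (P : Set G) → ℂ) 1) :
    ∀ θ ∈ g, ∀ k ∈ K, (θ : C → ℂ) k = (θ : C → ℂ) 1 := by
  classical
  rcases block_const_or_not hM K hK hg with h1 | h1
  · exact h1
  · exfalso
    obtain ⟨ξ, hξ⟩ := he
    have h2 : ∀ θ ∈ g, Cfsg.MemLocalIdeal M (cOmega (θ : C → ℂ) (kerMat K)) := by
      intro θ hθ
      exact (not_const_iff_cOmega_kerMat hM K θ.2).mp (h1 θ hθ)
    have h3 := cOmega_trMat_mem P C hPC hM hP hCK ξ hg hgs (hξg ξ hξ) (kerMat_mem_centerAlg K)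
      (kerMat_mem_sMat hM K hK) (kerMat_idem_mMat hM K) (kerMat_kInv P C hPC K hinv) h2
    rw [trMat_kerMat P C hCK K, cOmega_smul,
      cOmega_kerMat_of_const _ ξ.2 (h ξ hξ), mul_one] at h3
    have hK' : ¬ p ∣ Nat.card (K.comap (Subgroup.inclusion hCK)) := by
      intro hd
      apply hK
      exact hd.trans (Subgroup.card_comap_dvd_of_injective K _ (Subgroup.inclusion_injective hCK))
    exact not_memLocalIdeal_ratio hM hK' Nat.card_pos.ne' h3

/-- the kernel statement passes up a normal step -/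
theorem const_trunc_of_const (hM : Cfsg.IsPModular p M) (hP : IsPGroup p P)
    (hCK : Subgroup.centralizer (P : Set G) ≤ C)
    {e : Set (Cfsg.IrrCharacter (Subgroup.centralizer (P : Set G)))}
    {g : Set (Cfsg.IrrCharacter C)} (hg : Cfsg.IsPBlock M g) (hgs : PStable P C hPC g)
    (hξg : ∀ ξ ∈ e, Cfsg.MemLocalIdeal M
      (trOmega P C (ξ : Subgroup.centralizer (P : Set G) → ℂ) g - 1))
    (K : Subgroup C) [hKn : K.Normal] (hK : ¬ p ∣ Nat.card K)
    (hinv : ∀ (x : G) (hx : x ∈ P) (k : C), k ∈ K → nAut C x (hPC hx) k ∈ K)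
    (h : ∀ θ ∈ g, ∀ k ∈ K, (θ : C → ℂ) k = (θ : C → ℂ) 1) :
    ∀ ξ ∈ e, ∀ c ∈ K.comap (Subgroup.inclusion hCK),
      (ξ : Subgroup.centralizer (P : Set G) → ℂ) c = (ξ : Subgroup.centralizer (P : Set G) → ℂ) 1 := by
  classical
  intro ξ hξ
  haveI : (K.comap (Subgroup.inclusion hCK)).Normal := hKn.comap _
  have h2 : ∀ θ ∈ g, Cfsg.MemLocalIdeal M (cOmega (θ : C → ℂ) (kerMat K) - 1) := by
    intro θ hθ
    exact (const_iff_cOmega_kerMat hM K θ.2).mp (h θ hθ)
  have h3 := cOmega_trMat_sub_one P C hPC hM hP hCK ξ hg hgs (hξg ξ hξ) (kerMat_mem_centerAlg K)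
    (kerMat_mem_sMat hM K hK) (kerMat_idem_mMat hM K) (kerMat_kInv P C hPC K hinv) h2
  rw [trMat_kerMat P C hCK K, cOmega_smul] at h3
  rcases cOmega_kerMat_dichotomy (K.comap (Subgroup.inclusion hCK)) ξ.2 with ⟨h4, _⟩ | ⟨_, h4⟩
  · exact h4
  · exfalso
    rw [h4, mul_zero, zero_sub] at h3
    apply not_memLocalIdeal_one hM
    have := MemLocalIdeal.neg h3
    rwa [neg_neg] at this

end step

end Cfsg.Agent.Lib.Helper6
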