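import Mathlib
import Cfsg.Prelude.Def_Blocks
import Cfsg.Prelude.Def_BrauerPairs
import Cfsg.Prelude.Def_OddOrderLocal
import Cfsg.Agent.Lib.Helper6.PiKer2
import Cfsg.Agent.Lib.Helper6.BrConj
import Cfsg.Agent.Lib.Helper6.BrFull
import Cfsg.Agent.Lib.Helper2.Cores

set_option autoImplicit false
set_option linter.unusedSectionVars false
open Cfsg

namespace Cfsg.Agent.Lib.Helper6

open scoped ComplexConjugate
open Cfsg.Agent.Lib.Helper2

section kerall

/-- every normal `π'`-subgroup lies in the kernel of every member of `A` -/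
def KerAll (π : Set ℕ) {X : Type*} [Group X] (A : Set (Cfsg.IrrCharacter X)) : Prop :=
  ∀ K : Subgroup X, K.Normal → (∀ q : ℕ, q.Prime → q ∣ Nat.card K → q ∉ π) →
    ∀ θ ∈ A, ∀ k ∈ K, (θ : X → ℂ) k = (θ : X → ℂ) 1

/-- every `π'`-element lies in `O_{π'}` -/
def HallCore (π : Set ℕ) (X : Type*) [Group X] : Prop :=
  ∀ x : X, (∀ q : ℕ, q.Prime → q ∣ orderOf x → q ∉ π) → x ∈ Cfsg.piCore {q | q ∉ π} X

variable {X X' : Type*} [Group X] [Group X'] [Finite X] [Finite X']

theorem kerAll_iff_piCore (π : Set ℕ) (A : Set (Cfsg.IrrCharacter X)) :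
    KerAll π A ↔ ∀ θ ∈ A, ∀ k ∈ Cfsg.piCore {q | q ∉ π} X, (θ : X → ℂ) k = (θ : X → ℂ) 1 := by
  constructor
  · intro h
    exact h (Cfsg.piCore {q | q ∉ π} X) (piCore_mem _).1 (piCore_mem _).2
  · intro h K hKn hK θ hθ k hk
    haveI := hKn
    exact h θ hθ k (le_piCore (π := {q | q ∉ π}) hK hk)

theorem card_comap_mulEquiv (φ : X ≃* X') (K' : Subgroup X') :
    Nat.card (K'.comap φ.toMonoidHom) = Nat.card K' := by
  apply Nat.card_congr
  refine ⟨fun k => ⟨φ k, k.2⟩, fun k' => ⟨φ.symm k', ?_⟩, ?_, ?_⟩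
  · rw [Subgroup.mem_comap]
    simp
  · intro k
    apply Subtype.ext
    simp
  · intro k'
    apply Subtype.ext
    simp

theorem KerAll.mapIrr {π : Set ℕ} {A : Set (Cfsg.IrrCharacter X)} (h : KerAll π A)
    (φ : X ≃* X') : KerAll π (mapIrr φ '' A) := by
  intro K' hKn' hK' θ' hθ' k' hk'
  obtain ⟨θ, hθ, rfl⟩ := hθ'
  rw [mapIrr_apply, mapIrr_apply_one]
  haveI := hKn'
  have hKn : (K'.comap φ.toMonoidHom).Normal := inferInstance
  have hK : ∀ q : ℕ, q.Prime → q ∣ Nat.card (K'.comap φ.toMonoidHom) → q ∉ π := by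
    intro q hq hd
    rw [card_comap_mulEquiv] at hd
    exact hK' q hq hd
  apply h _ hKn hK θ hθ
  rw [Subgroup.mem_comap]
  simpa using hk'

theorem kerAll_mapIrr_iff (π : Set ℕ) (A : Set (Cfsg.IrrCharacter X)) (φ : X ≃* X') :
    KerAll π (Helper6.mapIrr φ '' A) ↔ KerAll π A := by
  constructor
  · intro h
    have := h.mapIrr φ.symm
    rwa [mapIrr_symm_image_image] at this
  · intro h
    exact h.mapIrr φ

theorem piCore_mulEquiv_aux (π : Set ℕ) {Y Y' : Type*} [Group Y] [Group Y'] [Finite Y] [Finite Y']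
    (ψ : Y ≃* Y') (y : Y) (hy : y ∈ Cfsg.piCore π Y) : ψ y ∈ Cfsg.piCore π Y' := by
  have hn : ((Cfsg.piCore π Y).map ψ.toMonoidHom).Normal :=
    (piCore_mem π).1.map _ ψ.surjective
  have hc : ∀ q : ℕ, q.Prime → q ∣ Nat.card ((Cfsg.piCore π Y).map ψ.toMonoidHom) → q ∈ π := by
    intro q hq hd
    have e : Nat.card ((Cfsg.piCore π Y).map ψ.toMonoidHom) = Nat.card (Cfsg.piCore π Y) :=
      Nat.card_congr (ψ.subgroupMap _).symm.toEquiv
    rw [e] at hd
    exact piCore_pi π q hq hd
  haveI := hn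
  exact le_piCore hc (Subgroup.mem_map_of_mem _ hy)

theorem piCore_mulEquiv (π : Set ℕ) (φ : X ≃* X') (x : X) :
    φ x ∈ Cfsg.piCore π X' ↔ x ∈ Cfsg.piCore π X := by
  constructor
  · intro h
    have := piCore_mulEquiv_aux π φ.symm (φ x) h
    simpa using this
  · intro h
    exact piCore_mulEquiv_aux π φ x h

theorem HallCore.mulEquiv {π : Set ℕ} (h : HallCore π X) (φ : X ≃* X') : HallCore π X' := by
  intro x' hx'
  have h1 := h (φ.symm x') (by
    intro q hq hd
    rw [MulEquiv.orderOf_eq] at hd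
    exact hx' q hq hd)
  have := (piCore_mulEquiv {q | q ∉ π} φ (φ.symm x')).mpr h1
  simpa using this

end kerall

section pairs

variable {G : Type*} [Group G] [Fintype G] [DecidableEq G]
variable {p : ℕ} {M : Ideal Cfsg.AlgInt}

/-- the kernel statement passes down a normal step of Brauer pairs -/
theorem kerAll_of_isNormalSubpair (hM : Cfsg.IsPModular p M) (π : Set ℕ) (hpπ : p ∈ π)
    (Q R : Subgroup G) (f : Set (Cfsg.IrrCharacter (Subgroup.centralizer (Q : Set G))))
    (e : Set (Cfsg.IrrCharacter (Subgroup.centralizer (R : Set G))))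
    (hstep : Cfsg.IsNormalSubpair p M Q f R e) (h : KerAll π e) : KerAll π f := by
  classical
  haveI : Fintype (Subgroup.centralizer (Q : Set G)) := Fintype.ofFinite _
  haveI : Fintype (Subgroup.centralizer (R : Set G)) := Fintype.ofFinite _
  have hRe := hstep.2.1
  have hQR := hstep.2.2.1
  have hRN := hstep.2.2.2.1
  have hCK : Subgroup.centralizer (R : Set G) ≤ Subgroup.centralizer (Q : Set G) :=
    Subgroup.centralizer_le hQR
  have hPC : R ≤ Subgroup.normalizer ((Subgroup.centralizer (Q : Set G) : Subgroup G) : Set G) :=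
    hRN.trans (normalizer_le_normalizer_centralizer Q)
  obtain ⟨hf, hfs, hξf⟩ := (isNormalSubpair_iff R Q hQR hRN e hRe f).mp hstep
  rw [kerAll_iff_piCore]
  obtain ⟨K, hKdef⟩ : ∃ K : Subgroup (Subgroup.centralizer (Q : Set G)),
      K = Cfsg.piCore {q | q ∉ π} (Subgroup.centralizer (Q : Set G)) := ⟨_, rfl⟩
  rw [← hKdef]
  haveI hKn : K.Normal := by rw [hKdef]; exact (piCore_mem _).1
  have hKπ : ∀ q : ℕ, q.Prime → q ∣ Nat.card K → q ∉ π := by
    rw [hKdef]; exact piCore_pi {q | q ∉ π}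
  have hKp : ¬ p ∣ Nat.card K := fun hd => hKπ p hM.1 hd hpπ
  have hinv : ∀ (x : G) (hx : x ∈ R) (k : Subgroup.centralizer (Q : Set G)), k ∈ K →
      nAut (Subgroup.centralizer (Q : Set G)) x (hPC hx) k ∈ K := by
    intro x hx k hk
    rw [hKdef] at hk ⊢
    exact (piCore_mulEquiv _ (nAut (Subgroup.centralizer (Q : Set G)) x (hPC hx)) k).mpr hk
  have h' : ∀ ξ ∈ e, ∀ c ∈ K.comap (Subgroup.inclusion hCK),
      (ξ : Subgroup.centralizer (R : Set G) → ℂ) c = (ξ : Subgroup.centralizer (R : Set G) → ℂ) 1 := by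
    intro ξ hξ c hc
    apply h (K.comap (Subgroup.inclusion hCK)) inferInstance _ ξ hξ c hc
    intro q hq hd
    exact hKπ q hq (hd.trans
      (Subgroup.card_comap_dvd_of_injective K _ (Subgroup.inclusion_injective hCK)))
  exact const_of_const_trunc R (Subgroup.centralizer (Q : Set G)) hPC hM hRe.1 hCK
    (isPBlock_nonempty hM hRe.2) hf hfs hξf K hKp hinv h'

/-- the kernel statement passes up a normal step of Brauer pairs, under the Hall hypothesis -/
theorem hallKer_of_isNormalSubpair (hM : Cfsg.IsPModular p M) (π : Set ℕ) (hpπ : p ∈ π)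
    (Q R : Subgroup G) (f : Set (Cfsg.IrrCharacter (Subgroup.centralizer (Q : Set G))))
    (e : Set (Cfsg.IrrCharacter (Subgroup.centralizer (R : Set G))))
    (hstep : Cfsg.IsNormalSubpair p M Q f R e)
    (hH : HallCore π (Subgroup.centralizer (Q : Set G))) (h : KerAll π f) :
    HallCore π (Subgroup.centralizer (R : Set G)) ∧ KerAll π e := by
  classical
  haveI : Fintype (Subgroup.centralizer (Q : Set G)) := Fintype.ofFinite _
  haveI : Fintype (Subgroup.centralizer (R : Set G)) := Fintype.ofFinite _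
  have hRe := hstep.2.1
  have hQR := hstep.2.2.1
  have hRN := hstep.2.2.2.1
  have hCK : Subgroup.centralizer (R : Set G) ≤ Subgroup.centralizer (Q : Set G) :=
    Subgroup.centralizer_le hQR
  have hPC : R ≤ Subgroup.normalizer ((Subgroup.centralizer (Q : Set G) : Subgroup G) : Set G) :=
    hRN.trans (normalizer_le_normalizer_centralizer Q)
  obtain ⟨hf, hfs, hξf⟩ := (isNormalSubpair_iff R Q hQR hRN e hRe f).mp hstep
  obtain ⟨K, hKdef⟩ : ∃ K : Subgroup (Subgroup.centralizer (Q : Set G)),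
      K = Cfsg.piCore {q | q ∉ π} (Subgroup.centralizer (Q : Set G)) := ⟨_, rfl⟩
  haveI hKn : K.Normal := by rw [hKdef]; exact (piCore_mem _).1
  have hKπ : ∀ q : ℕ, q.Prime → q ∣ Nat.card K → q ∉ π := by
    rw [hKdef]; exact piCore_pi {q | q ∉ π}
  have hKp : ¬ p ∣ Nat.card K := fun hd => hKπ p hM.1 hd hpπ
  have hinv : ∀ (x : G) (hx : x ∈ R) (k : Subgroup.centralizer (Q : Set G)), k ∈ K →
      nAut (Subgroup.centralizer (Q : Set G)) x (hPC hx) k ∈ K := by
    intro x hx k hk
    rw [hKdef] at hk ⊢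
    exact (piCore_mulEquiv _ (nAut (Subgroup.centralizer (Q : Set G)) x (hPC hx)) k).mpr hk
  have hK'π : ∀ q : ℕ, q.Prime → q ∣ Nat.card (K.comap (Subgroup.inclusion hCK)) → q ∉ π := by
    intro q hq hd
    exact hKπ q hq (hd.trans
      (Subgroup.card_comap_dvd_of_injective K _ (Subgroup.inclusion_injective hCK)))
  have hall : ∀ c : Subgroup.centralizer (R : Set G),
      (∀ q : ℕ, q.Prime → q ∣ orderOf c → q ∉ π) → c ∈ K.comap (Subgroup.inclusion hCK) := by
    intro c hc
    rw [Subgroup.mem_comap, hKdef]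
    apply hH
    intro q hq hd
    rw [orderOf_injective _ (Subgroup.inclusion_injective hCK)] at hd
    exact hc q hq hd
  have hcore : ∀ c : Subgroup.centralizer (R : Set G),
      c ∈ Cfsg.piCore {q | q ∉ π} (Subgroup.centralizer (R : Set G)) →
        c ∈ K.comap (Subgroup.inclusion hCK) := by
    intro c hc
    apply hall
    intro q hq hd
    exact piCore_pi {q | q ∉ π} q hq (hd.trans (Subgroup.orderOf_dvd_natCard _ hc))
  constructor
  · intro c hc
    exact le_piCore (π := {q | q ∉ π}) hK'π (hall c hc)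
  · rw [kerAll_iff_piCore]
    intro ξ hξ c hc
    exact const_trunc_of_const R (Subgroup.centralizer (Q : Set G)) hPC hM hRe.1 hCK hf hfs hξf K
      hKp hinv (by rw [hKdef]; exact (kerAll_iff_piCore π f).mp h) ξ hξ c (hcore c hc)

/-- the kernel statement passes down a chain of Brauer pairs -/
theorem kerAll_of_chain (hM : Cfsg.IsPModular p M) (π : Set ℕ) (hpπ : p ∈ π)
    (a b : Cfsg.BrauerPairIdx G)
    (h : Relation.ReflTransGen (Cfsg.NormalSubpairRel p M) a b) (hb : KerAll π b.2) :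
    KerAll π a.2 := by
  induction h using Relation.ReflTransGen.head_induction_on with
  | refl => exact hb
  | head h' _ ih => exact kerAll_of_isNormalSubpair hM π hpπ _ _ _ _ h' ih

/-- the kernel statement passes up a chain of Brauer pairs, under the Hall hypothesis -/
theorem hallKer_of_chain (hM : Cfsg.IsPModular p M) (π : Set ℕ) (hpπ : p ∈ π)
    (a b : Cfsg.BrauerPairIdx G)
    (h : Relation.ReflTransGen (Cfsg.NormalSubpairRel p M) a b)
    (ha : HallCore π (Subgroup.centralizer (a.1 : Set G)) ∧ KerAll π a.2) :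
    HallCore π (Subgroup.centralizer (b.1 : Set G)) ∧ KerAll π b.2 := by
  induction h with
  | refl => exact ha
  | tail _ hbc ih => exact hallKer_of_isNormalSubpair hM π hpπ _ _ _ _ hbc ih.1 ih.2

theorem kerAll_conjPair_iff (π : Set ℕ) (x : G) (a : Cfsg.BrauerPairIdx G) :
    KerAll π (conjPair x a).2 ↔ KerAll π a.2 := by
  change KerAll π (Cfsg.conjBlock a.1 x a.2) ↔ _
  rw [conjBlock_eq]
  exact kerAll_mapIrr_iff π a.2 (conjCentEquiv a.1 x)

theorem hallCore_conjPair (π : Set ℕ) (x : G) (a : Cfsg.BrauerPairIdx G)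
    (h : HallCore π (Subgroup.centralizer (a.1 : Set G))) :
    HallCore π (Subgroup.centralizer ((conjPair x a).1 : Set G)) :=
  h.mulEquiv (conjCentEquiv a.1 x)

end pairs

end Cfsg.Agent.Lib.Helper6
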