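import Mathlib
import Cfsg.Prelude.Def_Blocks
import Cfsg.Prelude.Def_BrauerPairs
import Cfsg.Prelude.Def_OddOrderLocal
import Cfsg.Agent.Lib.Helper6.PiKer3
import Cfsg.Agent.Lib.Helper6.BrRel2
import Cfsg.Agent.Lib.Helper6.BlkTrans
import Cfsg.Agent.Lib.Helper6.BlkPairs
import Cfsg.Agent.Lib.Helper6.BrFM2
import Cfsg.Agent.Lib.Helper6.BlkMajor

set_option autoImplicit false
set_option linter.unusedSectionVars false
open Cfsg

namespace Cfsg.Agent.Lib.Helper6

open scoped ComplexConjugate
open Cfsg.Agent.Lib.Helper2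

section lift

variable {G : Type*} [Group G] [Fintype G] [DecidableEq G]
variable {p : ℕ} [Fact p.Prime] {M : Ideal Cfsg.AlgInt}

/-- a Brauer pair of a block `c` of the subgroup `L` gives a Brauer pair of the block of `G`
induced by `c` -/
theorem isBrauerPairOf_lift (hM : Cfsg.IsPModular p M) (L : Subgroup G)
    (H : Subgroup L) (R : Subgroup G) (hHR : H.map L.subtype = R)
    (hC : Subgroup.centralizer (R : Set G) ≤ L)
    {c : Set (Cfsg.IrrCharacter L)} {B : Set (Cfsg.IrrCharacter G)}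
    (hind : Cfsg.IsInducedBlock M L c B)
    (ε : Set (Cfsg.IrrCharacter (Subgroup.centralizer ((H : Subgroup L) : Set L))))
    (hε : Cfsg.IsBrauerPairOf p M c H ε) :
    Cfsg.IsBrauerPairOf p M B R (mapIrr (cE L H R hHR hC) '' ε) := by
  classical
  haveI : Fintype L := Fintype.ofFinite _
  haveI : Fintype (Subgroup.centralizer ((H : Subgroup L) : Set L)) := Fintype.ofFinite _
  haveI : Fintype (Subgroup.centralizer (R : Set G)) := Fintype.ofFinite _
  have hH : IsPGroup p H := hε.1.1
  have hR : IsPGroup p R := (isPGroup_rel2_iff L H R hHR).mp hH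
  have hε' := (isBrauerPairOf_iff_isInducedBlock hM H hH ε c).mp hε
  obtain ⟨ξ₀, hξ₀⟩ := hε.1.2
  have h1 : Cfsg.IsInducedBlock M (Subgroup.centralizer ((H : Subgroup L) : Set L))
      (Cfsg.blockOf M (fun x : Subgroup.centralizer ((H : Subgroup L) : Set L) =>
        ((mapIrr (cE L H R hHR hC) ξ₀ : Cfsg.IrrCharacter (Subgroup.centralizer (R : Set G))) :
          Subgroup.centralizer (R : Set G) → ℂ) (cE L H R hHR hC x))) c := by
    have e : (fun x : Subgroup.centralizer ((H : Subgroup L) : Set L) =>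
        ((mapIrr (cE L H R hHR hC) ξ₀ : Cfsg.IrrCharacter (Subgroup.centralizer (R : Set G))) :
          Subgroup.centralizer (R : Set G) → ℂ) (cE L H R hHR hC x))
        = (ξ₀ : Subgroup.centralizer ((H : Subgroup L) : Set L) → ℂ) := by
      funext x
      rw [mapIrr_apply_apply]
    rw [e, ← hξ₀]
    exact hε'
  have h2 := IsInducedBlock.trans hM L (Subgroup.centralizer ((H : Subgroup L) : Set L))
    (Subgroup.centralizer (R : Set G)) (cE L H R hHR hC) (fun x => cE_apply_coe L H R hHR hC x)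
    (mapIrr (cE L H R hHR hC) ξ₀) h1 hind
  rw [← mapIrr_image_blockOf, ← hξ₀] at h2
  exact (isBrauerPairOf_iff_isInducedBlock hM R hR _ B).mpr h2

end lift

section top

variable {G : Type*} [Group G] [Fintype G] [DecidableEq G]
variable {p : ℕ} [Fact p.Prime] {M : Ideal Cfsg.AlgInt}

/-- a normal `π'`-subgroup of a normal subgroup generated by a characteristic subgroup: the
`π'`-core of a normal subgroup lies in the `π'`-core of the group -/
theorem piCore_normal_sub_le (π : Set ℕ) {Y : Type*} [Group Y] [Finite Y] (C : Subgroup Y)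
    [hCn : C.Normal] (c : C) (hc : c ∈ Cfsg.piCore π C) : (c : Y) ∈ Cfsg.piCore π Y := by
  haveI : (Cfsg.piCore π C).Characteristic := piCore_characteristic π
  haveI : ((Cfsg.piCore π C).map C.subtype).Normal := ConjAct.normal_of_characteristic_of_normal
  have hcard : ∀ q : ℕ, q.Prime → q ∣ Nat.card ((Cfsg.piCore π C).map C.subtype) → q ∈ π := by
    intro q hq hd
    have e : Nat.card ((Cfsg.piCore π C).map C.subtype) = Nat.card (Cfsg.piCore π C) :=
      Nat.card_congr ((Cfsg.piCore π C).equivMapOfInjective C.subtype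
        C.subtype_injective).symm.toEquiv
    rw [e] at hd
    exact piCore_pi π q hq hd
  exact le_piCore hcard (Subgroup.mem_map_of_mem C.subtype hc)

/-- the top of the chain: from the kernel hypothesis on a block `B₁` of a subgroup `L`
normalizing `D`, with defect group `D`, a Brauer pair on `D` of the induced block with the
kernel property -/
theorem exists_pair_kerAll_of_normalizer (hM : Cfsg.IsPModular p M) (π : Set ℕ) (hpπ : p ∈ π)
    (D : Subgroup G) {B : Set (Cfsg.IrrCharacter G)}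
    (B₁ : Set (Cfsg.IrrCharacter (Subgroup.normalizer (D : Set G))))
    (hB₁ : Cfsg.IsInducedBlock M (Subgroup.normalizer (D : Set G)) B₁ B)
    (hB₁D : Cfsg.IsDefectGroup p M B₁ (D.subgroupOf (Subgroup.normalizer (D : Set G))))
    (hker : ∀ n : Subgroup.normalizer (D : Set G),
      n ∈ Cfsg.piCore {q | q ∉ π} (Subgroup.normalizer (D : Set G)) → n ∈ Cfsg.blockKer B₁) :
    ∃ e : Set (Cfsg.IrrCharacter (Subgroup.centralizer (D : Set G))),
      Cfsg.IsBrauerPairOf p M B D e ∧ KerAll π e := by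
  classical
  obtain ⟨N, hN⟩ : ∃ N : Subgroup G, N = Subgroup.normalizer (D : Set G) := ⟨_, rfl⟩
  subst hN
  haveI : Fintype (Subgroup.normalizer (D : Set G)) := Fintype.ofFinite _
  obtain ⟨D', hD'⟩ : ∃ D' : Subgroup (Subgroup.normalizer (D : Set G)),
      D' = D.subgroupOf (Subgroup.normalizer (D : Set G)) := ⟨_, rfl⟩
  rw [← hD'] at hB₁D
  haveI : Fintype (Subgroup.centralizer ((D' : Subgroup (Subgroup.normalizer (D : Set G))) :
    Set (Subgroup.normalizer (D : Set G)))) := Fintype.ofFinite _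
  have hD'p : IsPGroup p D' := IsDefectGroup.isPGroup' hB₁D
  obtain ⟨ε, hε⟩ := exists_isBrauerPairOf_of_isDefectGroup D' hM hD'p hB₁.1 hB₁D
  have hmap : D'.map (Subgroup.normalizer (D : Set G)).subtype = D := by
    rw [hD']
    exact Subgroup.map_subgroupOf_eq_of_le Subgroup.le_normalizer
  have hC : Subgroup.centralizer (D : Set G) ≤ Subgroup.normalizer (D : Set G) :=
    Subgroup.centralizer_le_normalizer _
  refine ⟨mapIrr (cE _ D' D hmap hC) '' ε, isBrauerPairOf_lift hM _ D' D hmap hC hB₁ ε hε, ?_⟩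
  apply KerAll.mapIrr
  -- the kernel property for `ε`
  have hε' := (isBrauerPairOf_iff_isInducedBlock hM D' hD'p ε B₁).mp hε
  haveI hD'n : D'.Normal := by
    rw [hD']
    exact subgroupOf_normalizer_normal D
  haveI hCn : (Subgroup.centralizer ((D' : Subgroup (Subgroup.normalizer (D : Set G))) :
      Set (Subgroup.normalizer (D : Set G)))).Normal := Subgroup.normal_centralizer
  obtain ⟨K, hKdef⟩ : ∃ K : Subgroup (Subgroup.normalizer (D : Set G)),
      K = Cfsg.piCore {q | q ∉ π} (Subgroup.normalizer (D : Set G)) := ⟨_, rfl⟩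
  haveI hKn : K.Normal := by rw [hKdef]; exact (piCore_mem _).1
  have hKπ : ∀ q : ℕ, q.Prime → q ∣ Nat.card K → q ∉ π := by
    rw [hKdef]; exact piCore_pi {q | q ∉ π}
  have hKp : ¬ p ∣ Nat.card K := fun hd => hKπ p hM.1 hd hpπ
  have h1 := (IsInducedBlock.const_iff _ hM hε' K hKp).mp (by
    intro χ hχ k hk
    rw [hKdef] at hk
    exact hker k hk χ hχ)
  rw [kerAll_iff_piCore]
  intro ξ hξ c hc
  apply h1 ξ hξ c
  rw [Subgroup.mem_subgroupOf, hKdef]
  exact piCore_normal_sub_le _ _ c hc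

end top

section bottom

variable {G : Type*} [Group G] [Fintype G] [DecidableEq G]
variable {p : ℕ} [Fact p.Prime] {M : Ideal Cfsg.AlgInt}

/-- the bottom of the chain: a block `B₀` of a subgroup `G₀` containing the centralizer of its
defect group `D₀` has a Brauer pair on `D₀` which is a pair of the induced block, and the kernel
property of this pair gives the kernel property of `B₀` -/
theorem exists_pair_of_sub (hM : Cfsg.IsPModular p M) (π : Set ℕ) (hpπ : p ∈ π)
    {B : Set (Cfsg.IrrCharacter G)} (G₀ : Subgroup G) (B₀ : Set (Cfsg.IrrCharacter G₀))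
    (hB₀ : Cfsg.IsInducedBlock M G₀ B₀ B) (D₀ : Subgroup G₀)
    (hD₀ : Cfsg.IsDefectGroup p M B₀ D₀)
    (hC : Subgroup.centralizer ((D₀.map G₀.subtype : Subgroup G) : Set G) ≤ G₀) :
    ∃ e : Set (Cfsg.IrrCharacter (Subgroup.centralizer ((D₀.map G₀.subtype : Subgroup G) : Set G))),
      Cfsg.IsBrauerPairOf p M B (D₀.map G₀.subtype) e ∧
      (KerAll π e → ∀ x : G₀, x ∈ Cfsg.piCore {q | q ∉ π} G₀ → x ∈ Cfsg.blockKer B₀) := by
  classical
  haveI : Fintype G₀ := Fintype.ofFinite _
  haveI : Fintype (Subgroup.centralizer ((D₀ : Subgroup G₀) : Set G₀)) := Fintype.ofFinite _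
  have hD₀p : IsPGroup p D₀ := IsDefectGroup.isPGroup' hD₀
  obtain ⟨ε, hε⟩ := exists_isBrauerPairOf_of_isDefectGroup D₀ hM hD₀p hB₀.1 hD₀
  refine ⟨mapIrr (cE G₀ D₀ _ rfl hC) '' ε, isBrauerPairOf_lift hM G₀ D₀ _ rfl hC hB₀ ε hε, ?_⟩
  intro hker x hx χ hχ
  rw [kerAll_mapIrr_iff] at hker
  have hε' := (isBrauerPairOf_iff_isInducedBlock hM D₀ hD₀p ε B₀).mp hε
  obtain ⟨K, hKdef⟩ : ∃ K : Subgroup G₀, K = Cfsg.piCore {q | q ∉ π} G₀ := ⟨_, rfl⟩
  haveI hKn : K.Normal := by rw [hKdef]; exact (piCore_mem _).1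
  have hKπ : ∀ q : ℕ, q.Prime → q ∣ Nat.card K → q ∉ π := by
    rw [hKdef]; exact piCore_pi {q | q ∉ π}
  have hKp : ¬ p ∣ Nat.card K := fun hd => hKπ p hM.1 hd hpπ
  have h1 := (IsInducedBlock.const_iff _ hM hε' K hKp).mpr (by
    intro ξ hξ h hh
    haveI : (K.subgroupOf (Subgroup.centralizer ((D₀ : Subgroup G₀) : Set G₀))).Normal :=
      hKn.subgroupOf _
    apply hker _ inferInstance _ ξ hξ h hh
    intro q hq hd
    exact hKπ q hq (hd.trans (Subgroup.card_comap_dvd_of_injective K _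
      (Subgroup.subtype_injective _))))
  rw [← hKdef] at hx
  exact h1 χ hχ x hx

end bottom

end Cfsg.Agent.Lib.Helper6
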