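import Mathlib
import Cfsg.Prelude.Def_Blocks
import Cfsg.Prelude.Def_BrauerPairs
import Cfsg.Prelude.Def_OddOrderLocal
import Cfsg.Agent.Lib.Helper6.PiKer4
import Cfsg.Agent.Lib.Helper6.BrSat1
import Cfsg.Agent.Lib.Helper6.BrFull
import Cfsg.Agent.S0912

set_option autoImplicit false
set_option linter.unusedSectionVars false
open Cfsg

namespace Cfsg.Agent.Lib.Helper6

open scoped ComplexConjugate
open Cfsg.Agent.Lib.Helper2

section bottomup

variable {G : Type*} [Group G] [Fintype G] [DecidableEq G]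
variable {p : ℕ} [Fact p.Prime] {M : Ideal Cfsg.AlgInt}

/-- a block `b` of `H₀ = D₀ C_G(D₀)` inducing `B` gives a Brauer pair of `B` on `D₀`; if the
`π'`-core of `C_G(D₀)` lies in the kernel of `b`, the pair has the kernel property -/
theorem exists_pair_of_sup_centralizer (hM : Cfsg.IsPModular p M) (π : Set ℕ) (hpπ : p ∈ π)
    {B : Set (Cfsg.IrrCharacter G)} (D₀ : Subgroup G) (hD₀ : IsPGroup p D₀) (H₀ : Subgroup G)
    (hH₀ : H₀ = D₀ ⊔ Subgroup.centralizer (D₀ : Set G)) (b : Set (Cfsg.IrrCharacter H₀))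
    (hb : Cfsg.IsInducedBlock M H₀ b B)
    (hkerb : ∀ x : Subgroup.centralizer (D₀ : Set G),
      x ∈ Cfsg.piCore {q | q ∉ π} (Subgroup.centralizer (D₀ : Set G)) →
        ∀ θ ∈ b, ∀ h : H₀, (h : G) = (x : G) → (θ : H₀ → ℂ) h = (θ : H₀ → ℂ) 1) :
    ∃ e : Set (Cfsg.IrrCharacter (Subgroup.centralizer (D₀ : Set G))),
      Cfsg.IsBrauerPairOf p M B D₀ e ∧ KerAll π e := by
  classical
  haveI : Fintype H₀ := Fintype.ofFinite _
  have hD₀H : D₀ ≤ H₀ := by rw [hH₀]; exact le_sup_left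
  have hCH : Subgroup.centralizer (D₀ : Set G) ≤ H₀ := by rw [hH₀]; exact le_sup_right
  have hHN : H₀ ≤ Subgroup.normalizer (D₀ : Set G) := by
    rw [hH₀]
    exact sup_le Subgroup.le_normalizer (Subgroup.centralizer_le_normalizer _)
  obtain ⟨D', hD'⟩ : ∃ D' : Subgroup H₀, D' = D₀.subgroupOf H₀ := ⟨_, rfl⟩
  have hmap : D'.map H₀.subtype = D₀ := by
    rw [hD']
    exact Subgroup.map_subgroupOf_eq_of_le hD₀H
  haveI hD'n : D'.Normal := by
    rw [hD']
    exact subgroupOf_normal_of_le_normalizer D₀ H₀ hHN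
  have hD'p : IsPGroup p D' := by
    rw [hD']
    exact hD₀.comap_subtype
  haveI : Fintype (Subgroup.centralizer ((D' : Subgroup H₀) : Set H₀)) := Fintype.ofFinite _
  -- a defect group of `b` and the pair on it
  obtain ⟨Δ, hΔ⟩ := exists_isDefectGroup hM b hb.1
  have hΔp : IsPGroup p Δ := IsDefectGroup.isPGroup' hΔ
  have hD'Δ : D' ≤ Δ := by
    have h1 := Cfsg.Agent.S0912.result p M hM b hb.1 Δ hΔ
    exact (le_pCore hD'p).trans h1
  haveI : Fintype (Subgroup.centralizer ((Δ : Subgroup H₀) : Set H₀)) := Fintype.ofFinite _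
  obtain ⟨εΔ, hεΔ⟩ := exists_isBrauerPairOf_of_isDefectGroup Δ hM hΔp hb.1 hΔ
  obtain ⟨ε, hεb, hle⟩ := exists_subpair hM hεΔ.1 hD'Δ
  have hε : Cfsg.IsBrauerPairOf p M b D' ε :=
    (isBrauerPairOf_iff_of_chain hM b hb.1 ⟨D', ε⟩ ⟨Δ, εΔ⟩ hle).mp hεΔ
  refine ⟨mapIrr (cE H₀ D' D₀ hmap hCH) '' ε, isBrauerPairOf_lift hM H₀ D' D₀ hmap hCH hb ε hε, ?_⟩
  apply KerAll.mapIrr
  have hε' := (isBrauerPairOf_iff_isInducedBlock hM D' hD'p ε b).mp hε
  haveI hCn : (Subgroup.centralizer ((D' : Subgroup H₀) : Set H₀)).Normal :=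
    Subgroup.normal_centralizer
  haveI : (Cfsg.piCore {q | q ∉ π}
      (Subgroup.centralizer ((D' : Subgroup H₀) : Set H₀))).Characteristic :=
    piCore_characteristic _
  obtain ⟨K, hKdef⟩ : ∃ K : Subgroup H₀, K = (Cfsg.piCore {q | q ∉ π}
      (Subgroup.centralizer ((D' : Subgroup H₀) : Set H₀))).map
        (Subgroup.centralizer ((D' : Subgroup H₀) : Set H₀)).subtype := ⟨_, rfl⟩
  haveI hKn : K.Normal := by
    rw [hKdef]
    exact ConjAct.normal_of_characteristic_of_normal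
  have hKπ : ∀ q : ℕ, q.Prime → q ∣ Nat.card K → q ∉ π := by
    intro q hq hd
    have e : Nat.card K = Nat.card (Cfsg.piCore {q | q ∉ π}
        (Subgroup.centralizer ((D' : Subgroup H₀) : Set H₀))) := by
      rw [hKdef]
      exact Nat.card_congr ((Cfsg.piCore {q | q ∉ π}
        (Subgroup.centralizer ((D' : Subgroup H₀) : Set H₀))).equivMapOfInjective _
          (Subgroup.subtype_injective _)).symm.toEquiv
    rw [e] at hd
    exact piCore_pi {q | q ∉ π} q hq hd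
  have hKp : ¬ p ∣ Nat.card K := fun hd => hKπ p hM.1 hd hpπ
  have h1 := (IsInducedBlock.const_iff _ hM hε' K hKp).mp (by
    intro θ hθ k hk
    rw [hKdef] at hk
    obtain ⟨c, hc, rfl⟩ := hk
    have hx : cE H₀ D' D₀ hmap hCH c ∈ Cfsg.piCore {q | q ∉ π}
        (Subgroup.centralizer (D₀ : Set G)) :=
      (piCore_mulEquiv {q | q ∉ π} (cE H₀ D' D₀ hmap hCH) c).mpr hc
    exact hkerb _ hx θ hθ _ (cE_apply_coe H₀ D' D₀ hmap hCH c).symm)
  rw [kerAll_iff_piCore]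
  intro ξ hξ c hc
  apply h1 ξ hξ c
  rw [Subgroup.mem_subgroupOf, hKdef]
  exact Subgroup.mem_map_of_mem _ hc

end bottomup

end Cfsg.Agent.Lib.Helper6
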