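import Mathlib
import Cfsg.Prelude.Def_PLocal
import Cfsg.Agent.Lib.Helper1.PCore
import Cfsg.Agent.Lib.Helper1.StableQuad1
import Cfsg.Agent.Lib.Helper1.StableQuad4
import Cfsg.Agent.Lib.Helper1.SubnormalPCore
import Cfsg.Agent.Lib.Helper1.Subnormal
import Cfsg.Agent.Lib.Helper1.OmegaCenter
import Cfsg.Agent.Lib.Helper1.ThompsonBasic

/-! Primitive pairs of characteristic `p` (one side): if `W` is an elementary abelian normal
subgroup of `U = O_p(M) B` on which no element of `U` acts quadratically and nontrivially, and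
`C_M(W)` normalizes the `p`-subgroup `B`, then the normal closure of `W` in the `p`-stable group `M`
has the same properties. -/
set_option autoImplicit false
universe u
open Cfsg
open scoped commutatorElement Pointwise
open Cfsg.Agent.Lib.Helper1 Cfsg.Agent.Lib.Helper1.StableQuad

namespace Cfsg.Agent.Lib.Helper6.Pp
variable {M : Type u} [Group M]

/-- abelian subgroups normalized by `O_p(M)` lie in `O_p(M)` (section stability). -/
theorem le_pCore_of_abelian_of_pCore_le_normalizer [Finite M] {p : ℕ} [hp : Fact p.Prime]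
    (hsec : IsPStableOnSection p (pCore p M) ((frattini ↥(pCore p M)).map (pCore p M).subtype))
    (hc : Subgroup.centralizer (pCore p M : Set M) ≤ pCore p M) (X : Subgroup M)
    (hAX : pCore p M ≤ Subgroup.normalizer (X : Set M))
    (hXc : ∀ x ∈ X, ∀ y ∈ X, x * y = y * x) : X ≤ pCore p M := by
  intro b hb
  have hq : QuadE (pCore p M) b := by
    intro q hq
    have h1 : ⁅q, b⁆ ∈ X := by
      rw [commutatorElement_def]
      have h2 := (Subgroup.mem_normalizer_iff.mp (hAX hq) b).mp hb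
      exact X.mul_mem h2 (X.inv_mem hb)
    exact hXc b hb _ h1
  have hq' := (quadE_iff _ _).mpr hq
  obtain ⟨D, hDn, hKD, ⟨k, hk⟩, hbD⟩ := hsec b (by rw [hq']; exact bot_le)
  have hKp := isPGroup_sectionKernel_frattini (pCore p M) (pCore_isPGroup p) hc
  obtain ⟨j, hj⟩ := (IsPGroup.iff_card).mp hKp
  have hcard : Nat.card D = p ^ (j + k) := by
    have h1 := Subgroup.relIndex_mul_relIndex ⊥ _ D bot_le hKD
    rw [Subgroup.relIndex_bot_left, Subgroup.relIndex_bot_left, hj, hk] at h1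
    rw [← h1, pow_add]
  have hDp : IsPGroup p D := IsPGroup.of_card hcard
  exact le_pCore hDn hDp hbD

theorem mem_normalizer_inf_pp {X Y : Subgroup M} {a : M}
    (hX : a ∈ Subgroup.normalizer (X : Set M)) (hY : a ∈ Subgroup.normalizer (Y : Set M)) :
    a ∈ Subgroup.normalizer ((X ⊓ Y : Subgroup M) : Set M) := by
  rw [Subgroup.mem_normalizer_iff]
  intro z
  have h1 := Subgroup.mem_normalizer_iff.mp hX z
  have h2 := Subgroup.mem_normalizer_iff.mp hY z
  simp only [Subgroup.mem_inf]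
  rw [h1, h2]

theorem pCore_le_comap_pCore [Finite M] {p : ℕ} [hp : Fact p.Prime] (C : Subgroup M) [C.Normal] :
    pCore p M ≤ (pCore p (M ⧸ C)).comap (QuotientGroup.mk' C) := by
  rw [← Subgroup.map_le_iff_le_comap]
  apply le_pCore
  · exact (inferInstance : (pCore p M).Normal).map _ (QuotientGroup.mk'_surjective C)
  · exact (pCore_isPGroup (G := M) p).map _

/-- The key subnormality step. -/
theorem comap_pCore_inf_le [Finite M] {p : ℕ} [hp : Fact p.Prime] (C : Subgroup M) [hCn : C.Normal]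
    (B : Subgroup M) (hB : IsPGroup p B)
    (hCB : C ≤ Subgroup.normalizer (B : Set M)) :
    (pCore p (M ⧸ C)).comap (QuotientGroup.mk' C) ⊓ B ≤ pCore p M := by
  obtain ⟨f, hf⟩ : ∃ f : M →* M ⧸ C, f = QuotientGroup.mk' C := ⟨_, rfl⟩
  obtain ⟨Pb, hPb⟩ : ∃ Pb : Subgroup (M ⧸ C), Pb = pCore p (M ⧸ C) := ⟨_, rfl⟩
  obtain ⟨D, hD⟩ : ∃ D : Subgroup M, D = Pb.comap f := ⟨_, rfl⟩
  rw [← hf, ← hPb, ← hD]
  have hAn : (pCore p M).Normal := inferInstance
  have hPbn : Pb.Normal := by rw [hPb]; infer_instance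
  have hPbp : IsPGroup p Pb := by rw [hPb]; exact pCore_isPGroup p
  haveI hDn : D.Normal := by rw [hD]; exact hPbn.comap f
  have hker : f.ker = C := by rw [hf]; exact QuotientGroup.ker_mk' C
  have hCD : C ≤ D := by
    intro c hc
    rw [hD, Subgroup.mem_comap]
    have h1 : f c = 1 := by
      rw [← MonoidHom.mem_ker, hker]; exact hc
    rw [h1]; exact Subgroup.one_mem _
  have hAD : pCore p M ≤ D := by
    rw [hD, hPb, hf]; exact pCore_le_comap_pCore C
  obtain ⟨Q, hQ⟩ : ∃ Q : Subgroup M, Q = pCore p M ⊔ (D ⊓ B) := ⟨_, rfl⟩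
  have hQp : IsPGroup p Q := by
    rw [hQ]
    exact IsPGroup.to_sup_of_normal_left (pCore_isPGroup p) (hB.to_le inf_le_right)
  have hQD : Q ≤ D := by rw [hQ]; exact sup_le hAD inf_le_left
  have hCQ : C ≤ Subgroup.normalizer (Q : Set M) := by
    intro c hc
    rw [hQ]
    apply Subgroup.normalizer_inf_normalizer_le_normalizer_sup
    refine ⟨?_, ?_⟩
    · rw [Subgroup.normalizer_eq_top]; exact Subgroup.mem_top c
    · apply mem_normalizer_inf_pp
      · rw [Subgroup.normalizer_eq_top]; exact Subgroup.mem_top c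
      · exact hCB hc
  obtain ⟨R, hR⟩ : ∃ R : Subgroup M, R = Q ⊔ C := ⟨_, rfl⟩
  have hQR : Q ≤ R := by rw [hR]; exact le_sup_left
  have hRD : R ≤ D := by rw [hR]; exact sup_le hQD hCD
  have hQRn : (Q.subgroupOf R).Normal := by
    rw [Subgroup.normal_subgroupOf_iff_le_normalizer hQR, hR]
    exact sup_le Subgroup.le_normalizer hCQ
  have hRsn : R.IsSubnormal := by
    have h1 : (R.map f).IsSubnormal := by
      have hle : R.map f ≤ Pb := by
        rw [Subgroup.map_le_iff_le_comap, ← hD]; exact hRD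
      apply Subgroup.IsSubnormal.trans hle _ hPbn.isSubnormal
      have hnil : Group.IsNilpotent ↥Pb := hPbp.isNilpotent
      exact (isNilpotent_iff_forall_isSubnormal.mp hnil) _
    have h2 := h1.comap f
    have h3 : (R.map f).comap f = R := by
      rw [Subgroup.comap_map_eq, hker, hR, sup_assoc, sup_idem]
    rwa [h3] at h2
  have hQsn : Q.IsSubnormal :=
    Subgroup.IsSubnormal.trans hQR hQRn.isSubnormal hRsn
  have h4 := le_pCore_of_isSubnormal_of_isPGroup hQsn hQp
  refine le_trans ?_ h4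
  rw [hQ]; exact le_sup_right

/-- Conjugates of `W` commute with `W`. -/
theorem conj_comm_of_nq [Finite M] {p : ℕ} [hp : Fact p.Prime]
    (B W : Subgroup M)
    (hWA : W ≤ pCore p M)
    (hUW : pCore p M ⊔ B ≤ Subgroup.normalizer (W : Set M))
    (hWe : IsElementaryAbelian p W)
    (hNQ : ∀ a ∈ pCore p M ⊔ B, QuadE W a → CentE W a)
    (g x x' : M) (hx : x ∈ W) (hx' : x' ∈ W) :
    (g * x' * g⁻¹) * x = x * (g * x' * g⁻¹) := by
  have hAn : (pCore p M).Normal := inferInstance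
  have hyA : g * x' * g⁻¹ ∈ pCore p M := hAn.conj_mem _ (hWA hx') g
  have hq : QuadE W (g * x' * g⁻¹) := by
    intro v hv
    have hu : g⁻¹ * v * g ∈ pCore p M := by
      have h1 := hAn.conj_mem _ (hWA hv) g⁻¹
      rwa [inv_inv] at h1
    have hw : (g⁻¹ * v * g) * x' * (g⁻¹ * v * g)⁻¹ ∈ W :=
      (Subgroup.mem_normalizer_iff.mp (hUW (Subgroup.mem_sup_left hu)) x').mp hx'
    obtain ⟨w, hwdef⟩ : ∃ w : M, w = (g⁻¹ * v * g) * x' * (g⁻¹ * v * g)⁻¹ * x'⁻¹ := ⟨_, rfl⟩
    have hw2 : w ∈ W := by rw [hwdef]; exact W.mul_mem hw (W.inv_mem hx')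
    have hcm : x' * w = w * x' := isElementaryAbelian_comm hWe hx' hw2
    have e1 : ⁅v, g * x' * g⁻¹⁆ = g * w * g⁻¹ := by
      rw [hwdef, commutatorElement_def]; group
    rw [e1]
    calc g * x' * g⁻¹ * (g * w * g⁻¹) = g * (x' * w) * g⁻¹ := by group
      _ = g * (w * x') * g⁻¹ := by rw [hcm]
      _ = g * w * g⁻¹ * (g * x' * g⁻¹) := by group
  exact (hNQ _ (Subgroup.mem_sup_left hyA) hq) x hx

theorem normalClosure_elementaryAbelian [Finite M] {p : ℕ} [hp : Fact p.Prime]
    (B W : Subgroup M)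
    (hWA : W ≤ pCore p M)
    (hUW : pCore p M ⊔ B ≤ Subgroup.normalizer (W : Set M))
    (hWe : IsElementaryAbelian p W)
    (hNQ : ∀ a ∈ pCore p M ⊔ B, QuadE W a → CentE W a) :
    IsElementaryAbelian p (Subgroup.normalClosure (W : Set M)) := by
  unfold Subgroup.normalClosure
  apply isElementaryAbelian_closure
  · intro x hx y hy
    rw [Group.mem_conjugatesOfSet_iff] at hx hy
    obtain ⟨b₁, hb₁, hc₁⟩ := hx
    obtain ⟨b₂, hb₂, hc₂⟩ := hy
    rw [isConj_iff] at hc₁ hc₂
    obtain ⟨c₁, rfl⟩ := hc₁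
    obtain ⟨c₂, rfl⟩ := hc₂
    have h := conj_comm_of_nq B W hWA hUW hWe hNQ (c₁⁻¹ * c₂) b₁ b₂ hb₁ hb₂
    calc c₁ * b₁ * c₁⁻¹ * (c₂ * b₂ * c₂⁻¹)
        = c₁ * (b₁ * ((c₁⁻¹ * c₂) * b₂ * (c₁⁻¹ * c₂)⁻¹)) * c₁⁻¹ := by group
      _ = c₁ * (((c₁⁻¹ * c₂) * b₂ * (c₁⁻¹ * c₂)⁻¹) * b₁) * c₁⁻¹ := by rw [h]
      _ = c₂ * b₂ * c₂⁻¹ * (c₁ * b₁ * c₁⁻¹) := by group
  · intro x hx
    rw [Group.mem_conjugatesOfSet_iff] at hx
    obtain ⟨b, hb, hc⟩ := hx
    rw [isConj_iff] at hc
    obtain ⟨c, rfl⟩ := hc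
    rw [conj_pow, hWe.2 b hb]; group

/-- The one-sided statement. -/
theorem side [Finite M] {p : ℕ} [hp : Fact p.Prime] (hst : IsActionPStable p M)
    (hc : Subgroup.centralizer (pCore p M : Set M) ≤ pCore p M)
    (B W : Subgroup M) (hB : IsPGroup p B)
    (hUW : pCore p M ⊔ B ≤ Subgroup.normalizer (W : Set M))
    (hWe : IsElementaryAbelian p W)
    (hNQ : ∀ a ∈ pCore p M ⊔ B, QuadE W a → CentE W a)
    (hCB : Subgroup.centralizer (W : Set M) ≤ Subgroup.normalizer (B : Set M)) :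
    IsElementaryAbelian p (Subgroup.normalClosure (W : Set M)) ∧
      Subgroup.normalClosure (W : Set M) ≤ pCore p M ∧
      ∀ a ∈ pCore p M ⊔ B, QuadE (Subgroup.normalClosure (W : Set M)) a →
        CentE (Subgroup.normalClosure (W : Set M)) a := by
  have hAn : (pCore p M).Normal := inferInstance
  have hWA : W ≤ pCore p M :=
    le_pCore_of_abelian_of_pCore_le_normalizer hst.2.1 hc W (le_sup_left.trans hUW)
      (fun x hx y hy => isElementaryAbelian_comm hWe hx hy)
  have hVe := normalClosure_elementaryAbelian B W hWA hUW hWe hNQ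
  have hVA : Subgroup.normalClosure (W : Set M) ≤ pCore p M :=
    Subgroup.normalClosure_le_normal hWA
  refine ⟨hVe, hVA, ?_⟩
  obtain ⟨V, hVdef⟩ : ∃ V : Subgroup M, V = Subgroup.normalClosure (W : Set M) := ⟨_, rfl⟩
  rw [← hVdef] at hVe hVA ⊢
  haveI hVn : V.Normal := by rw [hVdef]; exact Subgroup.normalClosure_normal
  have hWV : W ≤ V := by rw [hVdef]; exact Subgroup.le_normalClosure
  intro a haU hqa
  -- stability
  have hstV : IsPStableOn p V := hst.1 V hVe
  have hmem := hstV a ((quadE_iff V a).mpr hqa)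
  -- decompose a
  have haU' : a ∈ ((pCore p M ⊔ B : Subgroup M) : Set M) := haU
  rw [Subgroup.normal_mul] at haU'
  obtain ⟨a', ha', b, hb, hab⟩ := Set.mem_mul.mp haU'
  have haD : a ∈ (pCore p (M ⧸ Subgroup.centralizer (V : Set M))).comap
      (QuotientGroup.mk' (Subgroup.centralizer (V : Set M))) := hmem
  have ha'D := pCore_le_comap_pCore (p := p) (Subgroup.centralizer (V : Set M)) ha'
  have hbD : b ∈ (pCore p (M ⧸ Subgroup.centralizer (V : Set M))).comap
      (QuotientGroup.mk' (Subgroup.centralizer (V : Set M))) := by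
    have e : b = a'⁻¹ * a := by rw [← hab]; group
    rw [e]
    exact Subgroup.mul_mem _ (Subgroup.inv_mem _ ha'D) haD
  have hCB' : Subgroup.centralizer (V : Set M) ≤ Subgroup.normalizer (B : Set M) :=
    (Subgroup.centralizer_le hWV).trans hCB
  have hbA : b ∈ pCore p M :=
    comap_pCore_inf_le (Subgroup.centralizer (V : Set M)) B hB hCB' ⟨hbD, hb⟩
  have haA : a ∈ pCore p M := by rw [← hab]; exact Subgroup.mul_mem _ ha' hbA
  -- now a ∈ A
  rw [centE_iff_mem_centralizer]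
  rw [Subgroup.mem_centralizer_iff]
  suffices hsuff : V ≤ Subgroup.centralizer ({a} : Set M) by
    intro v hv
    have := hsuff hv
    rw [Subgroup.mem_centralizer_iff] at this
    exact (this a rfl).symm
  rw [hVdef]
  unfold Subgroup.normalClosure
  rw [Subgroup.closure_le]
  intro x hx
  rw [Group.mem_conjugatesOfSet_iff] at hx
  obtain ⟨w, hw, hcx⟩ := hx
  rw [isConj_iff] at hcx
  obtain ⟨c, rfl⟩ := hcx
  have hqc : QuadE V (c⁻¹ * a * c) := by
    have := quadE_conj V hqa c⁻¹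
    rwa [inv_inv] at this
  have hcA : c⁻¹ * a * c ∈ pCore p M := by
    have := hAn.conj_mem _ haA c⁻¹
    rwa [inv_inv] at this
  have hcent := hNQ _ (Subgroup.mem_sup_left hcA) (hqc.mono hWV) w hw
  -- hcent : c⁻¹ * a * c * w = w * (c⁻¹ * a * c)
  show c * w * c⁻¹ ∈ Subgroup.centralizer ({a} : Set M)
  rw [Subgroup.mem_centralizer_iff]
  intro h hh
  rw [Set.mem_singleton_iff] at hh
  rw [hh]
  calc a * (c * w * c⁻¹) = c * (c⁻¹ * a * c * w) * c⁻¹ := by group
    _ = c * (w * (c⁻¹ * a * c)) * c⁻¹ := by rw [hcent]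
    _ = c * w * c⁻¹ * a := by group

end Cfsg.Agent.Lib.Helper6.Pp
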