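import Mathlib
import Cfsg.Agent.Lib.Helper6.Pp1

/-! Primitive pairs of characteristic `p`: the functor `W(U)` (join of the elementary abelian
normal subgroups of `U` without nontrivial quadratic action of `U`) and the proof that for
`U = O_p(M₁) O_p(M₂)` it is normal in both members of a `p`-stable primitive pair. -/
set_option autoImplicit false
universe u
open Cfsg
open scoped commutatorElement Pointwise
open Cfsg.Agent.Lib.Helper1 Cfsg.Agent.Lib.Helper1.StableQuad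

namespace Cfsg.Agent.Lib.Helper6.Pp
variable {G : Type u} [Group G]

/-- `Y` is an elementary abelian normal subgroup of `U` on which no element of `U` acts
quadratically and nontrivially. -/
def Good (p : ℕ) (U Y : Subgroup G) : Prop :=
  Y ≤ U ∧ U ≤ Subgroup.normalizer (Y : Set G) ∧ IsElementaryAbelian p Y ∧
    ∀ a ∈ U, QuadE Y a → CentE Y a

/-- The join of all good subgroups. -/
def WU (p : ℕ) (U : Subgroup G) : Subgroup G := sSup {Y : Subgroup G | Good p U Y}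

theorem le_WU {p : ℕ} {U Y : Subgroup G} (h : Good p U Y) : Y ≤ WU p U := le_sSup h

theorem good_comm {p : ℕ} {U Y₁ Y₂ : Subgroup G} (h₁ : Good p U Y₁) (h₂ : Good p U Y₂)
    {x y : G} (hx : x ∈ Y₁) (hy : y ∈ Y₂) : x * y = y * x := by
  have hyU : y ∈ U := h₂.1 hy
  have hq : QuadE Y₁ y := by
    intro v hv
    have hvU : v ∈ U := h₁.1 hv
    have h3 : v * y * v⁻¹ ∈ Y₂ := (Subgroup.mem_normalizer_iff.mp (h₂.2.1 hvU) y).mp hy
    have h4 : ⁅v, y⁆ ∈ Y₂ := by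
      rw [commutatorElement_def]; exact Y₂.mul_mem h3 (Y₂.inv_mem hy)
    exact isElementaryAbelian_comm h₂.2.2.1 hy h4
  exact ((h₁.2.2.2 y hyU hq) x hx).symm

theorem good_WU (p : ℕ) (U : Subgroup G) : Good p U (WU p U) := by
  refine ⟨?_, ?_, ?_, ?_⟩
  · exact sSup_le (fun Y hY => hY.1)
  · intro u hu
    unfold WU
    rw [sSup_eq_iSup']
    apply Subgroup.iInf_normalizer_le_normalizer_iSup
    rw [Subgroup.mem_iInf]
    intro Y
    have hY : Good p U Y.1 := Y.2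
    exact hY.2.1 hu
  · unfold WU
    rw [sSup_eq_iSup', Subgroup.iSup_eq_closure]
    apply isElementaryAbelian_closure
    · intro x hx y hy
      rw [Set.mem_iUnion] at hx hy
      obtain ⟨Y₁, hx⟩ := hx
      obtain ⟨Y₂, hy⟩ := hy
      have hY₁ : Good p U Y₁.1 := Y₁.2
      have hY₂ : Good p U Y₂.1 := Y₂.2
      exact good_comm hY₁ hY₂ hx hy
    · intro x hx
      rw [Set.mem_iUnion] at hx
      obtain ⟨Y, hx⟩ := hx
      have hY : Good p U Y.1 := Y.2
      exact hY.2.2.1.2 x hx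
  · intro a ha hq
    apply centE_sSup
    intro Y hY
    exact hY.2.2.2 a ha (hq.mono (le_sSup hY))

theorem quadE_subgroupOf_iff {H Y : Subgroup G} (hYH : Y ≤ H) (a : ↥H) :
    QuadE (Y.subgroupOf H) a ↔ QuadE Y (a : G) := by
  constructor
  · intro h
    have h1 : QuadE ((Y.subgroupOf H).map H.subtype) (H.subtype a) := quadE_map H.subtype h
    rw [Subgroup.map_subgroupOf_eq_of_le hYH] at h1
    exact h1
  · intro h
    apply quadE_of_map H.subtype H.subtype_injective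
    rw [Subgroup.map_subgroupOf_eq_of_le hYH]
    exact h

theorem centE_subgroupOf_iff {H Y : Subgroup G} (hYH : Y ≤ H) (a : ↥H) :
    CentE (Y.subgroupOf H) a ↔ CentE Y (a : G) := by
  constructor
  · intro h
    have h1 : CentE ((Y.subgroupOf H).map H.subtype) (H.subtype a) := centE_map H.subtype h
    rw [Subgroup.map_subgroupOf_eq_of_le hYH] at h1
    exact h1
  · intro h
    apply centE_of_map H.subtype H.subtype_injective
    rw [Subgroup.map_subgroupOf_eq_of_le hYH]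
    exact h

theorem le_normalizer_map_subtype_pp (M : Subgroup G) (N : Subgroup ↥M) [hN : N.Normal] :
    M ≤ Subgroup.normalizer ((N.map M.subtype : Subgroup G) : Set G) := by
  intro m hm
  rw [Subgroup.mem_normalizer_iff]
  intro z
  constructor
  · rintro ⟨z', hz', rfl⟩
    exact ⟨⟨m, hm⟩ * z' * ⟨m, hm⟩⁻¹, hN.conj_mem z' hz' _, rfl⟩
  · rintro ⟨y', hy', hy⟩
    refine ⟨⟨m, hm⟩⁻¹ * y' * ⟨m, hm⟩, ?_, ?_⟩
    · have := hN.conj_mem y' hy' (⟨m, hm⟩⁻¹)
      rwa [inv_inv] at this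
    · have e : M.subtype (⟨m, hm⟩⁻¹ * y' * ⟨m, hm⟩) = m⁻¹ * (M.subtype y') * m := rfl
      rw [e, hy]; group

/-- One side: `M` normalizes `W(O_p(M) B)`. -/
theorem side_normal [Finite G] {p : ℕ} [hp : Fact p.Prime] (M Bg Y : Subgroup G)
    (hst : IsActionPStable p ↥M)
    (hc : Subgroup.centralizer (pCore p ↥M : Set ↥M) ≤ pCore p ↥M)
    (hBg : IsPGroup p Bg) (hBM : Bg ≤ M)
    (hY : Good p ((pCore p ↥M).map M.subtype ⊔ Bg) Y)
    (hYn : M ⊓ Subgroup.normalizer (Y : Set G) ≤ Subgroup.normalizer (Bg : Set G)) :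
    M ≤ Subgroup.normalizer (WU p ((pCore p ↥M).map M.subtype ⊔ Bg) : Set G) := by
  obtain ⟨Ag, hAg⟩ : ∃ Ag : Subgroup G, Ag = (pCore p ↥M).map M.subtype := ⟨_, rfl⟩
  obtain ⟨U, hU⟩ : ∃ U : Subgroup G, U = Ag ⊔ Bg := ⟨_, rfl⟩
  obtain ⟨W, hW⟩ : ∃ W : Subgroup G, W = WU p U := ⟨_, rfl⟩
  rw [← hAg, ← hU] at hY
  rw [← hAg, ← hU, ← hW]
  have hAM : Ag ≤ M := by rw [hAg]; exact Subgroup.map_subtype_le _
  have hUM : U ≤ M := by rw [hU]; exact sup_le hAM hBM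
  have hWg : Good p U W := by rw [hW]; exact good_WU p U
  have hWM : W ≤ M := hWg.1.trans hUM
  obtain ⟨B', hB'⟩ : ∃ B' : Subgroup ↥M, B' = Bg.subgroupOf M := ⟨_, rfl⟩
  obtain ⟨W', hW'⟩ : ∃ W' : Subgroup ↥M, W' = W.subgroupOf M := ⟨_, rfl⟩
  have hAsub : Ag.subgroupOf M = pCore p ↥M := by
    rw [hAg]; exact Subgroup.comap_map_eq_self_of_injective M.subtype_injective _
  have hU' : U.subgroupOf M = pCore p ↥M ⊔ B' := by
    rw [hU, Subgroup.subgroupOf_sup hAM hBM, hAsub, hB']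
  have hB'p : IsPGroup p B' := by
    rw [hB']; exact hBg.comap_of_injective M.subtype M.subtype_injective
  have hmemU : ∀ a : ↥M, a ∈ pCore p ↥M ⊔ B' ↔ (a : G) ∈ U := by
    intro a; rw [← hU']; exact Subgroup.mem_subgroupOf
  have hUW' : pCore p ↥M ⊔ B' ≤ Subgroup.normalizer (W' : Set ↥M) := by
    intro a ha
    have h1 := hWg.2.1 ((hmemU a).mp ha)
    rw [Subgroup.mem_normalizer_iff] at h1 ⊢
    intro z
    rw [hW', Subgroup.mem_subgroupOf, Subgroup.mem_subgroupOf]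
    exact h1 z
  have hWe' : IsElementaryAbelian p W' := by
    rw [hW']
    exact isElementaryAbelian_comap_of_injective hWg.2.2.1 M.subtype M.subtype_injective
  have hNQ' : ∀ a ∈ pCore p ↥M ⊔ B', QuadE W' a → CentE W' a := by
    intro a ha hq
    rw [hW'] at hq ⊢
    rw [quadE_subgroupOf_iff hWM] at hq
    rw [centE_subgroupOf_iff hWM]
    exact hWg.2.2.2 _ ((hmemU a).mp ha) hq
  have hYW : Y ≤ W := by rw [hW]; exact le_WU hY
  have hCB' : Subgroup.centralizer (W' : Set ↥M) ≤ Subgroup.normalizer (B' : Set ↥M) := by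
    intro c hc'
    have h1 : (c : G) ∈ Subgroup.centralizer (Y : Set G) := by
      rw [Subgroup.mem_centralizer_iff] at hc' ⊢
      intro w hw
      have hwW' : (⟨w, hWM (hYW hw)⟩ : ↥M) ∈ W' := by
        rw [hW']; exact Subgroup.mem_subgroupOf.mpr (hYW hw)
      have := hc' ⟨w, hWM (hYW hw)⟩ hwW'
      exact congrArg Subtype.val this
    have h2 : (c : G) ∈ Subgroup.normalizer (Y : Set G) :=
      Subgroup.centralizer_le_normalizer _ h1
    have h3 : (c : G) ∈ Subgroup.normalizer (Bg : Set G) := hYn ⟨c.2, h2⟩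
    rw [Subgroup.mem_normalizer_iff] at h3 ⊢
    intro z
    rw [hB', Subgroup.mem_subgroupOf, Subgroup.mem_subgroupOf]
    exact h3 z
  obtain ⟨hVe, hVA, hVNQ⟩ := side hst hc B' W' hB'p hUW' hWe' hNQ' hCB'
  obtain ⟨V', hV'⟩ : ∃ V' : Subgroup ↥M, V' = Subgroup.normalClosure (W' : Set ↥M) := ⟨_, rfl⟩
  rw [← hV'] at hVe hVA hVNQ
  haveI hV'n : V'.Normal := by rw [hV']; exact Subgroup.normalClosure_normal
  have hW'V' : W' ≤ V' := by rw [hV']; exact Subgroup.le_normalClosure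
  have hVg : Good p U (V'.map M.subtype) := by
    refine ⟨?_, ?_, ?_, ?_⟩
    · calc V'.map M.subtype ≤ (pCore p ↥M).map M.subtype := Subgroup.map_mono hVA
        _ = Ag := hAg.symm
        _ ≤ U := by rw [hU]; exact le_sup_left
    · exact hUM.trans (le_normalizer_map_subtype_pp M V')
    · exact isElementaryAbelian_map hVe M.subtype
    · intro a ha hq
      have haM := hUM ha
      have h1 : QuadE V' ⟨a, haM⟩ := quadE_of_map M.subtype M.subtype_injective hq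
      have h2 := hVNQ ⟨a, haM⟩ ((hmemU _).mpr ha) h1
      exact centE_map M.subtype h2
  have hVW : V'.map M.subtype ≤ W := by rw [hW]; exact le_WU hVg
  have hWeq : W = V'.map M.subtype := by
    apply le_antisymm _ hVW
    calc W = W'.map M.subtype := by rw [hW', Subgroup.map_subgroupOf_eq_of_le hWM]
      _ ≤ V'.map M.subtype := Subgroup.map_mono hW'V'
  rw [hWeq]
  exact le_normalizer_map_subtype_pp M V'

section typeLevel
variable {M : Type u} [Group M]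

theorem omega_quad_imp_cent [Finite M] {p : ℕ} [hp : Fact p.Prime] (hst : IsActionPStable p M)
    (hc : Subgroup.centralizer (pCore p M : Set M) ≤ pCore p M) (a : M)
    (hq : QuadE (⨆ S : Sylow p M, omegaOne p ((S : Subgroup M) ⊓
      Subgroup.centralizer ((S : Subgroup M) : Set M))) a) :
    CentE (⨆ S : Sylow p M, omegaOne p ((S : Subgroup M) ⊓
      Subgroup.centralizer ((S : Subgroup M) : Set M))) a := by
  obtain ⟨hYn, hYe, -⟩ := S0601_aux (p := p) (G := M) hc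
  obtain ⟨V, hV⟩ : ∃ V : Subgroup M, V = ⨆ S : Sylow p M, omegaOne p ((S : Subgroup M) ⊓
      Subgroup.centralizer ((S : Subgroup M) : Set M)) := ⟨_, rfl⟩
  rw [← hV] at hYn hYe hq ⊢
  haveI := hYn
  have hgen : V = ⨆ S : Sylow p M, V ⊓ Subgroup.centralizer ((S : Subgroup M) : Set M) := by
    apply le_antisymm
    · rw [hV]
      apply iSup_le
      intro S
      refine le_trans ?_ (le_iSup _ S)
      refine le_inf ?_ ((omegaOne_le p _).trans inf_le_right)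
      exact le_iSup (fun S : Sylow p M => omegaOne p ((S : Subgroup M) ⊓
        Subgroup.centralizer ((S : Subgroup M) : Set M))) S
    · exact iSup_le (fun S => inf_le_left)
  have hbot := pCore_quotient_centralizer_eq_bot V hgen
  have hstV : IsPStableOn p V := hst.1 V hYe
  have hmem := hstV a ((quadE_iff V a).mpr hq)
  rw [hbot, Subgroup.mem_bot, QuotientGroup.eq_one_iff] at hmem
  exact (centE_iff_mem_centralizer V a).mpr hmem

theorem omega_sylow_ne_bot [Finite M] {p : ℕ} [hp : Fact p.Prime] (S : Sylow p M)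
    (hS : (S : Subgroup M) ≠ ⊥) :
    omegaOne p ((S : Subgroup M) ⊓ Subgroup.centralizer ((S : Subgroup M) : Set M)) ≠ ⊥ := by
  haveI : Nontrivial ↥(S : Subgroup M) := (Subgroup.nontrivial_iff_ne_bot _).mpr hS
  have hSp : IsPGroup p ↥(S : Subgroup M) := S.isPGroup'
  have hnt : Nontrivial (Subgroup.center ↥(S : Subgroup M)) := hSp.center_nontrivial
  have hZ : IsPGroup p (Subgroup.center ↥(S : Subgroup M)) := hSp.to_subgroup _
  obtain ⟨k, hk0, hk⟩ := (hZ.nontrivial_iff_card).mp hnt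
  have hdvd : p ∣ Nat.card (Subgroup.center ↥(S : Subgroup M)) := by
    rw [hk]; exact dvd_pow_self p hk0.ne'
  obtain ⟨x, hx⟩ := exists_prime_orderOf_dvd_card' p hdvd
  intro hbot
  have hxp : x ^ p = 1 := by
    have h0 := pow_orderOf_eq_one x
    rwa [hx] at h0
  have hxp' : (((x : ↥(S : Subgroup M)) : M)) ^ p = 1 := by
    have h2 := congrArg (fun y : Subgroup.center ↥(S : Subgroup M) => ((y : ↥(S : Subgroup M)) : M)) hxp
    simpa using h2
  have hmem : ((x : ↥(S : Subgroup M)) : M) ∈ omegaOne p ((S : Subgroup M) ⊓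
      Subgroup.centralizer ((S : Subgroup M) : Set M)) := by
    apply Subgroup.subset_closure
    refine ⟨Subgroup.mem_inf.mpr ⟨(x : ↥(S : Subgroup M)).2, ?_⟩, hxp'⟩
    rw [Subgroup.mem_centralizer_iff]
    intro h hh
    have := Subgroup.mem_center_iff.mp x.2 ⟨h, hh⟩
    exact congrArg Subtype.val this
  rw [hbot, Subgroup.mem_bot] at hmem
  have hx1 : x = 1 := Subtype.ext (Subtype.ext hmem)
  rw [hx1, orderOf_one] at hx
  exact hp.out.one_lt.ne hx

theorem omega_iSup_ne_bot [Finite M] {p : ℕ} [hp : Fact p.Prime] (hA : pCore p M ≠ ⊥) :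
    (⨆ S : Sylow p M, omegaOne p ((S : Subgroup M) ⊓
      Subgroup.centralizer ((S : Subgroup M) : Set M))) ≠ ⊥ := by
  obtain ⟨S⟩ : Nonempty (Sylow p M) := inferInstance
  have hS : (S : Subgroup M) ≠ ⊥ := ne_bot_of_le_ne_bot hA (pCore_le_sylow p S)
  exact ne_bot_of_le_ne_bot (omega_sylow_ne_bot S hS)
    (le_iSup (fun S : Sylow p M => omegaOne p ((S : Subgroup M) ⊓
      Subgroup.centralizer ((S : Subgroup M) : Set M))) S)

/-- With abelian Sylow `p`-subgroups and `C(O_p) ≤ O_p`, every `p`-subgroup lies in `O_p`. -/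
theorem pSub_le_pCore_of_comm [Finite M] {p : ℕ} [hp : Fact p.Prime]
    (hc : Subgroup.centralizer (pCore p M : Set M) ≤ pCore p M)
    (hab : ∀ S : Sylow p M, IsMulCommutative (S : Subgroup M)) (Q : Subgroup M)
    (hQ : IsPGroup p Q) : Q ≤ pCore p M := by
  obtain ⟨S, hQS⟩ := hQ.exists_le_sylow
  refine hQS.trans ?_
  intro s hs
  apply hc
  rw [Subgroup.mem_centralizer_iff]
  intro h hh
  have hhS : h ∈ (S : Subgroup M) := pCore_le_sylow p S hh
  haveI := hab S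
  exact congrArg Subtype.val (mul_comm' (⟨h, hhS⟩ : (S : Subgroup M)) ⟨s, hs⟩)

end typeLevel

theorem eq_bot_of_pCore_eq_bot {p : ℕ} (M : Subgroup G)
    (hc : Subgroup.centralizer (pCore p ↥M : Set ↥M) ≤ pCore p ↥M) (h : pCore p ↥M = ⊥) :
    M = ⊥ := by
  rw [Subgroup.eq_bot_iff_forall]
  intro x hx
  have h1 : (⟨x, hx⟩ : ↥M) ∈ Subgroup.centralizer (pCore p ↥M : Set ↥M) := by
    rw [Subgroup.mem_centralizer_iff]
    intro y hy
    rw [h] at hy
    have : y = 1 := hy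
    rw [this, one_mul, mul_one]
  have h2 := hc h1
  rw [h, Subgroup.mem_bot] at h2
  exact congrArg Subtype.val h2

theorem pCore_ne_bot_of_pair {p : ℕ} (M₁ M₂ : Subgroup G) (hne : M₁ ≠ M₂)
    (hc₁ : Subgroup.centralizer (pCore p ↥M₁ : Set ↥M₁) ≤ pCore p ↥M₁)
    (hc₂ : Subgroup.centralizer (pCore p ↥M₂ : Set ↥M₂) ≤ pCore p ↥M₂)
    (hO : (pCore p ↥M₁).map M₁.subtype ⊔ (pCore p ↥M₂).map M₂.subtype ≤ M₁ ⊓ M₂) :
    pCore p ↥M₁ ≠ ⊥ ∧ pCore p ↥M₂ ≠ ⊥ := by
  constructor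
  · intro h
    have h1 := eq_bot_of_pCore_eq_bot M₁ hc₁ h
    have h2 : (pCore p ↥M₂).map M₂.subtype ≤ ⊥ := by
      calc (pCore p ↥M₂).map M₂.subtype ≤ M₁ ⊓ M₂ := le_sup_right.trans hO
        _ ≤ M₁ := inf_le_left
        _ = ⊥ := h1
    have h3 : pCore p ↥M₂ = ⊥ :=
      (Subgroup.map_eq_bot_iff_of_injective _ M₂.subtype_injective).mp (le_bot_iff.mp h2)
    exact hne (h1.trans (eq_bot_of_pCore_eq_bot M₂ hc₂ h3).symm)
  · intro h
    have h1 := eq_bot_of_pCore_eq_bot M₂ hc₂ h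
    have h2 : (pCore p ↥M₁).map M₁.subtype ≤ ⊥ := by
      calc (pCore p ↥M₁).map M₁.subtype ≤ M₁ ⊓ M₂ := le_sup_left.trans hO
        _ ≤ M₂ := inf_le_right
        _ = ⊥ := h1
    have h3 : pCore p ↥M₁ = ⊥ :=
      (Subgroup.map_eq_bot_iff_of_injective _ M₁.subtype_injective).mp (le_bot_iff.mp h2)
    exact hne ((eq_bot_of_pCore_eq_bot M₁ hc₁ h3).trans h1.symm)

theorem good_omega [Finite G] {p : ℕ} [hp : Fact p.Prime] (M U : Subgroup G)
    (hst : IsActionPStable p ↥M)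
    (hc : Subgroup.centralizer (pCore p ↥M : Set ↥M) ≤ pCore p ↥M)
    (hAU : (pCore p ↥M).map M.subtype ≤ U) (hUM : U ≤ M) :
    Good p U ((⨆ S : Sylow p ↥M, omegaOne p ((S : Subgroup ↥M) ⊓
      Subgroup.centralizer ((S : Subgroup ↥M) : Set ↥M))).map M.subtype) := by
  obtain ⟨hYn, hYe, -⟩ := S0601_aux (p := p) (G := ↥M) hc
  obtain ⟨V, hV⟩ : ∃ V : Subgroup ↥M, V = ⨆ S : Sylow p ↥M, omegaOne p ((S : Subgroup ↥M) ⊓
      Subgroup.centralizer ((S : Subgroup ↥M) : Set ↥M)) := ⟨_, rfl⟩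
  have hqc : ∀ a : ↥M, QuadE V a → CentE V a := by
    intro a hq
    rw [hV] at hq ⊢
    exact omega_quad_imp_cent hst hc a hq
  have hVA : V ≤ pCore p ↥M := by
    rw [hV]
    apply iSup_le
    intro S
    exact (omegaOne_center_sylow_le hc S).trans ((omegaOne_le p _).trans inf_le_left)
  rw [← hV] at hYn hYe ⊢
  haveI := hYn
  refine ⟨(Subgroup.map_mono hVA).trans hAU, hUM.trans (le_normalizer_map_subtype_pp M V),
    isElementaryAbelian_map hYe M.subtype, ?_⟩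
  intro a ha hq
  have haM := hUM ha
  have h1 : QuadE V ⟨a, haM⟩ := quadE_of_map M.subtype M.subtype_injective hq
  exact centE_map M.subtype (hqc _ h1)

theorem prim_contra (M₁ M₂ W : Subgroup G) (hne : M₁ ≠ M₂)
    (hP : ∀ A : Subgroup G, A ≠ ⊥ → A ≤ M₁ ⊓ M₂ →
      (M₁ ≤ Subgroup.normalizer (A : Set G) → M₂ ⊓ Subgroup.normalizer (A : Set G) = M₁ ⊓ M₂) ∧
      (M₂ ≤ Subgroup.normalizer (A : Set G) → M₁ ⊓ Subgroup.normalizer (A : Set G) = M₁ ⊓ M₂))
    (hW : W ≠ ⊥) (hWI : W ≤ M₁ ⊓ M₂)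
    (h1 : M₁ ≤ Subgroup.normalizer (W : Set G)) (h2 : M₂ ≤ Subgroup.normalizer (W : Set G)) :
    False := by
  obtain ⟨ha, hb⟩ := hP W hW hWI
  have e1 := ha h1
  have e2 := hb h2
  rw [inf_eq_left.mpr h2] at e1
  rw [inf_eq_left.mpr h1] at e2
  have h21 : M₂ ≤ M₁ := (le_of_eq e1).trans inf_le_left
  have h12 : M₁ ≤ M₂ := (le_of_eq e2).trans inf_le_right
  exact hne (le_antisymm h12 h21)

/-- The odd (stable) case. -/
theorem main_stable [Finite G] {p : ℕ} [hp : Fact p.Prime] (M₁ M₂ : Subgroup G) (hne : M₁ ≠ M₂)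
    (hP : ∀ A : Subgroup G, A ≠ ⊥ → A ≤ M₁ ⊓ M₂ →
      (M₁ ≤ Subgroup.normalizer (A : Set G) → M₂ ⊓ Subgroup.normalizer (A : Set G) = M₁ ⊓ M₂) ∧
      (M₂ ≤ Subgroup.normalizer (A : Set G) → M₁ ⊓ Subgroup.normalizer (A : Set G) = M₁ ⊓ M₂))
    (hc₁ : Subgroup.centralizer (pCore p ↥M₁ : Set ↥M₁) ≤ pCore p ↥M₁)
    (hc₂ : Subgroup.centralizer (pCore p ↥M₂ : Set ↥M₂) ≤ pCore p ↥M₂)
    (hO : (pCore p ↥M₁).map M₁.subtype ⊔ (pCore p ↥M₂).map M₂.subtype ≤ M₁ ⊓ M₂)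
    (hst₁ : IsActionPStable p ↥M₁) (hst₂ : IsActionPStable p ↥M₂) : False := by
  obtain ⟨hne₁, hne₂⟩ := pCore_ne_bot_of_pair M₁ M₂ hne hc₁ hc₂ hO
  obtain ⟨A, hA⟩ : ∃ A : Subgroup G, A = (pCore p ↥M₁).map M₁.subtype := ⟨_, rfl⟩
  obtain ⟨B, hB⟩ : ∃ B : Subgroup G, B = (pCore p ↥M₂).map M₂.subtype := ⟨_, rfl⟩
  rw [← hA, ← hB] at hO
  have hAp : IsPGroup p A := by rw [hA]; exact (pCore_isPGroup p).map _
  have hBp : IsPGroup p B := by rw [hB]; exact (pCore_isPGroup p).map _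
  have hAI : A ≤ M₁ ⊓ M₂ := le_sup_left.trans hO
  have hBI : B ≤ M₁ ⊓ M₂ := le_sup_right.trans hO
  have hU₁M : A ⊔ B ≤ M₁ := hO.trans inf_le_left
  have hU₂M : A ⊔ B ≤ M₂ := hO.trans inf_le_right
  obtain ⟨V₁, hV₁⟩ : ∃ V₁ : Subgroup ↥M₁, V₁ = ⨆ S : Sylow p ↥M₁, omegaOne p ((S : Subgroup ↥M₁) ⊓
      Subgroup.centralizer ((S : Subgroup ↥M₁) : Set ↥M₁)) := ⟨_, rfl⟩
  obtain ⟨V₂, hV₂⟩ : ∃ V₂ : Subgroup ↥M₂, V₂ = ⨆ S : Sylow p ↥M₂, omegaOne p ((S : Subgroup ↥M₂) ⊓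
      Subgroup.centralizer ((S : Subgroup ↥M₂) : Set ↥M₂)) := ⟨_, rfl⟩
  have hV₁n : V₁.Normal := by rw [hV₁]; exact iSup_omegaOne_center_sylow_normal p
  have hV₂n : V₂.Normal := by rw [hV₂]; exact iSup_omegaOne_center_sylow_normal p
  have hgY₁ : Good p (A ⊔ B) (V₁.map M₁.subtype) := by
    rw [hV₁]
    exact good_omega M₁ (A ⊔ B) hst₁ hc₁ (by rw [← hA]; exact le_sup_left) hU₁M
  have hgY₂ : Good p (A ⊔ B) (V₂.map M₂.subtype) := by
    rw [hV₂]
    exact good_omega M₂ (A ⊔ B) hst₂ hc₂ (by rw [← hB]; exact le_sup_right) hU₂M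
  have hY₁n : M₁ ≤ Subgroup.normalizer ((V₁.map M₁.subtype : Subgroup G) : Set G) :=
    le_normalizer_map_subtype_pp M₁ V₁
  have hY₂n : M₂ ≤ Subgroup.normalizer ((V₂.map M₂.subtype : Subgroup G) : Set G) :=
    le_normalizer_map_subtype_pp M₂ V₂
  have hAn : M₁ ≤ Subgroup.normalizer (A : Set G) := by
    rw [hA]; exact le_normalizer_map_subtype_pp M₁ _
  have hBn : M₂ ≤ Subgroup.normalizer (B : Set G) := by
    rw [hB]; exact le_normalizer_map_subtype_pp M₂ _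
  have hY₁ne : V₁.map M₁.subtype ≠ ⊥ := by
    intro h
    have h1 := (Subgroup.map_eq_bot_iff_of_injective _ M₁.subtype_injective).mp h
    rw [hV₁] at h1
    exact omega_iSup_ne_bot hne₁ h1
  have hY₂ne : V₂.map M₂.subtype ≠ ⊥ := by
    intro h
    have h1 := (Subgroup.map_eq_bot_iff_of_injective _ M₂.subtype_injective).mp h
    rw [hV₂] at h1
    exact omega_iSup_ne_bot hne₂ h1
  have hp1 : M₁ ⊓ Subgroup.normalizer ((V₂.map M₂.subtype : Subgroup G) : Set G) ≤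
      Subgroup.normalizer (B : Set G) := by
    have h := (hP _ hY₂ne (hgY₂.1.trans hO)).2 hY₂n
    rw [h]; exact inf_le_right.trans hBn
  have hp2 : M₂ ⊓ Subgroup.normalizer ((V₁.map M₁.subtype : Subgroup G) : Set G) ≤
      Subgroup.normalizer (A : Set G) := by
    have h := (hP _ hY₁ne (hgY₁.1.trans hO)).1 hY₁n
    rw [h]; exact inf_le_left.trans hAn
  have hn1 : M₁ ≤ Subgroup.normalizer (WU p (A ⊔ B) : Set G) := by
    have h := side_normal M₁ B (V₂.map M₂.subtype) hst₁ hc₁ hBp (hBI.trans inf_le_left)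
      (by rw [← hA]; exact hgY₂) hp1
    rwa [← hA] at h
  have hn2 : M₂ ≤ Subgroup.normalizer (WU p (A ⊔ B) : Set G) := by
    have h := side_normal M₂ A (V₁.map M₁.subtype) hst₂ hc₂ hAp (hAI.trans inf_le_right)
      (by rw [← hB, sup_comm]; exact hgY₁) hp2
    rwa [← hB, sup_comm] at h
  have hWne : WU p (A ⊔ B) ≠ ⊥ := ne_bot_of_le_ne_bot hY₁ne (le_WU hgY₁)
  have hWI : WU p (A ⊔ B) ≤ M₁ ⊓ M₂ := (good_WU p _).1.trans hO
  exact prim_contra M₁ M₂ _ hne hP hWne hWI hn1 hn2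

/-- The case of abelian Sylow `p`-subgroups (used for `p = 2`). -/
theorem main_comm [Finite G] {p : ℕ} [hp : Fact p.Prime] (M₁ M₂ : Subgroup G) (hne : M₁ ≠ M₂)
    (hP : ∀ A : Subgroup G, A ≠ ⊥ → A ≤ M₁ ⊓ M₂ →
      (M₁ ≤ Subgroup.normalizer (A : Set G) → M₂ ⊓ Subgroup.normalizer (A : Set G) = M₁ ⊓ M₂) ∧
      (M₂ ≤ Subgroup.normalizer (A : Set G) → M₁ ⊓ Subgroup.normalizer (A : Set G) = M₁ ⊓ M₂))
    (hc₁ : Subgroup.centralizer (pCore p ↥M₁ : Set ↥M₁) ≤ pCore p ↥M₁)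
    (hc₂ : Subgroup.centralizer (pCore p ↥M₂ : Set ↥M₂) ≤ pCore p ↥M₂)
    (hO : (pCore p ↥M₁).map M₁.subtype ⊔ (pCore p ↥M₂).map M₂.subtype ≤ M₁ ⊓ M₂)
    (hab₁ : ∀ S : Sylow p ↥M₁, IsMulCommutative (S : Subgroup ↥M₁))
    (hab₂ : ∀ S : Sylow p ↥M₂, IsMulCommutative (S : Subgroup ↥M₂)) : False := by
  obtain ⟨hne₁, hne₂⟩ := pCore_ne_bot_of_pair M₁ M₂ hne hc₁ hc₂ hO
  obtain ⟨A, hA⟩ : ∃ A : Subgroup G, A = (pCore p ↥M₁).map M₁.subtype := ⟨_, rfl⟩
  obtain ⟨B, hB⟩ : ∃ B : Subgroup G, B = (pCore p ↥M₂).map M₂.subtype := ⟨_, rfl⟩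
  rw [← hA, ← hB] at hO
  have hAp : IsPGroup p A := by rw [hA]; exact (pCore_isPGroup p).map _
  have hBp : IsPGroup p B := by rw [hB]; exact (pCore_isPGroup p).map _
  have hAI : A ≤ M₁ ⊓ M₂ := le_sup_left.trans hO
  have hBI : B ≤ M₁ ⊓ M₂ := le_sup_right.trans hO
  have hBA : B ≤ A := by
    have h1 : B.subgroupOf M₁ ≤ pCore p ↥M₁ :=
      pSub_le_pCore_of_comm hc₁ hab₁ _ (hBp.comap_of_injective M₁.subtype M₁.subtype_injective)
    calc B = (B.subgroupOf M₁).map M₁.subtype :=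
          (Subgroup.map_subgroupOf_eq_of_le (hBI.trans inf_le_left)).symm
      _ ≤ (pCore p ↥M₁).map M₁.subtype := Subgroup.map_mono h1
      _ = A := hA.symm
  have hAB : A ≤ B := by
    have h1 : A.subgroupOf M₂ ≤ pCore p ↥M₂ :=
      pSub_le_pCore_of_comm hc₂ hab₂ _ (hAp.comap_of_injective M₂.subtype M₂.subtype_injective)
    calc A = (A.subgroupOf M₂).map M₂.subtype :=
          (Subgroup.map_subgroupOf_eq_of_le (hAI.trans inf_le_right)).symm
      _ ≤ (pCore p ↥M₂).map M₂.subtype := Subgroup.map_mono h1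
      _ = B := hB.symm
  have hAeq : A = B := le_antisymm hAB hBA
  have hAn : M₁ ≤ Subgroup.normalizer (A : Set G) := by
    rw [hA]; exact le_normalizer_map_subtype_pp M₁ _
  have hBn : M₂ ≤ Subgroup.normalizer (A : Set G) := by
    rw [hAeq, hB]; exact le_normalizer_map_subtype_pp M₂ _
  have hAne : A ≠ ⊥ := by
    intro h
    rw [hA] at h
    exact hne₁ ((Subgroup.map_eq_bot_iff_of_injective _ M₁.subtype_injective).mp h)
  exact prim_contra M₁ M₂ A hne hP hAne hAI hAn hBn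

end Cfsg.Agent.Lib.Helper6.Pp
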