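import Mathlib
set_option autoImplicit false
open scoped commutatorElement
universe u

/-!
# p-group lemmas around `[P : P'] = p ^ 2` (helper6)
-/

namespace Cfsg.Agent.Lib.Helper6.Pq

/-- closure of a pairwise commuting set is commutative -/
theorem closure_comm {G : Type*} [Group G] {S : Set G} (h : ∀ a ∈ S, ∀ b ∈ S, a * b = b * a) :
    ∀ a ∈ Subgroup.closure S, ∀ b ∈ Subgroup.closure S, a * b = b * a := by
  have h1 : Subgroup.closure S ≤ Subgroup.centralizer S := by
    rw [Subgroup.closure_le]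
    intro a ha
    exact Subgroup.mem_centralizer_iff.2 (fun b hb => h b hb a ha)
  have h2 : Subgroup.closure S ≤ Subgroup.centralizer (Subgroup.closure S : Set G) := by
    rw [Subgroup.closure_le]
    intro a ha
    refine Subgroup.mem_centralizer_iff.2 (fun b hb => ?_)
    exact ((Subgroup.mem_centralizer_iff.1 (h1 hb)) a ha).symm
  intro a ha b hb
  exact ((Subgroup.mem_centralizer_iff.1 (h2 ha)) b hb).symm

theorem cyclic_comm {A : Type*} [Group A] [IsCyclic A] (a b : A) : a * b = b * a := by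
  obtain ⟨g, hg⟩ := IsCyclic.exists_generator (α := A)
  obtain ⟨i, rfl⟩ := Subgroup.mem_zpowers_iff.1 (hg a)
  obtain ⟨j, rfl⟩ := Subgroup.mem_zpowers_iff.1 (hg b)
  rw [← zpow_add, ← zpow_add, add_comm]

theorem card_eq_card_mul_relIndex {G : Type*} [Group G] {H K : Subgroup G} (h : H ≤ K) :
    Nat.card K = Nat.card H * H.relIndex K := by
  have := Subgroup.relIndex_mul_relIndex ⊥ H K bot_le h
  rw [Subgroup.relIndex_bot_left, Subgroup.relIndex_bot_left] at this
  exact this.symm

theorem dvd_of_le_of_dvd_pow {p a n : ℕ} (hp : p.Prime) (h1 : a ∣ p ^ n) (h2 : a ≤ p) : a ∣ p := by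
  obtain ⟨m, _, rfl⟩ := (Nat.dvd_prime_pow hp).1 h1
  have hm : m ≤ 1 := by
    by_contra hcon
    have h2' : 2 ≤ m := by omega
    have h4 : p ^ 2 ≤ p ^ m := Nat.pow_le_pow_right hp.pos h2'
    have h3 : p ^ 1 < p ^ 2 := Nat.pow_lt_pow_right hp.one_lt (by norm_num)
    rw [pow_one] at h3
    exact absurd (lt_of_lt_of_le h3 (h4.trans h2)) (lt_irrefl _)
  calc p ^ m ∣ p ^ 1 := pow_dvd_pow p hm
    _ = p := pow_one p

theorem commutator_le_self {G : Type*} [Group G] (H : Subgroup G) : ⁅H, H⁆ ≤ H := by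
  rw [Subgroup.commutator_le]
  intro a ha b hb
  rw [commutatorElement_def]
  exact H.mul_mem (H.mul_mem (H.mul_mem ha hb) (H.inv_mem ha)) (H.inv_mem hb)

theorem map_commutator_mk {P : Type*} [Group P] (Z : Subgroup P) [Z.Normal] :
    (commutator P).map (QuotientGroup.mk' Z) = commutator (P ⧸ Z) := by
  rw [commutator_def, commutator_def, Subgroup.map_commutator,
    Subgroup.map_top_of_surjective _ (QuotientGroup.mk'_surjective Z)]

/-- commutators lie in a normal subgroup with commutative quotient -/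
theorem commutator_le_of_quot_comm {P : Type*} [Group P] (X : Subgroup P) [X.Normal]
    (hc : ∀ a b : P ⧸ X, a * b = b * a) : commutator P ≤ X := by
  rw [commutator_def, Subgroup.commutator_le]
  intro a _ b _
  apply (QuotientGroup.eq_one_iff (N := X) _).1
  have h := hc (a : P ⧸ X) (b : P ⧸ X)
  rw [commutatorElement_def, QuotientGroup.mk_mul, QuotientGroup.mk_mul, QuotientGroup.mk_mul,
    QuotientGroup.mk_inv, QuotientGroup.mk_inv, h, mul_inv_cancel_right, mul_inv_cancel]

section pgroup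
variable {p : ℕ} [hp : Fact p.Prime]

theorem pg0_aux : ∀ (n : ℕ) (P : Type u) [Group P] [Finite P], Nat.card P = n → IsPGroup p P →
    (commutator P).index ∣ p → commutator P = ⊥ := by
  intro n
  induction n using Nat.strong_induction_on with
  | _ n ih =>
    intro P _ _ hn hP hidx
    by_cases htriv : Subsingleton P
    · rw [Subgroup.eq_bot_iff_forall]
      intro x _
      exact Subsingleton.elim x 1
    · haveI : Nontrivial P := not_subsingleton_iff_nontrivial.1 htriv
      haveI := hP.center_nontrivial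
      have hcardZ : 1 < Nat.card (Subgroup.center P) := Finite.one_lt_card
      have hcard : Nat.card P = Nat.card (P ⧸ Subgroup.center P) * Nat.card (Subgroup.center P) :=
        Subgroup.card_eq_card_quotient_mul_card_subgroup _
      have hQpos : 0 < Nat.card (P ⧸ Subgroup.center P) := Nat.card_pos
      have hlt : Nat.card (P ⧸ Subgroup.center P) < n := by
        rw [← hn, hcard]
        exact lt_mul_of_one_lt_right hQpos hcardZ
      have hQ : IsPGroup p (P ⧸ Subgroup.center P) := hP.to_quotient _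
      have hidxQ : (commutator (P ⧸ Subgroup.center P)).index ∣ p := by
        rw [← map_commutator_mk (Subgroup.center P)]
        exact (Subgroup.index_map_dvd _ (QuotientGroup.mk'_surjective _)).trans hidx
      have hQc : commutator (P ⧸ Subgroup.center P) = ⊥ :=
        ih _ hlt (P ⧸ Subgroup.center P) rfl hQ hidxQ
      have hQcard : Nat.card (P ⧸ Subgroup.center P) ∣ p := by
        have h := hidxQ
        rw [hQc, Subgroup.index_bot] at h
        exact h
      haveI : IsCyclic (P ⧸ Subgroup.center P) := by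
        rcases (Nat.dvd_prime hp.out).1 hQcard with h1 | h1
        · haveI : Subsingleton (P ⧸ Subgroup.center P) := (Nat.card_eq_one_iff_unique.1 h1).1
          exact isCyclic_of_subsingleton
        · exact isCyclic_of_prime_card h1
      have hcomm : ∀ a b : P, a * b = b * a :=
        commutative_of_cyclic_center_quotient (QuotientGroup.mk' (Subgroup.center P))
          (QuotientGroup.ker_mk' _).le
      rw [commutator_def, Subgroup.commutator_eq_bot_iff_le_centralizer]
      intro x _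
      exact Subgroup.mem_centralizer_iff.2 (fun y _ => hcomm y x)

/-- PG0: a `p`-group whose abelianization has order dividing `p` is abelian of order dividing `p`. -/
theorem pg0 {P : Type u} [Group P] [Finite P] (hP : IsPGroup p P)
    (h : (commutator P).index ∣ p) : commutator P = ⊥ ∧ Nat.card P ∣ p := by
  have h1 := pg0_aux (p := p) _ P rfl hP h
  refine ⟨h1, ?_⟩
  rw [h1, Subgroup.index_bot] at h
  exact h

/-- PG1 -/
theorem pg1 {P : Type u} [Group P] [Finite P] (hP : IsPGroup p P)
    (hD : (commutator P).index = p ^ 2) (X : Subgroup P) [X.Normal]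
    (hX : ¬ X ≤ commutator P) (hX' : X ≠ ⊤) : X.index = p ∧ commutator P ≤ X := by
  have hpp := hp.out
  have hQ : IsPGroup p (P ⧸ X) := hP.to_quotient X
  have hidxQ : (commutator (P ⧸ X)).index = (commutator P ⊔ X).index := by
    rw [← map_commutator_mk X, Subgroup.index_map, QuotientGroup.ker_mk',
      MonoidHom.range_eq_top.2 (QuotientGroup.mk'_surjective X), Subgroup.index_top, mul_one]
  have hY : (commutator P ⊔ X).index ∣ p := by
    have hdvd : (commutator P ⊔ X).index ∣ p ^ 2 := by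
      rw [← hD]; exact Subgroup.index_dvd_of_le le_sup_left
    apply dvd_of_le_of_dvd_pow hpp hdvd
    by_contra hcon
    push Not at hcon
    obtain ⟨m, hm, hmeq⟩ := (Nat.dvd_prime_pow hpp).1 hdvd
    have hm2 : m = 2 := by
      by_contra hne
      have hm1 : m ≤ 1 := by omega
      have : p ^ m ≤ p ^ 1 := Nat.pow_le_pow_right hpp.pos hm1
      rw [pow_one, ← hmeq] at this
      exact absurd (lt_of_lt_of_le hcon this) (lt_irrefl _)
    apply hX
    have hrel := Subgroup.relIndex_mul_index (le_sup_left : commutator P ≤ commutator P ⊔ X)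
    rw [hmeq, hm2, hD] at hrel
    have hpos : 0 < p ^ 2 := pow_pos hpp.pos 2
    have h1 : (commutator P).relIndex (commutator P ⊔ X) = 1 :=
      Nat.eq_of_mul_eq_mul_right hpos (by rw [hrel, one_mul])
    exact le_sup_right.trans (Subgroup.relIndex_eq_one.1 h1)
  have hcardQ : Nat.card (P ⧸ X) ∣ p := (pg0 hQ (by rw [hidxQ]; exact hY)).2
  have hidx : X.index = p := by
    rw [Subgroup.index_eq_card]
    rcases (Nat.dvd_prime hpp).1 hcardQ with h1 | h1
    · exfalso; apply hX'
      rw [← Subgroup.index_eq_one, Subgroup.index_eq_card]; exact h1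
    · exact h1
  refine ⟨hidx, ?_⟩
  haveI : IsCyclic (P ⧸ X) :=
    isCyclic_of_prime_card (p := p) (by rw [← Subgroup.index_eq_card]; exact hidx)
  exact commutator_le_of_quot_comm X cyclic_comm

/-- PGc: centralizers in a `p`-group of order at least `p ^ 2` have order at least `p ^ 2`. -/
theorem pgc {P : Type u} [Group P] [Finite P] (hP : IsPGroup p P) (h2 : p ^ 2 ∣ Nat.card P)
    (z : P) : p ^ 2 ∣ Nat.card (Subgroup.centralizer ({z} : Set P)) := by
  have hpp := hp.out
  by_cases hz : z ∈ Subgroup.center P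
  · have : Subgroup.centralizer ({z} : Set P) = ⊤ := by
      rw [Subgroup.centralizer_eq_top_iff_subset]
      intro y hy
      rw [Set.mem_singleton_iff] at hy
      rw [hy]; exact hz
    rw [this, Subgroup.card_top]; exact h2
  · obtain ⟨k, hk⟩ := IsPGroup.iff_card.1 (hP.to_subgroup (Subgroup.centralizer ({z} : Set P)))
    obtain ⟨j, hj⟩ := IsPGroup.iff_card.1 (hP.to_subgroup (Subgroup.center P))
    haveI : Nontrivial P := by
      rw [← Finite.one_lt_card_iff_nontrivial]
      have h1 : p ^ 2 ≤ Nat.card P := Nat.le_of_dvd Nat.card_pos h2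
      have h3 : 1 < p ^ 2 := Nat.one_lt_pow (by norm_num) hpp.one_lt
      exact lt_of_lt_of_le h3 h1
    haveI := hP.center_nontrivial
    have hj1 : 1 ≤ j := by
      by_contra hcon
      have hj0 : j = 0 := by omega
      rw [hj0, pow_zero] at hj
      have := Finite.one_lt_card (α := Subgroup.center P)
      omega
    have hk2 : 2 ≤ k := by
      by_contra hcon
      have hk1 : k ≤ j := by omega
      have hle : Subgroup.center P ≤ Subgroup.centralizer ({z} : Set P) :=
        Subgroup.center_le_centralizer _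
      have hcardle : Nat.card (Subgroup.centralizer ({z} : Set P)) ≤
          Nat.card (Subgroup.center P) := by
        rw [hk, hj]; exact Nat.pow_le_pow_right hpp.pos hk1
      have heq := Subgroup.eq_of_le_of_card_ge hle hcardle
      apply hz
      rw [heq]
      exact Subgroup.mem_centralizer_iff.2 (fun y hy => by rw [Set.mem_singleton_iff.1 hy])
    rw [hk]; exact pow_dvd_pow p hk2

/-- PG3 (Suzuki): an element with centralizer of order `p ^ 2` forces `[P : P'] = p ^ 2`. -/
theorem pg3 {P : Type u} [Group P] [Finite P] (hP : IsPGroup p P) (x : P)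
    (hx : Nat.card (Subgroup.centralizer ({x} : Set P)) = p ^ 2) :
    (commutator P).index = p ^ 2 := by
  have hpp := hp.out
  have hwd : ∀ a b : P, (QuotientGroup.leftRel (Subgroup.centralizer ({x} : Set P))) a b →
      (⟨⁅a, x⁆, Subgroup.commutator_mem_commutator (Subgroup.mem_top a) (Subgroup.mem_top x)⟩ :
        commutator P) =
      ⟨⁅b, x⁆, Subgroup.commutator_mem_commutator (Subgroup.mem_top b) (Subgroup.mem_top x)⟩ := by
    intro a b hab
    have hab' : a⁻¹ * b ∈ Subgroup.centralizer ({x} : Set P) := QuotientGroup.leftRel_apply.mp hab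
    have hc : (a⁻¹ * b) * x = x * (a⁻¹ * b) :=
      ((Subgroup.mem_centralizer_iff.1 hab') x rfl).symm
    apply Subtype.ext
    show ⁅a, x⁆ = ⁅b, x⁆
    rw [commutatorElement_def, commutatorElement_def]
    have h2 : b * x * b⁻¹ = a * x * a⁻¹ := by
      calc b * x * b⁻¹ = a * ((a⁻¹ * b) * x * (a⁻¹ * b)⁻¹) * a⁻¹ := by group
        _ = a * (x * (a⁻¹ * b) * (a⁻¹ * b)⁻¹) * a⁻¹ := by rw [hc]
        _ = a * x * a⁻¹ := by group
    rw [h2]
  let f : P ⧸ Subgroup.centralizer ({x} : Set P) → commutator P := fun q =>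
    Quotient.liftOn' q (fun g => (⟨⁅g, x⁆,
      Subgroup.commutator_mem_commutator (Subgroup.mem_top g) (Subgroup.mem_top x)⟩ :
        commutator P)) hwd
  have hf : Function.Injective f := by
    intro q₁ q₂
    refine Quotient.inductionOn₂' q₁ q₂ (fun a b hab => ?_)
    have hab' : ⁅a, x⁆ = ⁅b, x⁆ := congrArg Subtype.val hab
    apply Quotient.sound'
    apply QuotientGroup.leftRel_apply.mpr
    rw [commutatorElement_def, commutatorElement_def] at hab'
    have h3 : a * x * a⁻¹ = b * x * b⁻¹ := mul_right_cancel hab'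
    rw [Subgroup.mem_centralizer_iff]
    intro w hw
    rw [Set.mem_singleton_iff.1 hw]
    calc x * (a⁻¹ * b) = a⁻¹ * (a * x * a⁻¹) * b := by group
      _ = a⁻¹ * (b * x * b⁻¹) * b := by rw [h3]
      _ = a⁻¹ * b * x := by group
  have h1 : (Subgroup.centralizer ({x} : Set P)).index ≤ Nat.card (commutator P) := by
    rw [Subgroup.index_eq_card]; exact Nat.card_le_card_of_injective f hf
  have h2 : (Subgroup.centralizer ({x} : Set P)).index * p ^ 2 = Nat.card P := by
    rw [← hx]; exact Subgroup.index_mul_card _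
  have h3 : Nat.card (commutator P) * (commutator P).index = Nat.card P :=
    Subgroup.card_mul_index _
  have hDpos : 0 < Nat.card (commutator P) := Nat.card_pos
  have hle : (commutator P).index ≤ p ^ 2 := by
    have : Nat.card (commutator P) * (commutator P).index ≤ Nat.card (commutator P) * p ^ 2 := by
      rw [h3, ← h2]; exact Nat.mul_le_mul_right _ h1
    exact Nat.le_of_mul_le_mul_left this hDpos
  obtain ⟨n, hn⟩ := IsPGroup.iff_card.1 hP
  have hdvd : (commutator P).index ∣ p ^ n := by rw [← hn]; exact Subgroup.index_dvd_card _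
  obtain ⟨m, hm, hmeq⟩ := (Nat.dvd_prime_pow hpp).1 hdvd
  have hm2 : m ≤ 2 := by
    rw [hmeq] at hle
    exact (Nat.pow_le_pow_iff_right hpp.one_lt).1 hle
  have hm2' : 2 ≤ m := by
    by_contra hcon
    have hm1 : m ≤ 1 := by omega
    have hdp : (commutator P).index ∣ p := by
      rw [hmeq]
      calc p ^ m ∣ p ^ 1 := pow_dvd_pow p hm1
        _ = p := pow_one p
    have hcard := (pg0 hP hdp).2
    have hle' : Nat.card P ≤ p := Nat.le_of_dvd hpp.pos hcard
    have hCle : Nat.card (Subgroup.centralizer ({x} : Set P)) ≤ Nat.card P := by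
      have := Subgroup.card_le_of_le (le_top : Subgroup.centralizer ({x} : Set P) ≤ ⊤)
      rwa [Subgroup.card_top] at this
    rw [hx] at hCle
    have h5 : p ^ 1 < p ^ 2 := Nat.pow_lt_pow_right hpp.one_lt (by norm_num)
    rw [pow_one] at h5
    exact absurd (lt_of_lt_of_le h5 (hCle.trans hle')) (lt_irrefl _)
  rw [hmeq]
  have : m = 2 := by omega
  rw [this]

/-- the derived subgroup is contained in `[R, P]` when `P / R` is cyclic -/
theorem cyc_quot_commutator_le {P : Type u} [Group P] (R : Subgroup P) [R.Normal]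
    [IsCyclic (P ⧸ R)] : commutator P ≤ ⁅R, (⊤ : Subgroup P)⁆ := by
  haveI : (⁅R, (⊤ : Subgroup P)⁆).Normal := Subgroup.commutator_normal R ⊤
  have hIR : ⁅R, (⊤ : Subgroup P)⁆ ≤ R := Subgroup.commutator_le_left R ⊤
  obtain ⟨f, hf⟩ : ∃ f : P ⧸ ⁅R, (⊤ : Subgroup P)⁆ →* P ⧸ R,
      ∀ y : P, f (y : P ⧸ ⁅R, (⊤ : Subgroup P)⁆) = (y : P ⧸ R) :=
    ⟨QuotientGroup.map _ R (MonoidHom.id P) (fun y hy => hIR hy), fun y => rfl⟩
  have hker : f.ker ≤ Subgroup.center (P ⧸ ⁅R, (⊤ : Subgroup P)⁆) := by
    intro q hq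
    induction q using QuotientGroup.induction_on with
    | H r =>
      rw [MonoidHom.mem_ker, hf, QuotientGroup.eq_one_iff] at hq
      rw [Subgroup.mem_center_iff]
      intro g'
      induction g' using QuotientGroup.induction_on with
      | H g =>
        rw [← QuotientGroup.mk_mul, ← QuotientGroup.mk_mul, QuotientGroup.eq]
        have : (g * r)⁻¹ * (r * g) = ⁅r⁻¹, g⁻¹⁆ := by
          rw [commutatorElement_def]; group
        rw [this]
        exact Subgroup.commutator_mem_commutator (R.inv_mem hq) (Subgroup.mem_top _)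
  exact commutator_le_of_quot_comm _ (commutative_of_cyclic_center_quotient f hker)

/-- the map `r ↦ [r, x]` on an abelian normal subgroup -/
def kappa {P : Type u} [Group P] (R : Subgroup P) [hRn : R.Normal]
    (hab : ∀ a ∈ R, ∀ b ∈ R, a * b = b * a) (x : P) : ↥R →* P where
  toFun r := ⁅(r : P), x⁆
  map_one' := by simp
  map_mul' := by
    intro r s
    have hκR : ∀ t ∈ R, ⁅t, x⁆ ∈ R := by
      intro t ht
      rw [commutatorElement_def]
      have h1 : x * t⁻¹ * x⁻¹ ∈ R := hRn.conj_mem _ (R.inv_mem ht) x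
      have h2 : t * x * t⁻¹ * x⁻¹ = t * (x * t⁻¹ * x⁻¹) := by group
      rw [h2]; exact R.mul_mem ht h1
    have hs := hκR s s.2
    have hcomm := hab (r : P) r.2 _ hs
    show ⁅((r * s : ↥R) : P), x⁆ = ⁅(r : P), x⁆ * ⁅(s : P), x⁆
    have e1 : ⁅((r * s : ↥R) : P), x⁆ = (r : P) * ⁅(s : P), x⁆ * (r : P)⁻¹ * ⁅(r : P), x⁆ := by
      rw [commutatorElement_def, commutatorElement_def, commutatorElement_def, Subgroup.coe_mul]
      group
    have e2 : (r : P) * ⁅(s : P), x⁆ * (r : P)⁻¹ = ⁅(s : P), x⁆ := by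
      rw [hcomm, mul_inv_cancel_right]
    rw [e1, e2]
    exact hab _ hs _ (hκR r r.2)

theorem kappa_apply {P : Type u} [Group P] (R : Subgroup P) [hRn : R.Normal]
    (hab : ∀ a ∈ R, ∀ b ∈ R, a * b = b * a) (x : P) (r : ↥R) :
    kappa R hab x r = ⁅(r : P), x⁆ := rfl

/-- PG2: abelian maximal subgroup and `[P : P'] = p ^ 2` give small centralizers outside. -/
theorem pg2 {P : Type u} [Group P] [Finite P] (hP : IsPGroup p P) (R : Subgroup P)
    [hRn : R.Normal] (hab : ∀ a ∈ R, ∀ b ∈ R, a * b = b * a) (hidx : R.index = p)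
    (hD : (commutator P).index = p ^ 2) (x : P) (hx : x ∉ R) :
    Nat.card (Subgroup.centralizer ({x} : Set P)) ≤ p ^ 2 := by
  have hpp := hp.out
  have hκR : ∀ t ∈ R, ⁅t, x⁆ ∈ R := by
    intro t ht
    rw [commutatorElement_def]
    have h1 : x * t⁻¹ * x⁻¹ ∈ R := hRn.conj_mem _ (R.inv_mem ht) x
    have h2 : t * x * t⁻¹ * x⁻¹ = t * (x * t⁻¹ * x⁻¹) := by group
    rw [h2]; exact R.mul_mem ht h1
  -- decomposition
  have hcardQ : Nat.card (P ⧸ R) = p := by rw [← Subgroup.index_eq_card]; exact hidx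
  have hdecomp : ∀ g : P, ∃ r ∈ R, ∃ k : ℕ, g = r * x ^ k := by
    intro g
    have hx1 : (x : P ⧸ R) ≠ 1 := by
      intro h; exact hx ((QuotientGroup.eq_one_iff x).1 h)
    have htop := zpowers_eq_top_of_prime_card hcardQ hx1
    have hg : (g : P ⧸ R) ∈ Subgroup.zpowers (x : P ⧸ R) := by rw [htop]; exact Subgroup.mem_top _
    rw [← mem_powers_iff_mem_zpowers] at hg
    obtain ⟨k, hk⟩ := (Submonoid.mem_powers_iff _ _).1 hg
    have hk' : ((x ^ k : P) : P ⧸ R) = (g : P ⧸ R) := by rw [QuotientGroup.mk_pow]; exact hk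
    have hmem : (x ^ k)⁻¹ * g ∈ R := QuotientGroup.eq.1 hk'
    refine ⟨x ^ k * ((x ^ k)⁻¹ * g) * (x ^ k)⁻¹, hRn.conj_mem _ hmem _, k, ?_⟩
    group
  -- conjugating kappa by powers of x
  have hconj : ∀ (k : ℕ) (s : P), x ^ k * ⁅s, x⁆ * (x ^ k)⁻¹ = ⁅x ^ k * s * (x ^ k)⁻¹, x⁆ := by
    intro k s
    rw [commutatorElement_def, commutatorElement_def]; group
  have hpow : ∀ (k : ℕ), ∀ s ∈ R, ⁅s, x ^ k⁆ ∈ (kappa R hab x).range := by
    intro k
    induction k with
    | zero =>
      intro s _
      rw [pow_zero, commutatorElement_one_right]; exact Subgroup.one_mem _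
    | succ k ih =>
      intro s hs
      have e : ⁅s, x ^ (k + 1)⁆ = ⁅s, x ^ k⁆ * (x ^ k * ⁅s, x⁆ * (x ^ k)⁻¹) := by
        rw [commutatorElement_def, commutatorElement_def, commutatorElement_def, pow_succ]; group
      rw [e, hconj]
      refine Subgroup.mul_mem _ (ih s hs) ?_
      exact ⟨⟨x ^ k * s * (x ^ k)⁻¹, hRn.conj_mem s hs _⟩, rfl⟩
  have hrangeR : (kappa R hab x).range ≤ R := by
    rintro _ ⟨r, rfl⟩
    exact hκR r r.2
  have hcomm_le : ⁅R, (⊤ : Subgroup P)⁆ ≤ (kappa R hab x).range := by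
    rw [Subgroup.commutator_le]
    intro s hs g _
    obtain ⟨r, hr, k, rfl⟩ := hdecomp g
    have hsr : s * r = r * s := hab s hs r hr
    have hin : ⁅s, x ^ k⁆ ∈ R := hrangeR (hpow k s hs)
    have e1 : ⁅s, r * x ^ k⁆ = r * ⁅s, x ^ k⁆ * r⁻¹ := by
      rw [commutatorElement_def, commutatorElement_def]
      calc s * (r * x ^ k) * s⁻¹ * (r * x ^ k)⁻¹
          = (s * r) * x ^ k * s⁻¹ * ((x ^ k)⁻¹ * r⁻¹) := by group
        _ = (r * s) * x ^ k * s⁻¹ * ((x ^ k)⁻¹ * r⁻¹) := by rw [hsr]
        _ = r * (s * x ^ k * s⁻¹ * (x ^ k)⁻¹) * r⁻¹ := by group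
    rw [e1, hab r hr _ hin, mul_inv_cancel_right]
    exact hpow k s hs
  haveI : IsCyclic (P ⧸ R) := isCyclic_of_prime_card (p := p) hcardQ
  have hP'_le : commutator P ≤ (kappa R hab x).range :=
    (cyc_quot_commutator_le R).trans hcomm_le
  -- counting
  have hcard1 : Nat.card (kappa R hab x).range * Nat.card (kappa R hab x).ker = Nat.card R := by
    rw [← Subgroup.index_ker]; exact Subgroup.index_mul_card _
  have hcard2 : Nat.card (commutator P) ≤ Nat.card (kappa R hab x).range :=
    Subgroup.card_le_of_le hP'_le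
  have hcard3 : Nat.card (commutator P) * p ^ 2 = Nat.card P := by
    rw [← hD]; exact Subgroup.card_mul_index _
  have hcard4 : Nat.card R * p = Nat.card P := by rw [← hidx]; exact Subgroup.card_mul_index _
  have hker_le : Nat.card (kappa R hab x).ker ≤ p := by
    have hIpos : 0 < Nat.card (kappa R hab x).range := Nat.card_pos
    have h1 : Nat.card (kappa R hab x).range * (Nat.card (kappa R hab x).ker * p) ≤
        Nat.card (kappa R hab x).range * (p * p) := by
      calc Nat.card (kappa R hab x).range * (Nat.card (kappa R hab x).ker * p)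
          = Nat.card R * p := by rw [← hcard1]; ring
        _ = Nat.card (commutator P) * p ^ 2 := by rw [hcard4, hcard3]
        _ ≤ Nat.card (kappa R hab x).range * p ^ 2 := Nat.mul_le_mul_right _ hcard2
        _ = Nat.card (kappa R hab x).range * (p * p) := by ring
    have h2 := Nat.le_of_mul_le_mul_left h1 hIpos
    exact Nat.le_of_mul_le_mul_right h2 hpp.pos
  have hinj : Nat.card ↥(Subgroup.centralizer ({x} : Set P) ⊓ R) ≤
      Nat.card (kappa R hab x).ker := by
    let g : ↥(Subgroup.centralizer ({x} : Set P) ⊓ R) → (kappa R hab x).ker := fun c =>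
      ⟨⟨c.1, (Subgroup.mem_inf.1 c.2).2⟩, by
        rw [MonoidHom.mem_ker, kappa_apply]
        show ⁅(c : P), x⁆ = 1
        rw [commutatorElement_eq_one_iff_mul_comm]
        exact ((Subgroup.mem_centralizer_iff.1 (Subgroup.mem_inf.1 c.2).1) x rfl).symm⟩
    apply Nat.card_le_card_of_injective g
    intro c₁ c₂ h
    apply Subtype.ext
    exact congrArg (fun z : (kappa R hab x).ker => ((z : ↥R) : P)) h
  have hrel : (Subgroup.centralizer ({x} : Set P) ⊓ R).relIndex
      (Subgroup.centralizer ({x} : Set P)) ≤ p := by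
    rw [Subgroup.inf_relIndex_left]
    have h1 := Subgroup.relIndex_dvd_index_of_normal R (Subgroup.centralizer ({x} : Set P))
    rw [hidx] at h1
    exact Nat.le_of_dvd hpp.pos h1
  calc Nat.card (Subgroup.centralizer ({x} : Set P))
      = Nat.card ↥(Subgroup.centralizer ({x} : Set P) ⊓ R) *
        (Subgroup.centralizer ({x} : Set P) ⊓ R).relIndex (Subgroup.centralizer ({x} : Set P)) :=
        card_eq_card_mul_relIndex inf_le_left
    _ ≤ p * p := Nat.mul_le_mul (hinj.trans hker_le) hrel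
    _ = p ^ 2 := (pow_two p).symm

end pgroup

section sub
variable {G : Type u} [Group G]

theorem commutator_subgroupOf (H : Subgroup G) : (⁅H, H⁆).subgroupOf H = commutator ↥H := by
  rw [← Subgroup.map_subtype_commutator H]
  exact Subgroup.comap_map_eq_self_of_injective (Subgroup.subtype_injective H) _

theorem centralizer_subgroupOf (H : Subgroup G) (z : G) (hz : z ∈ H) :
    (Subgroup.centralizer ({z} : Set G)).subgroupOf H =
      Subgroup.centralizer ({(⟨z, hz⟩ : ↥H)} : Set ↥H) := by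
  ext y
  rw [Subgroup.mem_subgroupOf, Subgroup.mem_centralizer_iff, Subgroup.mem_centralizer_iff]
  constructor
  · intro h w hw
    rw [Set.mem_singleton_iff.1 hw]
    exact Subtype.ext (h z rfl)
  · intro h w hw
    rw [Set.mem_singleton_iff.1 hw]
    exact congrArg Subtype.val (h ⟨z, hz⟩ rfl)

theorem card_subgroupOf (K H : Subgroup G) :
    Nat.card (K.subgroupOf H) = Nat.card ↥(K ⊓ H) := by
  rw [← Subgroup.inf_subgroupOf_right]
  exact Nat.card_congr (Subgroup.subgroupOfEquivOfLe inf_le_right).toEquiv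

theorem normal_subgroupOf_of_conj {H X : Subgroup G}
    (hnorm : ∀ h ∈ H, ∀ x ∈ X, h * x * h⁻¹ ∈ X) : (X.subgroupOf H).Normal :=
  ⟨fun n hn g => by
    rw [Subgroup.mem_subgroupOf] at hn ⊢
    simpa using hnorm g g.2 n hn⟩

variable [Finite G] {p : ℕ} [hp : Fact p.Prime]

theorem pg0_sub (A : Subgroup G) (hA : IsPGroup p A) (h : (⁅A, A⁆).relIndex A ∣ p) :
    ⁅A, A⁆ = ⊥ := by
  have h' : (commutator ↥A).index ∣ p := by rw [← commutator_subgroupOf]; exact h
  have h1 := (pg0 hA h').1
  rw [← Subgroup.map_subtype_commutator, h1, Subgroup.map_bot]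

theorem pg1_sub (H : Subgroup G) (hH : IsPGroup p H) (hD : (⁅H, H⁆).relIndex H = p ^ 2)
    (X : Subgroup G) (hXH : X ≤ H) (hnorm : ∀ h ∈ H, ∀ x ∈ X, h * x * h⁻¹ ∈ X)
    (hX : ¬ X ≤ ⁅H, H⁆) (hX' : X ≠ H) : X.relIndex H = p ∧ ⁅H, H⁆ ≤ X := by
  haveI : (X.subgroupOf H).Normal := normal_subgroupOf_of_conj hnorm
  have hD' : (commutator ↥H).index = p ^ 2 := by rw [← commutator_subgroupOf]; exact hD
  have h1 : ¬ X.subgroupOf H ≤ commutator ↥H := by
    intro hle
    apply hX
    intro x hx
    have : (⟨x, hXH hx⟩ : ↥H) ∈ (⁅H, H⁆).subgroupOf H := by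
      rw [commutator_subgroupOf]; exact hle (Subgroup.mem_subgroupOf.2 hx)
    exact Subgroup.mem_subgroupOf.1 this
  have h2 : X.subgroupOf H ≠ ⊤ := by
    intro h; exact hX' (le_antisymm hXH (Subgroup.subgroupOf_eq_top.1 h))
  obtain ⟨h3, h4⟩ := pg1 hH hD' (X.subgroupOf H) h1 h2
  refine ⟨h3, ?_⟩
  intro d hd
  have hdH : d ∈ H := commutator_le_self H hd
  have : (⟨d, hdH⟩ : ↥H) ∈ commutator ↥H := by
    rw [← commutator_subgroupOf]; exact Subgroup.mem_subgroupOf.2 hd
  exact Subgroup.mem_subgroupOf.1 (h4 this)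

theorem pgc_sub (H : Subgroup G) (hH : IsPGroup p H) (h2 : p ^ 2 ∣ Nat.card H) (z : G)
    (hz : z ∈ H) : p ^ 2 ∣ Nat.card ↥(Subgroup.centralizer ({z} : Set G) ⊓ H) := by
  rw [← card_subgroupOf, centralizer_subgroupOf H z hz]
  exact pgc hH h2 _

theorem pg3_sub (H : Subgroup G) (hH : IsPGroup p H) (z : G) (hz : z ∈ H)
    (hcard : Nat.card ↥(Subgroup.centralizer ({z} : Set G) ⊓ H) = p ^ 2) :
    (⁅H, H⁆).relIndex H = p ^ 2 := by
  have h1 : (commutator ↥H).index = p ^ 2 :=
    pg3 hH ⟨z, hz⟩ (by rw [← centralizer_subgroupOf H z hz, card_subgroupOf]; exact hcard)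
  rw [← commutator_subgroupOf] at h1; exact h1

theorem pg2_sub (H : Subgroup G) (hH : IsPGroup p H) (R : Subgroup G) (hRH : R ≤ H)
    (hnorm : ∀ h ∈ H, ∀ x ∈ R, h * x * h⁻¹ ∈ R) (hab : ∀ a ∈ R, ∀ b ∈ R, a * b = b * a)
    (hidx : R.relIndex H = p) (hD : (⁅H, H⁆).relIndex H = p ^ 2) (x : G) (hx : x ∈ H)
    (hxR : x ∉ R) : Nat.card ↥(Subgroup.centralizer ({x} : Set G) ⊓ H) ≤ p ^ 2 := by
  haveI : (R.subgroupOf H).Normal := normal_subgroupOf_of_conj hnorm
  have hD' : (commutator ↥H).index = p ^ 2 := by rw [← commutator_subgroupOf]; exact hD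
  have hab' : ∀ a ∈ R.subgroupOf H, ∀ b ∈ R.subgroupOf H, a * b = b * a := fun a ha b hb =>
    Subtype.ext (hab a (Subgroup.mem_subgroupOf.1 ha) b (Subgroup.mem_subgroupOf.1 hb))
  have h1 := pg2 hH (R.subgroupOf H) hab' hidx hD' ⟨x, hx⟩
    (fun h => hxR (Subgroup.mem_subgroupOf.1 h))
  rw [← centralizer_subgroupOf H x hx, card_subgroupOf] at h1
  exact h1

omit [Finite G] hp in
theorem le_of_relIndex_prime {q : ℕ} (hq : q.Prime) {R S H : Subgroup G} (hRS : R ≤ S)
    (hSH : S ≤ H) (hidx : R.relIndex H = q) (hne : ¬ H ≤ S) : S ≤ R := by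
  have h := Subgroup.relIndex_mul_relIndex R S H hRS hSH
  rw [hidx] at h
  have h1 : S.relIndex H ≠ 1 := fun h1 => hne (Subgroup.relIndex_eq_one.1 h1)
  have h2 : S.relIndex H ∣ q := Dvd.intro_left _ h
  rcases (Nat.dvd_prime hq).1 h2 with h3 | h3
  · exact absurd h3 h1
  · rw [h3] at h
    have h4 : R.relIndex S = 1 :=
      Nat.eq_of_mul_eq_mul_right hq.pos (by rw [h, one_mul])
    exact Subgroup.relIndex_eq_one.1 h4

end sub

end Cfsg.Agent.Lib.Helper6.Pq
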