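import Mathlib
import Cfsg.Agent.Lib.Helper6.Pq1
set_option autoImplicit false
open scoped commutatorElement
universe u

/-!
# Internal direct products and a transfer evaluation (helper6)
-/

namespace Cfsg.Agent.Lib.Helper6.Pq

section idp
variable {G : Type u} [Group G]

theorem idp_comm (A B : Subgroup G) (hc : ∀ a ∈ A, ∀ b ∈ B, a * b = b * a) :
    ∀ (a : ↥A) (b : ↥B), Commute (A.subtype a) (B.subtype b) := fun a b => hc a a.2 b b.2

/-- product map of two elementwise commuting subgroups -/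
noncomputable def idpHom (A B : Subgroup G) (hc : ∀ a ∈ A, ∀ b ∈ B, a * b = b * a) :
    ↥A × ↥B →* G :=
  MonoidHom.noncommCoprod A.subtype B.subtype (idp_comm A B hc)

theorem idpHom_apply (A B : Subgroup G) (hc : ∀ a ∈ A, ∀ b ∈ B, a * b = b * a)
    (ab : ↥A × ↥B) : idpHom A B hc ab = (ab.1 : G) * (ab.2 : G) := rfl

theorem idpHom_injective (A B : Subgroup G) (hc : ∀ a ∈ A, ∀ b ∈ B, a * b = b * a)
    (hd : A ⊓ B = ⊥) : Function.Injective (idpHom A B hc) := by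
  unfold idpHom
  rw [MonoidHom.noncommCoprod_injective]
  refine ⟨Subgroup.subtype_injective A, Subgroup.subtype_injective B, ?_⟩
  rw [Subgroup.range_subtype, Subgroup.range_subtype, disjoint_iff]
  exact hd

theorem idpHom_range (A B : Subgroup G) (hc : ∀ a ∈ A, ∀ b ∈ B, a * b = b * a) :
    (idpHom A B hc).range = A ⊔ B := by
  unfold idpHom
  rw [MonoidHom.noncommCoprod_range, Subgroup.range_subtype, Subgroup.range_subtype]

theorem mem_sup_of_commute {A B : Subgroup G} (hc : ∀ a ∈ A, ∀ b ∈ B, a * b = b * a) {x : G}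
    (hx : x ∈ A ⊔ B) : ∃ a ∈ A, ∃ b ∈ B, x = a * b := by
  rw [← idpHom_range A B hc] at hx
  obtain ⟨⟨a, b⟩, rfl⟩ := hx
  exact ⟨a, a.2, b, b.2, rfl⟩

/-- projection of an internal direct product to its first factor -/
noncomputable def idpProj (A B : Subgroup G) (hc : ∀ a ∈ A, ∀ b ∈ B, a * b = b * a)
    (hd : A ⊓ B = ⊥) (R : Subgroup G) (hR : R ≤ A ⊔ B) : ↥R →* ↥A :=
  (MonoidHom.fst ↥A ↥B).comp
    (((MonoidHom.ofInjective (idpHom_injective A B hc hd)).symm.toMonoidHom).comp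
      (Subgroup.inclusion (hR.trans (idpHom_range A B hc).ge)))

theorem idpProj_apply (A B : Subgroup G) (hc : ∀ a ∈ A, ∀ b ∈ B, a * b = b * a)
    (hd : A ⊓ B = ⊥) (R : Subgroup G) (hR : R ≤ A ⊔ B) (r : ↥R) (a : ↥A) (b : ↥B)
    (h : (r : G) = a * b) : idpProj A B hc hd R hR r = a := by
  unfold idpProj
  simp only [MonoidHom.comp_apply, MonoidHom.coe_fst, MulEquiv.coe_toMonoidHom]
  have : (MonoidHom.ofInjective (idpHom_injective A B hc hd)).symm
      (Subgroup.inclusion (hR.trans (idpHom_range A B hc).ge) r) = (a, b) := by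
    rw [MulEquiv.symm_apply_eq]
    apply Subtype.ext
    rw [MonoidHom.ofInjective_apply, idpHom_apply]
    exact h
  rw [this]

end idp

/-- **Transfer evaluation.** If `R ⊴ P`, `R = A × B` internally and every element outside `R`
conjugates `A` into `B`, then `A ∩ P' ≤ A'`. -/
theorem tr {P : Type u} [Group P] [Finite P] (R : Subgroup P) [hRn : R.Normal] (A B : Subgroup P)
    (hA : A ≤ R) (hB : B ≤ R) (hc : ∀ a ∈ A, ∀ b ∈ B, a * b = b * a) (hd : A ⊓ B = ⊥)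
    (hR : R ≤ A ⊔ B) (hout : ∀ t : P, t ∉ R → ∀ a ∈ A, t⁻¹ * a * t ∈ B) :
    A ⊓ commutator P ≤ ⁅A, A⁆ := by
  classical
  intro x hx
  obtain ⟨hxA, hxD⟩ := Subgroup.mem_inf.1 hx
  have hxR : x ∈ R := hA hxA
  haveI : R.FiniteIndex := Subgroup.finiteIndex_of_finite
  obtain ⟨ϕ, hϕ⟩ : ∃ ϕ : ↥R →* Abelianization ↥A,
      ϕ = (Abelianization.of).comp (idpProj A B hc hd R hR) := ⟨_, rfl⟩
  have hϕA : ∀ (r : ↥R) (h : (r : P) ∈ A), ϕ r = Abelianization.of ⟨r, h⟩ := by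
    intro r h
    rw [hϕ, MonoidHom.comp_apply, idpProj_apply A B hc hd R hR r ⟨r, h⟩ 1 (by simp)]
  have hϕB : ∀ (r : ↥R), (r : P) ∈ B → ϕ r = 1 := by
    intro r h
    rw [hϕ, MonoidHom.comp_apply, idpProj_apply A B hc hd R hR r 1 ⟨r, h⟩ (by simp), map_one]
  have hV : MonoidHom.transfer ϕ x = 1 :=
    MonoidHom.mem_ker.1 (Abelianization.commutator_subset_ker (MonoidHom.transfer ϕ) hxD)
  -- evaluation
  obtain ⟨T⟩ : Nonempty R.LeftTransversal := ⟨default⟩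
  have hfix : ∀ q : P ⧸ R, x⁻¹ • q = q := by
    intro q
    induction q using QuotientGroup.induction_on with
    | H g =>
      show ((x⁻¹ * g : P) : P ⧸ R) = (g : P ⧸ R)
      rw [QuotientGroup.eq]
      have : (x⁻¹ * g)⁻¹ * g = g⁻¹ * x * g⁻¹⁻¹ := by group
      rw [this]
      exact hRn.conj_mem x hxR g⁻¹
  have hβ : ∀ q : P ⧸ R, ((x • T).2.leftQuotientEquiv q : P) =
      x * (T.2.leftQuotientEquiv q : P) := by
    intro q
    rw [Subgroup.smul_apply_eq_smul_apply_inv_smul, hfix, smul_eq_mul]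
  have hmem : ∀ q : P ⧸ R, ((T.2.leftQuotientEquiv q : P))⁻¹ *
      ((x • T).2.leftQuotientEquiv q : P) ∈ R := by
    intro q
    rw [hβ]
    have h1 : ((T.2.leftQuotientEquiv q : P))⁻¹ * (x * (T.2.leftQuotientEquiv q : P)) =
        (T.2.leftQuotientEquiv q : P)⁻¹ * x * (T.2.leftQuotientEquiv q : P)⁻¹⁻¹ := by group
    rw [h1]; exact hRn.conj_mem x hxR _
  letI := R.fintypeQuotientOfFiniteIndex
  have key : MonoidHom.transfer ϕ x = ∏ q : P ⧸ R,
      ϕ ⟨((T.2.leftQuotientEquiv q : P))⁻¹ * ((x • T).2.leftQuotientEquiv q : P), hmem q⟩ :=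
    MonoidHom.transfer_def ϕ T x
  have hval : (∏ q : P ⧸ R,
      ϕ ⟨((T.2.leftQuotientEquiv q : P))⁻¹ * ((x • T).2.leftQuotientEquiv q : P), hmem q⟩) =
      ϕ ⟨x, hxR⟩ := by
    refine (Finset.prod_eq_single (1 : P ⧸ R) ?_ ?_).trans ?_
    · intro q _ hq
      apply hϕB
      show ((T.2.leftQuotientEquiv q : P))⁻¹ * ((x • T).2.leftQuotientEquiv q : P) ∈ B
      rw [hβ, ← mul_assoc]
      apply hout _ _ x hxA
      intro ht
      apply hq
      rw [← T.2.quotientGroupMk_leftQuotientEquiv q]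
      exact (QuotientGroup.eq_one_iff _).2 ht
    · intro h; exact absurd (Finset.mem_univ _) h
    · have ht1 : (T.2.leftQuotientEquiv (1 : P ⧸ R) : P) ∈ R := by
        have := T.2.quotientGroupMk_leftQuotientEquiv (1 : P ⧸ R)
        exact (QuotientGroup.eq_one_iff _).1 this
      have e : (⟨((T.2.leftQuotientEquiv (1 : P ⧸ R) : P))⁻¹ *
          ((x • T).2.leftQuotientEquiv (1 : P ⧸ R) : P), hmem 1⟩ : ↥R) =
          (⟨_, ht1⟩ : ↥R)⁻¹ * ⟨x, hxR⟩ * ⟨_, ht1⟩ := by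
        apply Subtype.ext
        show ((T.2.leftQuotientEquiv (1 : P ⧸ R) : P))⁻¹ *
          ((x • T).2.leftQuotientEquiv (1 : P ⧸ R) : P) =
          ((T.2.leftQuotientEquiv (1 : P ⧸ R) : P))⁻¹ * x *
            (T.2.leftQuotientEquiv (1 : P ⧸ R) : P)
        rw [hβ, mul_assoc]
      rw [e, map_mul, map_mul, map_inv, mul_comm, mul_inv_cancel_left]
  rw [key, hval, hϕA ⟨x, hxR⟩ hxA] at hV
  have h1 : (⟨x, hxA⟩ : ↥A) ∈ commutator ↥A := by
    rw [← Abelianization.ker_of]; exact MonoidHom.mem_ker.2 hV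
  rw [← Subgroup.map_subtype_commutator]
  exact ⟨⟨x, hxA⟩, h1, rfl⟩

/-- subgroup version of `tr` -/
theorem tr_sub {G : Type u} [Group G] [Finite G] (H R A B : Subgroup G) (hRH : R ≤ H)
    (hRn : ∀ h ∈ H, ∀ r ∈ R, h * r * h⁻¹ ∈ R) (hA : A ≤ R) (hB : B ≤ R)
    (hc : ∀ a ∈ A, ∀ b ∈ B, a * b = b * a) (hd : A ⊓ B = ⊥) (hR : R ≤ A ⊔ B)
    (hout : ∀ t ∈ H, t ∉ R → ∀ a ∈ A, t⁻¹ * a * t ∈ B) : A ⊓ ⁅H, H⁆ ≤ ⁅A, A⁆ := by
  have hAH := hA.trans hRH
  have hBH := hB.trans hRH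
  haveI : (R.subgroupOf H).Normal := normal_subgroupOf_of_conj hRn
  have key := tr (R.subgroupOf H) (A.subgroupOf H) (B.subgroupOf H)
    (fun y hy => Subgroup.mem_subgroupOf.2 (hA (Subgroup.mem_subgroupOf.1 hy)))
    (fun y hy => Subgroup.mem_subgroupOf.2 (hB (Subgroup.mem_subgroupOf.1 hy)))
    (fun a ha b hb =>
      Subtype.ext (hc a (Subgroup.mem_subgroupOf.1 ha) b (Subgroup.mem_subgroupOf.1 hb)))
    (by
      rw [eq_bot_iff]
      intro y hy
      obtain ⟨h1, h2⟩ := Subgroup.mem_inf.1 hy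
      have : (y : G) ∈ A ⊓ B :=
        Subgroup.mem_inf.2 ⟨Subgroup.mem_subgroupOf.1 h1, Subgroup.mem_subgroupOf.1 h2⟩
      rw [hd, Subgroup.mem_bot] at this
      rw [Subgroup.mem_bot]; exact Subtype.ext this)
    (by
      rw [← Subgroup.subgroupOf_sup hAH hBH]
      intro y hy
      exact Subgroup.mem_subgroupOf.2 (hR (Subgroup.mem_subgroupOf.1 hy)))
    (fun t ht a ha => by
      rw [Subgroup.mem_subgroupOf] at ha ⊢
      have := hout t t.2 (fun h => ht (Subgroup.mem_subgroupOf.2 h)) a ha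
      simpa using this)
  intro x hx
  obtain ⟨hxA, hxD⟩ := Subgroup.mem_inf.1 hx
  have hxH : x ∈ H := hAH hxA
  have h1 : (⟨x, hxH⟩ : ↥H) ∈ A.subgroupOf H ⊓ commutator ↥H := by
    refine Subgroup.mem_inf.2 ⟨Subgroup.mem_subgroupOf.2 hxA, ?_⟩
    rw [← commutator_subgroupOf]; exact Subgroup.mem_subgroupOf.2 hxD
  have h2 := key h1
  have h3 : x ∈ (⁅A.subgroupOf H, A.subgroupOf H⁆).map H.subtype := ⟨⟨x, hxH⟩, h2, rfl⟩
  rw [Subgroup.map_commutator, Subgroup.subgroupOf_map_subtype, inf_eq_left.2 hAH] at h3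
  exact h3

end Cfsg.Agent.Lib.Helper6.Pq
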