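import Mathlib
import Cfsg.Agent.Lib.Helper6.Pq1
import Cfsg.Agent.Lib.Helper6.Fv3
set_option autoImplicit false
open scoped commutatorElement
universe u

/-!
# Conjugates, maximal `p`-subgroups of normal subgroups, and the easy cases (helper6)
-/

namespace Cfsg.Agent.Lib.Helper6.Pq

variable {G : Type u} [Group G]

/-- conjugate subgroup `g A g⁻¹` -/
def cj (g : G) (A : Subgroup G) : Subgroup G := A.map (MulAut.conj g).toMonoidHom

theorem mem_cj {g : G} {A : Subgroup G} {x : G} : x ∈ cj g A ↔ g⁻¹ * x * g ∈ A := by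
  unfold cj
  rw [Subgroup.mem_map]
  constructor
  · rintro ⟨a, ha, rfl⟩
    have : g⁻¹ * ((MulAut.conj g).toMonoidHom a) * g = a := by
      show g⁻¹ * (g * a * g⁻¹) * g = a
      group
    rw [this]; exact ha
  · intro h
    refine ⟨g⁻¹ * x * g, h, ?_⟩
    show g * (g⁻¹ * x * g) * g⁻¹ = x
    group

theorem conj_mem_cj {g a : G} {A : Subgroup G} (ha : a ∈ A) : g * a * g⁻¹ ∈ cj g A := by
  rw [mem_cj]
  have : g⁻¹ * (g * a * g⁻¹) * g = a := by group
  rw [this]; exact ha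

theorem card_cj (g : G) (A : Subgroup G) : Nat.card ↥(cj g A) = Nat.card A :=
  Subgroup.card_map_of_injective (MulAut.conj g).injective

theorem cj_le_of_normal {N : Subgroup G} (hN : N.Normal) {A : Subgroup G} (hA : A ≤ N) (g : G) :
    cj g A ≤ N := by
  intro x hx
  rw [mem_cj] at hx
  have : x = g * (g⁻¹ * x * g) * g⁻¹ := by group
  rw [this]; exact hN.conj_mem _ (hA hx) g

variable [Finite G] {p : ℕ} [hp : Fact p.Prime]

/-- `P ∩ N` is a maximal `p`-subgroup of the normal subgroup `N` -/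
theorem maxp (P : Sylow p G) (N : Subgroup G) [hN : N.Normal] (Q : Subgroup G)
    (hQ : IsPGroup p Q) (h1 : (P : Subgroup G) ⊓ N ≤ Q) (h2 : Q ≤ N) :
    Q = (P : Subgroup G) ⊓ N := by
  obtain ⟨c, hc⟩ := Fv.conj_le_sylow P Q hQ
  have hle : cj c Q ≤ (P : Subgroup G) ⊓ N := by
    intro y hy
    rw [mem_cj] at hy
    have hy' : y = c * (c⁻¹ * y * c) * c⁻¹ := by group
    rw [hy']
    exact Subgroup.mem_inf.2 ⟨hc _ hy, hN.conj_mem _ (h2 hy) c⟩
  have hcard : Nat.card Q ≤ Nat.card ↥((P : Subgroup G) ⊓ N) := by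
    rw [← card_cj c Q]; exact Subgroup.card_le_of_le hle
  exact (Subgroup.eq_of_le_of_card_ge h1 hcard).symm

/-- the backward direction -/
theorem backward (P : Sylow p G) (hbig : p ^ 2 ∣ Nat.card G) (x : G)
    (hx : ∃ k : ℕ, orderOf x = p ^ k)
    (hfac : (Nat.card (Subgroup.centralizer ({x} : Set G))).factorization p = 2) :
    (⁅(P : Subgroup G), (P : Subgroup G)⁆).relIndex (P : Subgroup G) = p ^ 2 := by
  have hpp := hp.out
  have hzp : IsPGroup p (Subgroup.zpowers x) := by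
    obtain ⟨k, hk⟩ := hx
    rw [IsPGroup.iff_card]
    exact ⟨k, by rw [Nat.card_zpowers, hk]⟩
  obtain ⟨c, hc⟩ := Fv.conj_le_sylow P (Subgroup.zpowers x) hzp
  have hx₁P : c * x * c⁻¹ ∈ (P : Subgroup G) := hc x (Subgroup.mem_zpowers x)
  have hBp : IsPGroup p ↥(Subgroup.centralizer ({c * x * c⁻¹} : Set G) ⊓ (P : Subgroup G)) :=
    P.isPGroup'.to_le inf_le_right
  have hle : cj c⁻¹ (Subgroup.centralizer ({c * x * c⁻¹} : Set G) ⊓ (P : Subgroup G)) ≤
      Subgroup.centralizer ({x} : Set G) := by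
    intro y hy
    rw [mem_cj] at hy
    have h1 := (Subgroup.mem_inf.1 hy).1
    rw [Subgroup.mem_centralizer_iff] at h1 ⊢
    intro w hw
    rw [Set.mem_singleton_iff.1 hw]
    have h2 := h1 (c * x * c⁻¹) rfl
    calc x * y = c⁻¹ * ((c * x * c⁻¹) * (c⁻¹⁻¹ * y * c⁻¹)) * c := by group
      _ = c⁻¹ * ((c⁻¹⁻¹ * y * c⁻¹) * (c * x * c⁻¹)) * c := by rw [h2]
      _ = y * x := by group
  have hcardB : Nat.card ↥(Subgroup.centralizer ({c * x * c⁻¹} : Set G) ⊓ (P : Subgroup G)) ∣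
      Nat.card (Subgroup.centralizer ({x} : Set G)) := by
    rw [← card_cj c⁻¹]; exact Subgroup.card_dvd_of_le hle
  obtain ⟨a, ha⟩ := IsPGroup.iff_card.1 hBp
  have hne : Nat.card (Subgroup.centralizer ({x} : Set G)) ≠ 0 := Nat.card_pos.ne'
  have ha2 : a ≤ 2 := by
    rw [ha] at hcardB
    have := (hpp.pow_dvd_iff_le_factorization hne).1 hcardB
    rwa [hfac] at this
  have h2P : p ^ 2 ∣ Nat.card (P : Subgroup G) := P.pow_dvd_card_of_pow_dvd_card hbig
  have ha2' : p ^ 2 ∣ Nat.card ↥(Subgroup.centralizer ({c * x * c⁻¹} : Set G) ⊓ (P : Subgroup G)) :=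
    pgc_sub (P : Subgroup G) P.isPGroup' h2P _ hx₁P
  have hcard : Nat.card ↥(Subgroup.centralizer ({c * x * c⁻¹} : Set G) ⊓ (P : Subgroup G)) =
      p ^ 2 := by
    rw [ha] at ha2' ⊢
    have h2a : 2 ≤ a := (Nat.pow_dvd_pow_iff_le_right hpp.one_lt).1 ha2'
    have : a = 2 := by omega
    rw [this]
  exact pg3_sub (P : Subgroup G) P.isPGroup' _ hx₁P hcard

/-- GL1: a normal subgroup cutting out an abelian maximal subgroup of `P` gives the element. -/
theorem gl1 (P : Sylow p G) (N : Subgroup G) [hN : N.Normal]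
    (hab : ∀ a ∈ (P : Subgroup G) ⊓ N, ∀ b ∈ (P : Subgroup G) ⊓ N, a * b = b * a)
    (hidx : ((P : Subgroup G) ⊓ N).relIndex (P : Subgroup G) = p)
    (hD : (⁅(P : Subgroup G), (P : Subgroup G)⁆).relIndex (P : Subgroup G) = p ^ 2) :
    ∃ x : G, (∃ k : ℕ, orderOf x = p ^ k) ∧
      (Nat.card (Subgroup.centralizer ({x} : Set G))).factorization p = 2 := by
  have hpp := hp.out
  have hex : ∃ x ∈ (P : Subgroup G), x ∉ N := by
    by_contra hcon
    push Not at hcon
    have hle : (P : Subgroup G) ≤ (P : Subgroup G) ⊓ N :=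
      fun y hy => Subgroup.mem_inf.2 ⟨hy, hcon y hy⟩
    rw [Subgroup.relIndex_eq_one.2 hle] at hidx
    exact hpp.one_lt.ne hidx
  obtain ⟨x, hxP, hxN⟩ := hex
  obtain ⟨k, hk⟩ : ∃ k : ℕ, orderOf x = p ^ k := by
    obtain ⟨k, hk⟩ := (IsPGroup.iff_orderOf.1 P.isPGroup') ⟨x, hxP⟩
    exact ⟨k, by rw [← hk, Subgroup.orderOf_mk]⟩
  refine ⟨x, ⟨k, hk⟩, ?_⟩
  have hne : Nat.card (Subgroup.centralizer ({x} : Set G)) ≠ 0 := Nat.card_pos.ne'
  have h2P : p ^ 2 ∣ Nat.card (P : Subgroup G) := by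
    rw [← hD]; exact Subgroup.relIndex_dvd_card _ _
  have hlow : 2 ≤ (Nat.card (Subgroup.centralizer ({x} : Set G))).factorization p := by
    rw [← hpp.pow_dvd_iff_le_factorization hne]
    exact (pgc_sub (P : Subgroup G) P.isPGroup' h2P x hxP).trans
      (Subgroup.card_dvd_of_le inf_le_left)
  have hup : (Nat.card (Subgroup.centralizer ({x} : Set G))).factorization p ≤ 2 := by
    obtain ⟨Q⟩ := (inferInstance : Nonempty (Sylow p ↥(Subgroup.centralizer ({x} : Set G))))
    have hQcard := Q.card_eq_multiplicity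
    have hxC : x ∈ Subgroup.centralizer ({x} : Set G) :=
      Subgroup.mem_centralizer_iff.2 (fun w hw => by rw [Set.mem_singleton_iff.1 hw])
    have hxQ : (⟨x, hxC⟩ : ↥(Subgroup.centralizer ({x} : Set G))) ∈
        (Q : Subgroup ↥(Subgroup.centralizer ({x} : Set G))) := by
      apply Fv.mem_sylow_of_commute Q
      · rw [IsPGroup.iff_card]
        exact ⟨k, by rw [Nat.card_zpowers, Subgroup.orderOf_mk, hk]⟩
      · intro q _
        exact Subtype.ext ((Subgroup.mem_centralizer_iff.1 q.2) x rfl).symm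
    have hQ₁p : IsPGroup p ↥((Q : Subgroup ↥(Subgroup.centralizer ({x} : Set G))).map
        (Subgroup.centralizer ({x} : Set G)).subtype) := Q.isPGroup'.map _
    obtain ⟨c, hc⟩ := Fv.conj_le_sylow P _ hQ₁p
    have hxQ₁ : x ∈ (Q : Subgroup ↥(Subgroup.centralizer ({x} : Set G))).map
        (Subgroup.centralizer ({x} : Set G)).subtype := ⟨⟨x, hxC⟩, hxQ, rfl⟩
    have hx₁P : c * x * c⁻¹ ∈ (P : Subgroup G) := hc x hxQ₁
    have hx₁N : c * x * c⁻¹ ∉ (P : Subgroup G) ⊓ N := by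
      intro h
      apply hxN
      have h1 := hN.conj_mem _ (Subgroup.mem_inf.1 h).2 c⁻¹
      have : c⁻¹ * (c * x * c⁻¹) * c⁻¹⁻¹ = x := by group
      rwa [this] at h1
    have hle : cj c ((Q : Subgroup ↥(Subgroup.centralizer ({x} : Set G))).map
        (Subgroup.centralizer ({x} : Set G)).subtype) ≤
        Subgroup.centralizer ({c * x * c⁻¹} : Set G) ⊓ (P : Subgroup G) := by
      intro y hy
      rw [mem_cj] at hy
      have hyP : y ∈ (P : Subgroup G) := by
        have h1 := hc _ hy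
        have : c * (c⁻¹ * y * c) * c⁻¹ = y := by group
        rwa [this] at h1
      refine Subgroup.mem_inf.2 ⟨?_, hyP⟩
      obtain ⟨z, _, hz⟩ := hy
      have hzC : (c⁻¹ * y * c) ∈ Subgroup.centralizer ({x} : Set G) := by
        rw [← hz]; exact z.2
      have h2 := (Subgroup.mem_centralizer_iff.1 hzC) x rfl
      rw [Subgroup.mem_centralizer_iff]
      intro w hw
      rw [Set.mem_singleton_iff.1 hw]
      calc c * x * c⁻¹ * y = c * (x * (c⁻¹ * y * c)) * c⁻¹ := by group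
        _ = c * ((c⁻¹ * y * c) * x) * c⁻¹ := by rw [h2]
        _ = y * (c * x * c⁻¹) := by group
    have hR_norm : ∀ h ∈ (P : Subgroup G), ∀ r ∈ (P : Subgroup G) ⊓ N,
        h * r * h⁻¹ ∈ (P : Subgroup G) ⊓ N := by
      intro h hh r hr
      obtain ⟨hrP, hrN⟩ := Subgroup.mem_inf.1 hr
      exact Subgroup.mem_inf.2
        ⟨Subgroup.mul_mem _ (Subgroup.mul_mem _ hh hrP) (Subgroup.inv_mem _ hh),
          hN.conj_mem r hrN h⟩
    have h5 := pg2_sub (P : Subgroup G) P.isPGroup' ((P : Subgroup G) ⊓ N) inf_le_left hR_norm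
      hab hidx hD (c * x * c⁻¹) hx₁P hx₁N
    have h6 : Nat.card ↥(cj c ((Q : Subgroup ↥(Subgroup.centralizer ({x} : Set G))).map
        (Subgroup.centralizer ({x} : Set G)).subtype)) ≤ p ^ 2 :=
      (Subgroup.card_le_of_le hle).trans h5
    rw [card_cj, Subgroup.card_map_of_injective (Subgroup.subtype_injective _), hQcard] at h6
    exact (Nat.pow_le_pow_iff_right hpp.one_lt).1 h6
  omega

/-- two normal subgroups of `P` with trivial intersection -/
theorem tn (H : Subgroup G) (hH : IsPGroup p H) (hD : (⁅H, H⁆).relIndex H = p ^ 2)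
    (h3 : p ^ 3 ∣ Nat.card H) (A B : Subgroup G) (hA : A ≤ H) (hB : B ≤ H)
    (hAn : ∀ h ∈ H, ∀ x ∈ A, h * x * h⁻¹ ∈ A) (hBn : ∀ h ∈ H, ∀ x ∈ B, h * x * h⁻¹ ∈ B)
    (hAB : A ⊓ B = ⊥) (hAD : ¬ A ≤ ⁅H, H⁆) : B = ⊥ := by
  have hpp := hp.out
  by_contra hBne
  have hAH : A ≠ H := by
    intro h
    apply hBne
    rw [← hAB, h]; exact (inf_eq_right.2 hB).symm
  obtain ⟨hA1, hA2⟩ := pg1_sub H hH hD A hA hAn hAD hAH
  have hBD : ¬ B ≤ ⁅H, H⁆ := by
    intro h
    apply hBne
    have : B ≤ A ⊓ B := le_inf (h.trans hA2) le_rfl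
    rw [hAB] at this; exact le_bot_iff.1 this
  have hBH : B ≠ H := by
    intro h
    apply hAD
    have : A ≤ A ⊓ B := le_inf le_rfl (by rw [h]; exact hA)
    rw [hAB] at this
    rw [le_bot_iff.1 this]; exact bot_le
  obtain ⟨hB1, _⟩ := pg1_sub H hH hD B hB hBn hBD hBH
  have hcA : Nat.card H = Nat.card A * p := by rw [← hA1]; exact card_eq_card_mul_relIndex hA
  have hcB : Nat.card H = Nat.card B * p := by rw [← hB1]; exact card_eq_card_mul_relIndex hB
  have hinj : Nat.card A * Nat.card B ≤ Nat.card H := by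
    rw [← Nat.card_prod]
    let f : ↥A × ↥B → ↥H := fun ab =>
      ⟨(ab.1 : G) * (ab.2 : G), H.mul_mem (hA ab.1.2) (hB ab.2.2)⟩
    apply Nat.card_le_card_of_injective f
    rintro ⟨a, b⟩ ⟨a', b'⟩ h
    have h' : (a : G) * b = a' * b' := congrArg Subtype.val h
    have hmem : (a' : G)⁻¹ * a ∈ A ⊓ B := by
      refine Subgroup.mem_inf.2 ⟨A.mul_mem (A.inv_mem a'.2) a.2, ?_⟩
      have : (a' : G)⁻¹ * a = b' * (b : G)⁻¹ := by
        calc (a' : G)⁻¹ * a = (a' : G)⁻¹ * (a * b) * (b : G)⁻¹ := by group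
          _ = (a' : G)⁻¹ * (a' * b') * (b : G)⁻¹ := by rw [h']
          _ = b' * (b : G)⁻¹ := by group
      rw [this]; exact B.mul_mem b'.2 (B.inv_mem b.2)
    rw [hAB, Subgroup.mem_bot] at hmem
    have ha : (a : G) = a' := (inv_mul_eq_one.1 hmem).symm
    have hb : (b : G) = b' := by
      rw [ha] at h'; exact mul_left_cancel h'
    exact Prod.ext (Subtype.ext ha) (Subtype.ext hb)
  have h3' : p ^ 3 ≤ Nat.card H := Nat.le_of_dvd Nat.card_pos h3
  have hHpos : 0 < Nat.card H := Nat.card_pos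
  have h4 : Nat.card H * Nat.card H ≤ Nat.card H * (p * p) := by
    calc Nat.card H * Nat.card H = (Nat.card A * p) * (Nat.card B * p) := by
          rw [← hcA, ← hcB]
      _ = (Nat.card A * Nat.card B) * (p * p) := by ring
      _ ≤ Nat.card H * (p * p) := Nat.mul_le_mul_right _ hinj
  have h5 : Nat.card H ≤ p * p := Nat.le_of_mul_le_mul_left h4 hHpos
  have h6 : p * p < p ^ 3 := by
    have : p ^ 2 < p ^ 3 := Nat.pow_lt_pow_right hpp.one_lt (by norm_num)
    rwa [pow_two] at this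
  exact absurd (lt_of_le_of_lt (h3'.trans h5) h6) (lt_irrefl _)

/-- the case `O_p(G) ≠ 1` -/
theorem opcase (P : Sylow p G)
    (hD : (⁅(P : Subgroup G), (P : Subgroup G)⁆).relIndex (P : Subgroup G) = p ^ 2)
    (h3 : p ^ 3 ∣ Nat.card (P : Subgroup G))
    (hcore' : (⁅(P : Subgroup G), (P : Subgroup G)⁆).normalCore = ⊥)
    (hne : (P : Subgroup G).normalCore ≠ ⊥) :
    ∃ x : G, (∃ k : ℕ, orderOf x = p ^ k) ∧
      (Nat.card (Subgroup.centralizer ({x} : Set G))).factorization p = 2 := by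
  have hpp := hp.out
  haveI hR₀n : ((P : Subgroup G).normalCore).Normal := Subgroup.normalCore_normal _
  have hR₀P : (P : Subgroup G).normalCore ≤ (P : Subgroup G) := Subgroup.normalCore_le _
  have hRD : ¬ (P : Subgroup G).normalCore ≤ ⁅(P : Subgroup G), (P : Subgroup G)⁆ := by
    intro h
    apply hne
    have := Subgroup.normal_le_normalCore.2 h
    rw [hcore'] at this
    exact le_bot_iff.1 this
  have hRP : (P : Subgroup G).normalCore ≠ (P : Subgroup G) := by
    intro h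
    haveI : (P : Subgroup G).Normal := h ▸ hR₀n
    haveI : (⁅(P : Subgroup G), (P : Subgroup G)⁆).Normal := Subgroup.commutator_normal _ _
    have hDbot : ⁅(P : Subgroup G), (P : Subgroup G)⁆ = ⊥ := by
      have := Subgroup.normal_le_normalCore.2
        (le_refl ⁅(P : Subgroup G), (P : Subgroup G)⁆)
      rw [hcore'] at this
      exact le_bot_iff.1 this
    rw [hDbot, Subgroup.relIndex_bot_left] at hD
    rw [hD] at h3
    have := (Nat.pow_dvd_pow_iff_le_right hpp.one_lt).1 h3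
    omega
  obtain ⟨hidx, _⟩ := pg1_sub (P : Subgroup G) P.isPGroup' hD _ hR₀P
    (fun t _ r hr => hR₀n.conj_mem r hr t) hRD hRP
  have hab : ∀ a ∈ (P : Subgroup G).normalCore, ∀ b ∈ (P : Subgroup G).normalCore,
      a * b = b * a := by
    haveI : (⁅(P : Subgroup G).normalCore, (P : Subgroup G).normalCore⁆).Normal :=
      Subgroup.commutator_normal _ _
    have hle : ⁅(P : Subgroup G).normalCore, (P : Subgroup G).normalCore⁆ ≤
        ⁅(P : Subgroup G), (P : Subgroup G)⁆ := Subgroup.commutator_mono hR₀P hR₀P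
    have hbot : ⁅(P : Subgroup G).normalCore, (P : Subgroup G).normalCore⁆ = ⊥ := by
      have := Subgroup.normal_le_normalCore.2 hle
      rw [hcore'] at this
      exact le_bot_iff.1 this
    have hcent := Subgroup.commutator_eq_bot_iff_le_centralizer.1 hbot
    intro a ha b hb
    exact ((Subgroup.mem_centralizer_iff.1 (hcent ha)) b hb).symm
  have hinf : (P : Subgroup G) ⊓ (P : Subgroup G).normalCore = (P : Subgroup G).normalCore :=
    inf_eq_right.2 hR₀P
  exact gl1 P _ (by rw [hinf]; exact hab) (by rw [hinf]; exact hidx) hD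

end Cfsg.Agent.Lib.Helper6.Pq
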