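import Mathlib
import Cfsg.Agent.Lib.Helper6.Pq2
import Cfsg.Agent.Lib.Helper6.Pq3
import Cfsg.Agent.Lib.Helper1.Tate2
import Cfsg.Agent.Lib.Helper1.FittingSocle
set_option autoImplicit false
open scoped commutatorElement
universe u

/-!
# Minimal normal subgroups of a minimal normal subgroup, Sylow intersections (helper6)
-/

namespace Cfsg.Agent.Lib.Helper6.Pq

variable {G : Type u} [Group G]

/-- `K` is a minimal nontrivial subgroup of `N` normalised by `N`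
(with `N = ⊤`: a minimal normal subgroup). -/
structure MinNN (N K : Subgroup G) : Prop where
  le : K ≤ N
  ne_bot : K ≠ ⊥
  inv : ∀ n ∈ N, ∀ k ∈ K, n * k * n⁻¹ ∈ K
  min : ∀ B : Subgroup G, B ≤ K → B ≠ ⊥ → (∀ n ∈ N, ∀ b ∈ B, n * b * n⁻¹ ∈ B) → B = K

theorem MinNN.normal {N : Subgroup G} (h : MinNN ⊤ N) : N.Normal :=
  ⟨fun n hn g => h.inv g (Subgroup.mem_top g) n hn⟩

theorem exists_minNN [Finite G] (N A : Subgroup G) (hA : A ≤ N) (hne : A ≠ ⊥)
    (hinv : ∀ n ∈ N, ∀ a ∈ A, n * a * n⁻¹ ∈ A) : ∃ K, K ≤ A ∧ MinNN N K := by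
  obtain ⟨K, hKS, hmin⟩ := wellFounded_lt.has_min
    {B : Subgroup G | B ≤ A ∧ B ≠ ⊥ ∧ ∀ n ∈ N, ∀ b ∈ B, n * b * n⁻¹ ∈ B} ⟨A, le_rfl, hne, hinv⟩
  refine ⟨K, hKS.1, ⟨hKS.1.trans hA, hKS.2.1, hKS.2.2, ?_⟩⟩
  intro B hBK hB hBinv
  by_contra hne'
  exact hmin B ⟨hBK.trans hKS.1, hB, hBinv⟩ (lt_of_le_of_ne hBK hne')

theorem MinNN.conj {N K : Subgroup G} (hN : N.Normal) (h : MinNN N K) (g : G) :
    MinNN N (cj g K) := by
  have hconjN : ∀ n ∈ N, g⁻¹ * n * g ∈ N := fun n hn => by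
    have := hN.conj_mem n hn g⁻¹; rwa [inv_inv] at this
  refine ⟨cj_le_of_normal hN h.le g, ?_, ?_, ?_⟩
  · intro hbot
    apply h.ne_bot
    rw [Subgroup.eq_bot_iff_forall]
    intro k hk
    have h1 : g * k * g⁻¹ ∈ cj g K := conj_mem_cj hk
    rw [hbot, Subgroup.mem_bot] at h1
    calc k = g⁻¹ * (g * k * g⁻¹) * g := by group
      _ = 1 := by rw [h1]; group
  · intro n hn y hy
    rw [mem_cj] at hy ⊢
    have : g⁻¹ * (n * y * n⁻¹) * g = (g⁻¹ * n * g) * (g⁻¹ * y * g) * (g⁻¹ * n * g)⁻¹ := by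
      group
    rw [this]; exact h.inv _ (hconjN n hn) _ hy
  · intro B hB hBne hBinv
    have hB'K : cj g⁻¹ B ≤ K := by
      intro x hx
      rw [mem_cj] at hx
      have h1 := hB hx
      rw [mem_cj] at h1
      have e : g⁻¹ * (g⁻¹⁻¹ * x * g⁻¹) * g = x := by group
      rwa [e] at h1
    have hB'ne : cj g⁻¹ B ≠ ⊥ := by
      intro hbot
      apply hBne
      rw [Subgroup.eq_bot_iff_forall]
      intro b hb
      have h1 : g⁻¹ * b * g⁻¹⁻¹ ∈ cj g⁻¹ B := conj_mem_cj hb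
      rw [hbot, Subgroup.mem_bot] at h1
      calc b = g⁻¹⁻¹ * (g⁻¹ * b * g⁻¹⁻¹) * g⁻¹ := by group
        _ = 1 := by rw [h1]; group
    have hB'inv : ∀ n ∈ N, ∀ b ∈ cj g⁻¹ B, n * b * n⁻¹ ∈ cj g⁻¹ B := by
      intro n hn y hy
      rw [mem_cj] at hy ⊢
      have : g⁻¹⁻¹ * (n * y * n⁻¹) * g⁻¹ =
          (g * n * g⁻¹) * (g⁻¹⁻¹ * y * g⁻¹) * (g * n * g⁻¹)⁻¹ := by group
      rw [this]; exact hBinv _ (hN.conj_mem n hn g) _ hy
    have heq := h.min _ hB'K hB'ne hB'inv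
    apply le_antisymm hB
    intro x hx
    rw [mem_cj, ← heq, mem_cj] at hx
    have e : g⁻¹⁻¹ * (g⁻¹ * x * g) * g⁻¹ = x := by group
    rwa [e] at hx

theorem MinNN.eq_or_disjoint {N A B : Subgroup G} (h₁ : MinNN N A) (h₂ : MinNN N B) :
    A = B ∨ A ⊓ B = ⊥ := by
  by_cases hbot : A ⊓ B = ⊥
  · exact Or.inr hbot
  · left
    have hinv : ∀ n ∈ N, ∀ x ∈ A ⊓ B, n * x * n⁻¹ ∈ A ⊓ B := fun n hn x hx =>
      Subgroup.mem_inf.2 ⟨h₁.inv n hn x (Subgroup.mem_inf.1 hx).1,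
        h₂.inv n hn x (Subgroup.mem_inf.1 hx).2⟩
    have e1 := h₁.min (A ⊓ B) inf_le_left hbot hinv
    have e2 := h₂.min (A ⊓ B) inf_le_right hbot hinv
    exact e1.symm.trans e2

theorem commute_of_disjoint {N A B : Subgroup G} (hA : A ≤ N) (hB : B ≤ N)
    (hAi : ∀ n ∈ N, ∀ a ∈ A, n * a * n⁻¹ ∈ A) (hBi : ∀ n ∈ N, ∀ b ∈ B, n * b * n⁻¹ ∈ B)
    (hd : A ⊓ B = ⊥) : ∀ a ∈ A, ∀ b ∈ B, a * b = b * a := by
  intro a ha b hb
  have h1 : ⁅a, b⁆ ∈ A ⊓ B := by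
    rw [commutatorElement_def]
    refine Subgroup.mem_inf.2 ⟨?_, ?_⟩
    · have : a * b * a⁻¹ * b⁻¹ = a * (b * a⁻¹ * b⁻¹) := by group
      rw [this]; exact A.mul_mem ha (hAi b (hB hb) a⁻¹ (A.inv_mem ha))
    · exact B.mul_mem (hBi a (hA ha) b hb) (B.inv_mem hb)
  rw [hd, Subgroup.mem_bot] at h1
  exact commutatorElement_eq_one_iff_mul_comm.1 h1

theorem iSup_cj_normal (A : Subgroup G) : (⨆ g : G, cj g A).Normal := by
  constructor
  intro n hn h
  refine Subgroup.iSup_induction (fun g : G => cj g A)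
    (C := fun y => h * y * h⁻¹ ∈ ⨆ g : G, cj g A) hn ?_ ?_ ?_
  · intro g y hy
    apply Subgroup.mem_iSup_of_mem (h * g)
    rw [mem_cj] at hy ⊢
    have : (h * g)⁻¹ * (h * y * h⁻¹) * (h * g) = g⁻¹ * y * g := by group
    rw [this]; exact hy
  · show h * 1 * h⁻¹ ∈ _
    rw [mul_one, mul_inv_cancel]; exact Subgroup.one_mem _
  · intro y z hy hz
    have : h * (y * z) * h⁻¹ = (h * y * h⁻¹) * (h * z * h⁻¹) := by group
    rw [this]; exact Subgroup.mul_mem _ hy hz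

theorem le_iSup_cj {N K : Subgroup G} (hN : MinNN ⊤ N) (hK : K ≤ N) (hne : K ≠ ⊥) :
    N ≤ ⨆ g : G, cj g K := by
  have hNn : N.Normal := hN.normal
  have hle : (⨆ g : G, cj g K) ≤ N := iSup_le (fun g => cj_le_of_normal hNn hK g)
  have hKle : K ≤ ⨆ g : G, cj g K := by
    intro k hk
    apply Subgroup.mem_iSup_of_mem (1 : G)
    rw [mem_cj]; simpa using hk
  have hne' : (⨆ g : G, cj g K) ≠ ⊥ := fun h => hne (le_bot_iff.1 (h ▸ hKle))
  have := hN.min _ hle hne' (fun g _ x hx => (iSup_cj_normal K).conj_mem x hx g)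
  exact this.ge

theorem MinNN.centerless {N K : Subgroup G} (hNmin : MinNN ⊤ N) (hK : MinNN N K)
    (hNab : ¬ ∀ a ∈ N, ∀ b ∈ N, a * b = b * a) :
    K ⊓ Subgroup.centralizer (K : Set G) = ⊥ := by
  by_contra hne
  have hNn : N.Normal := hNmin.normal
  have hZinv : ∀ n ∈ N, ∀ z ∈ K ⊓ Subgroup.centralizer (K : Set G),
      n * z * n⁻¹ ∈ K ⊓ Subgroup.centralizer (K : Set G) := by
    intro n hn z hz
    obtain ⟨hzK, hzC⟩ := Subgroup.mem_inf.1 hz
    refine Subgroup.mem_inf.2 ⟨hK.inv n hn z hzK, ?_⟩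
    rw [Subgroup.mem_centralizer_iff] at hzC ⊢
    intro k hk
    have hk' : n⁻¹ * k * n⁻¹⁻¹ ∈ K := hK.inv n⁻¹ (N.inv_mem hn) k hk
    have h1 := hzC _ hk'
    calc k * (n * z * n⁻¹) = n * ((n⁻¹ * k * n⁻¹⁻¹) * z) * n⁻¹ := by group
      _ = n * (z * (n⁻¹ * k * n⁻¹⁻¹)) * n⁻¹ := by rw [h1]
      _ = n * z * n⁻¹ * k := by group
  have hZK : K ⊓ Subgroup.centralizer (K : Set G) = K := hK.min _ inf_le_left hne hZinv
  have hKab : ∀ a ∈ K, ∀ b ∈ K, a * b = b * a := by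
    intro a ha b hb
    have haZ : a ∈ K ⊓ Subgroup.centralizer (K : Set G) := by rw [hZK]; exact ha
    exact ((Subgroup.mem_centralizer_iff.1 (Subgroup.mem_inf.1 haZ).2) b hb).symm
  apply hNab
  have hsup := le_iSup_cj hNmin hK.le hK.ne_bot
  rw [Subgroup.iSup_eq_closure] at hsup
  have hcomm : ∀ a ∈ (⋃ g : G, (cj g K : Set G)), ∀ b ∈ (⋃ g : G, (cj g K : Set G)),
      a * b = b * a := by
    intro a ha b hb
    obtain ⟨g, hg⟩ := Set.mem_iUnion.1 ha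
    obtain ⟨h, hh⟩ := Set.mem_iUnion.1 hb
    have hg' : a ∈ cj g K := hg
    have hh' : b ∈ cj h K := hh
    rcases (hK.conj hNn g).eq_or_disjoint (hK.conj hNn h) with heq | hdis
    · rw [← heq] at hh'
      rw [mem_cj] at hg' hh'
      have h1 := hKab _ hg' _ hh'
      calc a * b = g * ((g⁻¹ * a * g) * (g⁻¹ * b * g)) * g⁻¹ := by group
        _ = g * ((g⁻¹ * b * g) * (g⁻¹ * a * g)) * g⁻¹ := by rw [h1]
        _ = b * a := by group
    · exact commute_of_disjoint (hK.conj hNn g).le (hK.conj hNn h).le (hK.conj hNn g).inv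
        (hK.conj hNn h).inv hdis a hg' b hh'
  intro a ha b hb
  exact closure_comm hcomm a (hsup ha) b (hsup hb)

theorem MinNN.le_sup_centralizer {N K : Subgroup G} (hNmin : MinNN ⊤ N) (hK : MinNN N K) :
    N ≤ K ⊔ (N ⊓ Subgroup.centralizer (K : Set G)) := by
  have hNn : N.Normal := hNmin.normal
  refine (le_iSup_cj hNmin hK.le hK.ne_bot).trans (iSup_le (fun g => ?_))
  rcases (hK.conj hNn g).eq_or_disjoint hK with heq | hdis
  · rw [heq]; exact le_sup_left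
  · refine le_trans ?_ le_sup_right
    intro x hx
    refine Subgroup.mem_inf.2 ⟨(hK.conj hNn g).le hx, ?_⟩
    rw [Subgroup.mem_centralizer_iff]
    intro k hk
    exact (commute_of_disjoint (hK.conj hNn g).le hK.le (hK.conj hNn g).inv hK.inv hdis
      x hx k hk).symm

/-- left projection of a subgroup of an internal direct product -/
def projL (K C R : Subgroup G) (hc : ∀ a ∈ K, ∀ b ∈ C, a * b = b * a) : Subgroup G where
  carrier := {k | k ∈ K ∧ ∃ c ∈ C, k * c ∈ R}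
  one_mem' := ⟨K.one_mem, 1, C.one_mem, by simpa using R.one_mem⟩
  mul_mem' := by
    rintro a b ⟨ha, c₁, hc₁, h₁⟩ ⟨hb, c₂, hc₂, h₂⟩
    refine ⟨K.mul_mem ha hb, c₁ * c₂, C.mul_mem hc₁ hc₂, ?_⟩
    have : a * b * (c₁ * c₂) = (a * c₁) * (b * c₂) := by
      calc a * b * (c₁ * c₂) = a * (b * c₁) * c₂ := by group
        _ = a * (c₁ * b) * c₂ := by rw [hc b hb c₁ hc₁]
        _ = (a * c₁) * (b * c₂) := by group
    rw [this]; exact R.mul_mem h₁ h₂
  inv_mem' := by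
    rintro a ⟨ha, c, hcC, h⟩
    refine ⟨K.inv_mem ha, c⁻¹, C.inv_mem hcC, ?_⟩
    have : a⁻¹ * c⁻¹ = (a * c)⁻¹ := by
      rw [mul_inv_rev]; exact hc a⁻¹ (K.inv_mem ha) c⁻¹ (C.inv_mem hcC)
    rw [this]; exact R.inv_mem h

/-- right projection of a subgroup of an internal direct product -/
def projR (K C R : Subgroup G) (hc : ∀ a ∈ K, ∀ b ∈ C, a * b = b * a) : Subgroup G where
  carrier := {c | c ∈ C ∧ ∃ k ∈ K, k * c ∈ R}
  one_mem' := ⟨C.one_mem, 1, K.one_mem, by simpa using R.one_mem⟩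
  mul_mem' := by
    rintro c₁ c₂ ⟨hc₁, a, ha, h₁⟩ ⟨hc₂, b, hb, h₂⟩
    refine ⟨C.mul_mem hc₁ hc₂, a * b, K.mul_mem ha hb, ?_⟩
    have : a * b * (c₁ * c₂) = (a * c₁) * (b * c₂) := by
      calc a * b * (c₁ * c₂) = a * (b * c₁) * c₂ := by group
        _ = a * (c₁ * b) * c₂ := by rw [hc b hb c₁ hc₁]
        _ = (a * c₁) * (b * c₂) := by group
    rw [this]; exact R.mul_mem h₁ h₂
  inv_mem' := by
    rintro c ⟨hcC, a, ha, h⟩
    refine ⟨C.inv_mem hcC, a⁻¹, K.inv_mem ha, ?_⟩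
    have : a⁻¹ * c⁻¹ = (a * c)⁻¹ := by
      rw [mul_inv_rev]; exact hc a⁻¹ (K.inv_mem ha) c⁻¹ (C.inv_mem hcC)
    rw [this]; exact R.inv_mem h

theorem projL_isPGroup {p : ℕ} {K C R : Subgroup G} (hc : ∀ a ∈ K, ∀ b ∈ C, a * b = b * a)
    (hd : K ⊓ C = ⊥) (hRp : IsPGroup p R) : IsPGroup p (projL K C R hc) := by
  rintro ⟨k, hk, c, hcC, hkc⟩
  obtain ⟨m, hm⟩ := hRp ⟨k * c, hkc⟩
  have hm' : (k * c) ^ (p ^ m) = 1 := by
    have := congrArg Subtype.val hm; simpa using this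
  have hcomm : Commute k c := hc k hk c hcC
  rw [hcomm.mul_pow] at hm'
  have hmem : k ^ (p ^ m) ∈ K ⊓ C := by
    refine Subgroup.mem_inf.2 ⟨K.pow_mem hk _, ?_⟩
    have : k ^ (p ^ m) = (c ^ (p ^ m))⁻¹ := eq_inv_of_mul_eq_one_left hm'
    rw [this]; exact C.inv_mem (C.pow_mem hcC _)
  rw [hd, Subgroup.mem_bot] at hmem
  exact ⟨m, Subtype.ext (by simpa using hmem)⟩

theorem projR_isPGroup {p : ℕ} {K C R : Subgroup G} (hc : ∀ a ∈ K, ∀ b ∈ C, a * b = b * a)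
    (hd : K ⊓ C = ⊥) (hRp : IsPGroup p R) : IsPGroup p (projR K C R hc) := by
  rintro ⟨c, hcC, k, hk, hkc⟩
  obtain ⟨m, hm⟩ := hRp ⟨k * c, hkc⟩
  have hm' : (k * c) ^ (p ^ m) = 1 := by
    have := congrArg Subtype.val hm; simpa using this
  have hcomm : Commute k c := hc k hk c hcC
  rw [hcomm.mul_pow] at hm'
  have hmem : c ^ (p ^ m) ∈ K ⊓ C := by
    refine Subgroup.mem_inf.2 ⟨?_, C.pow_mem hcC _⟩
    have : c ^ (p ^ m) = (k ^ (p ^ m))⁻¹ := eq_inv_of_mul_eq_one_right hm'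
    rw [this]; exact K.inv_mem (K.pow_mem hk _)
  rw [hd, Subgroup.mem_bot] at hmem
  exact ⟨m, Subtype.ext (by simpa using hmem)⟩

/-- the `P`-orbit join of `P ∩ K` -/
def orbSup (H K : Subgroup G) : Subgroup G := ⨆ t : ↥H, H ⊓ cj (t : G) K

theorem orbSup_le (H K : Subgroup G) : orbSup H K ≤ H := iSup_le (fun _ => inf_le_left)

theorem inf_le_orbSup (H K : Subgroup G) : H ⊓ K ≤ orbSup H K := by
  intro k hk
  apply Subgroup.mem_iSup_of_mem (1 : ↥H)
  refine Subgroup.mem_inf.2 ⟨(Subgroup.mem_inf.1 hk).1, ?_⟩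
  rw [mem_cj]; simpa using (Subgroup.mem_inf.1 hk).2

theorem orbSup_conj (H K : Subgroup G) : ∀ s ∈ H, ∀ e ∈ orbSup H K, s * e * s⁻¹ ∈ orbSup H K := by
  intro s hs e he
  refine Subgroup.iSup_induction (fun t : ↥H => H ⊓ cj (t : G) K)
    (C := fun y => s * y * s⁻¹ ∈ orbSup H K) he ?_ ?_ ?_
  · intro t y hy
    apply Subgroup.mem_iSup_of_mem (⟨s, hs⟩ * t : ↥H)
    obtain ⟨hyP, hyK⟩ := Subgroup.mem_inf.1 hy
    refine Subgroup.mem_inf.2 ⟨H.mul_mem (H.mul_mem hs hyP) (H.inv_mem hs), ?_⟩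
    rw [mem_cj] at hyK ⊢
    have : ((⟨s, hs⟩ * t : ↥H) : G)⁻¹ * (s * y * s⁻¹) * ((⟨s, hs⟩ * t : ↥H) : G) =
        (t : G)⁻¹ * y * t := by
      simp only [Subgroup.coe_mul]; group
    rw [this]; exact hyK
  · show s * 1 * s⁻¹ ∈ _
    rw [mul_one, mul_inv_cancel]; exact Subgroup.one_mem _
  · intro y z hy hz
    have : s * (y * z) * s⁻¹ = (s * y * s⁻¹) * (s * z * s⁻¹) := by group
    rw [this]; exact Subgroup.mul_mem _ hy hz

section sylow
variable [Finite G] {p : ℕ} [hp : Fact p.Prime]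

/-- The Sylow subgroup of a normal subgroup cut out by a Sylow subgroup of `G`. -/
noncomputable def sylowInf (P : Sylow p G) (N : Subgroup G) [N.Normal] : Sylow p ↥N where
  toSubgroup := (P : Subgroup G).subgroupOf N
  isPGroup' := P.isPGroup'.comap_subtype
  is_maximal' := by
    intro Q hQ hle
    have h1 : (P : Subgroup G) ⊓ N ≤ Q.map N.subtype := by
      intro x hx
      obtain ⟨hxP, hxN⟩ := Subgroup.mem_inf.1 hx
      exact ⟨⟨x, hxN⟩, hle (Subgroup.mem_subgroupOf.2 hxP), rfl⟩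
    have h2 : Q.map N.subtype ≤ N := by
      rintro _ ⟨y, _, rfl⟩; exact y.2
    have h3 := maxp P N (Q.map N.subtype) (hQ.map _) h1 h2
    apply le_antisymm _ hle
    intro y hy
    have : (y : G) ∈ Q.map N.subtype := ⟨y, hy, rfl⟩
    rw [h3] at this
    exact Subgroup.mem_subgroupOf.2 (Subgroup.mem_inf.1 this).1

theorem nconj (P : Sylow p G) (N : Subgroup G) [hN : N.Normal] (g : G) :
    ∃ n ∈ N, ∀ y ∈ cj g ((P : Subgroup G) ⊓ N), n * y * n⁻¹ ∈ (P : Subgroup G) ⊓ N := by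
  have hp' : IsPGroup p (cj g ((P : Subgroup G) ⊓ N)) :=
    (P.isPGroup'.to_le inf_le_left).map _
  have hleN : cj g ((P : Subgroup G) ⊓ N) ≤ N := cj_le_of_normal hN inf_le_right g
  obtain ⟨c, hc⟩ := Fv.conj_le_sylow (sylowInf P N)
    ((cj g ((P : Subgroup G) ⊓ N)).subgroupOf N) hp'.comap_subtype
  refine ⟨c, c.2, fun y hy => ?_⟩
  have h0 : (c * ⟨y, hleN hy⟩ * c⁻¹ : ↥N) ∈ (P : Subgroup G).subgroupOf N :=
    hc ⟨y, hleN hy⟩ (Subgroup.mem_subgroupOf.2 hy)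
  have h1 : ((c * ⟨y, hleN hy⟩ * c⁻¹ : ↥N) : G) ∈ (P : Subgroup G) :=
    Subgroup.mem_subgroupOf.1 h0
  exact Subgroup.mem_inf.2 ⟨h1, hN.conj_mem _ (hleN hy) c⟩

/-- an `N`-invariant subgroup of the minimal normal subgroup `N` containing `P ∩ N` is `N` -/
theorem eq_of_sylow_le (P : Sylow p G) {N : Subgroup G} (hNmin : MinNN ⊤ N)
    (hRne : (P : Subgroup G) ⊓ N ≠ ⊥) (B : Subgroup G) (hB : B ≤ N)
    (hBinv : ∀ n ∈ N, ∀ b ∈ B, n * b * n⁻¹ ∈ B) (hRB : (P : Subgroup G) ⊓ N ≤ B) : B = N := by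
  haveI hNn : N.Normal := hNmin.normal
  apply le_antisymm hB
  refine (le_iSup_cj hNmin inf_le_right hRne).trans (iSup_le (fun g y hy => ?_))
  obtain ⟨n, hn, hny⟩ := nconj P N g
  have h1 := hRB (hny y hy)
  have h2 := hBinv n⁻¹ (N.inv_mem hn) _ h1
  have e : n⁻¹ * (n * y * n⁻¹) * n⁻¹⁻¹ = y := by group
  rwa [e] at h2

/-- Sylow subgroups of internal direct products split -/
theorem sylprod (P : Sylow p G) (N : Subgroup G) [hN : N.Normal] (K C : Subgroup G)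
    (hK : K ≤ N) (hC : C ≤ N) (hc : ∀ a ∈ K, ∀ b ∈ C, a * b = b * a) (hd : K ⊓ C = ⊥)
    (hNle : N ≤ K ⊔ C) :
    (P : Subgroup G) ⊓ N ≤ ((P : Subgroup G) ⊓ K) ⊔ ((P : Subgroup G) ⊓ C) := by
  have hRp : IsPGroup p ↥((P : Subgroup G) ⊓ N) := P.isPGroup'.to_le inf_le_left
  have hL := projL_isPGroup (R := (P : Subgroup G) ⊓ N) hc hd hRp
  have hRr := projR_isPGroup (R := (P : Subgroup G) ⊓ N) hc hd hRp
  have hLK : projL K C ((P : Subgroup G) ⊓ N) hc ≤ K := fun k hk => hk.1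
  have hRC : projR K C ((P : Subgroup G) ⊓ N) hc ≤ C := fun c hcR => hcR.1
  have hnorm : projL K C ((P : Subgroup G) ⊓ N) hc ≤
      Subgroup.normalizer ((projR K C ((P : Subgroup G) ⊓ N) hc : Subgroup G) : Set G) := by
    refine le_trans ?_ (Subgroup.centralizer_le_normalizer _)
    intro k hk
    rw [Subgroup.mem_centralizer_iff]
    intro c hcR
    exact (hc k hk.1 c (hRC hcR)).symm
  have hsupP := IsPGroup.to_sup_of_normal_right' hL hRr hnorm
  have hRle : (P : Subgroup G) ⊓ N ≤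
      projL K C ((P : Subgroup G) ⊓ N) hc ⊔ projR K C ((P : Subgroup G) ⊓ N) hc := by
    intro r hr
    obtain ⟨k, hk, c, hcC, rfl⟩ := mem_sup_of_commute hc (hNle (Subgroup.mem_inf.1 hr).2)
    exact Subgroup.mul_mem _ (Subgroup.mem_sup_left ⟨hk, c, hcC, hr⟩)
      (Subgroup.mem_sup_right ⟨hcC, k, hk, hr⟩)
  have hsupN : projL K C ((P : Subgroup G) ⊓ N) hc ⊔ projR K C ((P : Subgroup G) ⊓ N) hc ≤ N :=
    sup_le (hLK.trans hK) (hRC.trans hC)
  have heq := maxp P N _ hsupP hRle hsupN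
  have h1 : projL K C ((P : Subgroup G) ⊓ N) hc ≤ (P : Subgroup G) ⊓ K := by
    intro k hk
    have : k ∈ (P : Subgroup G) ⊓ N := by rw [← heq]; exact Subgroup.mem_sup_left hk
    exact Subgroup.mem_inf.2 ⟨(Subgroup.mem_inf.1 this).1, hk.1⟩
  have h2 : projR K C ((P : Subgroup G) ⊓ N) hc ≤ (P : Subgroup G) ⊓ C := by
    intro c hcR
    have : c ∈ (P : Subgroup G) ⊓ N := by rw [← heq]; exact Subgroup.mem_sup_right hcR
    exact Subgroup.mem_inf.2 ⟨(Subgroup.mem_inf.1 this).1, hcR.1⟩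
  exact hRle.trans (sup_le_sup h1 h2)

/-- a minimal normal subgroup is not abelian when `O_p(G) = O_{p'}(G) = 1` -/
theorem not_abelian_of_min (P : Sylow p G) {N : Subgroup G} (hNmin : MinNN ⊤ N)
    (hOp : ∀ A : Subgroup G, A.Normal → IsPGroup p A → A = ⊥)
    (hOp' : ∀ A : Subgroup G, A.Normal → (Nat.card A).Coprime p → A = ⊥) :
    ¬ ∀ a ∈ N, ∀ b ∈ N, a * b = b * a := by
  intro hab
  haveI hNn : N.Normal := hNmin.normal
  have hRp : IsPGroup p ↥((P : Subgroup G) ⊓ N) := P.isPGroup'.to_le inf_le_left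
  have hRn : ((P : Subgroup G) ⊓ N).Normal := by
    constructor
    intro r hr g
    have hcjp : IsPGroup p (cj g ((P : Subgroup G) ⊓ N)) := hRp.map _
    have hcjN : cj g ((P : Subgroup G) ⊓ N) ≤ N := cj_le_of_normal hNn inf_le_right g
    have hnorm : (P : Subgroup G) ⊓ N ≤
        Subgroup.normalizer ((cj g ((P : Subgroup G) ⊓ N) : Subgroup G) : Set G) := by
      refine le_trans ?_ (Subgroup.centralizer_le_normalizer _)
      intro a ha
      rw [Subgroup.mem_centralizer_iff]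
      intro b hb
      exact hab b (hcjN hb) a (Subgroup.mem_inf.1 ha).2
    have hQ := IsPGroup.to_sup_of_normal_right' hRp hcjp hnorm
    have heq := maxp P N _ hQ le_sup_left (sup_le inf_le_right hcjN)
    have h1 : g * r * g⁻¹ ∈ ((P : Subgroup G) ⊓ N) ⊔ cj g ((P : Subgroup G) ⊓ N) :=
      Subgroup.mem_sup_right (conj_mem_cj hr)
    rwa [heq] at h1
  have hRbot : (P : Subgroup G) ⊓ N = ⊥ := hOp _ hRn hRp
  have hcop : (Nat.card N).Coprime p :=
    Helper1.Tate.coprime_card_of_normal_inf_sylow_eq_bot P N (by rw [inf_comm]; exact hRbot)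
  exact hNmin.ne_bot (hOp' N hNn hcop)

/-- Tate: a minimal normal subgroup is not inside the Frattini subgroup of `P` -/
theorem not_le_frattini (P : Sylow p G) {N : Subgroup G} (hNmin : MinNN ⊤ N)
    (hOp : ∀ A : Subgroup G, A.Normal → IsPGroup p A → A = ⊥)
    (hOp' : ∀ A : Subgroup G, A.Normal → (Nat.card A).Coprime p → A = ⊥) :
    ¬ (P : Subgroup G) ⊓ N ≤ (frattini ↥(P : Subgroup G)).map (P : Subgroup G).subtype := by
  intro hle
  have hpp := hp.out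
  haveI hNn : N.Normal := hNmin.normal
  have hMn : (Subgroup.closure {g : G | g ∈ N ∧ (orderOf g).Coprime p}).Normal := by
    constructor
    intro n hn g
    refine Subgroup.closure_induction
      (p := fun y _ => g * y * g⁻¹ ∈ Subgroup.closure {g : G | g ∈ N ∧ (orderOf g).Coprime p})
      ?_ ?_ ?_ ?_ hn
    · intro y hy
      apply Subgroup.subset_closure
      refine ⟨hNn.conj_mem y hy.1 g, ?_⟩
      have : orderOf (g * y * g⁻¹) = orderOf y := by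
        have := MulEquiv.orderOf_eq (MulAut.conj g) y
        rwa [MulAut.conj_apply] at this
      rw [this]; exact hy.2
    · show g * 1 * g⁻¹ ∈ _
      rw [mul_one, mul_inv_cancel]; exact Subgroup.one_mem _
    · intro y z _ _ hy hz
      have : g * (y * z) * g⁻¹ = (g * y * g⁻¹) * (g * z * g⁻¹) := by group
      rw [this]; exact Subgroup.mul_mem _ hy hz
    · intro y _ hy
      have : g * y⁻¹ * g⁻¹ = (g * y * g⁻¹)⁻¹ := by group
      rw [this]; exact Subgroup.inv_mem _ hy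
  have hMle : Subgroup.closure {g : G | g ∈ N ∧ (orderOf g).Coprime p} ≤ N :=
    (Subgroup.closure_le _).2 (fun y hy => hy.1)
  by_cases hM : Subgroup.closure {g : G | g ∈ N ∧ (orderOf g).Coprime p} = ⊥
  · have hNp : IsPGroup p N := by
      rintro ⟨g, hg⟩
      have hord : orderOf g ≠ 0 := (orderOf_pos g).ne'
      obtain ⟨e, m, hm, hem⟩ := Nat.exists_eq_pow_mul_and_not_dvd hord p hpp.ne_one
      have hmem : g ^ (p ^ e) ∈ {g : G | g ∈ N ∧ (orderOf g).Coprime p} := by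
        refine ⟨N.pow_mem hg _, ?_⟩
        have hpe : p ^ e ≠ 0 := pow_ne_zero _ hpp.ne_zero
        rw [orderOf_pow_of_dvd hpe (by rw [hem]; exact dvd_mul_right _ _), hem,
          Nat.mul_div_cancel_left _ (pow_pos hpp.pos e)]
        exact (Nat.Coprime.symm ((Nat.Prime.coprime_iff_not_dvd hpp).2 hm))
      have h1 : g ^ (p ^ e) ∈ Subgroup.closure {g : G | g ∈ N ∧ (orderOf g).Coprime p} :=
        Subgroup.subset_closure hmem
      rw [hM, Subgroup.mem_bot] at h1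
      exact ⟨e, Subtype.ext (by simpa using h1)⟩
    exact hNmin.ne_bot (hOp N hNn hNp)
  · have hMN := hNmin.min _ hMle hM (fun g _ x hx => hMn.conj_mem x hx g)
    have hgen : N ≤ Subgroup.closure {g : G | g ∈ N ∧ (orderOf g).Coprime p} := hMN.ge
    have h1 := Helper1.Tate.tate_key P N (by rw [inf_comm]; exact hle) hgen
    have hcop := Helper1.Tate.coprime_card_of_normal_inf_sylow_eq_bot P N h1
    exact hNmin.ne_bot (hOp' N hNn hcop)

theorem commutator_le_frattini_map (P : Sylow p G) :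
    ⁅(P : Subgroup G), (P : Subgroup G)⁆ ≤
      (frattini ↥(P : Subgroup G)).map (P : Subgroup G).subtype := by
  haveI : Group.IsNilpotent ↥(P : Subgroup G) := P.isPGroup'.isNilpotent
  rw [← Subgroup.map_subtype_commutator]
  exact Subgroup.map_mono Helper1.commutator_le_frattini_of_isNilpotent

end sylow

end Cfsg.Agent.Lib.Helper6.Pq
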