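import Mathlib
import Cfsg.Agent.Lib.Helper6.Pq4
set_option autoImplicit false
open scoped commutatorElement
universe u

/-!
# The case `O_p(G) = O_{p'}(G) = 1` (helper6)
-/

namespace Cfsg.Agent.Lib.Helper6.Pq

variable {G : Type u} [Group G]

theorem inf_conj (H N : Subgroup G) (hN : N.Normal) :
    ∀ h ∈ H, ∀ r ∈ H ⊓ N, h * r * h⁻¹ ∈ H ⊓ N := by
  intro h hh r hr
  obtain ⟨hrH, hrN⟩ := Subgroup.mem_inf.1 hr
  exact Subgroup.mem_inf.2 ⟨H.mul_mem (H.mul_mem hh hrH) (H.inv_mem hh), hN.conj_mem r hrN h⟩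

variable [Finite G] {p : ℕ} [hp : Fact p.Prime]

/-- uniqueness of the minimal normal subgroup -/
theorem uniq_min (P : Sylow p G)
    (hD : (⁅(P : Subgroup G), (P : Subgroup G)⁆).relIndex (P : Subgroup G) = p ^ 2)
    (h3 : p ^ 3 ∣ Nat.card (P : Subgroup G))
    (hOp : ∀ A : Subgroup G, A.Normal → IsPGroup p A → A = ⊥)
    (hOp' : ∀ A : Subgroup G, A.Normal → (Nat.card A).Coprime p → A = ⊥)
    {N N₂ : Subgroup G} (hN : MinNN ⊤ N) (hN₂ : MinNN ⊤ N₂) : N₂ = N := by
  by_contra hne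
  rcases hN.eq_or_disjoint hN₂ with h | hdis
  · exact hne h.symm
  · have hNn := hN.normal
    have hN₂n := hN₂.normal
    have hAD : ¬ (P : Subgroup G) ⊓ N ≤ ⁅(P : Subgroup G), (P : Subgroup G)⁆ := fun h =>
      not_le_frattini P hN hOp hOp' (h.trans (commutator_le_frattini_map P))
    have hdisj : ((P : Subgroup G) ⊓ N) ⊓ ((P : Subgroup G) ⊓ N₂) = ⊥ := by
      rw [eq_bot_iff, ← hdis]
      exact le_inf (inf_le_left.trans inf_le_right) (inf_le_right.trans inf_le_right)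
    have hB := tn (P : Subgroup G) P.isPGroup' hD h3 _ _ inf_le_left inf_le_left
      (inf_conj (P : Subgroup G) N hNn) (inf_conj (P : Subgroup G) N₂ hN₂n) hdisj hAD
    apply not_le_frattini P hN₂ hOp hOp'
    rw [hB]; exact bot_le

/-- the minimal normal subgroup is not simple -/
theorem exists_proper_minNN (P : Sylow p G)
    (hD : (⁅(P : Subgroup G), (P : Subgroup G)⁆).relIndex (P : Subgroup G) = p ^ 2)
    (h3 : p ^ 3 ∣ Nat.card (P : Subgroup G))
    (hOp : ∀ A : Subgroup G, A.Normal → IsPGroup p A → A = ⊥)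
    (hOp' : ∀ A : Subgroup G, A.Normal → (Nat.card A).Coprime p → A = ⊥)
    (hnas : ¬ ∃ S : Subgroup G, S.Normal ∧ IsSimpleGroup S ∧ ¬ IsMulCommutative S ∧
      Subgroup.centralizer (S : Set G) = ⊥)
    {N : Subgroup G} (hN : MinNN ⊤ N) : ∃ K, MinNN N K ∧ K ≠ N := by
  by_contra hno
  push Not at hno
  have hNn := hN.normal
  have hNab := not_abelian_of_min P hN hOp hOp'
  have hsimple : IsSimpleGroup ↥N := by
    refine { toNontrivial := (Subgroup.nontrivial_iff_ne_bot N).2 hN.ne_bot,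
             eq_bot_or_eq_top_of_normal := fun H hH => ?_ }
    by_contra hcon
    push Not at hcon
    obtain ⟨hHb, hHt⟩ := hcon
    have hA_le : H.map N.subtype ≤ N := by
      rintro _ ⟨y, _, rfl⟩; exact y.2
    have hA_ne : H.map N.subtype ≠ ⊥ := by
      intro h
      apply hHb
      rw [Subgroup.eq_bot_iff_forall]
      intro y hy
      have : (y : G) ∈ H.map N.subtype := ⟨y, hy, rfl⟩
      rw [h, Subgroup.mem_bot] at this
      exact Subtype.ext this
    have hA_inv : ∀ n ∈ N, ∀ a ∈ H.map N.subtype, n * a * n⁻¹ ∈ H.map N.subtype := by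
      rintro n hn _ ⟨y, hy, rfl⟩
      exact ⟨⟨n, hn⟩ * y * ⟨n, hn⟩⁻¹, hH.conj_mem y hy ⟨n, hn⟩, rfl⟩
    obtain ⟨K, hKA, hK⟩ := exists_minNN N _ hA_le hA_ne hA_inv
    apply hHt
    rw [Subgroup.eq_top_iff']
    intro y
    have hy : (y : G) ∈ H.map N.subtype := hKA (by rw [hno K hK]; exact y.2)
    obtain ⟨z, hz, hzy⟩ := hy
    have hzy' : z = y := Subtype.ext hzy
    rw [← hzy']; exact hz
  have hnc : ¬ IsMulCommutative ↥N := by
    intro hc
    apply hNab
    intro a ha b hb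
    have := hc.is_comm.comm (⟨a, ha⟩ : ↥N) ⟨b, hb⟩
    exact congrArg Subtype.val this
  have hZne : Subgroup.centralizer (N : Set G) ≠ ⊥ := fun h => hnas ⟨N, hNn, hsimple, hnc, h⟩
  haveI := hNn
  have hZn : (Subgroup.centralizer (N : Set G)).Normal := Subgroup.normal_centralizer
  obtain ⟨N₂, hN₂Z, hN₂⟩ := exists_minNN ⊤ _ le_top hZne (fun g _ z hz => hZn.conj_mem z hz g)
  have heq := uniq_min P hD h3 hOp hOp' hN hN₂
  apply hNab
  intro a ha b hb
  have haZ : a ∈ Subgroup.centralizer (N : Set G) := hN₂Z (by rw [heq]; exact ha)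
  exact ((Subgroup.mem_centralizer_iff.1 haZ) b hb).symm

/-- the case `O_p(G) = O_{p'}(G) = 1` -/
theorem heavy (P : Sylow p G)
    (hD : (⁅(P : Subgroup G), (P : Subgroup G)⁆).relIndex (P : Subgroup G) = p ^ 2)
    (h3 : p ^ 3 ∣ Nat.card (P : Subgroup G))
    (hOp : ∀ A : Subgroup G, A.Normal → IsPGroup p A → A = ⊥)
    (hOp' : ∀ A : Subgroup G, A.Normal → (Nat.card A).Coprime p → A = ⊥)
    (hnas : ¬ ∃ S : Subgroup G, S.Normal ∧ IsSimpleGroup S ∧ ¬ IsMulCommutative S ∧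
      Subgroup.centralizer (S : Set G) = ⊥) :
    ∃ x : G, (∃ k : ℕ, orderOf x = p ^ k) ∧
      (Nat.card (Subgroup.centralizer ({x} : Set G))).factorization p = 2 := by
  have hpp := hp.out
  have hPp := P.isPGroup'
  have htop : (⊤ : Subgroup G) ≠ ⊥ := by
    intro h
    have hP1 : (P : Subgroup G) = ⊥ := le_bot_iff.1 (h ▸ le_top)
    rw [hP1, Subgroup.card_bot] at h3
    have h4 := Nat.le_of_dvd one_pos h3
    have h1 : 1 < p ^ 3 := Nat.one_lt_pow (by norm_num) hpp.one_lt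
    omega
  obtain ⟨N, -, hN⟩ := exists_minNN (⊤ : Subgroup G) ⊤ le_rfl htop
    (fun _ _ _ _ => Subgroup.mem_top _)
  haveI hNn : N.Normal := hN.normal
  have hNab := not_abelian_of_min P hN hOp hOp'
  have hRΦ := not_le_frattini P hN hOp hOp'
  have hDΦ := commutator_le_frattini_map P
  have hRD : ¬ (P : Subgroup G) ⊓ N ≤ ⁅(P : Subgroup G), (P : Subgroup G)⁆ :=
    fun h => hRΦ (h.trans hDΦ)
  have hRne : (P : Subgroup G) ⊓ N ≠ ⊥ := fun h => hRD (by rw [h]; exact bot_le)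
  have hRnorm := inf_conj (P : Subgroup G) N hNn
  obtain ⟨K, hK, hKN⟩ := exists_proper_minNN P hD h3 hOp hOp' hnas hN
  have hcent := MinNN.centerless hN hK hNab
  have hKC_c : ∀ a ∈ K, ∀ b ∈ N ⊓ Subgroup.centralizer (K : Set G), a * b = b * a := by
    intro a ha b hb
    exact (Subgroup.mem_centralizer_iff.1 (Subgroup.mem_inf.1 hb).2) a ha
  have hKC_d : K ⊓ (N ⊓ Subgroup.centralizer (K : Set G)) = ⊥ := by
    rw [eq_bot_iff, ← hcent]
    exact le_inf inf_le_left (inf_le_right.trans inf_le_right)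
  have hNle := MinNN.le_sup_centralizer hN hK
  have hCinv : ∀ n ∈ N, ∀ c ∈ N ⊓ Subgroup.centralizer (K : Set G),
      n * c * n⁻¹ ∈ N ⊓ Subgroup.centralizer (K : Set G) := by
    intro n hn c hcC
    obtain ⟨hcN, hcK⟩ := Subgroup.mem_inf.1 hcC
    refine Subgroup.mem_inf.2 ⟨N.mul_mem (N.mul_mem hn hcN) (N.inv_mem hn), ?_⟩
    rw [Subgroup.mem_centralizer_iff] at hcK ⊢
    intro k hk
    have hk' : n⁻¹ * k * n⁻¹⁻¹ ∈ K := hK.inv n⁻¹ (N.inv_mem hn) k hk
    have h1 := hcK _ hk'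
    calc k * (n * c * n⁻¹) = n * ((n⁻¹ * k * n⁻¹⁻¹) * c) * n⁻¹ := by group
      _ = n * (c * (n⁻¹ * k * n⁻¹⁻¹)) * n⁻¹ := by rw [h1]
      _ = n * c * n⁻¹ * k := by group
  have hCN : N ⊓ Subgroup.centralizer (K : Set G) ≠ N := by
    intro h
    apply hK.ne_bot
    have : K ≤ K ⊓ (N ⊓ Subgroup.centralizer (K : Set G)) :=
      le_inf le_rfl (by rw [h]; exact hK.le)
    rw [hKC_d] at this; exact le_bot_iff.1 this
  have hsp := sylprod P N K _ hK.le inf_le_left hKC_c hKC_d hNle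
  have hRK : (P : Subgroup G) ⊓ K ≠ ⊥ := by
    intro h
    apply hCN
    apply eq_of_sylow_le P hN hRne _ inf_le_left hCinv
    refine hsp.trans ?_
    rw [h, bot_sup_eq]; exact inf_le_right
  have hRC : (P : Subgroup G) ⊓ (N ⊓ Subgroup.centralizer (K : Set G)) ≠ ⊥ := by
    intro h
    apply hKN
    apply eq_of_sylow_le P hN hRne _ hK.le hK.inv
    refine hsp.trans ?_
    rw [h, sup_bot_eq]; exact inf_le_right
  have hRKRC : ((P : Subgroup G) ⊓ K) ⊓
      ((P : Subgroup G) ⊓ (N ⊓ Subgroup.centralizer (K : Set G))) = ⊥ := by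
    rw [eq_bot_iff, ← hKC_d]
    exact le_inf (inf_le_left.trans inf_le_right) (inf_le_right.trans inf_le_right)
  have hRK_le : (P : Subgroup G) ⊓ K ≤ (P : Subgroup G) ⊓ N := inf_le_inf_left _ hK.le
  have hRC_le : (P : Subgroup G) ⊓ (N ⊓ Subgroup.centralizer (K : Set G)) ≤
      (P : Subgroup G) ⊓ N := inf_le_inf_left _ inf_le_left
  by_cases hnormK : (P : Subgroup G) ≤ Subgroup.normalizer (K : Set G)
  · exfalso
    have hRKn : ∀ t ∈ (P : Subgroup G), ∀ a ∈ (P : Subgroup G) ⊓ K,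
        t * a * t⁻¹ ∈ (P : Subgroup G) ⊓ K := by
      intro t ht a ha
      obtain ⟨haP, haK⟩ := Subgroup.mem_inf.1 ha
      exact Subgroup.mem_inf.2
        ⟨Subgroup.mul_mem _ (Subgroup.mul_mem _ ht haP) (Subgroup.inv_mem _ ht),
          (Subgroup.mem_normalizer_iff.1 (hnormK ht) a).1 haK⟩
    have hRCn : ∀ t ∈ (P : Subgroup G),
        ∀ c ∈ (P : Subgroup G) ⊓ (N ⊓ Subgroup.centralizer (K : Set G)),
        t * c * t⁻¹ ∈ (P : Subgroup G) ⊓ (N ⊓ Subgroup.centralizer (K : Set G)) := by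
      intro t ht c hcc
      obtain ⟨hcP, hcC⟩ := Subgroup.mem_inf.1 hcc
      obtain ⟨hcN, hcK⟩ := Subgroup.mem_inf.1 hcC
      refine Subgroup.mem_inf.2
        ⟨Subgroup.mul_mem _ (Subgroup.mul_mem _ ht hcP) (Subgroup.inv_mem _ ht),
          Subgroup.mem_inf.2 ⟨hNn.conj_mem c hcN t, ?_⟩⟩
      rw [Subgroup.mem_centralizer_iff] at hcK ⊢
      intro k hk
      have hk' : t⁻¹ * k * t⁻¹⁻¹ ∈ K :=
        (Subgroup.mem_normalizer_iff.1 (hnormK (Subgroup.inv_mem _ ht)) k).1 hk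
      have h1 := hcK _ hk'
      calc k * (t * c * t⁻¹) = t * ((t⁻¹ * k * t⁻¹⁻¹) * c) * t⁻¹ := by group
        _ = t * (c * (t⁻¹ * k * t⁻¹⁻¹)) * t⁻¹ := by rw [h1]
        _ = t * c * t⁻¹ * k := by group
    by_cases h1 : (P : Subgroup G) ⊓ K ≤
        (frattini ↥(P : Subgroup G)).map (P : Subgroup G).subtype
    · have h2 : ¬ (P : Subgroup G) ⊓ (N ⊓ Subgroup.centralizer (K : Set G)) ≤
          (frattini ↥(P : Subgroup G)).map (P : Subgroup G).subtype :=
        fun h2 => hRΦ (hsp.trans (sup_le h1 h2))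
      have h3' : ¬ (P : Subgroup G) ⊓ (N ⊓ Subgroup.centralizer (K : Set G)) ≤
          ⁅(P : Subgroup G), (P : Subgroup G)⁆ := fun h => h2 (h.trans hDΦ)
      exact hRK (tn (P : Subgroup G) hPp hD h3 _ _ (hRC_le.trans inf_le_left)
        (hRK_le.trans inf_le_left) hRCn hRKn (by rw [inf_comm]; exact hRKRC) h3')
    · have h3' : ¬ (P : Subgroup G) ⊓ K ≤ ⁅(P : Subgroup G), (P : Subgroup G)⁆ :=
        fun h => h1 (h.trans hDΦ)
      exact hRC (tn (P : Subgroup G) hPp hD h3 _ _ (hRK_le.trans inf_le_left)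
        (hRC_le.trans inf_le_left) hRKn hRCn hRKRC h3')
  · have hNK : N ≤ Subgroup.normalizer (K : Set G) := by
      intro n hn
      rw [Subgroup.mem_normalizer_iff]
      intro h
      constructor
      · intro hh; exact hK.inv n hn h hh
      · intro hh
        have h1 := hK.inv n⁻¹ (N.inv_mem hn) _ hh
        have e : n⁻¹ * (n * h * n⁻¹) * n⁻¹⁻¹ = h := by group
        rwa [e] at h1
    have hRP : (P : Subgroup G) ⊓ N ≠ (P : Subgroup G) := by
      intro h
      apply hnormK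
      calc (P : Subgroup G) = (P : Subgroup G) ⊓ N := h.symm
        _ ≤ Subgroup.normalizer (K : Set G) := inf_le_right.trans hNK
    obtain ⟨hRidx, hDR⟩ := pg1_sub (P : Subgroup G) hPp hD _ inf_le_left hRnorm hRD hRP
    have hS : (P : Subgroup G) ⊓ Subgroup.normalizer (K : Set G) ≤ (P : Subgroup G) ⊓ N :=
      le_of_relIndex_prime hpp (le_inf inf_le_left (inf_le_right.trans hNK)) inf_le_left hRidx
        (fun h => hnormK (h.trans inf_le_right))
    have hstab : ∀ t ∈ (P : Subgroup G), t ∉ N → t ∉ Subgroup.normalizer (K : Set G) :=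
      fun t ht htN htK => htN (Subgroup.mem_inf.1 (hS (Subgroup.mem_inf.2 ⟨ht, htK⟩))).2
    have hout : ∀ t ∈ (P : Subgroup G), t ∉ (P : Subgroup G) ⊓ N → ∀ a ∈ (P : Subgroup G) ⊓ K,
        t⁻¹ * a * t ∈ (P : Subgroup G) ⊓ (N ⊓ Subgroup.centralizer (K : Set G)) := by
      intro t ht htR a ha
      obtain ⟨haP, haK⟩ := Subgroup.mem_inf.1 ha
      have htN : t ∉ N := fun h => htR (Subgroup.mem_inf.2 ⟨ht, h⟩)
      have hK' := hK.conj hNn t⁻¹
      have hne : cj t⁻¹ K ≠ K := by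
        intro heq
        apply hstab t ht htN
        rw [Subgroup.mem_normalizer_iff]
        intro h
        constructor
        · intro hh
          have h5 : h ∈ cj t⁻¹ K := by rw [heq]; exact hh
          rw [mem_cj, inv_inv] at h5
          exact h5
        · intro hh
          have h5 : h ∈ cj t⁻¹ K := by rw [mem_cj, inv_inv]; exact hh
          rwa [heq] at h5
      rcases hK'.eq_or_disjoint hK with h | hdis
      · exact absurd h hne
      · have hcomm := commute_of_disjoint hK'.le hK.le hK'.inv hK.inv hdis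
        have hy : t⁻¹ * a * t ∈ cj t⁻¹ K := by
          rw [mem_cj]
          have e : t⁻¹⁻¹ * (t⁻¹ * a * t) * t⁻¹ = a := by group
          rw [e]; exact haK
        refine Subgroup.mem_inf.2
          ⟨Subgroup.mul_mem _ (Subgroup.mul_mem _ (Subgroup.inv_mem _ ht) haP) ht,
            Subgroup.mem_inf.2 ⟨hK'.le hy, ?_⟩⟩
        rw [Subgroup.mem_centralizer_iff]
        intro k hk
        exact (hcomm _ hy k hk).symm
    have hTR := tr_sub (P : Subgroup G) ((P : Subgroup G) ⊓ N) ((P : Subgroup G) ⊓ K)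
      ((P : Subgroup G) ⊓ (N ⊓ Subgroup.centralizer (K : Set G)))
      inf_le_left hRnorm hRK_le hRC_le
      (fun a ha b hb => hKC_c a (Subgroup.mem_inf.1 ha).2 b (Subgroup.mem_inf.1 hb).2)
      hRKRC hsp hout
    have hDRidx : (⁅(P : Subgroup G), (P : Subgroup G)⁆).relIndex ((P : Subgroup G) ⊓ N) = p := by
      have h1 := Subgroup.relIndex_mul_relIndex _ _ _ hDR
        (inf_le_left : (P : Subgroup G) ⊓ N ≤ (P : Subgroup G))
      rw [hRidx, hD, pow_two] at h1
      exact Nat.eq_of_mul_eq_mul_right hpp.pos h1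
    have hRKp : IsPGroup p ↥((P : Subgroup G) ⊓ K) := hPp.to_le inf_le_left
    have hdvdp : (⁅(P : Subgroup G) ⊓ K, (P : Subgroup G) ⊓ K⁆).relIndex
        ((P : Subgroup G) ⊓ K) ∣ p := by
      obtain ⟨j, hj⟩ := IsPGroup.iff_card.1 hRKp
      have h1 : (⁅(P : Subgroup G) ⊓ K, (P : Subgroup G) ⊓ K⁆).relIndex
          ((P : Subgroup G) ⊓ K) ∣ p ^ j := by
        rw [← hj]; exact Subgroup.relIndex_dvd_card _ _
      apply dvd_of_le_of_dvd_pow hpp h1
      have h2 : (⁅(P : Subgroup G) ⊓ K, (P : Subgroup G) ⊓ K⁆).relIndex ((P : Subgroup G) ⊓ K) ∣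
          (((P : Subgroup G) ⊓ K) ⊓ ⁅(P : Subgroup G), (P : Subgroup G)⁆).relIndex
            ((P : Subgroup G) ⊓ K) :=
        Subgroup.relIndex_dvd_of_le_left _ hTR
      rw [Subgroup.inf_relIndex_left] at h2
      have h4 : (⁅(P : Subgroup G), (P : Subgroup G)⁆).relIndex ((P : Subgroup G) ⊓ K) ≤
          (⁅(P : Subgroup G), (P : Subgroup G)⁆).relIndex ((P : Subgroup G) ⊓ N) :=
        Subgroup.relIndex_le_of_le_right hRK_le (by rw [hDRidx]; exact hpp.ne_zero)
      have h5 : (⁅(P : Subgroup G), (P : Subgroup G)⁆).relIndex ((P : Subgroup G) ⊓ K) ≠ 0 :=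
        Subgroup.index_ne_zero_of_finite
      exact (Nat.le_of_dvd (Nat.pos_of_ne_zero h5) h2).trans (h4.trans hDRidx.le)
    have hRKab : ⁅(P : Subgroup G) ⊓ K, (P : Subgroup G) ⊓ K⁆ = ⊥ := pg0_sub _ hRKp hdvdp
    have hRKD : ¬ (P : Subgroup G) ⊓ K ≤ ⁅(P : Subgroup G), (P : Subgroup G)⁆ := by
      intro h
      apply hRK
      have h1 : (P : Subgroup G) ⊓ K ≤ ⁅(P : Subgroup G) ⊓ K, (P : Subgroup G) ⊓ K⁆ :=
        (le_inf le_rfl h).trans hTR
      rw [hRKab] at h1; exact le_bot_iff.1 h1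
    have hE_le : orbSup (P : Subgroup G) K ≤ (P : Subgroup G) ⊓ N := by
      unfold orbSup
      exact iSup_le (fun t => inf_le_inf_left _ (hK.conj hNn t).le)
    have hED : ¬ orbSup (P : Subgroup G) K ≤ ⁅(P : Subgroup G), (P : Subgroup G)⁆ :=
      fun h => hRKD ((inf_le_orbSup _ K).trans h)
    have hEP : orbSup (P : Subgroup G) K ≠ (P : Subgroup G) := by
      intro h
      apply hRP
      apply le_antisymm inf_le_left
      calc (P : Subgroup G) = orbSup (P : Subgroup G) K := h.symm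
        _ ≤ (P : Subgroup G) ⊓ N := hE_le
    obtain ⟨hEidx, _⟩ := pg1_sub (P : Subgroup G) hPp hD (orbSup (P : Subgroup G) K)
      (orbSup_le _ K) (orbSup_conj _ K) hED hEP
    have hER : orbSup (P : Subgroup G) K = (P : Subgroup G) ⊓ N := by
      apply Subgroup.eq_of_le_of_card_ge hE_le
      have c1 := card_eq_card_mul_relIndex (orbSup_le (P : Subgroup G) K)
      have c2 := card_eq_card_mul_relIndex (inf_le_left : (P : Subgroup G) ⊓ N ≤ (P : Subgroup G))
      rw [hEidx] at c1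
      rw [hRidx] at c2
      have h6 : Nat.card ↥(orbSup (P : Subgroup G) K) * p =
          Nat.card ↥((P : Subgroup G) ⊓ N) * p := by rw [← c1, ← c2]
      exact (Nat.eq_of_mul_eq_mul_right hpp.pos h6).ge
    have hRKcomm : ∀ a ∈ (P : Subgroup G) ⊓ K, ∀ b ∈ (P : Subgroup G) ⊓ K, a * b = b * a := by
      have hcent' := Subgroup.commutator_eq_bot_iff_le_centralizer.1 hRKab
      intro a ha b hb
      exact ((Subgroup.mem_centralizer_iff.1 (hcent' ha)) b hb).symm
    have hEab : ∀ a ∈ orbSup (P : Subgroup G) K, ∀ b ∈ orbSup (P : Subgroup G) K,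
        a * b = b * a := by
      have hcl : orbSup (P : Subgroup G) K = Subgroup.closure
          (⋃ t : ↥(P : Subgroup G), (((P : Subgroup G) ⊓ cj (t : G) K : Subgroup G) : Set G)) :=
        Subgroup.iSup_eq_closure _
      rw [hcl]
      apply closure_comm
      intro a ha b hb
      obtain ⟨t, hat⟩ := Set.mem_iUnion.1 ha
      obtain ⟨s, hbs⟩ := Set.mem_iUnion.1 hb
      have hat' : a ∈ (P : Subgroup G) ⊓ cj (t : G) K := hat
      have hbs' : b ∈ (P : Subgroup G) ⊓ cj (s : G) K := hbs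
      obtain ⟨haP, haK⟩ := Subgroup.mem_inf.1 hat'
      obtain ⟨hbP, hbK⟩ := Subgroup.mem_inf.1 hbs'
      rcases (hK.conj hNn t).eq_or_disjoint (hK.conj hNn s) with heq | hdis
      · rw [← heq] at hbK
        rw [mem_cj] at haK hbK
        have ha' : (t : G)⁻¹ * a * t ∈ (P : Subgroup G) ⊓ K := Subgroup.mem_inf.2
          ⟨Subgroup.mul_mem _ (Subgroup.mul_mem _ (Subgroup.inv_mem _ t.2) haP) t.2, haK⟩
        have hb' : (t : G)⁻¹ * b * t ∈ (P : Subgroup G) ⊓ K := Subgroup.mem_inf.2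
          ⟨Subgroup.mul_mem _ (Subgroup.mul_mem _ (Subgroup.inv_mem _ t.2) hbP) t.2, hbK⟩
        have h1 := hRKcomm _ ha' _ hb'
        calc a * b = t * (((t : G)⁻¹ * a * t) * ((t : G)⁻¹ * b * t)) * (t : G)⁻¹ := by group
          _ = t * (((t : G)⁻¹ * b * t) * ((t : G)⁻¹ * a * t)) * (t : G)⁻¹ := by rw [h1]
          _ = b * a := by group
      · exact commute_of_disjoint (hK.conj hNn t).le (hK.conj hNn s).le (hK.conj hNn t).inv
          (hK.conj hNn s).inv hdis a haK b hbK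
    have hRab : ∀ a ∈ (P : Subgroup G) ⊓ N, ∀ b ∈ (P : Subgroup G) ⊓ N, a * b = b * a := by
      rw [← hER]; exact hEab
    exact gl1 P N hRab hRidx hD

end Cfsg.Agent.Lib.Helper6.Pq
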