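import Mathlib
import Cfsg.Agent.Lib.Helper3.CD9
import Cfsg.Agent.Lib.Helper6.Ito

set_option autoImplicit false
set_option linter.unusedSectionVars false
set_option linter.unusedVariables false

/-! General lemmas towards Isaacs' Theorem 12.15 (three character degrees). -/

namespace Cfsg.Agent.Lib.Helper6.TD

open Cfsg Cfsg.Agent.Lib.Helper6 Cfsg.Agent.Lib.Helper3 Cfsg.Agent.Lib.Helper3.CD
open scoped commutatorElement

/-- at most three character degrees `1, m, n` -/
def ThreeDeg (G : Type*) [Group G] (m n : ℕ) : Prop :=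
  ∀ χ : Cfsg.IrrCharacter G, Cfsg.charDegree (χ : G → ℂ) = 1 ∨
    Cfsg.charDegree (χ : G → ℂ) = m ∨ Cfsg.charDegree (χ : G → ℂ) = n

theorem ThreeDeg.symm {G : Type*} [Group G] {m n : ℕ} (h : ThreeDeg G m n) : ThreeDeg G n m := by
  intro χ
  rcases h χ with h1 | h1 | h1
  · exact Or.inl h1
  · exact Or.inr (Or.inr h1)
  · exact Or.inr (Or.inl h1)

theorem ThreeDeg.quotient {G : Type*} [Group G] [Finite G] {m n : ℕ} (h : ThreeDeg G m n)
    (K : Subgroup G) [hK : K.Normal] : ThreeDeg (G ⧸ K) m n := by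
  intro β
  obtain ⟨χ, _, hdeg⟩ := exists_inflation K β
  rw [← hdeg]
  exact h χ

/-- with at most two degrees the commutator subgroup is abelian -/
theorem two_deg_comm {G : Type*} [Group G] [Finite G] (m : ℕ)
    (hcd : ∀ χ : Cfsg.IrrCharacter G, Cfsg.charDegree (χ : G → ℂ) = 1 ∨
      Cfsg.charDegree (χ : G → ℂ) = m) :
    ∀ a ∈ commutator G, ∀ b ∈ commutator G, a * b = b * a := by
  by_cases hall : ∀ χ : Cfsg.IrrCharacter G, Cfsg.charDegree (χ : G → ℂ) = 1
  · intro a _ b _
    exact comm_of_all_linear hall a b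
  · push Not at hall
    obtain ⟨χ₀, hχ₀⟩ := hall
    have hm : Cfsg.charDegree (χ₀ : G → ℂ) = m := (hcd χ₀).resolve_left hχ₀
    have hm1 : m ≠ 1 := by rw [← hm]; exact hχ₀
    exact commutator_comm_of_two_degrees m hcd ⟨χ₀, hm⟩ hm1

theorem derivedSeries_two_eq_bot_of_comm {G : Type*} [Group G]
    (h : ∀ a ∈ commutator G, ∀ b ∈ commutator G, a * b = b * a) : derivedSeries G 2 = ⊥ := by
  rw [derivedSeries_succ, derivedSeries_one, eq_bot_iff, Subgroup.commutator_le]
  intro a ha b hb
  rw [Subgroup.mem_bot, commutatorElement_eq_one_iff_mul_comm]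
  exact h a ha b hb

theorem derivedSeries_two_eq_bot_of_two_deg {G : Type*} [Group G] [Finite G] (m : ℕ)
    (hcd : ∀ χ : Cfsg.IrrCharacter G, Cfsg.charDegree (χ : G → ℂ) = 1 ∨
      Cfsg.charDegree (χ : G → ℂ) = m) : derivedSeries G 2 = ⊥ :=
  derivedSeries_two_eq_bot_of_comm (two_deg_comm m hcd)

theorem derivedSeries_le_of_quotient {G : Type*} [Group G] (N : Subgroup G) [hN : N.Normal]
    (k : ℕ) (h : derivedSeries (G ⧸ N) k = ⊥) : derivedSeries G k ≤ N := by
  have h1 := map_derivedSeries_eq (QuotientGroup.mk'_surjective N) k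
  rw [h] at h1
  intro x hx
  have h2 : QuotientGroup.mk' N x ∈ (derivedSeries G k).map (QuotientGroup.mk' N) :=
    Subgroup.mem_map_of_mem _ hx
  rw [h1, Subgroup.mem_bot, QuotientGroup.mk'_apply, QuotientGroup.eq_one_iff] at h2
  exact h2

/-- the principle (★), group-theoretic form -/
theorem star_group {G : Type*} [Group G] (H : Subgroup G) [hH : H.Normal]
    (hab : ∀ a ∈ (⁅H, H⁆ : Subgroup G), ∀ b ∈ (⁅H, H⁆ : Subgroup G), a * b = b * a)
    (hQ : derivedSeries (G ⧸ (⁅H, H⁆ : Subgroup G)) 2 = ⊥) : derivedSeries G 3 = ⊥ := by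
  have h2 : derivedSeries G 2 ≤ (⁅H, H⁆ : Subgroup G) := derivedSeries_le_of_quotient _ 2 hQ
  rw [derivedSeries_succ, eq_bot_iff, Subgroup.commutator_le]
  intro a ha b hb
  rw [Subgroup.mem_bot, commutatorElement_eq_one_iff_mul_comm]
  exact hab a (h2 ha) b (h2 hb)

/-- the principle (★), character degree form -/
theorem star_cd {G : Type*} [Group G] [Finite G] (H : Subgroup G) [hH : H.Normal] (d e : ℕ)
    (hd : ∀ θ : Cfsg.IrrCharacter H, Cfsg.charDegree (θ : H → ℂ) = 1 ∨
      Cfsg.charDegree (θ : H → ℂ) = d)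
    (he : ∀ β : Cfsg.IrrCharacter (G ⧸ (⁅H, H⁆ : Subgroup G)),
      Cfsg.charDegree (β : G ⧸ (⁅H, H⁆ : Subgroup G) → ℂ) = 1 ∨
      Cfsg.charDegree (β : G ⧸ (⁅H, H⁆ : Subgroup G) → ℂ) = e) : derivedSeries G 3 = ⊥ := by
  apply star_group H
  · have hc := two_deg_comm d hd
    intro a ha b hb
    rw [← Subgroup.map_subtype_commutator] at ha hb
    obtain ⟨a', ha', rfl⟩ := ha
    obtain ⟨b', hb', rfl⟩ := hb
    have := hc a' ha' b' hb'
    rw [← map_mul, ← map_mul, this]
  · exact derivedSeries_two_eq_bot_of_two_deg e he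

/-- Hall subgroup degrees: for a normal Hall subgroup `H`, the degree of `θ ∈ Irr(H)` is the
`|H|`-part (gcd) of the degree of any character above it -/
theorem hall_degree {G : Type*} [Group G] [Finite G] (H : Subgroup G) [hH : H.Normal]
    (hcop : (Nat.card H).Coprime H.index) (θ : Cfsg.IrrCharacter H) :
    ∃ χ : Cfsg.IrrCharacter G,
      Cfsg.charDegree (θ : H → ℂ) = Nat.gcd (Cfsg.charDegree (χ : G → ℂ)) (Nat.card H) := by
  have : Fintype H := Fintype.ofFinite H
  obtain ⟨χ, h1, h2⟩ := exists_over_degree H θ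
  refine ⟨χ, ?_⟩
  set d := Cfsg.charDegree (θ : H → ℂ) with hd
  have hdpos : 0 < d := IsIrrCharacter.charDegree_pos θ.2
  have hdH : d ∣ Nat.card H := IsIrrCharacter.charDegree_dvd_card θ.2
  obtain ⟨c, hc⟩ := h1
  rw [hc, Nat.mul_div_cancel_left c hdpos] at h2
  rw [hc]
  have hcc : Nat.Coprime c (Nat.card H) := (Nat.Coprime.coprime_dvd_right h2 hcop).symm
  rw [Nat.Coprime.gcd_mul_right_cancel d hcc]
  exact (Nat.gcd_eq_left hdH).symm

/-- Itô for the quotient by the derived subgroup of a normal subgroup -/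
theorem ito_quotient {G : Type*} [Group G] [Finite G] (H : Subgroup G) [hH : H.Normal]
    (β : Cfsg.IrrCharacter (G ⧸ (⁅H, H⁆ : Subgroup G))) :
    Cfsg.charDegree (β : G ⧸ (⁅H, H⁆ : Subgroup G) → ℂ) ∣ H.index := by
  set A := H.map (QuotientGroup.mk' (⁅H, H⁆ : Subgroup G)) with hA
  have hAn : A.Normal := Subgroup.Normal.map hH _ (QuotientGroup.mk'_surjective _)
  have hAab : ∀ a ∈ A, ∀ b ∈ A, a * b = b * a := by
    rintro _ ⟨a, ha, rfl⟩ _ ⟨b, hb, rfl⟩
    rw [← map_mul, ← map_mul, QuotientGroup.mk'_apply, QuotientGroup.mk'_apply,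
      QuotientGroup.eq]
    have h1 : ⁅b⁻¹, a⁻¹⁆ ∈ (⁅H, H⁆ : Subgroup G) :=
      Subgroup.commutator_mem_commutator (H.inv_mem hb) (H.inv_mem ha)
    have h2 : (a * b)⁻¹ * (b * a) = ⁅b⁻¹, a⁻¹⁆ := by
      rw [commutatorElement_def]; group
    rw [h2]; exact h1
  have hidx : A.index = H.index := by
    apply Subgroup.index_map_eq _ (QuotientGroup.mk'_surjective _)
    rw [QuotientGroup.ker_mk']
    exact Subgroup.commutator_le_self H
  obtain ⟨d, hd1, hd2⟩ := ito_aux (Nat.card (G ⧸ (⁅H, H⁆ : Subgroup G)))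
    (G ⧸ (⁅H, H⁆ : Subgroup G)) rfl A hAn hAab (β : G ⧸ (⁅H, H⁆ : Subgroup G) → ℂ) β.2
  rw [IsCharacter.apply_one_eq_charDegree (IsIrrCharacter.isCharacter β.2)] at hd1
  have : Cfsg.charDegree (β : G ⧸ (⁅H, H⁆ : Subgroup G) → ℂ) = d := by exact_mod_cast hd1
  rw [this, ← hidx]; exact hd2

/-- Taketa step: a monomial irreducible character `χ` is trivial on `⁅D, D⁆` whenever all
irreducible characters of smaller degree are trivial on the normal subgroup `D` -/
theorem taketa_step {G : Type*} [Group G] [Fintype G] (χ : G → ℂ) (hχ : Cfsg.IsIrrCharacter G χ)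
    (hM : ∃ (H : Subgroup G) (lam : H →* ℂˣ), χ = Cfsg.indFun H (fun h => (lam h : ℂ)))
    (D : Subgroup G) [hD : D.Normal]
    (hsmall : ∀ θ : Cfsg.IrrCharacter G, Cfsg.charDegree (θ : G → ℂ) < Cfsg.charDegree χ →
      ∀ x ∈ D, (θ : G → ℂ) x = (θ : G → ℂ) 1)
    (g : G) (hg : g ∈ (⁅D, D⁆ : Subgroup G)) : χ g = χ 1 := by
  classical
  have hg1 : g ∈ commutator G := by
    rw [commutator_def]
    exact Subgroup.commutator_mono le_top le_top hg
  by_cases hlin : Cfsg.charDegree χ = 1
  · have h1 : χ 1 = 1 := by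
      rw [IsCharacter.apply_one_eq_charDegree (IsIrrCharacter.isCharacter hχ), hlin]; simp
    rw [linear_apply_of_mem_commutator (IsIrrCharacter.isCharacter hχ) h1 hg1, h1]
  · obtain ⟨H, lam, hχeq⟩ := hM
    have hχ1 : χ 1 = (H.index : ℂ) := by
      rw [hχeq, indFun_one]
      simp
    have hidx : H.index = Cfsg.charDegree χ := by
      have h1 := IsCharacter.apply_one_eq_charDegree (IsIrrCharacter.isCharacter hχ)
      rw [hχ1] at h1
      exact_mod_cast h1
    set A := Cfsg.indFun H (fun _ => (1 : ℂ)) with hAdef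
    have hA : Cfsg.IsCharacter G A := IsCharacter.indFun H isCharacter_one
    have hA1 : A 1 = (H.index : ℂ) := by
      rw [hAdef, indFun_one]
      simp
    have hAdeg : Cfsg.charDegree A = Cfsg.charDegree χ := by
      have h1 := IsCharacter.apply_one_eq_charDegree hA
      rw [hA1, hidx] at h1
      exact_mod_cast h1.symm
    have hA1G : Cfsg.classInner A (fun _ => (1 : ℂ)) = 1 := by
      have : Fintype H := Fintype.ofFinite H
      rw [hAdef, Cfsg.Agent.S0146.result H _ _ (IsCharacter.isClassFunction isCharacter_one)]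
      unfold Cfsg.classInner
      simp
    have hDH : D ≤ H := by
      intro x hx
      apply mem_of_indFun_one_eq_index
      rw [← hA1]
      apply IsCharacter.apply_eq_apply_one_of_constituents hA
      intro θ hθ
      apply hsmall θ _ x hx
      have hle : Cfsg.charDegree (θ : G → ℂ) ≤ Cfsg.charDegree A :=
        IsCharacter.charDegree_le hA θ.2 hθ
      rw [hAdeg] at hle
      rcases hle.lt_or_eq with h | h
      · exact h
      · exfalso
        have hAθ : A = θ := by
          apply IsCharacter.eq_of_constituent_of_apply_one_eq hA θ.2 hθ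
          rw [IsCharacter.apply_one_eq_charDegree hA,
            IsCharacter.apply_one_eq_charDegree (IsIrrCharacter.isCharacter θ.2), hAdeg, h]
        have hθ1 : (θ : G → ℂ) = fun _ => (1 : ℂ) := by
          by_contra hne
          have := classInner_isIrrCharacter θ.2 (isIrrCharacter_one (G := G))
          rw [if_neg hne, ← hAθ, hA1G] at this
          exact one_ne_zero this
        have h1 : (H.index : ℂ) = 1 := by
          rw [← hA1, hAθ, hθ1]
        have h2 : H.index = 1 := by exact_mod_cast h1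
        exact hlin (by rw [← hidx, h2])
    have hNn' : (⁅D, D⁆ : Subgroup G).Normal := inferInstance
    have hle : (⁅D, D⁆ : Subgroup G) ≤ H := (Subgroup.commutator_le_left D D).trans hDH
    rw [hχeq]
    apply indFun_linear_apply_of_mem_normal H lam (⁅D, D⁆ : Subgroup G) hle _ hg
    intro n hn
    exact linear_commutator_eq_one H lam D hDH n hn

/-- Taketa for three degrees -/
theorem taketa_three {G : Type*} [Group G] [Fintype G]
    (hM : ∀ χ : G → ℂ, Cfsg.IsIrrCharacter G χ →
      ∃ (H : Subgroup G) (lam : H →* ℂˣ), χ = Cfsg.indFun H (fun h => (lam h : ℂ)))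
    (m n : ℕ) (hmn : m ≤ n) (hcd : ThreeDeg G m n) : derivedSeries G 3 = ⊥ := by
  classical
  have hD1 : (derivedSeries G 1).Normal := derivedSeries_normal G 1
  have hD2 : (derivedSeries G 2).Normal := derivedSeries_normal G 2
  have h21 : derivedSeries G 2 ≤ derivedSeries G 1 := derivedSeries_antitone G (by norm_num)
  have h32 : derivedSeries G 3 ≤ derivedSeries G 2 := derivedSeries_antitone G (by norm_num)
  -- linear characters
  have hlin : ∀ χ : Cfsg.IrrCharacter G, Cfsg.charDegree (χ : G → ℂ) = 1 →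
      ∀ x ∈ derivedSeries G 1, (χ : G → ℂ) x = (χ : G → ℂ) 1 := by
    intro χ hχ x hx
    have h1 : (χ : G → ℂ) 1 = 1 := by
      rw [IsCharacter.apply_one_eq_charDegree (IsIrrCharacter.isCharacter χ.2), hχ]; simp
    rw [derivedSeries_one] at hx
    rw [linear_apply_of_mem_commutator (IsIrrCharacter.isCharacter χ.2) h1 hx, h1]
  -- degree m characters
  have hm : ∀ χ : Cfsg.IrrCharacter G, Cfsg.charDegree (χ : G → ℂ) = m →
      ∀ x ∈ derivedSeries G 2, (χ : G → ℂ) x = (χ : G → ℂ) 1 := by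
    intro χ hχ x hx
    apply taketa_step (χ : G → ℂ) χ.2 (hM _ χ.2) (derivedSeries G 1) _ x hx
    intro θ hθ y hy
    rw [hχ] at hθ
    rcases hcd θ with h | h | h
    · exact hlin θ h y hy
    · omega
    · omega
  -- degree n characters
  have hn : ∀ χ : Cfsg.IrrCharacter G, Cfsg.charDegree (χ : G → ℂ) = n →
      ∀ x ∈ derivedSeries G 3, (χ : G → ℂ) x = (χ : G → ℂ) 1 := by
    intro χ hχ x hx
    apply taketa_step (χ : G → ℂ) χ.2 (hM _ χ.2) (derivedSeries G 2) _ x hx
    intro θ hθ y hy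
    rw [hχ] at hθ
    rcases hcd θ with h | h | h
    · exact hlin θ h y (h21 hy)
    · exact hm θ h y hy
    · omega
  rw [eq_bot_iff]
  intro x hx
  rw [Subgroup.mem_bot]
  have hconj : IsConj x 1 := by
    rw [isConj_iff_forall_irr]
    intro χ
    rcases hcd χ with h | h | h
    · exact hlin χ h x (h21 (h32 hx))
    · exact hm χ h x (h32 hx)
    · exact hn χ h x hx
  exact isConj_one_left.mp hconj

/-- nilpotent groups with three degrees have derived length at most three -/
theorem nilpotent_three {G : Type*} [Group G] [Finite G] [hnil : Group.IsNilpotent G]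
    (m n : ℕ) (hcd : ThreeDeg G m n) : derivedSeries G 3 = ⊥ := by
  classical
  have : Fintype G := Fintype.ofFinite G
  have hM : ∀ χ : G → ℂ, Cfsg.IsIrrCharacter G χ →
      ∃ (H : Subgroup G) (lam : H →* ℂˣ), χ = Cfsg.indFun H (fun h => (lam h : ℂ)) :=
    fun χ hχ => nilpotent_monomial (Nat.card G) G rfl χ hχ
  rcases le_total m n with h | h
  · exact taketa_three hM m n h hcd
  · exact taketa_three hM n m h hcd.symm

end Cfsg.Agent.Lib.Helper6.TD
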