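import Mathlib
import Cfsg.Agent.Lib.Helper3.CD4

set_option autoImplicit false
set_option linter.unusedSectionVars false
set_option linter.unusedVariables false

/-! A weak form of Isaacs' Theorem 12.4: in the Frobenius-type situation, an irreducible character
of the preimage of the kernel whose degree is prime to `p` induces (after a twist) irreducibly. -/

namespace Cfsg.Agent.Lib.Helper6.TD

open Cfsg Cfsg.Agent.Lib.Helper6 Cfsg.Agent.Lib.Helper3 Cfsg.Agent.Lib.Helper3.CD

/-- restriction to a normal subgroup of `p`-power index of an irreducible character of degree prime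
to `p` is irreducible -/
theorem restrict_irr_of_pow_index {T : Type*} [Group T] [Fintype T] (L : Subgroup T) [hL : L.Normal]
    [Fintype L] (p k : ℕ) (hp : p.Prime) (hidx : L.index = p ^ k)
    (ψ : T → ℂ) (hψ : Cfsg.IsIrrCharacter T ψ) (hpd : ¬ p ∣ Cfsg.charDegree ψ) :
    Cfsg.IsIrrCharacter L (fun k : L => ψ k) := by
  classical
  set d := Cfsg.charDegree ψ with hd
  have hres : Cfsg.IsCharacter L (fun k : L => ψ k) :=
    IsCharacter.restrict _ (IsIrrCharacter.isCharacter hψ)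
  have hres1 : (fun k : L => ψ k) 1 ≠ 0 := IsIrrCharacter.apply_one_ne_zero hψ
  obtain ⟨ϑ, hϑ⟩ := IsCharacter.exists_constituent hres hres1
  have h887 := Cfsg.Agent.S0887.result L ψ hψ (ϑ : L → ℂ) ϑ.2 hϑ _ _
    (IsCharacter.apply_one_eq_charDegree (IsIrrCharacter.isCharacter hψ))
    (IsCharacter.apply_one_eq_charDegree (IsIrrCharacter.isCharacter ϑ.2))
  obtain ⟨h1, h2⟩ := h887
  rw [hidx] at h2
  set d' := Cfsg.charDegree (ϑ : L → ℂ) with hd'
  have hd'pos : 0 < d' := IsIrrCharacter.charDegree_pos ϑ.2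
  have hquot : d / d' = 1 := by
    have h3 : d / d' ∣ d := Nat.div_dvd_of_dvd h1
    have hcop : Nat.Coprime (d / d') p := by
      rw [Nat.coprime_comm, Nat.Prime.coprime_iff_not_dvd hp]
      exact fun h => hpd (h.trans h3)
    exact Nat.Coprime.eq_one_of_dvd (Nat.Coprime.pow_right k hcop) h2
  have hdd' : d = d' := by
    have := Nat.div_mul_cancel h1
    rw [hquot, one_mul] at this
    exact this.symm
  have heq : (fun k : L => ψ k) = (ϑ : L → ℂ) := by
    apply IsCharacter.eq_of_constituent_of_apply_one_eq hres ϑ.2 hϑ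
    rw [IsCharacter.apply_one_eq_charDegree (IsIrrCharacter.isCharacter ϑ.2), ← hd', ← hdd']
    exact IsCharacter.apply_one_eq_charDegree (IsIrrCharacter.isCharacter hψ)
  rw [heq]; exact ϑ.2

/-- weak form of Isaacs 12.4 -/
theorem weak_twelve_four {G : Type*} [Group G] [Finite G] (K : Subgroup G) [hK : K.Normal]
    (M : Subgroup (G ⧸ K)) [hM : M.Normal]
    (hMab : ∀ a ∈ M, ∀ b ∈ M, a * b = b * a)
    (p : ℕ) (hp : p.Prime) (hMp : IsPGroup p M) (hMne : M ≠ ⊥)
    (hfpf : ∀ q : G ⧸ K, q ∉ M → ∀ x ∈ M, q * x = x * q → x = 1)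
    (ψ : Cfsg.IrrCharacter ↥(preN K M))
    (hpd : ¬ p ∣ Cfsg.charDegree (ψ : ↥(preN K M) → ℂ)) :
    ∃ χ : Cfsg.IrrCharacter G,
      Cfsg.charDegree (χ : G → ℂ) = M.index * Cfsg.charDegree (ψ : ↥(preN K M) → ℂ) := by
  classical
  have : Fintype G := Fintype.ofFinite G
  have : Fintype ↥(preN K M) := Fintype.ofFinite _
  have : Fintype ↥(K.subgroupOf (preN K M)) := Fintype.ofFinite _
  have hKn : (K.subgroupOf (preN K M)).Normal := hK.subgroupOf _
  haveI : Fact p.Prime := ⟨hp⟩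
  obtain ⟨k, hk⟩ := IsPGroup.iff_card.mp hMp
  have hirrK : Cfsg.IsIrrCharacter ↥(K.subgroupOf (preN K M))
      (fun k : ↥(K.subgroupOf (preN K M)) => (ψ : ↥(preN K M) → ℂ) k) := by
    apply restrict_irr_of_pow_index (K.subgroupOf (preN K M)) p k hp _ _ ψ.2 hpd
    rw [relIndex_preN, hk]
  obtain ⟨f, hf⟩ := exists_stab_eq K M hMab hfpf hMne (ψ : ↥(preN K M) → ℂ) ψ.2 hirrK
  have hθ := twistF_irr K M f ψ.2
  have hN : (preN K M).Normal := inferInstance
  have hc : Cfsg.classInner (fun n : ↥(preN K M) =>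
      ((⟨twistF K M f ψ, hθ⟩ : Cfsg.IrrCharacter ↥(preN K M)) : ↥(preN K M) → ℂ)
        ⟨n, le_refl (preN K M) n.2⟩)
      ((⟨twistF K M f ψ, hθ⟩ : Cfsg.IrrCharacter ↥(preN K M)) : ↥(preN K M) → ℂ) ≠ 0 := by
    have : (fun n : ↥(preN K M) => twistF K M f ψ ⟨n, le_refl (preN K M) n.2⟩)
        = twistF K M f ψ := rfl
    simp only
    rw [this, classInner_isIrrCharacter hθ hθ, if_pos rfl]
    exact one_ne_zero
  have hind := indFun_isIrrCharacter_of_stab (preN K M) hN (preN K M) le_rfl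
    ⟨twistF K M f ψ, hθ⟩ hf ⟨twistF K M f ψ, hθ⟩ hc
  simp only at hind
  refine ⟨⟨_, hind⟩, ?_⟩
  have h1 := IsCharacter.apply_one_eq_charDegree (IsIrrCharacter.isCharacter hind)
  rw [indFun_one, twistF_one, IsCharacter.apply_one_eq_charDegree (IsIrrCharacter.isCharacter ψ.2),
    index_preN] at h1
  exact_mod_cast h1.symm

end Cfsg.Agent.Lib.Helper6.TD
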