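import Mathlib
import Cfsg.Agent.Lib.Helper6.TD1
import Cfsg.Agent.Lib.Helper6.TD2

set_option autoImplicit false
set_option linter.unusedSectionVars false
set_option linter.unusedVariables false

/-! Shared lemmas for Isaacs 12.15: maximal normal subgroups with nonabelian quotient, Gallagher
degrees, deflation degrees. -/

namespace Cfsg.Agent.Lib.Helper6.TD

open Cfsg Cfsg.Agent.Lib.Helper6 Cfsg.Agent.Lib.Helper3 Cfsg.Agent.Lib.Helper3.CD
open scoped commutatorElement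

/-- a maximal normal subgroup above `N₀` with nonabelian quotient -/
theorem exists_max_nonabelian_quotient_ge {G : Type*} [Group G] [Finite G]
    (N₀ : Subgroup G) (hN₀ : N₀.Normal) (hG : ∃ a b : G, a * b * a⁻¹ * b⁻¹ ∉ N₀) :
    ∃ K : Subgroup G, K.Normal ∧ N₀ ≤ K ∧ (∃ a b : G, a * b * a⁻¹ * b⁻¹ ∉ K) ∧
      ∀ L : Subgroup G, L.Normal → K ≤ L → (∃ a b : G, a * b * a⁻¹ * b⁻¹ ∉ L) → L ≤ K := by
  classical
  let P : Subgroup G → Prop := fun K => K.Normal ∧ ∃ a b : G, a * b * a⁻¹ * b⁻¹ ∉ K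
  have hbot : P N₀ := ⟨hN₀, hG⟩
  obtain ⟨K, hle, hK⟩ := Finite.exists_le_maximal (p := P) (a := N₀) hbot
  refine ⟨K, hK.prop.1, hle, hK.prop.2, ?_⟩
  intro L hLn hKL hL
  exact hK.le_of_ge ⟨hLn, hL⟩ hKL

/-- properties of the quotient by a maximal normal subgroup with nonabelian quotient -/
theorem quot_max_props {G : Type*} [Group G] [Finite G] (K : Subgroup G) [hKn : K.Normal]
    (hab₀ : ∃ a b : G, a * b * a⁻¹ * b⁻¹ ∉ K)
    (hKmax : ∀ L : Subgroup G, L.Normal → K ≤ L → (∃ a b : G, a * b * a⁻¹ * b⁻¹ ∉ L) → L ≤ K) :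
    (∀ L : Subgroup (G ⧸ K), L.Normal → L ≠ ⊥ → commutator (G ⧸ K) ≤ L) ∧
    (∃ x y : G ⧸ K, x * y ≠ y * x) ∧ commutator (G ⧸ K) ≠ ⊥ := by
  obtain ⟨a₀, b₀, hab₀⟩ := hab₀
  have hmin : ∀ L : Subgroup (G ⧸ K), L.Normal → L ≠ ⊥ → commutator (G ⧸ K) ≤ L := by
    intro L hLn hL
    set L' := L.comap (QuotientGroup.mk' K) with hL'
    have hL'n : L'.Normal := inferInstance
    have hKL' : K ≤ L' := by
      intro x hx
      rw [hL', Subgroup.mem_comap]
      have : QuotientGroup.mk' K x = 1 := (QuotientGroup.eq_one_iff x).mpr hx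
      rw [this]
      exact one_mem L
    have hall : ∀ a b : G, a * b * a⁻¹ * b⁻¹ ∈ L' := by
      by_contra hno
      push Not at hno
      have hle := hKmax L' hL'n hKL' hno
      apply hL
      rw [eq_bot_iff]
      intro q hq
      obtain ⟨x, rfl⟩ := QuotientGroup.mk_surjective q
      rw [Subgroup.mem_bot]
      exact (QuotientGroup.eq_one_iff x).mpr (hle hq)
    rw [commutator_def, Subgroup.commutator_le]
    intro q₁ _ q₂ _
    obtain ⟨a, rfl⟩ := QuotientGroup.mk_surjective q₁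
    obtain ⟨b, rfl⟩ := QuotientGroup.mk_surjective q₂
    have := hall a b
    rw [hL', Subgroup.mem_comap] at this
    rw [commutatorElement_def]
    simpa using this
  have hQG : ∃ x y : G ⧸ K, x * y ≠ y * x := by
    refine ⟨QuotientGroup.mk a₀, QuotientGroup.mk b₀, ?_⟩
    intro h
    apply hab₀
    rw [← QuotientGroup.eq_one_iff]
    rw [QuotientGroup.mk_mul, QuotientGroup.mk_mul, QuotientGroup.mk_mul, QuotientGroup.mk_inv,
      QuotientGroup.mk_inv, h]
    group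
  refine ⟨hmin, hQG, ?_⟩
  intro h
  obtain ⟨x, y, hxy⟩ := hQG
  have h1 := comm_mem_commutator x y
  rw [h, Subgroup.mem_bot] at h1
  apply hxy
  calc x * y = (x * y * x⁻¹ * y⁻¹) * (y * x) := by group
    _ = y * x := by rw [h1, one_mul]

/-- a character trivial on `N` deflates to a character of `G ⧸ N` of the same degree -/
theorem defl_deg {G : Type*} [Group G] [Finite G] (N : Subgroup G) [hN : N.Normal]
    (χ : Cfsg.IrrCharacter G) (h : ∀ x ∈ N, (χ : G → ℂ) x = (χ : G → ℂ) 1) :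
    ∃ β : Cfsg.IrrCharacter (G ⧸ N),
      Cfsg.charDegree (β : G ⧸ N → ℂ) = Cfsg.charDegree (χ : G → ℂ) := by
  classical
  have : Fintype G := Fintype.ofFinite G
  obtain ⟨β, hβ⟩ := IsIrrCharacter.exists_deflation N χ h
  refine ⟨β, ?_⟩
  unfold Cfsg.charDegree
  rw [hβ]
  rfl

/-- inflation is trivial on the kernel -/
theorem infl_apply_of_mem {G : Type*} [Group G] (K : Subgroup G) [hK : K.Normal]
    (β : G ⧸ K → ℂ) {x : G} (hx : x ∈ K) :
    (fun g : G => β (QuotientGroup.mk g)) x = (fun g : G => β (QuotientGroup.mk g)) 1 := by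
  simp only
  rw [(QuotientGroup.eq_one_iff x).mpr hx, QuotientGroup.mk_one]

/-- degrees of a quotient `G ⧸ K` with `N ≤ K` are degrees of `G ⧸ N` -/
theorem quot_deg_of_le {G : Type*} [Group G] [Finite G] (N K : Subgroup G) [hN : N.Normal]
    [hK : K.Normal] (hNK : N ≤ K) (β : Cfsg.IrrCharacter (G ⧸ K)) :
    ∃ β' : Cfsg.IrrCharacter (G ⧸ N),
      Cfsg.charDegree (β' : G ⧸ N → ℂ) = Cfsg.charDegree (β : G ⧸ K → ℂ) := by
  obtain ⟨χ, hχ, hdeg⟩ := exists_inflation K β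
  obtain ⟨β', hβ'⟩ := defl_deg N χ (by
    intro x hx
    rw [hχ]
    exact infl_apply_of_mem K _ (hNK hx))
  exact ⟨β', by rw [hβ', hdeg]⟩

/-- Gallagher: degrees multiply, for `p`-power index and degree prime to `p` -/
theorem gallagher_degree {G : Type*} [Group G] [Finite G] (K : Subgroup G) [hK : K.Normal]
    (p j : ℕ) (hp : p.Prime) (hidx : K.index = p ^ j) (β : Cfsg.IrrCharacter (G ⧸ K))
    (ψ : Cfsg.IrrCharacter G) (hpd : ¬ p ∣ Cfsg.charDegree (ψ : G → ℂ)) :
    ∃ χ : Cfsg.IrrCharacter G, Cfsg.charDegree (χ : G → ℂ)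
      = Cfsg.charDegree (β : G ⧸ K → ℂ) * Cfsg.charDegree (ψ : G → ℂ) := by
  classical
  have : Fintype G := Fintype.ofFinite G
  have : Fintype K := Fintype.ofFinite K
  have hirrK := restrict_irr_of_pow_index K p j hp hidx (ψ : G → ℂ) ψ.2 hpd
  have hirr := GallagherDecomp.isIrrCharacter_infl_mul K ψ.2 hirrK β
  refine ⟨⟨_, hirr⟩, ?_⟩
  have h1 := IsCharacter.apply_one_eq_charDegree (IsIrrCharacter.isCharacter hirr)
  simp only [Pi.mul_apply] at h1
  rw [QuotientGroup.mk_one, IsCharacter.apply_one_eq_charDegree (IsIrrCharacter.isCharacter ψ.2),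
    IsCharacter.apply_one_eq_charDegree (IsIrrCharacter.isCharacter β.2)] at h1
  exact_mod_cast h1.symm

/-- Itô: degrees divide the index of an abelian normal subgroup -/
theorem ito_deg_dvd {Q : Type*} [Group Q] [Finite Q] (M : Subgroup Q) [hM : M.Normal]
    (hMab : ∀ a ∈ M, ∀ b ∈ M, a * b = b * a) (β : Cfsg.IrrCharacter Q) :
    Cfsg.charDegree (β : Q → ℂ) ∣ M.index := by
  obtain ⟨d, hd1, hd2⟩ := ito_aux (Nat.card Q) Q rfl M hM hMab (β : Q → ℂ) β.2
  rw [IsCharacter.apply_one_eq_charDegree (IsIrrCharacter.isCharacter β.2)] at hd1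
  have : Cfsg.charDegree (β : Q → ℂ) = d := by exact_mod_cast hd1
  rw [this]; exact hd2

/-- a nonabelian `r`-group has an irreducible character of degree divisible by `r` -/
theorem exists_deg_dvd_of_pgroup {P : Type*} [Group P] [Finite P] (r : ℕ) (hr : r.Prime)
    (hP : IsPGroup r P) (hnc : ∃ a b : P, a * b ≠ b * a) :
    ∃ θ : Cfsg.IrrCharacter P, r ∣ Cfsg.charDegree (θ : P → ℂ) := by
  have : Fintype P := Fintype.ofFinite P
  haveI : Fact r.Prime := ⟨hr⟩
  obtain ⟨θ, hθ⟩ := exists_nonlinear hnc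
  refine ⟨θ, ?_⟩
  obtain ⟨k, hk⟩ := IsPGroup.iff_card.mp hP
  have hdvd : Cfsg.charDegree (θ : P → ℂ) ∣ r ^ k := by
    rw [← hk]; exact IsIrrCharacter.charDegree_dvd_card θ.2
  obtain ⟨e, _, he⟩ := (Nat.dvd_prime_pow hr).mp hdvd
  rw [he]
  rcases Nat.eq_zero_or_pos e with h0 | h0
  · exfalso; apply hθ; rw [he, h0, pow_zero]
  · exact dvd_pow_self r h0.ne'

end Cfsg.Agent.Lib.Helper6.TD
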