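import Mathlib
import Cfsg.Agent.Lib.Helper6.TD3
import Cfsg.Agent.Lib.Helper6.Norm
import Cfsg.Agent.Lib.Helper6.Linear
import Cfsg.Agent.Lib.Helper3.DetChar

set_option autoImplicit false
set_option linter.unusedSectionVars false
set_option linter.unusedVariables false
set_option linter.style.haveILetI false

/-! Toolkit for the product trick in Isaacs 12.15 (solvability). -/

namespace Cfsg.Agent.Lib.Helper6.TD

open Cfsg Cfsg.Agent.Lib.Helper6 Cfsg.Agent.Lib.Helper3 Cfsg.Agent.Lib.Helper3.CD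
open scoped ComplexConjugate

section toolkit

variable {G : Type*} [Group G] [Fintype G]

/-- the conjugate irreducible character -/
noncomputable def cbar (χ : Cfsg.IrrCharacter G) : Cfsg.IrrCharacter G :=
  ⟨fun g => conj ((χ : G → ℂ) g), IsIrrCharacter.conj χ.2⟩

theorem cbar_apply (χ : Cfsg.IrrCharacter G) (g : G) :
    (cbar χ : G → ℂ) g = conj ((χ : G → ℂ) g) := rfl

theorem cbar_deg (χ : Cfsg.IrrCharacter G) :
    Cfsg.charDegree (cbar χ : G → ℂ) = Cfsg.charDegree (χ : G → ℂ) := by
  unfold Cfsg.charDegree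
  rw [cbar_apply, Complex.conj_re]

/-- degree of a product -/
theorem deg_mul {A B : G → ℂ} (hA : Cfsg.IsCharacter G A) (hB : Cfsg.IsCharacter G B) :
    Cfsg.charDegree (A * B) = Cfsg.charDegree A * Cfsg.charDegree B := by
  have h1 := IsCharacter.apply_one_eq_charDegree (IsCharacter.mul hA hB)
  rw [Pi.mul_apply, IsCharacter.apply_one_eq_charDegree hA,
    IsCharacter.apply_one_eq_charDegree hB] at h1
  exact_mod_cast h1.symm

/-- product of a linear character with an irreducible character -/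
theorem linear_mul_irr (lam ξ : Cfsg.IrrCharacter G)
    (hl : Cfsg.charDegree (lam : G → ℂ) = 1) :
    Cfsg.IsIrrCharacter G ((lam : G → ℂ) * (ξ : G → ℂ)) := by
  have hlc := IsIrrCharacter.isCharacter lam.2
  have h1 : (lam : G → ℂ) 1 = 1 := by
    rw [IsCharacter.apply_one_eq_charDegree hlc, hl]; simp
  have := DetChar.isIrrCharacter_hom_mul (linearCharHom hlc h1) ξ.2
  exact this

/-- the product of a linear character with an irreducible character, as an irreducible character -/
noncomputable def linMul (lam ξ : Cfsg.IrrCharacter G)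
    (hl : Cfsg.charDegree (lam : G → ℂ) = 1) : Cfsg.IrrCharacter G :=
  ⟨(lam : G → ℂ) * (ξ : G → ℂ), linear_mul_irr lam ξ hl⟩

theorem linMul_deg (lam ξ : Cfsg.IrrCharacter G) (hl : Cfsg.charDegree (lam : G → ℂ) = 1) :
    Cfsg.charDegree (linMul lam ξ hl : G → ℂ) = Cfsg.charDegree (ξ : G → ℂ) := by
  show Cfsg.charDegree ((lam : G → ℂ) * (ξ : G → ℂ)) = _
  rw [deg_mul (IsIrrCharacter.isCharacter lam.2) (IsIrrCharacter.isCharacter ξ.2), hl, one_mul]

/-- adjointness of multiplication -/
theorem classInner_mul_adj (A B C : G → ℂ) :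
    Cfsg.classInner (A * B) C = Cfsg.classInner A ((fun g => conj (B g)) * C) := by
  unfold Cfsg.classInner
  congr 1
  apply Finset.sum_congr rfl
  intro g _
  simp only [Pi.mul_apply, map_mul, Complex.conj_conj]
  ring

theorem classInner_mul_adj' (A B C : G → ℂ) :
    Cfsg.classInner (A * (fun g => conj (B g))) C = Cfsg.classInner A (B * C) := by
  rw [classInner_mul_adj]
  congr 1
  funext g
  simp only [Pi.mul_apply, Complex.conj_conj]

/-- the inner product of characters is real (symmetric) -/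
theorem classInner_char_symm {A B : G → ℂ} (hA : Cfsg.IsCharacter G A)
    (hB : Cfsg.IsCharacter G B) : Cfsg.classInner A B = Cfsg.classInner B A := by
  obtain ⟨k, hk⟩ := IsCharacter.classInner_nat hA hB
  rw [← classInner_conj_symm A B, hk, Complex.conj_natCast]

/-- degree as a sum over constituents -/
theorem deg_eq_sum [Fintype (Cfsg.IrrCharacter G)] {A : G → ℂ} (hA : Cfsg.IsCharacter G A)
    (mA : Cfsg.IrrCharacter G → ℕ) (hmA : A = ∑ θ, mA θ • (θ : G → ℂ)) :
    Cfsg.charDegree A = ∑ θ, mA θ * Cfsg.charDegree (θ : G → ℂ) := by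
  have h1 := IsCharacter.apply_one_eq_charDegree hA
  have h2 : A 1 = ∑ θ : Cfsg.IrrCharacter G, (mA θ : ℂ) * (Cfsg.charDegree (θ : G → ℂ) : ℂ) := by
    conv_lhs => rw [hmA]
    rw [Finset.sum_apply]
    apply Finset.sum_congr rfl
    intro θ _
    rw [Pi.smul_apply, nsmul_eq_mul,
      IsCharacter.apply_one_eq_charDegree (IsIrrCharacter.isCharacter θ.2)]
  rw [h2] at h1
  exact_mod_cast h1.symm

/-- splitting a degree sum by the three possible degrees -/
theorem deg_split [Fintype (Cfsg.IrrCharacter G)] [DecidableEq (Cfsg.IrrCharacter G)] (m n : ℕ)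
    (hcd : ThreeDeg G m n)
    (hm1 : m ≠ 1) (hn1 : n ≠ 1) (hmn : m ≠ n) (mA : Cfsg.IrrCharacter G → ℕ) :
    ∑ θ, mA θ * Cfsg.charDegree (θ : G → ℂ)
      = (∑ θ ∈ Finset.univ.filter (fun θ : Cfsg.IrrCharacter G =>
            Cfsg.charDegree (θ : G → ℂ) = 1), mA θ)
        + (∑ θ ∈ Finset.univ.filter (fun θ : Cfsg.IrrCharacter G =>
            Cfsg.charDegree (θ : G → ℂ) = m), mA θ) * m
        + (∑ θ ∈ Finset.univ.filter (fun θ : Cfsg.IrrCharacter G =>
            Cfsg.charDegree (θ : G → ℂ) = n), mA θ) * n := by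
  rw [Finset.sum_filter, Finset.sum_filter, Finset.sum_filter, Finset.sum_mul, Finset.sum_mul,
    ← Finset.sum_add_distrib, ← Finset.sum_add_distrib]
  apply Finset.sum_congr rfl
  intro θ _
  rcases hcd θ with h | h | h
  · rw [h, if_pos rfl, if_neg (fun h' => hm1 h'.symm), if_neg (fun h' => hn1 h'.symm)]
    ring
  · rw [h, if_neg hm1, if_pos rfl, if_neg hmn]
    ring
  · rw [h, if_neg hn1, if_neg (fun h' => hmn h'.symm), if_pos rfl]
    ring

theorem arith_T2 (m n : ℕ) (hcop : Nat.Coprime m n) (hm0 : 0 < m) (hn0 : 0 < n) (u v : ℕ)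
    (h : m * n = u * m + v * n) (hu : 0 < u) : v = 0 ∧ u = n := by
  have h1 : n ∣ u * m := by
    have : n ∣ u * m + v * n := by rw [← h]; exact dvd_mul_left n m
    exact (Nat.dvd_add_left (dvd_mul_left n v)).mp this
  have h2 : n ∣ u := (Nat.Coprime.dvd_mul_right hcop.symm).mp h1
  have h3 : n ≤ u := Nat.le_of_dvd hu h2
  have h4 : n * m ≤ u * m := Nat.mul_le_mul_right m h3
  have h5 : v * n = 0 := by nlinarith
  have hv : v = 0 := by
    rcases Nat.mul_eq_zero.mp h5 with h6 | h6
    · exact h6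
    · omega
  refine ⟨hv, ?_⟩
  rw [hv, zero_mul, add_zero] at h
  have : n * m = u * m := by rw [← h, mul_comm]
  exact (Nat.eq_of_mul_eq_mul_right hm0 this).symm

theorem arith_T1 (m n : ℕ) (hcop : Nat.Coprime m n) (hmn : m < n) (hm0 : 0 < m) (u v : ℕ)
    (h : m * m = u * m + v * n) : v = 0 := by
  have h1 : m ∣ v * n := by
    have : m ∣ u * m + v * n := by rw [← h]; exact dvd_mul_left m m
    exact (Nat.dvd_add_right (dvd_mul_left m u)).mp this
  have h2 : m ∣ v := (Nat.Coprime.dvd_mul_right hcop).mp h1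
  by_contra hv
  have h3 : m ≤ v := Nat.le_of_dvd (Nat.pos_of_ne_zero hv) h2
  have h4 : m * n ≤ v * n := Nat.mul_le_mul_right n h3
  have h5 : m * m < m * n := Nat.mul_lt_mul_of_pos_left hmn hm0
  omega

end toolkit

end Cfsg.Agent.Lib.Helper6.TD
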