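import Mathlib
import Cfsg.Agent.Lib.Helper6.TD4a
import Cfsg.Agent.Lib.Helper6.BlkNormalP
import Cfsg.Agent.Lib.Helper3.CharQuot

set_option autoImplicit false
set_option linter.unusedSectionVars false
set_option linter.unusedVariables false
set_option linter.style.haveILetI false

/-! The product trick for Isaacs 12.15 (solvability): no product of two characters of the smaller
degree contains a character of the larger degree. -/

namespace Cfsg.Agent.Lib.Helper6.TD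

open Cfsg Cfsg.Agent.Lib.Helper6 Cfsg.Agent.Lib.Helper3 Cfsg.Agent.Lib.Helper3.CD
open scoped ComplexConjugate

section trick

variable {G : Type*} [Group G] [Fintype G]

/-- nonlinear characters are faithful when the commutator subgroup is the unique minimal normal
subgroup -/
theorem nonlinear_faithful
    (hmin : ∀ N : Subgroup G, N.Normal → N ≠ ⊥ → commutator G ≤ N)
    (χ : Cfsg.IrrCharacter G) (hχ : Cfsg.charDegree χ.1 ≠ 1) (g : G) (hg : χ.1 g = χ.1 1) :
    g = 1 := by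
  obtain ⟨K, hKn, hK⟩ := CharQuot.exists_kernel (IsIrrCharacter.isCharacter χ.2)
  by_contra hg1
  have hKne : K ≠ ⊥ := by
    intro h
    have : g ∈ K := (hK g).2 hg
    rw [h, Subgroup.mem_bot] at this
    exact hg1 this
  have hle := hmin K hKn hKne
  obtain ⟨β, hβ⟩ := defl_deg (commutator G) χ (fun x hx => (hK x).1 (hle hx))
  have hab' : ∀ a b : Abelianization G, a * b = b * a := fun a b => mul_comm a b
  have hab : ∀ a b : G ⧸ commutator G, a * b = b * a := hab'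
  have h1 := (Cfsg.Agent.S0187.result (G := G ⧸ commutator G)).1 hab β
  rw [IsCharacter.apply_one_eq_charDegree (IsIrrCharacter.isCharacter β.2), hβ] at h1
  apply hχ
  exact_mod_cast h1

variable [Fintype (Cfsg.IrrCharacter G)] [DecidableEq (Cfsg.IrrCharacter G)]

theorem T2 (m n : ℕ) (hcd : ThreeDeg G m n) (hm1 : 1 < m) (hmn : m < n)
    (hcop : Nat.Coprime m n) {B : G → ℂ} (hB : Cfsg.IsCharacter G B)
    (hdeg : Cfsg.charDegree B = m * n)
    (hlin : ∀ ξ : Cfsg.IrrCharacter G, Cfsg.charDegree ξ.1 = 1 → Cfsg.classInner B ξ.1 = 0)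
    (ξ₀ : Cfsg.IrrCharacter G) (hξ₀ : Cfsg.charDegree ξ₀.1 = m)
    (hξ₀B : Cfsg.classInner B ξ₀.1 ≠ 0) :
    ∃ mB : Cfsg.IrrCharacter G → ℕ, B = ∑ θ, mB θ • (θ : G → ℂ) ∧
      (∀ θ : Cfsg.IrrCharacter G, Cfsg.classInner B θ.1 = mB θ) ∧
      (∀ θ : Cfsg.IrrCharacter G, mB θ ≠ 0 → Cfsg.charDegree θ.1 = m) ∧ ∑ θ, mB θ = n := by
  obtain ⟨mB, hB1, hB2⟩ := IsCharacter.exists_mult hB
  have hsum := deg_eq_sum hB mB hB1
  rw [hdeg, deg_split m n hcd (by omega) (by omega) (by omega) mB] at hsum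
  have hlin0 : ∀ θ : Cfsg.IrrCharacter G, Cfsg.charDegree θ.1 = 1 → mB θ = 0 := by
    intro θ hθ
    have := hlin θ hθ
    rw [hB2 θ] at this
    exact_mod_cast this
  have hw : (∑ θ ∈ Finset.univ.filter (fun θ : Cfsg.IrrCharacter G =>
      Cfsg.charDegree (θ : G → ℂ) = 1), mB θ) = 0 := by
    apply Finset.sum_eq_zero
    intro θ hθ
    exact hlin0 θ (Finset.mem_filter.mp hθ).2
  rw [hw, zero_add] at hsum
  have hξ₀pos : 0 < mB ξ₀ := by
    apply Nat.pos_of_ne_zero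
    intro h
    apply hξ₀B
    rw [hB2 ξ₀, h]; simp
  have hu : 0 < ∑ θ ∈ Finset.univ.filter (fun θ : Cfsg.IrrCharacter G =>
      Cfsg.charDegree (θ : G → ℂ) = m), mB θ := by
    refine lt_of_lt_of_le hξ₀pos ?_
    exact Finset.single_le_sum (f := mB) (fun _ _ => Nat.zero_le _)
      (Finset.mem_filter.mpr ⟨Finset.mem_univ _, hξ₀⟩)
  obtain ⟨hv, hun⟩ := arith_T2 m n hcop (by omega) (by omega) _ _ hsum hu
  have hn0 : ∀ θ : Cfsg.IrrCharacter G, Cfsg.charDegree θ.1 = n → mB θ = 0 := by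
    intro θ hθ
    exact (Finset.sum_eq_zero_iff.mp hv) θ (Finset.mem_filter.mpr ⟨Finset.mem_univ _, hθ⟩)
  have h3 : ∀ θ : Cfsg.IrrCharacter G, mB θ ≠ 0 → Cfsg.charDegree θ.1 = m := by
    intro θ hθ
    rcases hcd θ with h | h | h
    · exact absurd (hlin0 θ h) hθ
    · exact h
    · exact absurd (hn0 θ h) hθ
  refine ⟨mB, hB1, hB2, h3, ?_⟩
  rw [← hun]
  exact (Finset.sum_filter_of_ne (fun θ _ hθ => h3 θ hθ)).symm

theorem T1 (m n : ℕ) (hcd : ThreeDeg G m n) (hm1 : 1 < m) (hmn : m < n)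
    (hcop : Nat.Coprime m n) {B : G → ℂ} (hB : Cfsg.IsCharacter G B)
    (hdeg : Cfsg.charDegree B = m * m)
    (hlin : ∀ ξ : Cfsg.IrrCharacter G, Cfsg.charDegree ξ.1 = 1 → Cfsg.classInner B ξ.1 = 0)
    (ψ : Cfsg.IrrCharacter G) (hψ : Cfsg.charDegree ψ.1 = n) : Cfsg.classInner B ψ.1 = 0 := by
  obtain ⟨mB, hB1, hB2⟩ := IsCharacter.exists_mult hB
  have hsum := deg_eq_sum hB mB hB1
  rw [hdeg, deg_split m n hcd (by omega) (by omega) (by omega) mB] at hsum
  have hlin0 : ∀ θ : Cfsg.IrrCharacter G, Cfsg.charDegree θ.1 = 1 → mB θ = 0 := by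
    intro θ hθ
    have := hlin θ hθ
    rw [hB2 θ] at this
    exact_mod_cast this
  have hw : (∑ θ ∈ Finset.univ.filter (fun θ : Cfsg.IrrCharacter G =>
      Cfsg.charDegree (θ : G → ℂ) = 1), mB θ) = 0 := by
    apply Finset.sum_eq_zero
    intro θ hθ
    exact hlin0 θ (Finset.mem_filter.mp hθ).2
  rw [hw, zero_add] at hsum
  have hv := arith_T1 m n hcop hmn (by omega) _ _ hsum
  rw [hB2 ψ]
  have := (Finset.sum_eq_zero_iff.mp hv) ψ (Finset.mem_filter.mpr ⟨Finset.mem_univ _, hψ⟩)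
  rw [this]; simp

/-- the key step of the product trick -/
theorem noY (m n : ℕ) (hcd : ThreeDeg G m n) (hm1 : 1 < m) (hmn : m < n)
    (hcop : Nat.Coprime m n) (hGne : commutator G ≠ ⊥)
    (hmin : ∀ N : Subgroup G, N.Normal → N ≠ ⊥ → commutator G ≤ N)
    (χ χ' ψ : Cfsg.IrrCharacter G) (hχ : Cfsg.charDegree χ.1 = m)
    (hχ' : Cfsg.charDegree χ'.1 = m) (hψ : Cfsg.charDegree ψ.1 = n) :
    Cfsg.classInner (χ.1 * χ'.1) ψ.1 = 0 := by
  classical
  by_contra hne
  have hχc := IsIrrCharacter.isCharacter χ.2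
  have hχ'c := IsIrrCharacter.isCharacter χ'.2
  have hψc := IsIrrCharacter.isCharacter ψ.2
  have hbc := IsIrrCharacter.isCharacter (cbar χ).2
  set B : G → ℂ := ψ.1 * (cbar χ).1 with hBdef
  have hB : Cfsg.IsCharacter G B := IsCharacter.mul hψc hbc
  have hBdeg : Cfsg.charDegree B = m * n := by
    rw [hBdef, deg_mul hψc hbc, cbar_deg, hχ, hψ, mul_comm]
  have hBadj : ∀ ξ : G → ℂ, Cfsg.classInner B ξ = Cfsg.classInner ψ.1 (χ.1 * ξ) :=
    fun ξ => classInner_mul_adj' ψ.1 χ.1 ξ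
  have hlinB : ∀ ξ : Cfsg.IrrCharacter G, Cfsg.charDegree ξ.1 = 1 →
      Cfsg.classInner B ξ.1 = 0 := by
    intro ξ hξ
    rw [hBadj, mul_comm, classInner_isIrrCharacter ψ.2 (linear_mul_irr ξ χ hξ), if_neg]
    intro h
    have h1 := linMul_deg ξ χ hξ
    have h2 : Cfsg.charDegree ψ.1 = Cfsg.charDegree (linMul ξ χ hξ).1 := by
      rw [h]; rfl
    rw [h1, hψ, hχ] at h2
    omega
  have hχ'B : Cfsg.classInner B χ'.1 ≠ 0 := by
    rw [hBadj, classInner_char_symm hψc (IsCharacter.mul hχc hχ'c)]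
    exact hne
  obtain ⟨mB, hB1, hB2, hB3, hB4⟩ := T2 m n hcd hm1 hmn hcop hB hBdeg hlinB χ' hχ' hχ'B
  -- (d)
  have hd : ∀ θ : Cfsg.IrrCharacter G, mB θ ≠ 0 → ∀ x ∈ commutator G,
      θ.1 x = conj (χ.1 x) := by
    intro θ hθ x hx
    have hθm := hB3 θ hθ
    have hθc := IsIrrCharacter.isCharacter θ.2
    have h1 : Cfsg.classInner (χ.1 * θ.1) ψ.1 ≠ 0 := by
      rw [classInner_char_symm (IsCharacter.mul hχc hθc) hψc, ← hBadj, hB2 θ]
      exact_mod_cast hθ
    have h2 : ∃ lam : Cfsg.IrrCharacter G, Cfsg.charDegree lam.1 = 1 ∧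
        Cfsg.classInner (χ.1 * θ.1) lam.1 ≠ 0 := by
      by_contra hno
      push Not at hno
      exact h1 (T1 m n hcd hm1 hmn hcop (IsCharacter.mul hχc hθc)
        (by rw [deg_mul hχc hθc, hχ, hθm]) hno ψ hψ)
    obtain ⟨lam, hl1, hl2⟩ := h2
    have h3 : Cfsg.classInner θ.1 ((cbar χ).1 * lam.1) ≠ 0 := by
      rw [mul_comm χ.1 θ.1, classInner_mul_adj] at hl2
      exact hl2
    have h4 : θ.1 = lam.1 * (cbar χ).1 := by
      by_contra hne'
      rw [mul_comm, classInner_isIrrCharacter θ.2 (linear_mul_irr lam (cbar χ) hl1),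
        if_neg hne'] at h3
      exact h3 rfl
    have hlam1 : lam.1 1 = 1 := by
      rw [IsCharacter.apply_one_eq_charDegree (IsIrrCharacter.isCharacter lam.2), hl1]; simp
    have hlamx : lam.1 x = 1 :=
      linear_apply_of_mem_commutator (IsIrrCharacter.isCharacter lam.2) hlam1 hx
    rw [h4, Pi.mul_apply, cbar_apply, hlamx, one_mul]
  -- (e)
  have he : ∀ x ∈ commutator G, ψ.1 x * conj (χ.1 x) = (n : ℂ) * conj (χ.1 x) := by
    intro x hx
    have h1 : B x = ∑ θ : Cfsg.IrrCharacter G, (mB θ : ℂ) * θ.1 x := by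
      have := congrFun hB1 x
      rw [this, Finset.sum_apply]
      apply Finset.sum_congr rfl
      intro θ _
      rw [Pi.smul_apply, nsmul_eq_mul]
    have h2 : ∑ θ : Cfsg.IrrCharacter G, (mB θ : ℂ) * θ.1 x
        = ∑ θ : Cfsg.IrrCharacter G, (mB θ : ℂ) * conj (χ.1 x) := by
      apply Finset.sum_congr rfl
      intro θ _
      by_cases h0 : mB θ = 0
      · rw [h0]; simp
      · rw [hd θ h0 x hx]
    rw [← Finset.sum_mul, ← Nat.cast_sum, hB4] at h2
    have h3 : B x = ψ.1 x * conj (χ.1 x) := rfl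
    rw [← h3, h1, h2]
  -- (f)
  have hf : ∀ x ∈ commutator G, x ≠ 1 → χ.1 x = 0 := by
    intro x hx hx1
    have h1 := he x hx
    have h2 : (ψ.1 x - (n : ℂ)) * conj (χ.1 x) = 0 := by rw [sub_mul, h1, sub_self]
    rcases mul_eq_zero.mp h2 with h3 | h3
    · exfalso
      apply hx1
      apply nonlinear_faithful hmin ψ (by rw [hψ]; omega) x
      rw [IsCharacter.apply_one_eq_charDegree hψc, hψ]
      exact sub_eq_zero.mp h3
    · exact (map_eq_zero (starRingEnd ℂ)).mp h3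
  -- (g)
  have : Fintype (commutator G) := Fintype.ofFinite _
  have hsum : ∑ x : commutator G, χ.1 x = χ.1 1 := by
    rw [Finset.sum_eq_single (1 : commutator G)]
    · simp
    · intro x _ hx
      exact hf x x.2 (fun h => hx (Subtype.ext h))
    · intro h; exact absurd (Finset.mem_univ _) h
  have hne0 : ∑ x : commutator G, χ.1 x ≠ 0 := by
    rw [hsum]; exact IsIrrCharacter.apply_one_ne_zero χ.2
  have hconst := IsIrrCharacter.const_on_normal_of_sum_ne_zero (commutator G) χ.2 hne0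
  obtain ⟨x, hx1⟩ := (Subgroup.ne_bot_iff_exists_ne_one).mp hGne
  have h1 := hconst x
  rw [hf x x.2 (fun h => hx1 (Subtype.ext h))] at h1
  exact IsIrrCharacter.apply_one_ne_zero χ.2 h1.symm

end trick

end Cfsg.Agent.Lib.Helper6.TD
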