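import Mathlib
import Cfsg.Agent.Lib.Helper6.TD4b
import Cfsg.Agent.Lib.Helper6.ProdChar
import Cfsg.Agent.Lib.Helper6.ClassFun

set_option autoImplicit false
set_option linter.unusedSectionVars false
set_option linter.unusedVariables false
set_option linter.style.haveILetI false

/-! The product trick for Isaacs 12.15 (solvability): conclusion. -/

namespace Cfsg.Agent.Lib.Helper6.TD

open Cfsg Cfsg.Agent.Lib.Helper6 Cfsg.Agent.Lib.Helper3 Cfsg.Agent.Lib.Helper3.CD
open scoped ComplexConjugate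

section trick2

variable {G : Type*} [Group G] [Fintype G]
variable [Fintype (Cfsg.IrrCharacter G)] [DecidableEq (Cfsg.IrrCharacter G)]

/-- closure of the set of characters of degree `≠ n` under products -/
theorem closure_S (m n : ℕ) (hcd : ThreeDeg G m n) (hm1 : 1 < m) (hmn : m < n)
    (hcop : Nat.Coprime m n) (hGne : commutator G ≠ ⊥)
    (hmin : ∀ N : Subgroup G, N.Normal → N ≠ ⊥ → commutator G ≤ N)
    (χ₀ ξ η : Cfsg.IrrCharacter G) (h0 : Cfsg.charDegree χ₀.1 ≠ n)
    (hξ : Cfsg.charDegree ξ.1 ≠ n) (hη : Cfsg.charDegree η.1 = n) :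
    Cfsg.classInner (χ₀.1 * ξ.1) η.1 = 0 := by
  rcases hcd χ₀ with h | h | h
  · rw [classInner_isIrrCharacter (linear_mul_irr χ₀ ξ h) η.2, if_neg]
    intro heq
    have h1 := linMul_deg χ₀ ξ h
    have h2 : Cfsg.charDegree (linMul χ₀ ξ h).1 = Cfsg.charDegree η.1 := by
      rw [← heq]; rfl
    rw [h1, hη] at h2
    exact hξ h2
  · rcases hcd ξ with h' | h' | h'
    · rw [mul_comm, classInner_isIrrCharacter (linear_mul_irr ξ χ₀ h') η.2, if_neg]
      intro heq
      have h1 := linMul_deg ξ χ₀ h'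
      have h2 : Cfsg.charDegree (linMul ξ χ₀ h').1 = Cfsg.charDegree η.1 := by
        rw [← heq]; rfl
      rw [h1, hη] at h2
      exact h0 h2
    · exact noY m n hcd hm1 hmn hcop hGne hmin χ₀ ξ η h h' hη
    · exact absurd h' hξ
  · exact absurd h h0

/-- the character `∑ ξ(1) ξ` over the characters of degree `≠ n` -/
noncomputable def rhoS (G : Type*) [Group G] [Fintype (Cfsg.IrrCharacter G)] (n : ℕ) : G → ℂ :=
  ∑ ξ ∈ Finset.univ.filter (fun ξ : Cfsg.IrrCharacter G => Cfsg.charDegree ξ.1 ≠ n),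
    (Cfsg.charDegree ξ.1) • ξ.1

theorem rhoS_isCharacter (n : ℕ) : Cfsg.IsCharacter G (rhoS G n) :=
  IsCharacter.sum _ _ (fun ξ _ => IsCharacter.nsmul (IsIrrCharacter.isCharacter ξ.2) _)

theorem classInner_nsmul_left (k : ℕ) (φ θ : G → ℂ) :
    Cfsg.classInner (k • φ) θ = (k : ℂ) * Cfsg.classInner φ θ := by
  rw [← Nat.cast_smul_eq_nsmul ℂ, classInner_smul_left]

theorem classInner_rhoS (n : ℕ) (η : Cfsg.IrrCharacter G) :
    Cfsg.classInner (rhoS G n) η.1
      = if Cfsg.charDegree η.1 ≠ n then (Cfsg.charDegree η.1 : ℂ) else 0 := by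
  unfold rhoS
  rw [classInner_sum_left]
  have h1 : ∀ ξ : Cfsg.IrrCharacter G, Cfsg.classInner ((Cfsg.charDegree ξ.1) • ξ.1) η.1
      = (Cfsg.charDegree ξ.1 : ℂ) * (if ξ = η then 1 else 0) := by
    intro ξ
    rw [classInner_nsmul_left, classInner_isIrrCharacter ξ.2 η.2]
    by_cases h : ξ = η
    · rw [if_pos (congrArg Subtype.val h), if_pos h]
    · rw [if_neg (fun h' => h (Subtype.ext h')), if_neg h]
  rw [Finset.sum_congr rfl (fun ξ _ => h1 ξ)]
  by_cases hη : Cfsg.charDegree η.1 ≠ n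
  · rw [if_pos hη, Finset.sum_eq_single η]
    · rw [if_pos rfl, mul_one]
    · intro ξ _ hξ
      rw [if_neg hξ, mul_zero]
    · intro h
      exact absurd (Finset.mem_filter.mpr ⟨Finset.mem_univ η, hη⟩) h
  · rw [if_neg hη]
    apply Finset.sum_eq_zero
    intro ξ hξ
    have : ξ ≠ η := by
      rintro rfl
      exact hη (Finset.mem_filter.mp hξ).2
    rw [if_neg this, mul_zero]

theorem classInner_mul_rhoS (n : ℕ) (χ₀ η : G → ℂ) :
    Cfsg.classInner (χ₀ * rhoS G n) η
      = ∑ ξ ∈ Finset.univ.filter (fun ξ : Cfsg.IrrCharacter G => Cfsg.charDegree ξ.1 ≠ n),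
        (Cfsg.charDegree ξ.1 : ℂ) * Cfsg.classInner (χ₀ * ξ.1) η := by
  have h1 : χ₀ * rhoS G n
      = ∑ ξ ∈ Finset.univ.filter (fun ξ : Cfsg.IrrCharacter G => Cfsg.charDegree ξ.1 ≠ n),
        (Cfsg.charDegree ξ.1) • (χ₀ * ξ.1) := by
    unfold rhoS
    rw [Finset.mul_sum]
    apply Finset.sum_congr rfl
    intro ξ _
    rw [mul_smul_comm]
  rw [h1, classInner_sum_left]
  apply Finset.sum_congr rfl
  intro ξ _
  rw [classInner_nsmul_left]

theorem mul_rhoS_eq (m n : ℕ) (hcd : ThreeDeg G m n) (hm1 : 1 < m) (hmn : m < n)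
    (hcop : Nat.Coprime m n) (hGne : commutator G ≠ ⊥)
    (hmin : ∀ N : Subgroup G, N.Normal → N ≠ ⊥ → commutator G ≤ N)
    (χ₀ : Cfsg.IrrCharacter G) (h0 : Cfsg.charDegree χ₀.1 ≠ n) :
    χ₀.1 * rhoS G n = (Cfsg.charDegree χ₀.1) • rhoS G n := by
  have hχ₀c := IsIrrCharacter.isCharacter χ₀.2
  have hA : Cfsg.IsCharacter G (χ₀.1 * rhoS G n) := IsCharacter.mul hχ₀c (rhoS_isCharacter n)
  have hB : Cfsg.IsCharacter G ((Cfsg.charDegree χ₀.1) • rhoS G n) :=
    IsCharacter.nsmul (rhoS_isCharacter n) _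
  have hD : χ₀.1 * rhoS G n - (Cfsg.charDegree χ₀.1) • rhoS G n = 0 := by
    apply eq_zero_of_classInner_irr_eq_zero _
      (isClassFunction_sub (IsCharacter.isClassFunction hA) (IsCharacter.isClassFunction hB))
    intro η
    have hηc := IsIrrCharacter.isCharacter η.2
    rw [classInner_sub_left, classInner_nsmul_left, classInner_rhoS, classInner_mul_rhoS,
      sub_eq_zero]
    by_cases hη : Cfsg.charDegree η.1 = n
    · rw [if_neg (not_not.mpr hη), mul_zero]
      apply Finset.sum_eq_zero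
      intro ξ hξ
      rw [closure_S m n hcd hm1 hmn hcop hGne hmin χ₀ ξ η h0 (Finset.mem_filter.mp hξ).2 hη,
        mul_zero]
    · rw [if_pos hη]
      have hbc := IsIrrCharacter.isCharacter (cbar χ₀).2
      have hC : Cfsg.IsCharacter G ((cbar χ₀).1 * η.1) := IsCharacter.mul hbc hηc
      obtain ⟨mC, hC1, hC2⟩ := IsCharacter.exists_mult hC
      have hterm : ∀ ξ : Cfsg.IrrCharacter G,
          Cfsg.classInner (χ₀.1 * ξ.1) η.1 = (mC ξ : ℂ) := by
        intro ξ
        rw [mul_comm, classInner_mul_adj]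
        show Cfsg.classInner ξ.1 ((cbar χ₀).1 * η.1) = (mC ξ : ℂ)
        rw [classInner_char_symm (IsIrrCharacter.isCharacter ξ.2) hC, hC2]
      have hout : ∀ ξ : Cfsg.IrrCharacter G, Cfsg.charDegree ξ.1 = n → mC ξ = 0 := by
        intro ξ hξ
        have := closure_S m n hcd hm1 hmn hcop hGne hmin (cbar χ₀) η ξ
          (by rw [cbar_deg]; exact h0) hη hξ
        rw [hC2] at this
        exact_mod_cast this
      have hdeg := deg_eq_sum hC mC hC1
      rw [deg_mul hbc hηc, cbar_deg] at hdeg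
      rw [Finset.sum_congr rfl (fun ξ _ => by rw [hterm ξ])]
      have hsum : (∑ ξ ∈ Finset.univ.filter
          (fun ξ : Cfsg.IrrCharacter G => Cfsg.charDegree ξ.1 ≠ n),
          (Cfsg.charDegree ξ.1 : ℂ) * (mC ξ : ℂ))
          = ((∑ θ : Cfsg.IrrCharacter G, mC θ * Cfsg.charDegree θ.1 : ℕ) : ℂ) := by
        push_cast
        rw [Finset.sum_filter_of_ne]
        · apply Finset.sum_congr rfl
          intro ξ _
          ring
        · intro ξ _ hne hξ
          apply hne
          rw [hout ξ hξ]; simp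
      rw [hsum, ← hdeg]
      push_cast
      ring
  exact sub_eq_zero.mp hD

/-- the product trick: contradiction -/
theorem product_trick (m n : ℕ) (hcd : ThreeDeg G m n) (hm1 : 1 < m) (hmn : m < n)
    (hcop : Nat.Coprime m n)
    (hm : ∃ χ : Cfsg.IrrCharacter G, Cfsg.charDegree χ.1 = m)
    (hn : ∃ χ : Cfsg.IrrCharacter G, Cfsg.charDegree χ.1 = n)
    (hGne : commutator G ≠ ⊥)
    (hmin : ∀ N : Subgroup G, N.Normal → N ≠ ⊥ → commutator G ≤ N) : False := by
  classical
  obtain ⟨χ, hχ⟩ := hm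
  obtain ⟨ψ, hψ⟩ := hn
  have hχn : Cfsg.charDegree χ.1 ≠ n := by rw [hχ]; omega
  have hi := mul_rhoS_eq m n hcd hm1 hmn hcop hGne hmin χ hχn
  -- (ii) sum of rho
  have hone : Cfsg.charDegree (fun _ : G => (1 : ℂ)) = 1 := by
    unfold Cfsg.charDegree; simp
  have hii : ∑ g : G, rhoS G n g = (Nat.card G : ℂ) := by
    have h1 := classInner_rhoS n (⟨fun _ => (1 : ℂ), isIrrCharacter_one⟩ : Cfsg.IrrCharacter G)
    simp only at h1
    rw [hone, if_pos (by omega)] at h1
    unfold Cfsg.classInner at h1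
    simp only [map_one, mul_one, Nat.cast_one] at h1
    have hG := card_ne_zero_complex G
    field_simp at h1
    rw [h1]
  -- (iii) value at 1
  have hiii : ∃ k : ℕ, rhoS G n 1 = (k : ℂ) ∧ k < Nat.card G := by
    refine ⟨∑ ξ ∈ Finset.univ.filter (fun ξ : Cfsg.IrrCharacter G => Cfsg.charDegree ξ.1 ≠ n),
      Cfsg.charDegree ξ.1 ^ 2, ?_, ?_⟩
    · unfold rhoS
      rw [Finset.sum_apply]
      push_cast
      apply Finset.sum_congr rfl
      intro ξ _
      rw [Pi.smul_apply, nsmul_eq_mul,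
        IsCharacter.apply_one_eq_charDegree (IsIrrCharacter.isCharacter ξ.2)]
      ring
    · rw [← sum_sq_charDegree (K := G)]
      have hsplit := Finset.sum_filter_add_sum_filter_not (Finset.univ : Finset (Cfsg.IrrCharacter G))
        (fun ξ : Cfsg.IrrCharacter G => Cfsg.charDegree ξ.1 ≠ n)
        (fun ξ => Cfsg.charDegree ξ.1 ^ 2)
      rw [← hsplit]
      have hψmem : ψ ∈ Finset.univ.filter
          (fun ξ : Cfsg.IrrCharacter G => ¬ Cfsg.charDegree ξ.1 ≠ n) :=
        Finset.mem_filter.mpr ⟨Finset.mem_univ _, not_not.mpr hψ⟩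
      have hpos : 0 < ∑ ξ ∈ Finset.univ.filter
          (fun ξ : Cfsg.IrrCharacter G => ¬ Cfsg.charDegree ξ.1 ≠ n), Cfsg.charDegree ξ.1 ^ 2 := by
        refine lt_of_lt_of_le ?_ (Finset.single_le_sum
          (f := fun ξ : Cfsg.IrrCharacter G => Cfsg.charDegree ξ.1 ^ 2)
          (fun _ _ => Nat.zero_le _) hψmem)
        rw [hψ]
        have hn0 : 0 < n := by omega
        exact pow_pos hn0 2
      omega
  obtain ⟨k, hk1, hk2⟩ := hiii
  -- an element g ≠ 1 with rho g ≠ 0
  have hex : ∃ g : G, g ≠ 1 ∧ rhoS G n g ≠ 0 := by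
    by_contra hno
    push Not at hno
    have h1 : ∑ g : G, rhoS G n g = rhoS G n 1 := by
      rw [Finset.sum_eq_single (1 : G)]
      · intro g _ hg
        exact hno g hg
      · intro h; exact absurd (Finset.mem_univ _) h
    rw [hii, hk1] at h1
    have : Nat.card G = k := by exact_mod_cast h1
    omega
  obtain ⟨g, hg1, hg⟩ := hex
  have h1 := congrFun hi g
  rw [Pi.mul_apply, Pi.smul_apply, nsmul_eq_mul] at h1
  have h2 : χ.1 g = (Cfsg.charDegree χ.1 : ℂ) := mul_right_cancel₀ hg h1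
  apply hg1
  apply nonlinear_faithful hmin χ (by rw [hχ]; omega) g
  rw [h2, IsCharacter.apply_one_eq_charDegree (IsIrrCharacter.isCharacter χ.2)]

end trick2

end Cfsg.Agent.Lib.Helper6.TD
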