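import Mathlib
import Cfsg.Agent.Lib.Helper6.TD4c
import Cfsg.Agent.S4456

set_option autoImplicit false
set_option linter.unusedSectionVars false
set_option linter.unusedVariables false
set_option linter.style.haveILetI false

/-! Isaacs 12.15, solvability part: a finite group with at most three character degrees is
solvable. -/

namespace Cfsg.Agent.Lib.Helper6.TD

open Cfsg Cfsg.Agent.Lib.Helper6 Cfsg.Agent.Lib.Helper3 Cfsg.Agent.Lib.Helper3.CD
open scoped commutatorElement

/-- the `p`-group quotient case -/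
theorem solv_pcase {G : Type*} [Group G] [Finite G] (K : Subgroup G) [hK : K.Normal]
    (p j : ℕ) (hp : p.Prime) (hidx : K.index = p ^ j) (f g : ℕ) (hf1 : 1 < f) (hg1 : 1 < g)
    (hcop : Nat.Coprime f g) (hcd : ThreeDeg G f g)
    (β : Cfsg.IrrCharacter (G ⧸ K)) (hβ : Cfsg.charDegree (β : G ⧸ K → ℂ) = f)
    (ψ : Cfsg.IrrCharacter G) (hψ : Cfsg.charDegree (ψ : G → ℂ) = g) : False := by
  classical
  have : Fintype G := Fintype.ofFinite G
  have hdvd : f ∣ p ^ j := by
    rw [← hβ, ← hidx, Subgroup.index_eq_card]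
    exact IsIrrCharacter.charDegree_dvd_card β.2
  obtain ⟨e, _, he⟩ := (Nat.dvd_prime_pow hp).mp hdvd
  have he0 : e ≠ 0 := by
    rintro rfl
    rw [pow_zero] at he
    omega
  have hpf : p ∣ f := by rw [he]; exact dvd_pow_self p he0
  have hpg : ¬ p ∣ g := by
    intro h
    have := Nat.dvd_gcd hpf h
    rw [hcop] at this
    exact hp.one_lt.ne' (Nat.dvd_one.mp this)
  obtain ⟨χ, hχ⟩ := gallagher_degree K p j hp hidx β ψ (by rw [hψ]; exact hpg)
  rw [hβ, hψ] at hχ
  have h1 : f < f * g := by nlinarith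
  have h2 : g < f * g := by nlinarith
  rcases hcd χ with h | h | h <;> omega

/-- the Frobenius-type quotient case -/
theorem solv_fcase {G : Type*} [Group G] [Finite G] (K : Subgroup G) [hK : K.Normal]
    (hQsol : Group.IsSolvable (G ⧸ K))
    (M : Subgroup (G ⧸ K)) [hM : M.Normal] (hMab : ∀ a ∈ M, ∀ b ∈ M, a * b = b * a)
    (p : ℕ) (hp : p.Prime) (hMp : IsPGroup p M) (hMne : M ≠ ⊥) (hpidx : ¬ p ∣ M.index)
    (hfpf : ∀ q : G ⧸ K, q ∉ M → ∀ x ∈ M, q * x = x * q → x = 1)
    (f g : ℕ) (hf1 : 1 < f) (hg1 : 1 < g)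
    (hcop : Nat.Coprime f g) (hcd : ThreeDeg G f g)
    (β : Cfsg.IrrCharacter (G ⧸ K)) (hβ : Cfsg.charDegree (β : G ⧸ K → ℂ) = f) :
    Group.IsSolvable G := by
  classical
  have : Fintype G := Fintype.ofFinite G
  have hfg : ¬ f ∣ g := by
    intro h
    have := Nat.dvd_gcd (dvd_refl f) h
    rw [hcop] at this
    have := Nat.dvd_one.mp this
    omega
  have hfM : f ∣ M.index := by rw [← hβ]; exact ito_deg_dvd M hMab β
  set N := preN K M with hN
  have : Fintype N := Fintype.ofFinite N
  -- the trivial character of N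
  have hone : Cfsg.charDegree (fun _ : N => (1 : ℂ)) = 1 := by
    unfold Cfsg.charDegree; simp
  obtain ⟨χ₁, hχ₁⟩ := weak_twelve_four K M hMab p hp hMp hMne hfpf
    ⟨fun _ => (1 : ℂ), isIrrCharacter_one⟩ (by
      simp only
      rw [hone]
      exact fun h => hp.one_lt.ne' (Nat.dvd_one.mp h))
  simp only at hχ₁
  rw [hone, mul_one] at hχ₁
  have hMf : M.index = f := by
    rcases hcd χ₁ with h | h | h
    · rw [h] at hχ₁
      rw [← hχ₁] at hfM
      have := Nat.dvd_one.mp hfM
      omega
    · rw [← hχ₁, h]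
    · rw [h] at hχ₁
      rw [← hχ₁] at hfM
      exact absurd hfM hfg
  have hpf : ¬ p ∣ f := by rw [← hMf]; exact hpidx
  have hNidx : N.index = f := by rw [hN, index_preN, hMf]
  -- degrees of N
  have hNcd : ∀ ψ' : Cfsg.IrrCharacter N, Cfsg.charDegree (ψ' : N → ℂ) = 1 ∨
      Cfsg.charDegree (ψ' : N → ℂ) = g := by
    intro ψ'
    obtain ⟨χ', h1, h2⟩ := exists_over_degree N ψ'
    set d := Cfsg.charDegree (ψ' : N → ℂ) with hd
    have hdpos : 0 < d := IsIrrCharacter.charDegree_pos ψ'.2
    rcases hcd χ' with h | h | h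
    · left
      rw [h] at h1
      exact Nat.dvd_one.mp h1
    · left
      rw [h] at h1
      have hpd : ¬ p ∣ d := fun h' => hpf (h'.trans h1)
      obtain ⟨χ'', hχ''⟩ := weak_twelve_four K M hMab p hp hMp hMne hfpf ψ' hpd
      rw [hMf, ← hd] at hχ''
      rcases hcd χ'' with h' | h' | h'
      · rw [h'] at hχ''
        have : f = 1 := Nat.eq_one_of_mul_eq_one_right hχ''.symm
        omega
      · rw [h'] at hχ''
        have : f * d = f * 1 := by rw [mul_one]; exact hχ''.symm
        exact Nat.eq_of_mul_eq_mul_left (by omega) this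
      · rw [h'] at hχ''
        exact absurd ⟨d, hχ''⟩ hfg
    · right
      rw [h] at h1 h2
      obtain ⟨c, hc⟩ := h1
      rw [hc, Nat.mul_div_cancel_left c hdpos, hNidx] at h2
      have hcg : c ∣ g := ⟨d, by rw [hc, mul_comm]⟩
      have hc1 : c = 1 := by
        have := Nat.dvd_gcd h2 hcg
        rw [hcop] at this
        exact Nat.dvd_one.mp this
      rw [hc, hc1, mul_one]
  have hNsol : Group.IsSolvable N := solvable_of_two_degrees g hNcd
  -- G ⧸ N is solvable
  have hKN : K ≤ N := by
    intro x hx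
    show QuotientGroup.mk' K x ∈ M
    rw [QuotientGroup.mk'_apply, (QuotientGroup.eq_one_iff x).mpr hx]; exact one_mem M
  have hQNsol : Group.IsSolvable (G ⧸ N) := by
    have hsurj : Function.Surjective (QuotientGroup.map K N (MonoidHom.id G) hKN) := by
      intro q
      obtain ⟨x, rfl⟩ := QuotientGroup.mk_surjective q
      exact ⟨QuotientGroup.mk x, rfl⟩
    exact Group.isSolvable_of_surjective hsurj
  exact Group.isSolvable_of_ker_le_range N.subtype (QuotientGroup.mk' N) (by
    rw [QuotientGroup.ker_mk', Subgroup.range_subtype])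

theorem solv_main.{u} {G : Type u} [Group G] [Finite G]
    (ih : ∀ (H : Type u) [Group H] [Finite H], Nat.card H < Nat.card G →
      ∀ m n : ℕ, ThreeDeg H m n → Group.IsSolvable H)
    (m n : ℕ) (hcd : ThreeDeg G m n) (hm1 : 1 < m) (hmn : m < n)
    (hm : ∃ χ : Cfsg.IrrCharacter G, Cfsg.charDegree (χ : G → ℂ) = m)
    (hn : ∃ χ : Cfsg.IrrCharacter G, Cfsg.charDegree (χ : G → ℂ) = n) :
    Group.IsSolvable G := by
  classical
  by_contra hns
  have : Fintype G := Fintype.ofFinite G
  have : Fintype (Cfsg.IrrCharacter G) := Fintype.ofFinite _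
  -- A1: coprimality
  have hcop : Nat.Coprime m n := by
    by_contra hncop
    obtain ⟨p, hp, hpm, hpn⟩ := Nat.Prime.not_coprime_iff_dvd.mp hncop
    have hdeg : ∀ χ : Cfsg.IrrCharacter G, Cfsg.charDegree (χ : G → ℂ) ≠ 1 →
        p ∣ Cfsg.charDegree (χ : G → ℂ) := by
      intro χ hχ
      rcases hcd χ with h | h | h
      · exact absurd h hχ
      · rw [h]; exact hpm
      · rw [h]; exact hpn
    obtain ⟨H, hHn, hcopH, k, hk⟩ := Cfsg.Agent.S4456.result p hp hdeg
    haveI := hHn
    have : Fintype H := Fintype.ofFinite H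
    obtain ⟨χ₀, hχ₀⟩ := hm
    have hmG : m ∣ Nat.card G := by
      rw [← hχ₀]
      exact IsIrrCharacter.charDegree_dvd_card χ₀.2
    have hlt : Nat.card H < Nat.card G := by
      have hle : Nat.card H ∣ Nat.card G := Subgroup.card_subgroup_dvd_card H
      rcases (Nat.le_of_dvd Nat.card_pos hle).lt_or_eq with h | h
      · exact h
      · exfalso
        have : p ∣ Nat.card H := by rw [h]; exact hpm.trans hmG
        have h1 := Nat.Coprime.eq_one_of_dvd hcopH.symm this
        exact hp.one_lt.ne' h1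
    have hcopHi : (Nat.card H).Coprime H.index := by
      rw [hk]; exact Nat.Coprime.pow_right k hcopH
    have hHcd : ThreeDeg H (Nat.gcd m (Nat.card H)) (Nat.gcd n (Nat.card H)) := by
      intro θ
      obtain ⟨χ, hχ⟩ := hall_degree H hcopHi θ
      rcases hcd χ with h | h | h
      · left; rw [hχ, h]; exact Nat.gcd_one_left _
      · right; left; rw [hχ, h]
      · right; right; rw [hχ, h]
    have hHsol : Group.IsSolvable H := ih H hlt _ _ hHcd
    haveI : Fact p.Prime := ⟨hp⟩
    have hQ : IsPGroup p (G ⧸ H) := by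
      apply IsPGroup.of_card (n := k)
      rw [← hk, Subgroup.index_eq_card]
    have hQnil : Group.IsNilpotent (G ⧸ H) := hQ.isNilpotent
    have hQsol : Group.IsSolvable (G ⧸ H) := inferInstance
    exact hns (Group.isSolvable_of_ker_le_range H.subtype (QuotientGroup.mk' H) (by
      rw [QuotientGroup.ker_mk', Subgroup.range_subtype]))
  by_cases hA : ∃ N₀ : Subgroup G, N₀.Normal ∧ N₀ ≠ ⊥ ∧ ∃ a b : G, a * b * a⁻¹ * b⁻¹ ∉ N₀
  · -- A2
    obtain ⟨N₀, hN₀n, hN₀ne, hN₀ab⟩ := hA
    obtain ⟨K, hKn, hN₀K, hKab, hKmax⟩ := exists_max_nonabelian_quotient_ge N₀ hN₀n hN₀ab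
    haveI := hKn
    have hKne : K ≠ ⊥ := by
      intro h
      rw [h] at hN₀K
      exact hN₀ne (eq_bot_iff.mpr hN₀K)
    have hlt : Nat.card (G ⧸ K) < Nat.card G := by
      rw [Subgroup.card_eq_card_quotient_mul_card_subgroup K]
      have h1 : 1 < Nat.card K := K.one_lt_card_iff_ne_bot.mpr hKne
      have h0 : 0 < Nat.card (G ⧸ K) := Nat.card_pos
      nlinarith
    have hQsol : Group.IsSolvable (G ⧸ K) := ih (G ⧸ K) hlt m n (hcd.quotient K)
    obtain ⟨hmin, hQG, hQne⟩ := quot_max_props K hKab hKmax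
    obtain ⟨β, hβ⟩ := exists_nonlinear hQG
    rcases structure_thm hQsol hmin hQne with ⟨p, hp, hQp⟩ | ⟨p, hp, hMp, hpidx, hfpf⟩
    · haveI : Fact p.Prime := ⟨hp⟩
      obtain ⟨j, hj⟩ := IsPGroup.iff_card.mp hQp
      have hKidx : K.index = p ^ j := by rw [Subgroup.index_eq_card]; exact hj
      obtain ⟨ψm, hψm⟩ := hm
      obtain ⟨ψn, hψn⟩ := hn
      rcases (hcd.quotient K) β with h | h | h
      · exact hβ h
      · exact solv_pcase K p j hp hKidx m n hm1 (by omega) hcop hcd β h ψn hψn
      · exact solv_pcase K p j hp hKidx n m (by omega) hm1 hcop.symm hcd.symm β h ψm hψm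
    · have hMab := commutator_comm hQsol hmin
      have hfpf' : ∀ q : G ⧸ K, q ∉ commutator (G ⧸ K) → ∀ x ∈ commutator (G ⧸ K),
          q * x = x * q → x = 1 := fun q hq x hx hqx => hfpf q hq x hx hqx.symm
      rcases (hcd.quotient K) β with h | h | h
      · exact hβ h
      · exact hns (solv_fcase K hQsol (commutator (G ⧸ K)) hMab p hp hMp hQne hpidx hfpf' m n hm1
          (by omega) hcop hcd β h)
      · exact hns (solv_fcase K hQsol (commutator (G ⧸ K)) hMab p hp hMp hQne hpidx hfpf' n m
          (by omega) hm1 hcop.symm hcd.symm β h)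
  · -- A3
    push Not at hA
    have hmin : ∀ N : Subgroup G, N.Normal → N ≠ ⊥ → commutator G ≤ N := by
      intro N hNn hNne
      rw [commutator_def, Subgroup.commutator_le]
      intro a _ b _
      rw [commutatorElement_def]
      exact hA N hNn hNne a b
    have hGne : commutator G ≠ ⊥ := by
      intro h
      apply hns
      apply Group.isSolvable_of_comm
      intro a b
      have h1 := comm_mem_commutator a b
      rw [h, Subgroup.mem_bot] at h1
      calc a * b = (a * b * a⁻¹ * b⁻¹) * (b * a) := by group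
        _ = b * a := by rw [h1, one_mul]
    exact product_trick m n hcd hm1 hmn hcop hm hn hGne hmin

theorem solv_aux.{u} : ∀ (N : ℕ) (G : Type u) [Group G] [Finite G], Nat.card G = N →
    ∀ m n : ℕ, ThreeDeg G m n → Group.IsSolvable G := by
  intro N
  induction N using Nat.strong_induction_on with
  | _ N ih =>
    intro G _ _ hN m n hcd
    have : Fintype G := Fintype.ofFinite G
    have htwo : ∀ d : ℕ, (∀ χ : Cfsg.IrrCharacter G, Cfsg.charDegree (χ : G → ℂ) = 1 ∨
        Cfsg.charDegree (χ : G → ℂ) = d) → Group.IsSolvable G :=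
      fun d hd => solvable_of_two_degrees d hd
    by_cases hm : ∃ χ : Cfsg.IrrCharacter G, Cfsg.charDegree (χ : G → ℂ) = m
    swap
    · push Not at hm
      apply htwo n
      intro χ
      rcases hcd χ with h | h | h
      · exact Or.inl h
      · exact absurd h (hm χ)
      · exact Or.inr h
    by_cases hn : ∃ χ : Cfsg.IrrCharacter G, Cfsg.charDegree (χ : G → ℂ) = n
    swap
    · push Not at hn
      apply htwo m
      intro χ
      rcases hcd χ with h | h | h
      · exact Or.inl h
      · exact Or.inr h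
      · exact absurd h (hn χ)
    by_cases hm1 : m = 1
    · apply htwo n
      intro χ
      rcases hcd χ with h | h | h
      · exact Or.inl h
      · exact Or.inl (h.trans hm1)
      · exact Or.inr h
    by_cases hn1 : n = 1
    · apply htwo m
      intro χ
      rcases hcd χ with h | h | h
      · exact Or.inl h
      · exact Or.inr h
      · exact Or.inl (h.trans hn1)
    by_cases hmn : m = n
    · apply htwo n
      intro χ
      rcases hcd χ with h | h | h
      · exact Or.inl h
      · exact Or.inr (h.trans hmn)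
      · exact Or.inr h
    have hmpos : 0 < m := by
      obtain ⟨χ, hχ⟩ := hm; rw [← hχ]; exact IsIrrCharacter.charDegree_pos χ.2
    have hnpos : 0 < n := by
      obtain ⟨χ, hχ⟩ := hn; rw [← hχ]; exact IsIrrCharacter.charDegree_pos χ.2
    have ih' : ∀ (H : Type u) [Group H] [Finite H], Nat.card H < Nat.card G →
        ∀ m n : ℕ, ThreeDeg H m n → Group.IsSolvable H := by
      intro H _ _ hlt m' n' hH
      exact ih (Nat.card H) (by rw [← hN]; exact hlt) H rfl m' n' hH
    rcases lt_or_gt_of_ne hmn with h | h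
    · exact solv_main ih' m n hcd (by omega) h hm hn
    · exact solv_main ih' n m hcd.symm (by omega) h hn hm

/-- a finite group with at most three character degrees is solvable -/
theorem solvable_of_three_degrees {G : Type*} [Group G] [Finite G] (m n : ℕ)
    (hcd : ThreeDeg G m n) : Group.IsSolvable G :=
  solv_aux (Nat.card G) G rfl m n hcd

end Cfsg.Agent.Lib.Helper6.TD
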