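import Mathlib
import Cfsg.Agent.Lib.Helper6.TD6

set_option autoImplicit false
set_option linter.unusedSectionVars false
set_option linter.unusedVariables false
set_option linter.style.haveILetI false

/-! Groups all of whose irreducible character degrees are `1` or prime (Isaacs–Passman): the
reduction via a maximal nonabelian quotient. -/

namespace Cfsg.Agent.Lib.Helper6.PrD

open Cfsg Cfsg.Agent.Lib.Helper6 Cfsg.Agent.Lib.Helper6.TD Cfsg.Agent.Lib.Helper3
  Cfsg.Agent.Lib.Helper3.CD

/-- all irreducible character degrees are `1` or prime -/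
def PrimeDeg (G : Type*) [Group G] : Prop :=
  ∀ χ : Cfsg.IrrCharacter G, Cfsg.charDegree (χ : G → ℂ) = 1 ∨
    (Cfsg.charDegree (χ : G → ℂ)).Prime

theorem PrimeDeg.quotient {G : Type*} [Group G] [Finite G] (h : PrimeDeg G)
    (K : Subgroup G) [hK : K.Normal] : PrimeDeg (G ⧸ K) := by
  intro β
  obtain ⟨χ, _, hdeg⟩ := exists_inflation K β
  rw [← hdeg]
  exact h χ

theorem PrimeDeg.normal {G : Type*} [Group G] [Finite G] (h : PrimeDeg G)
    (N : Subgroup G) [hN : N.Normal] : PrimeDeg N := by
  intro θ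
  obtain ⟨χ, h1, _⟩ := exists_over_degree N θ
  rcases h χ with h2 | h2
  · left; rw [h2] at h1; exact Nat.dvd_one.mp h1
  · rcases (Nat.dvd_prime h2).mp h1 with h3 | h3
    · left; exact h3
    · right; rw [h3]; exact h2

theorem eq_one_of_mul_one_or_prime {f d : ℕ} (hf1 : f ≠ 1)
    (h : f * d = 1 ∨ (f * d).Prime) : d = 1 := by
  rcases h with h | h
  · exact Nat.eq_one_of_mul_eq_one_left h
  · rcases Nat.prime_mul_iff.mp h with ⟨_, h1⟩ | ⟨_, h1⟩
    · exact h1
    · exact absurd h1 hf1

/-- the reduction: if `K` is maximal normal with nonabelian quotient and `G ⧸ K` is solvable, then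
a group with prime degrees has at most three degrees -/
theorem three_of_max {G : Type*} [Group G] [Finite G] (hP : PrimeDeg G) (K : Subgroup G)
    [hKn : K.Normal] (hab₀ : ∃ a b : G, a * b * a⁻¹ * b⁻¹ ∉ K)
    (hKmax : ∀ L : Subgroup G, L.Normal → K ≤ L → (∃ a b : G, a * b * a⁻¹ * b⁻¹ ∉ L) → L ≤ K)
    (hQsol : Group.IsSolvable (G ⧸ K)) : ∃ m n : ℕ, ThreeDeg G m n := by
  classical
  have : Fintype G := Fintype.ofFinite G
  obtain ⟨hmin, hQG, hQne⟩ := quot_max_props K hab₀ hKmax
  obtain ⟨β, hβ⟩ := exists_nonlinear hQG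
  have hβp : (Cfsg.charDegree (β : G ⧸ K → ℂ)).Prime := (hP.quotient K β).resolve_left hβ
  rcases structure_thm hQsol hmin hQne with ⟨p, hp, hQp⟩ | ⟨p, hp, hMp, hpidx, hfpf⟩
  · -- the p-group case
    haveI : Fact p.Prime := ⟨hp⟩
    obtain ⟨j, hj⟩ := IsPGroup.iff_card.mp hQp
    have hKidx : K.index = p ^ j := by rw [Subgroup.index_eq_card]; exact hj
    have hdvd : Cfsg.charDegree (β : G ⧸ K → ℂ) ∣ p ^ j := by
      rw [← hj]; exact IsIrrCharacter.charDegree_dvd_card β.2
    have hβeq : Cfsg.charDegree (β : G ⧸ K → ℂ) = p :=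
      (Nat.prime_dvd_prime_iff_eq hβp hp).mp (hβp.dvd_of_dvd_pow hdvd)
    refine ⟨p, p, fun ψ => ?_⟩
    by_cases hpd : p ∣ Cfsg.charDegree (ψ : G → ℂ)
    · rcases hP ψ with h | h
      · left; exact h
      · right; left; exact ((Nat.prime_dvd_prime_iff_eq hp h).mp hpd).symm
    · left
      obtain ⟨χ, hχ⟩ := gallagher_degree K p j hp hKidx β ψ hpd
      rw [hβeq] at hχ
      have := hP χ
      rw [hχ] at this
      exact eq_one_of_mul_one_or_prime hp.one_lt.ne' this
  · -- the Frobenius case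
    have hMab := commutator_comm hQsol hmin
    have hfpf' : ∀ q : G ⧸ K, q ∉ commutator (G ⧸ K) → ∀ x ∈ commutator (G ⧸ K),
        q * x = x * q → x = 1 := fun q hq x hx hqx => hfpf q hq x hx hqx.symm
    set N := preN K (commutator (G ⧸ K)) with hN
    have : Fintype N := Fintype.ofFinite N
    have hone : Cfsg.charDegree (fun _ : N => (1 : ℂ)) = 1 := by
      unfold Cfsg.charDegree; simp
    obtain ⟨χ₁, hχ₁⟩ := weak_twelve_four K (commutator (G ⧸ K)) hMab p hp hMp hQne hfpf'
      ⟨fun _ => (1 : ℂ), isIrrCharacter_one⟩ (by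
        simp only
        rw [hone]
        exact fun h => hp.one_lt.ne' (Nat.dvd_one.mp h))
    simp only at hχ₁
    rw [hone, mul_one] at hχ₁
    have hf1 : (commutator (G ⧸ K)).index ≠ 1 := by
      intro h1
      have htop : commutator (G ⧸ K) = ⊤ := Subgroup.index_eq_one.mp h1
      obtain ⟨x, y, hxy⟩ := hQG
      exact hxy (hMab x (by rw [htop]; trivial) y (by rw [htop]; trivial))
    have hfp : (commutator (G ⧸ K)).index.Prime := by
      rcases hP χ₁ with h | h
      · rw [hχ₁] at h; exact absurd h hf1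
      · rw [hχ₁] at h; exact h
    have hNidx : N.index = (commutator (G ⧸ K)).index := by rw [hN, index_preN]
    have hNn : N.Normal := inferInstance
    have hNcd : ∀ ψ' : Cfsg.IrrCharacter N, Cfsg.charDegree (ψ' : N → ℂ) = 1 ∨
        Cfsg.charDegree (ψ' : N → ℂ) = p := by
      intro ψ'
      by_cases hpd : p ∣ Cfsg.charDegree (ψ' : N → ℂ)
      · rcases (PrimeDeg.normal hP N) ψ' with h | h
        · left; exact h
        · right; exact ((Nat.prime_dvd_prime_iff_eq hp h).mp hpd).symm
      · left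
        obtain ⟨χ'', hχ''⟩ := weak_twelve_four K (commutator (G ⧸ K)) hMab p hp hMp hQne hfpf'
          ψ' hpd
        have := hP χ''
        rw [hχ''] at this
        exact eq_one_of_mul_one_or_prime hf1 this
    refine ⟨p, (commutator (G ⧸ K)).index, fun χ => ?_⟩
    obtain ⟨θ, hθ⟩ := exists_constituent_restrict N χ.2
    obtain ⟨h1, h2⟩ := Cfsg.Agent.S0887.result N (χ : G → ℂ) χ.2 (θ : N → ℂ) θ.2 hθ _ _
      (IsCharacter.apply_one_eq_charDegree (IsIrrCharacter.isCharacter χ.2))
      (IsCharacter.apply_one_eq_charDegree (IsIrrCharacter.isCharacter θ.2))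
    rw [hNidx] at h2
    rcases hP χ with h | h
    · left; exact h
    · right
      rcases hNcd θ with hd1 | hdp
      · -- d = 1 : c ∣ index, prime
        right
        rw [hd1, Nat.div_one] at h2
        exact (Nat.prime_dvd_prime_iff_eq h hfp).mp h2
      · left
        rw [hdp] at h1
        exact ((Nat.prime_dvd_prime_iff_eq hp h).mp h1).symm

end Cfsg.Agent.Lib.Helper6.PrD
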