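import Mathlib
import Cfsg.Agent.Lib.Helper6.PrD1
import Cfsg.Agent.S4441
import Cfsg.Agent.S0142
import Cfsg.Agent.S0138
import Cfsg.Agent.S0139

set_option autoImplicit false
set_option linter.unusedSectionVars false
set_option linter.unusedVariables false
set_option linter.style.haveILetI false

/-! Groups with prime character degrees: the simple case.  A nonabelian simple group cannot have
all its nontrivial character degrees prime with at least two different primes occurring: the
Sylow subgroup for the largest degree `n` has order `n`, and Brauer's theory of blocks of defect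
one together with Burnside's transfer theorem gives a contradiction. -/

namespace Cfsg.Agent.Lib.Helper6.PrD

open Cfsg Cfsg.Agent.Lib.Helper6 Cfsg.Agent.Lib.Helper6.TD Cfsg.Agent.Lib.Helper3
  Cfsg.Agent.Lib.Helper3.CD
open scoped ComplexConjugate

section simple

variable {G : Type*} [Group G] [Fintype G]

/-- a faithful irreducible character of degree smaller than `n` forces abelian Sylow
`n`-subgroups -/
theorem sylow_comm
    (hmin : ∀ N : Subgroup G, N.Normal → N ≠ ⊥ → commutator G ≤ N)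
    (n : ℕ) [hn : Fact n.Prime] (R : Sylow n G) (χ₀ : Cfsg.IrrCharacter G)
    (h1 : Cfsg.charDegree (χ₀ : G → ℂ) ≠ 1) (hlt : Cfsg.charDegree (χ₀ : G → ℂ) < n) :
    ∀ a ∈ (R : Subgroup G), ∀ b ∈ (R : Subgroup G), a * b = b * a := by
  classical
  have : Fintype (R : Subgroup G) := Fintype.ofFinite _
  have : Fintype (Cfsg.IrrCharacter (R : Subgroup G)) := Fintype.ofFinite _
  set B : ↥(R : Subgroup G) → ℂ := fun r => (χ₀ : G → ℂ) r with hBdef
  have hB : Cfsg.IsCharacter (R : Subgroup G) B :=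
    IsCharacter.restrict _ (IsIrrCharacter.isCharacter χ₀.2)
  obtain ⟨mB, hB1, hB2⟩ := IsCharacter.exists_mult hB
  have hsum := deg_eq_sum hB mB hB1
  have hBdeg : Cfsg.charDegree B = Cfsg.charDegree (χ₀ : G → ℂ) := by
    unfold Cfsg.charDegree
    rfl
  have hlin : ∀ θ : Cfsg.IrrCharacter (R : Subgroup G), mB θ ≠ 0 →
      Cfsg.charDegree (θ : ↥(R : Subgroup G) → ℂ) = 1 := by
    intro θ hθ
    have hle : Cfsg.charDegree (θ : ↥(R : Subgroup G) → ℂ) ≤ Cfsg.charDegree (χ₀ : G → ℂ) := by
      rw [← hBdeg, hsum]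
      calc Cfsg.charDegree (θ : ↥(R : Subgroup G) → ℂ)
          ≤ mB θ * Cfsg.charDegree (θ : ↥(R : Subgroup G) → ℂ) :=
            Nat.le_mul_of_pos_left _ (Nat.pos_of_ne_zero hθ)
        _ ≤ _ := Finset.single_le_sum
            (f := fun θ : Cfsg.IrrCharacter (R : Subgroup G) =>
              mB θ * Cfsg.charDegree (θ : ↥(R : Subgroup G) → ℂ))
            (fun _ _ => Nat.zero_le _) (Finset.mem_univ θ)
    have hdvd : Cfsg.charDegree (θ : ↥(R : Subgroup G) → ℂ) ∣ Nat.card (R : Subgroup G) :=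
      IsIrrCharacter.charDegree_dvd_card θ.2
    obtain ⟨k, hk⟩ := IsPGroup.iff_card.mp R.2
    rw [hk] at hdvd
    obtain ⟨e, _, he⟩ := (Nat.dvd_prime_pow hn.out).mp hdvd
    rcases Nat.eq_zero_or_pos e with h0 | hpos
    · rw [he, h0, pow_zero]
    · exfalso
      have : n ≤ n ^ e := Nat.le_self_pow (by omega) n
      omega
  intro a ha b hb
  have hx : (⟨a, ha⟩ * ⟨b, hb⟩ * ⟨a, ha⟩⁻¹ * ⟨b, hb⟩⁻¹ : (R : Subgroup G)) ∈
      commutator (R : Subgroup G) := comm_mem_commutator _ _
  have hval : B (⟨a, ha⟩ * ⟨b, hb⟩ * ⟨a, ha⟩⁻¹ * ⟨b, hb⟩⁻¹) = B 1 := by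
    rw [apply_eq_sum_mult hB1, apply_eq_sum_mult hB1]
    apply Finset.sum_congr rfl
    intro θ _
    by_cases h0 : mB θ = 0
    · rw [h0]; simp
    · have hθ1 : (θ : ↥(R : Subgroup G) → ℂ) 1 = 1 := by
        rw [IsCharacter.apply_one_eq_charDegree (IsIrrCharacter.isCharacter θ.2), hlin θ h0]
        simp
      rw [linear_apply_of_mem_commutator (IsIrrCharacter.isCharacter θ.2) hθ1 hx, hθ1]
  have hg : (χ₀ : G → ℂ) (a * b * a⁻¹ * b⁻¹) = (χ₀ : G → ℂ) 1 := hval
  have h := nonlinear_faithful hmin χ₀ h1 _ hg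
  calc a * b = (a * b * a⁻¹ * b⁻¹) * (b * a) := by group
    _ = b * a := by rw [h, one_mul]

/-- a character of degree `n` vanishes on the nonidentity elements of an abelian Sylow
`n`-subgroup, when the group has trivial centre and the character is faithful -/
theorem apply_eq_zero_of_mem_sylow
    (hmin : ∀ N : Subgroup G, N.Normal → N ≠ ⊥ → commutator G ≤ N)
    (hcen : Subgroup.center G = ⊥)
    (n : ℕ) [hn : Fact n.Prime] (R : Sylow n G)
    (hRab : ∀ a ∈ (R : Subgroup G), ∀ b ∈ (R : Subgroup G), a * b = b * a)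
    (ψ : Cfsg.IrrCharacter G) (hψ : Cfsg.charDegree (ψ : G → ℂ) = n) (hn1 : n ≠ 1)
    (x : G) (hx : x ∈ (R : Subgroup G)) (hx1 : x ≠ 1) : (ψ : G → ℂ) x = 0 := by
  classical
  obtain ⟨m, ρ, hirr, hchar⟩ := ψ.2
  haveI := hirr
  have hm : Module.finrank ℂ (Fin m → ℂ) = n := by
    rw [← charDegree_character ρ, hchar]; exact hψ
  have hle : (R : Subgroup G) ≤ Subgroup.centralizer ({x} : Set G) := by
    intro r hr
    rw [Subgroup.mem_centralizer_iff]
    intro y hy
    rw [Set.mem_singleton_iff] at hy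
    subst hy
    exact hRab y hx r hr
  have hidx : (Subgroup.centralizer ({x} : Set G)).index ∣ (R : Subgroup G).index :=
    Subgroup.index_dvd_of_le hle
  have hnd : ¬ n ∣ (R : Subgroup G).index := R.not_dvd_index
  have hcop : Nat.Coprime (Module.finrank ℂ (Fin m → ℂ))
      (Subgroup.centralizer ({x} : Set G)).index := by
    rw [hm]
    exact (Nat.Prime.coprime_iff_not_dvd hn.out).mpr (fun h => hnd (h.trans hidx))
  rcases Cfsg.Agent.S0142.result ρ x hcop with h0 | hnorm
  · rw [← hchar]; exact h0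
  · exfalso
    obtain ⟨ω, hω⟩ := (Cfsg.Agent.S0138.result ρ x).mp hnorm
    have hψ1 : Cfsg.charDegree (ψ : G → ℂ) ≠ 1 := by rw [hψ]; exact hn1
    have hcent : x ∈ Subgroup.center G := by
      rw [Subgroup.mem_center_iff]
      intro g
      have hcomm : ρ (g * x) = ρ (x * g) := by
        rw [map_mul, map_mul, hω]
        ext v
        simp
      have hk : ρ ((g * x) * (x * g)⁻¹) = LinearMap.id := by
        rw [map_mul, hcomm, ← map_mul, mul_inv_cancel, map_one]
        rfl
      have hval : ρ.character ((g * x) * (x * g)⁻¹) = (Module.finrank ℂ (Fin m → ℂ) : ℂ) :=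
        (Cfsg.Agent.S0139.result ρ _).mpr hk
      have hval' : (ψ : G → ℂ) ((g * x) * (x * g)⁻¹) = (ψ : G → ℂ) 1 := by
        rw [← hchar, hval, Representation.char_one]
      have h := nonlinear_faithful hmin ψ hψ1 _ hval'
      exact mul_inv_eq_one.mp h
    rw [hcen, Subgroup.mem_bot] at hcent
    exact hx1 hcent

/-- if a character of degree `n` vanishes on the nonidentity elements of a Sylow `n`-subgroup then
that subgroup has order `n` -/
theorem card_sylow_eq (n : ℕ) [hn : Fact n.Prime] (R : Sylow n G)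
    (ψ : Cfsg.IrrCharacter G) (hψ : Cfsg.charDegree (ψ : G → ℂ) = n)
    (hvan : ∀ x ∈ (R : Subgroup G), x ≠ 1 → (ψ : G → ℂ) x = 0) :
    Nat.card (R : Subgroup G) = n := by
  classical
  have : Fintype (R : Subgroup G) := Fintype.ofFinite _
  set B : ↥(R : Subgroup G) → ℂ := fun r => (ψ : G → ℂ) r with hBdef
  have hB : Cfsg.IsCharacter (R : Subgroup G) B :=
    IsCharacter.restrict _ (IsIrrCharacter.isCharacter ψ.2)
  obtain ⟨m, hm⟩ := IsCharacter.classInner_irr_nat hB
    (isIrrCharacter_one (G := (R : Subgroup G)))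
  have hsum : ∑ r : (R : Subgroup G), B r * conj ((fun _ => (1 : ℂ)) r) = (n : ℂ) := by
    rw [Finset.sum_eq_single (1 : (R : Subgroup G))]
    · simp only [map_one, mul_one, hBdef]
      rw [OneMemClass.coe_one,
        IsCharacter.apply_one_eq_charDegree (IsIrrCharacter.isCharacter ψ.2), hψ]
    · intro r _ hr
      have : B r = 0 := hvan r r.2 (fun h => hr (Subtype.ext h))
      rw [this, zero_mul]
    · intro h; exact absurd (Finset.mem_univ _) h
  unfold Cfsg.classInner at hm
  rw [hsum] at hm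
  have hcard : (Nat.card (R : Subgroup G) : ℂ) ≠ 0 := by
    have : Nat.card (R : Subgroup G) ≠ 0 := Nat.card_pos.ne'
    exact_mod_cast this
  have h2 : (n : ℂ) = (Nat.card (R : Subgroup G) : ℂ) * m := by
    rw [← hm]; field_simp
  have h3 : n = Nat.card (R : Subgroup G) * m := by exact_mod_cast h2
  have hdvd : Nat.card (R : Subgroup G) ∣ n := ⟨m, h3⟩
  rcases (Nat.dvd_prime hn.out).mp hdvd with h | h
  · exfalso
    have hnG : n ∣ Nat.card G := by
      rw [← hψ]; exact IsIrrCharacter.charDegree_dvd_card ψ.2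
    have := R.dvd_card_of_dvd_card hnG
    rw [h] at this
    exact hn.out.one_lt.ne' (Nat.dvd_one.mp this)
  · exact h

end simple

end Cfsg.Agent.Lib.Helper6.PrD
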