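import Mathlib
import Cfsg.Agent.Lib.Helper6.PrD2

set_option autoImplicit false
set_option linter.unusedSectionVars false
set_option linter.unusedVariables false
set_option linter.style.haveILetI false

/-! Groups with prime character degrees have at most three character degrees (Isaacs–Passman). -/

namespace Cfsg.Agent.Lib.Helper6.PrD

open Cfsg Cfsg.Agent.Lib.Helper6 Cfsg.Agent.Lib.Helper6.TD Cfsg.Agent.Lib.Helper3
  Cfsg.Agent.Lib.Helper3.CD
open scoped ComplexConjugate

theorem simple_false {G : Type*} [Group G] [Fintype G] (hP : PrimeDeg G)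
    (hsimple : ∀ N : Subgroup G, N.Normal → N ≠ ⊥ → N = ⊤) (hperf : commutator G = ⊤)
    (hnt : (⊥ : Subgroup G) ≠ ⊤)
    (n : ℕ) (hnp : n.Prime) (hn5 : 5 ≤ n)
    (hmax : ∀ χ : Cfsg.IrrCharacter G, Cfsg.charDegree (χ : G → ℂ) ≤ n)
    (ψ : Cfsg.IrrCharacter G) (hψ : Cfsg.charDegree (ψ : G → ℂ) = n)
    (χ₀ : Cfsg.IrrCharacter G) (h1 : Cfsg.charDegree (χ₀ : G → ℂ) ≠ 1)
    (hlt : Cfsg.charDegree (χ₀ : G → ℂ) < n) : False := by
  classical
  haveI : Fact n.Prime := ⟨hnp⟩
  have hmin : ∀ N : Subgroup G, N.Normal → N ≠ ⊥ → commutator G ≤ N := by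
    intro N hN hne; rw [hsimple N hN hne]; exact le_top
  have hcen : Subgroup.center G = ⊥ := by
    by_contra hne
    have htop := hsimple _ inferInstance hne
    have := (commutator_eq_bot_iff_center_eq_top G).mpr htop
    rw [hperf] at this
    exact hnt this.symm
  obtain ⟨R⟩ : Nonempty (Sylow n G) := inferInstance
  have hRab := sylow_comm hmin n R χ₀ h1 hlt
  have hvan : ∀ x ∈ (R : Subgroup G), x ≠ 1 → (ψ : G → ℂ) x = 0 := fun x hx hx1 =>
    apply_eq_zero_of_mem_sylow hmin hcen n R hRab ψ hψ hnp.one_lt.ne' x hx hx1
  have hR : Nat.card R = n := card_sylow_eq n R ψ hψ hvan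
  obtain ⟨M, hM⟩ := exists_isPModular n
  obtain ⟨X, Y, hXY, hdisj, hcX, hcY, εX, ε, hX, -⟩ :=
    Cfsg.Agent.S4441.result n M hM (by omega) R hR _ rfl
  have hnodd : n % 2 = 1 := by
    rcases hnp.eq_two_or_odd with h | h
    · omega
    · exact h
  -- each member of X is the trivial character
  have hXtriv : ∀ χ ∈ X, χ = ⟨fun _ => 1, isIrrCharacter_one⟩ := by
    intro χ hχ
    obtain ⟨hsgn, hcong, -⟩ := hX χ hχ
    have hdeg1 : Cfsg.charDegree (χ : G → ℂ) = 1 := by
      rcases hP χ with h | h
      · exact h
      · exfalso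
        have hdn : Cfsg.charDegree (χ : G → ℂ) ≤ n := hmax χ
        have hd2 : 2 ≤ Cfsg.charDegree (χ : G → ℂ) := h.two_le
        rcases hsgn with hs | hs
        · rw [hs] at hcong
          have h3 : (n : ℤ) ∣ ((Cfsg.charDegree (χ : G → ℂ) - 1 : ℕ) : ℤ) := by
            have := Int.modEq_iff_dvd.mp hcong.symm
            rw [Nat.cast_sub (by omega)]
            simpa using this
          have h4 : n ∣ Cfsg.charDegree (χ : G → ℂ) - 1 := Int.natCast_dvd_natCast.mp h3
          have := Nat.le_of_dvd (by omega) h4
          omega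
        · rw [hs] at hcong
          have h3 : (n : ℤ) ∣ ((Cfsg.charDegree (χ : G → ℂ) + 1 : ℕ) : ℤ) := by
            have := Int.modEq_iff_dvd.mp hcong
            have h5 : ((Cfsg.charDegree (χ : G → ℂ) + 1 : ℕ) : ℤ)
                = -(-1 - (Cfsg.charDegree (χ : G → ℂ) : ℤ)) := by push_cast; ring
            rw [h5]
            exact (dvd_neg).mpr this
          have h4 : n ∣ Cfsg.charDegree (χ : G → ℂ) + 1 := Int.natCast_dvd_natCast.mp h3
          obtain ⟨k, hk⟩ := h4
          have hk1 : k = 1 := by
            rcases k with _ | _ | k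
            · omega
            · rfl
            · exfalso
              have : n * (k + 1 + 1) = n * k + 2 * n := by ring
              omega
          rw [hk1, mul_one] at hk
          rcases h.eq_two_or_odd with h2 | h2
          · omega
          · omega
    apply Subtype.ext
    funext g
    have hχ1 : (χ : G → ℂ) 1 = 1 := by
      rw [IsCharacter.apply_one_eq_charDegree (IsIrrCharacter.isCharacter χ.2), hdeg1]; simp
    exact linear_apply_of_mem_commutator (IsIrrCharacter.isCharacter χ.2) hχ1
      (by rw [hperf]; trivial)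
  have hsub : Subsingleton X :=
    ⟨fun a b => Subtype.ext ((hXtriv a a.2).trans (hXtriv b b.2).symm)⟩
  have hle1 : Nat.card X ≤ 1 := Finite.card_le_one_iff_subsingleton.mpr hsub
  have hne0 : (Subgroup.centralizer ((R : Subgroup G) : Set G)).relIndex
      (Subgroup.normalizer ((R : Subgroup G) : Set G)) ≠ 0 := by
    unfold Subgroup.relIndex
    exact Subgroup.index_ne_zero_of_finite
  have hrel : (Subgroup.centralizer ((R : Subgroup G) : Set G)).relIndex
      (Subgroup.normalizer ((R : Subgroup G) : Set G)) = 1 := by
    rw [hcX] at hle1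
    omega
  have hNC : Subgroup.normalizer ((R : Subgroup G) : Set G) ≤
      Subgroup.centralizer ((R : Subgroup G) : Set G) := Subgroup.relIndex_eq_one.mp hrel
  have hcompl := MonoidHom.ker_transferSylow_isComplement' R hNC
  have hmul := hcompl.card_mul_card
  by_cases hk : (MonoidHom.transferSylow R hNC).ker = ⊥
  · rw [hk, Subgroup.card_bot, one_mul] at hmul
    have htop : (R : Subgroup G) = ⊤ := Subgroup.eq_top_of_card_eq _ hmul
    have hc : Subgroup.center G = ⊤ := by
      rw [Subgroup.eq_top_iff']
      intro g
      rw [Subgroup.mem_center_iff]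
      intro h
      exact hRab h (by rw [htop]; trivial) g (by rw [htop]; trivial)
    rw [hcen] at hc
    exact hnt hc
  · have htop := hsimple _ inferInstance hk
    rw [htop, Subgroup.card_top] at hmul
    have hpos : 0 < Nat.card G := Nat.card_pos
    have : Nat.card (R : Subgroup G) = 1 := by
      have h2 : Nat.card G * Nat.card (R : Subgroup G) = Nat.card G * 1 := by rw [mul_one]; exact hmul
      exact Nat.eq_of_mul_eq_mul_left hpos h2
    have hR' : Nat.card (R : Subgroup G) = n := hR
    omega

theorem three_of_simple {G : Type*} [Group G] [Finite G] (hP : PrimeDeg G)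
    (hsimple : ∀ N : Subgroup G, N.Normal → N ≠ ⊥ → N = ⊤) (hperf : commutator G = ⊤)
    (hnt : (⊥ : Subgroup G) ≠ ⊤) : ∃ m n : ℕ, ThreeDeg G m n := by
  classical
  have : Fintype G := Fintype.ofFinite G
  have : Fintype (Cfsg.IrrCharacter G) := Fintype.ofFinite _
  set n := Finset.univ.sup (fun χ : Cfsg.IrrCharacter G => Cfsg.charDegree (χ : G → ℂ)) with hn
  have hmax : ∀ χ : Cfsg.IrrCharacter G, Cfsg.charDegree (χ : G → ℂ) ≤ n := fun χ =>
    Finset.le_sup (f := fun χ : Cfsg.IrrCharacter G => Cfsg.charDegree (χ : G → ℂ))
      (Finset.mem_univ χ)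
  obtain ⟨ψ, -, hψ⟩ := Finset.exists_mem_eq_sup Finset.univ
    ⟨(⟨fun _ => 1, isIrrCharacter_one⟩ : Cfsg.IrrCharacter G), Finset.mem_univ _⟩
    (fun χ : Cfsg.IrrCharacter G => Cfsg.charDegree (χ : G → ℂ))
  have hψ' : Cfsg.charDegree (ψ : G → ℂ) = n := hψ.symm
  by_cases hall : ∀ χ : Cfsg.IrrCharacter G, Cfsg.charDegree (χ : G → ℂ) = 1 ∨
      Cfsg.charDegree (χ : G → ℂ) = n
  · exact ⟨n, n, fun χ => (hall χ).elim Or.inl (fun h => Or.inr (Or.inl h))⟩
  · push Not at hall
    obtain ⟨χ₀, h1, hne⟩ := hall
    have hlt : Cfsg.charDegree (χ₀ : G → ℂ) < n := lt_of_le_of_ne (hmax χ₀) hne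
    have hpos0 := IsIrrCharacter.charDegree_pos χ₀.2
    have hnp : n.Prime := by
      rcases hP ψ with h | h
      · exfalso; rw [hψ'] at h; omega
      · rw [hψ'] at h; exact h
    by_cases hn5 : 5 ≤ n
    · exact (simple_false hP hsimple hperf hnt n hnp hn5 hmax ψ hψ' χ₀ h1 hlt).elim
    · refine ⟨2, 3, fun χ => ?_⟩
      have hle := hmax χ
      rcases hP χ with h | h
      · left; exact h
      · have h2 := h.two_le
        have h4 : Cfsg.charDegree (χ : G → ℂ) ≠ 4 := by
          intro h4
          rw [h4] at h
          exact absurd h (by norm_num)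
        omega

theorem three_aux.{u} : ∀ (N : ℕ) (G : Type u) [Group G] [Finite G], Nat.card G = N →
    PrimeDeg G → ∃ m n : ℕ, ThreeDeg G m n := by
  intro N
  induction N using Nat.strong_induction_on with
  | _ N ih =>
    intro G _ _ hN hP
    classical
    by_cases hab : ∀ a b : G, a * b = b * a
    · refine ⟨1, 1, fun χ => Or.inl ?_⟩
      have := (Cfsg.Agent.S0187.result (G := G)).1 hab χ
      rw [IsCharacter.apply_one_eq_charDegree (IsIrrCharacter.isCharacter χ.2)] at this
      exact_mod_cast this
    · push Not at hab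
      obtain ⟨a, b, hab⟩ := hab
      have hcomm_ne : a * b * a⁻¹ * b⁻¹ ≠ 1 := by
        intro h
        apply hab
        calc a * b = (a * b * a⁻¹ * b⁻¹) * (b * a) := by group
          _ = b * a := by rw [h, one_mul]
      have hG : ∃ a b : G, a * b * a⁻¹ * b⁻¹ ∉ (⊥ : Subgroup G) :=
        ⟨a, b, fun h => hcomm_ne (Subgroup.mem_bot.mp h)⟩
      obtain ⟨K, hKn, -, hKab, hKmax⟩ := exists_max_nonabelian_quotient_ge ⊥ inferInstance hG
      haveI := hKn
      by_cases hKbot : K = ⊥
      · by_cases hsol : Group.IsSolvable G
        · have hQsol : Group.IsSolvable (G ⧸ K) :=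
            Group.isSolvable_of_surjective (QuotientGroup.mk'_surjective K)
          exact three_of_max hP K hKab hKmax hQsol
        · have hmin : ∀ L : Subgroup G, L.Normal → L ≠ ⊥ → commutator G ≤ L := by
            intro L hL hne
            by_contra hnle
            have hex : ∃ a b : G, a * b * a⁻¹ * b⁻¹ ∉ L := by
              by_contra hno
              push Not at hno
              apply hnle
              rw [commutator_def, Subgroup.commutator_le]
              intro a _ b _
              rw [commutatorElement_def]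
              exact hno a b
            have hLK := hKmax L hL (by rw [hKbot]; exact bot_le) hex
            rw [hKbot] at hLK
            exact hne (eq_bot_iff.mpr hLK)
          have hperf : commutator G = ⊤ := by
            by_contra hne
            have hlt : Nat.card (commutator G) < Nat.card G := by
              have hle : Nat.card (commutator G) ∣ Nat.card G :=
                Subgroup.card_subgroup_dvd_card _
              rcases (Nat.le_of_dvd Nat.card_pos hle).lt_or_eq with h | h
              · exact h
              · exact absurd (Subgroup.eq_top_of_card_eq _ h) hne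
            obtain ⟨m, n, h3⟩ := ih _ (hN ▸ hlt) (commutator G) rfl
              (PrimeDeg.normal hP (commutator G))
            have hDsol : Group.IsSolvable (commutator G) := solvable_of_three_degrees m n h3
            have hQsol : Group.IsSolvable (G ⧸ commutator G) :=
              (inferInstance : Group.IsSolvable (Abelianization G))
            apply hsol
            exact Group.isSolvable_of_ker_le_range (commutator G).subtype
              (QuotientGroup.mk' (commutator G)) (by
                rw [QuotientGroup.ker_mk', Subgroup.range_subtype])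
          have hsimple : ∀ L : Subgroup G, L.Normal → L ≠ ⊥ → L = ⊤ := by
            intro L hL hne
            have := hmin L hL hne
            rw [hperf] at this
            exact top_le_iff.mp this
          have hnt : (⊥ : Subgroup G) ≠ ⊤ := by
            intro h
            have : a * b * a⁻¹ * b⁻¹ ∈ (⊥ : Subgroup G) := by rw [h]; trivial
            exact hcomm_ne (Subgroup.mem_bot.mp this)
          exact three_of_simple hP hsimple hperf hnt
      · have hlt : Nat.card (G ⧸ K) < Nat.card G := by
          rw [Subgroup.card_eq_card_quotient_mul_card_subgroup K]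
          have h1 : 1 < Nat.card K := K.one_lt_card_iff_ne_bot.mpr hKbot
          have h0 : 0 < Nat.card (G ⧸ K) := Nat.card_pos
          nlinarith
        obtain ⟨m, n, h3⟩ := ih _ (hN ▸ hlt) (G ⧸ K) rfl (hP.quotient K)
        have hQsol : Group.IsSolvable (G ⧸ K) := solvable_of_three_degrees m n h3
        exact three_of_max hP K hKab hKmax hQsol

/-- Isaacs–Passman: if all irreducible character degrees are `1` or prime, there are at most three
degrees -/
theorem exists_threeDeg {G : Type*} [Group G] [Finite G] (hP : PrimeDeg G) :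
    ∃ m n : ℕ, ThreeDeg G m n :=
  three_aux (Nat.card G) G rfl hP

end Cfsg.Agent.Lib.Helper6.PrD
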