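import Mathlib
import Cfsg.Prelude.Def_Blocks
import Cfsg.Agent.Lib.Helper3.DetChar
import Cfsg.Agent.Lib.Helper6.CharOps
import Cfsg.Agent.Lib.Helper6.BLLin
import Cfsg.Agent.Lib.Helper6.BlkLocal
import Cfsg.Agent.Lib.Helper6.BlkDefect
import Cfsg.Agent.Lib.Helper6.Mult
import Cfsg.Agent.Lib.Helper6.Constituent

/-! # Determinants of sums of characters; faithful principal block characters of small degree -/

set_option autoImplicit false
set_option linter.unusedSectionVars false
open Cfsg

namespace Cfsg.Agent.Lib.Helper6.PrF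

open Cfsg.Agent.Lib.Helper6 Cfsg.Agent.Lib.Helper3.DetChar
open scoped ComplexConjugate

section det

variable {G : Type*} [Group G] [Finite G]

theorem detChar_add {χ ψ : G → ℂ} (hχ : Cfsg.IsCharacter G χ) (hψ : Cfsg.IsCharacter G ψ) :
    Cfsg.detChar (χ + ψ) = Cfsg.detChar χ * Cfsg.detChar ψ := by
  obtain ⟨n, ρ, rfl⟩ := hχ
  obtain ⟨m, σ, rfl⟩ := hψ
  have h2 : (ρ.prod σ).character = ρ.character + σ.character := by
    funext g
    exact LinearMap.trace_prodMap' (ρ g) (σ g)
  rw [← h2, detChar_character, detChar_character, detChar_character]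
  funext g
  exact LinearMap.det_prodMap (ρ g) (σ g)

theorem detChar_zero : Cfsg.detChar (0 : G → ℂ) = 1 := by
  have h : (1 : Representation ℂ G (Fin 0 → ℂ)).character = 0 := by
    funext g
    simp [Representation.character]
  rw [← h, detChar_character]
  funext g
  simp

theorem detChar_nsmul {χ : G → ℂ} (hχ : Cfsg.IsCharacter G χ) (n : ℕ) :
    Cfsg.detChar (n • χ) = Cfsg.detChar χ ^ n := by
  induction n with
  | zero => rw [zero_smul, detChar_zero, pow_zero]
  | succ n ih =>
    rw [succ_nsmul, detChar_add (IsCharacter.nsmul hχ n) hχ, ih, pow_succ]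

theorem isCharacter_nsmul_hom (ψ : G →* ℂˣ) (n : ℕ) :
    Cfsg.IsCharacter G (n • (fun a => ((ψ a : ℂˣ) : ℂ))) :=
  IsCharacter.nsmul (IsIrrCharacter.isCharacter (isIrrCharacter_of_hom ψ)) n

theorem detChar_sum_hom (s : Finset (G →* ℂˣ)) (c : (G →* ℂˣ) → ℕ) :
    Cfsg.detChar (∑ ψ ∈ s, c ψ • (fun a => ((ψ a : ℂˣ) : ℂ)))
      = fun a => ∏ ψ ∈ s, ((ψ a : ℂˣ) : ℂ) ^ c ψ := by
  classical
  induction s using Finset.induction_on with
  | empty =>
    rw [Finset.sum_empty, detChar_zero]
    funext a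
    simp
  | insert ψ s hψ ih =>
    rw [Finset.sum_insert hψ, detChar_add (isCharacter_nsmul_hom ψ _)
      (IsCharacter.sum _ _ (fun i _ => isCharacter_nsmul_hom i _)), ih,
      detChar_nsmul (IsIrrCharacter.isCharacter (isIrrCharacter_of_hom ψ)), detChar_hom]
    funext a
    rw [Finset.prod_insert hψ]
    rfl

/-- The determinantal character of a character of a perfect group is trivial. -/
theorem detChar_eq_one_of_perfect (hperf : commutator G = ⊤) {χ : G → ℂ}
    (hχ : Cfsg.IsCharacter G χ) (g : G) : Cfsg.detChar χ g = 1 := by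
  obtain ⟨F, hF⟩ := exists_hom_eq_detChar hχ
  rw [hF]
  have h1 : g ∈ F.ker := by
    apply Abelianization.commutator_subset_ker F
    rw [hperf]
    trivial
  rw [MonoidHom.mem_ker] at h1
  show ((F g : ℂˣ) : ℂ) = 1
  rw [h1, Units.val_one]

end det

end Cfsg.Agent.Lib.Helper6.PrF
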