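import Mathlib
import Cfsg.Prelude.Def_Blocks
import Cfsg.Agent.Lib.Helper6.PrF1

/-! # Faithful principal block characters of degree less than `2p` in perfect groups -/

set_option autoImplicit false
set_option linter.unusedSectionVars false
set_option linter.style.haveILetI false
open Cfsg

namespace Cfsg.Agent.Lib.Helper6.PrF

open Cfsg.Agent.Lib.Helper6 Cfsg.Agent.Lib.Helper3.DetChar
open scoped ComplexConjugate

variable {G : Type*} [Group G] [Finite G] {p : ℕ} [Fact p.Prime] {M : Ideal Cfsg.AlgInt}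

/-- For a character in the principal block and an element centralizing a Sylow `p`-subgroup,
the value is congruent to the degree. -/
theorem sub_memLocalIdeal_of_centralizer (hM : Cfsg.IsPModular p M) (P : Sylow p G)
    {χ : G → ℂ} (hchar : Cfsg.IsCharacter G χ) (h1 : χ 1 ≠ 0)
    (hχ : Cfsg.SameBlock M (fun _ : G => (1 : ℂ)) χ) {k : G}
    (hk : k ∈ Subgroup.centralizer ((P : Subgroup G) : Set G)) :
    Cfsg.MemLocalIdeal M (χ 1 - χ k) := by
  have h := hχ k
  unfold Cfsg.centralChar at h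
  have hle : (P : Subgroup G) ≤ Subgroup.centralizer ({k} : Set G) := by
    intro x hx
    rw [Subgroup.mem_centralizer_iff]
    intro z hz
    rw [Set.mem_singleton_iff] at hz
    subst hz
    rw [Subgroup.mem_centralizer_iff] at hk
    exact (hk x hx).symm
  have hidx : ¬ p ∣ (Subgroup.centralizer ({k} : Set G)).index := by
    intro hdvd
    exact P.not_dvd_index (dvd_trans hdvd (Subgroup.index_dvd_of_le hle))
  have hidx0 : ((Subgroup.centralizer ({k} : Set G)).index : ℂ) ≠ 0 := by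
    have : (Subgroup.centralizer ({k} : Set G)).index ≠ 0 := Subgroup.index_ne_zero_of_finite
    exact_mod_cast this
  obtain ⟨n, hn⟩ := IsCharacter.apply_one_eq_natCast hchar
  have hR : Cfsg.MemLocalRing M
      (χ 1 * ((Subgroup.centralizer ({k} : Set G)).index : ℂ)⁻¹) := by
    rw [hn]
    exact MemLocalRing.mul hM (memLocalRing_natCast hM n) (memLocalRing_inv_natCast hM hidx)
  have h2 := MemLocalIdeal.mul_left hM hR h
  have h3 : χ 1 * ((Subgroup.centralizer ({k} : Set G)).index : ℂ)⁻¹ *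
      (((Subgroup.centralizer ({k} : Set G)).index : ℂ) * 1 / 1 -
        ((Subgroup.centralizer ({k} : Set G)).index : ℂ) * χ k / χ 1) = χ 1 - χ k := by
    field_simp
  rwa [h3] at h2

/-- Values of homomorphisms into the units are local integers. -/
theorem memLocalRing_conj_hom (hM : Cfsg.IsPModular p M) {A : Type*} [Group A] [Finite A]
    (ψ : A →* ℂˣ) (a : A) : Cfsg.MemLocalRing M (conj ((ψ a : ℂˣ) : ℂ)) := by
  rw [hom_conj]
  exact memLocalRing_of_isIntegral hM
    (IsCharacter.isIntegral_apply (IsIrrCharacter.isCharacter (isIrrCharacter_of_hom ψ)) a⁻¹)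

/-- Main step: a `p`-regular element centralizing a Sylow `p`-subgroup is trivial. -/
theorem eq_one_of_regular (hM : Cfsg.IsPModular p M) (hperf : commutator G = ⊤) (P : Sylow p G)
    {χ : G → ℂ} (hirr : Cfsg.IsIrrCharacter G χ)
    (hχ : Cfsg.SameBlock M (fun _ : G => (1 : ℂ)) χ)
    (hfaith : ∀ g : G, χ g = χ 1 → g = 1) (hdeg : Cfsg.charDegree χ < 2 * p)
    {y : G} (hy : y ∈ Subgroup.centralizer ((P : Subgroup G) : Set G))
    (hyp : ¬ p ∣ orderOf y) : y = 1 := by
  classical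
  have hp : p.Prime := Fact.out
  have hchar : Cfsg.IsCharacter G χ := IsIrrCharacter.isCharacter hirr
  have hdegeq : χ 1 = (Cfsg.charDegree χ : ℂ) := IsCharacter.apply_one_eq_charDegree hchar
  have hχ1 : χ 1 ≠ 0 := IsIrrCharacter.apply_one_ne_zero hirr
  set A : Subgroup G := Subgroup.zpowers y with hA
  have hAcomm : IsMulCommutative A := Subgroup.zpowers_isMulCommutative y
  haveI : Fintype A := Fintype.ofFinite _
  haveI : Finite (A →* ℂˣ) := by
    apply Nat.finite_of_card_ne_zero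
    rw [card_homs_of_comm hAcomm]
    exact Nat.card_pos.ne'
  haveI : Fintype (A →* ℂˣ) := Fintype.ofFinite _
  have hAle : A ≤ Subgroup.centralizer ((P : Subgroup G) : Set G) := by
    rw [hA, Subgroup.zpowers_le]
    exact hy
  have hcardA : Nat.card A = orderOf y := Nat.card_zpowers y
  have hpA : ¬ p ∣ Nat.card A := by rw [hcardA]; exact hyp
  set f : A → ℂ := fun a => χ a with hf
  have hfchar : Cfsg.IsCharacter A f := IsCharacter.restrict A hchar
  have hnat : ∀ ψ : A →* ℂˣ, ∃ n : ℕ,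
      Cfsg.classInner f (fun a => ((ψ a : ℂˣ) : ℂ)) = n := fun ψ =>
    IsCharacter.classInner_nat hfchar (IsIrrCharacter.isCharacter (isIrrCharacter_of_hom ψ))
  choose c hc using hnat
  have hexp : ∀ a : A, f a = ∑ ψ : A →* ℂˣ, (c ψ : ℂ) * ((ψ a : ℂˣ) : ℂ) := by
    intro a
    rw [hom_expansion hAcomm f a]
    apply Finset.sum_congr rfl
    intro ψ _
    rw [← hc ψ]
    rfl
  have hexp' : f = ∑ ψ : A →* ℂˣ, c ψ • (fun a => ((ψ a : ℂˣ) : ℂ)) := by
    funext a
    rw [hexp a, Finset.sum_apply]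
    apply Finset.sum_congr rfl
    intro ψ _
    simp [nsmul_eq_mul]
  -- the determinant
  have hdet : ∀ a : A, ∏ ψ : A →* ℂˣ, ((ψ a : ℂˣ) : ℂ) ^ c ψ = 1 := by
    intro a
    have h1 := detChar_sum_hom (Finset.univ : Finset (A →* ℂˣ)) c
    rw [← hexp'] at h1
    have h2 := detChar_comp A.subtype hchar
    have h3 : Cfsg.detChar f a = 1 := by
      have : Cfsg.detChar f = fun k => Cfsg.detChar χ (A.subtype k) := h2
      rw [this]
      exact detChar_eq_one_of_perfect hperf hchar _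
    rw [h1] at h3
    exact h3
  -- divisibility of the multiplicities
  have hdvd : ∀ ψ : A →* ℂˣ, ψ ≠ 1 → p ∣ c ψ := by
    intro ψ hψ
    rw [← memLocalIdeal_natCast_iff hM, ← hc ψ]
    unfold Cfsg.classInner
    have hz : ∑ a : A, conj ((ψ a : ℂˣ) : ℂ) = 0 := by
      have h1 := sum_hom_mul_conj (1 : A →* ℂˣ) ψ
      rw [if_neg (Ne.symm hψ)] at h1
      simpa using h1
    have h1 : ∑ a : A, f a * conj ((ψ a : ℂˣ) : ℂ)
        = ∑ a : A, (-(χ 1 - χ a)) * conj ((ψ a : ℂˣ) : ℂ) := by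
      have h2 : ∑ a : A, (-(χ 1 - χ a)) * conj ((ψ a : ℂˣ) : ℂ)
          = ∑ a : A, f a * conj ((ψ a : ℂˣ) : ℂ) - χ 1 * ∑ a : A, conj ((ψ a : ℂˣ) : ℂ) := by
        rw [Finset.mul_sum, ← Finset.sum_sub_distrib]
        apply Finset.sum_congr rfl
        intro a _
        rw [hf]
        ring
      rw [h2, hz, mul_zero, sub_zero]
    rw [h1]
    apply MemLocalIdeal.mul_left hM (memLocalRing_inv_natCast hM hpA)
    apply MemLocalIdeal.sum hM
    intro a _
    apply MemLocalIdeal.mul_right hM _ (memLocalRing_conj_hom hM ψ a)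
    exact MemLocalIdeal.neg (sub_memLocalIdeal_of_centralizer hM P hchar hχ1 hχ (hAle a.2))
  -- the sum of the multiplicities
  have hsum : ∑ ψ : A →* ℂˣ, c ψ = Cfsg.charDegree χ := by
    have h1 := hexp 1
    have h2 : f 1 = χ 1 := rfl
    rw [h2, hdegeq] at h1
    have h3 : ((∑ ψ : A →* ℂˣ, c ψ : ℕ) : ℂ) = (Cfsg.charDegree χ : ℂ) := by
      rw [h1, Nat.cast_sum]
      apply Finset.sum_congr rfl
      intro ψ _
      simp
    exact_mod_cast h3
  -- all nontrivial multiplicities vanish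
  have hzero : ∀ ψ : A →* ℂˣ, ψ ≠ 1 → c ψ = 0 := by
    by_contra hcon
    push Not at hcon
    obtain ⟨ψ₀, hψ₀, hc₀⟩ := hcon
    have hple : p ≤ c ψ₀ := Nat.le_of_dvd (Nat.pos_of_ne_zero hc₀) (hdvd ψ₀ hψ₀)
    have hle1 : c ψ₀ ≤ ∑ ψ : A →* ℂˣ, c ψ :=
      Finset.single_le_sum (f := c) (fun _ _ => Nat.zero_le _) (Finset.mem_univ ψ₀)
    have hcp : c ψ₀ = p := by
      obtain ⟨t, ht⟩ := hdvd ψ₀ hψ₀
      have ht2 : t < 2 := by
        by_contra h
        push Not at h
        have : 2 * p ≤ c ψ₀ := by rw [ht]; nlinarith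
        omega
      have ht1 : t ≠ 0 := by
        rintro rfl
        rw [mul_zero] at ht
        exact hc₀ ht
      have : t = 1 := by omega
      rw [ht, this, mul_one]
    have hothers : ∀ ψ : A →* ℂˣ, ψ ≠ 1 → ψ ≠ ψ₀ → c ψ = 0 := by
      intro ψ hψ1 hψ0
      by_contra hcne
      have hple' : p ≤ c ψ := Nat.le_of_dvd (Nat.pos_of_ne_zero hcne) (hdvd ψ hψ1)
      have hle2 : ∑ x ∈ ({ψ₀, ψ} : Finset (A →* ℂˣ)), c x ≤ ∑ x : A →* ℂˣ, c x :=
        Finset.sum_le_sum_of_subset (Finset.subset_univ _)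
      rw [Finset.sum_pair (Ne.symm hψ0)] at hle2
      omega
    have hpow : ∀ a : A, ((ψ₀ a : ℂˣ) : ℂ) ^ p = 1 := by
      intro a
      have h1 := hdet a
      rw [Finset.prod_eq_single ψ₀] at h1
      · rwa [hcp] at h1
      · intro ψ _ hne
        by_cases h : ψ = 1
        · subst h
          simp
        · rw [hothers ψ h hne, pow_zero]
      · intro h
        exact absurd (Finset.mem_univ ψ₀) h
    apply hψ₀
    ext a
    have h1 : (ψ₀ a) ^ p = 1 := by
      apply Units.ext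
      rw [Units.val_pow_eq_pow_val, hpow a, Units.val_one]
    have h2 : (ψ₀ a) ^ Nat.card A = 1 := by
      rw [← map_pow, pow_card_eq_one', map_one]
    have h3 : (ψ₀ a) ^ Nat.gcd p (Nat.card A) = 1 := pow_gcd_eq_one.mpr ⟨h1, h2⟩
    have h4 : Nat.gcd p (Nat.card A) = 1 := (Nat.Prime.coprime_iff_not_dvd hp).mpr hpA
    rw [h4, pow_one] at h3
    rw [h3]
    rfl
  -- conclusion
  apply hfaith
  have hconst : ∀ a : A, f a = (c 1 : ℂ) := by
    intro a
    rw [hexp a, Finset.sum_eq_single (1 : A →* ℂˣ)]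
    · simp
    · intro ψ _ hne
      rw [hzero ψ hne]
      simp
    · intro h
      exact absurd (Finset.mem_univ _) h
  have h1 := hconst ⟨y, Subgroup.mem_zpowers y⟩
  have h2 := hconst 1
  have h3 : f ⟨y, Subgroup.mem_zpowers y⟩ = χ y := rfl
  have h4 : f 1 = χ 1 := rfl
  rw [← h3, ← h4, h1, h2]

/-- The centralizer of a Sylow `p`-subgroup is a `p`-group. -/
theorem isPGroup_centralizer (hM : Cfsg.IsPModular p M) (hperf : commutator G = ⊤) (P : Sylow p G)
    {χ : G → ℂ} (hirr : Cfsg.IsIrrCharacter G χ)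
    (hχ : Cfsg.SameBlock M (fun _ : G => (1 : ℂ)) χ)
    (hfaith : ∀ g : G, χ g = χ 1 → g = 1) (hdeg : Cfsg.charDegree χ < 2 * p) :
    IsPGroup p ↥(Subgroup.centralizer ((P : Subgroup G) : Set G)) := by
  have hp : p.Prime := Fact.out
  intro g
  obtain ⟨k, m, hm, hkm⟩ := Nat.exists_eq_pow_mul_and_not_dvd (orderOf_pos (g : G)).ne' p
    hp.ne_one
  refine ⟨k, ?_⟩
  have hy : ((g : G) ^ p ^ k) ∈ Subgroup.centralizer ((P : Subgroup G) : Set G) :=
    Subgroup.pow_mem _ g.2 _
  have hord : orderOf ((g : G) ^ p ^ k) ∣ m := by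
    apply orderOf_dvd_of_pow_eq_one
    rw [← pow_mul, ← hkm, pow_orderOf_eq_one]
  have hyp : ¬ p ∣ orderOf ((g : G) ^ p ^ k) := fun h => hm (dvd_trans h hord)
  have h1 := eq_one_of_regular hM hperf P hirr hχ hfaith hdeg hy hyp
  apply Subtype.ext
  rw [Subgroup.coe_pow, h1]
  rfl

end Cfsg.Agent.Lib.Helper6.PrF
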