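import Mathlib
import Cfsg.Prelude.Def_Blocks
import Cfsg.Prelude.Def_Transfer
import Cfsg.Agent.Lib.Helper1.Tate2
import Cfsg.Agent.Lib.Helper1.FrattiniP
import Cfsg.Agent.Lib.Helper6.Linear
import Cfsg.Agent.Lib.Helper6.BlkDim
import Cfsg.Agent.Lib.Helper6.BlkPrincipalQuot
import Cfsg.Agent.Lib.Helper6.Multiplicity

set_option autoImplicit false
set_option linter.unusedSectionVars false
open Cfsg

namespace Cfsg.Agent.Lib.Helper6

open scoped ComplexConjugate

section tateext

universe u

variable {G : Type u} [Group G] [Finite G] {p : ℕ} [hp : Fact p.Prime]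

/-- if every linear character of a Sylow `p`-subgroup extends to the group, then the group has a
normal `p`-complement (via Tate's theorem) -/
theorem hasNormalPComplement_of_hom_extend (P : Sylow p G)
    (hext : ∀ μ : (P : Subgroup G) →* ℂˣ, ∃ lam : G →* ℂˣ,
      ∀ x : (P : Subgroup G), lam (x : G) = μ x) :
    Cfsg.HasNormalPComplement p G := by
  classical
  have hpp : p.Prime := hp.out
  obtain ⟨R, hRdef⟩ : ∃ R : Subgroup G, R = Cfsg.pResidual p G := ⟨_, rfl⟩
  haveI hRn : R.Normal := by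
    rw [hRdef]
    exact Cfsg.Agent.Lib.Helper1.pResidual_normal p
  obtain ⟨a, ha⟩ : ∃ a : ℕ, a = (Nat.card G).factorization p := ⟨_, rfl⟩
  obtain ⟨m, hm⟩ : ∃ m : ℕ, m = Nat.card G / p ^ a := ⟨_, rfl⟩
  have hmp : ¬ p ∣ m := by
    rw [hm, ha]
    exact Nat.not_dvd_ordCompl hpp Nat.card_pos.ne'
  have hGm : p ^ a * m = Nat.card G := by
    rw [hm, ha]
    exact Nat.ordProj_mul_ordCompl_eq_self _ p
  have hPcard : Nat.card (P : Subgroup G) = p ^ a := by
    rw [ha]
    exact Sylow.card_eq_multiplicity P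
  -- every linear character kills `R ∩ P`
  have hkill : ∀ (lam : G →* ℂˣ) (x : G), x ∈ R → x ∈ (P : Subgroup G) → lam x = 1 := by
    intro lam x hxR hxP
    have h1 : R ≤ ((powMonoidHom m : ℂˣ →* ℂˣ).comp lam).ker := by
      rw [hRdef]
      unfold Cfsg.pResidual
      rw [Subgroup.closure_le]
      intro g hg
      have hg' : (orderOf g).Coprime p := hg
      rw [SetLike.mem_coe, MonoidHom.mem_ker, MonoidHom.comp_apply, powMonoidHom_apply,
        ← map_pow]
      have hdvd : orderOf g ∣ m := by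
        have h2 : orderOf g ∣ p ^ a * m := by
          rw [hGm]
          exact orderOf_dvd_natCard g
        exact (Nat.Coprime.pow_right a hg').dvd_of_dvd_mul_left h2
      rw [orderOf_dvd_iff_pow_eq_one.mp hdvd, map_one]
    have h2 : (lam x) ^ m = 1 := by
      have := h1 hxR
      rwa [MonoidHom.mem_ker, MonoidHom.comp_apply, powMonoidHom_apply] at this
    have h3 : (lam x) ^ (p ^ a) = 1 := by
      rw [← map_pow]
      have h4 : (⟨x, hxP⟩ : (P : Subgroup G)) ^ (Nat.card (P : Subgroup G)) = 1 :=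
        pow_card_eq_one'
      rw [hPcard] at h4
      have h5 := congrArg (fun z : (P : Subgroup G) => (z : G)) h4
      simp only [Subgroup.coe_pow, Subgroup.coe_one] at h5
      rw [h5, map_one]
    have h4 := pow_gcd_eq_one.mpr ⟨h2, h3⟩
    have h5 : Nat.gcd m (p ^ a) = 1 :=
      Nat.Coprime.pow_right a ((Nat.Prime.coprime_iff_not_dvd hpp).mpr hmp).symm
    rwa [h5, pow_one] at h4
  have hR : R ⊓ (P : Subgroup G)
      ≤ (frattini ↥(P : Subgroup G)).map (P : Subgroup G).subtype := by
    rintro x ⟨hxR, hxP⟩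
    have hxc : (⟨x, hxP⟩ : (P : Subgroup G)) ∈ commutator (P : Subgroup G) := by
      by_contra hnc
      have hne : (Abelianization.of (⟨x, hxP⟩ : (P : Subgroup G)) :
          Abelianization (P : Subgroup G)) ≠ 1 := by
        intro h
        apply hnc
        exact (QuotientGroup.eq_one_iff _).mp h
      haveI : NeZero (Monoid.exponent (Abelianization (P : Subgroup G)) : ℂ) := by
        refine ⟨?_⟩
        exact_mod_cast Monoid.exponent_ne_zero_of_finite
      obtain ⟨φ, hφ⟩ := CommGroup.exists_apply_ne_one_of_hasEnoughRootsOfUnity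
        (Abelianization (P : Subgroup G)) ℂ hne
      obtain ⟨lam, hlam⟩ := hext (φ.comp Abelianization.of)
      apply hφ
      have := hlam ⟨x, hxP⟩
      rw [MonoidHom.comp_apply] at this
      rw [← this]
      exact hkill lam x hxR hxP
    exact ⟨⟨x, hxP⟩,
      Cfsg.Agent.Lib.Helper1.commutator_le_frattini_of_isPGroup p P.2 hxc, rfl⟩
  have hgen : R ≤ Subgroup.closure {g : G | g ∈ R ∧ (orderOf g).Coprime p} := by
    rw [hRdef]
    unfold Cfsg.pResidual
    apply Subgroup.closure_mono
    intro g hg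
    exact ⟨Subgroup.subset_closure hg, hg⟩
  have hbot : R ⊓ (P : Subgroup G) = ⊥ := Cfsg.Agent.Lib.Helper1.Tate.tate_key P R hR hgen
  have hcopR := Cfsg.Agent.Lib.Helper1.Tate.coprime_card_of_normal_inf_sylow_eq_bot P R hbot
  obtain ⟨k, hk⟩ := IsPGroup.iff_card.mp
    (Cfsg.Agent.Lib.Helper1.isPGroup_quotient_pResidual (G := G) p)
  have hidx : R.index = p ^ k := by
    rw [hRdef, Subgroup.index_eq_card]
    exact hk
  refine ⟨P, R, hRn, ?_⟩
  have hcardG : Nat.card G = Nat.card R * p ^ k := by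
    rw [← hidx]
    exact (Subgroup.card_mul_index R).symm
  have hP' : Nat.card (P : Subgroup G) = p ^ k := by
    rw [Sylow.card_eq_multiplicity, hcardG]
    congr 1
    rw [Nat.factorization_mul (Nat.card_pos.ne') (pow_ne_zero _ hpp.pos.ne'),
      Finsupp.add_apply, Nat.factorization_eq_zero_of_not_dvd
        ((Nat.Prime.coprime_iff_not_dvd hpp).mp hcopR.symm),
      Nat.Prime.factorization_pow hpp, Finsupp.single_eq_same, zero_add]
  apply Subgroup.isComplement'_of_coprime
  · rw [hP', hcardG]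
  · rw [hP']
    exact hcopR.pow_right k

end tateext

section partB

variable {G : Type*} [Group G] [Fintype G] [DecidableEq G]
variable {p : ℕ} {M : Ideal Cfsg.AlgInt}

/-- if the `p'`-degree characters of the principal block are linear, every linear character of a
Sylow `p`-subgroup extends to the group -/
theorem exists_hom_extend_of_principal (hM : Cfsg.IsPModular p M) [Fact p.Prime] (P : Sylow p G)
    (hlin : ∀ χ : Cfsg.IrrCharacter G, χ ∈ Cfsg.principalBlock M G →
      ¬ p ∣ Cfsg.charDegree (χ : G → ℂ) → Cfsg.charDegree (χ : G → ℂ) = 1)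
    (μ : (P : Subgroup G) →* ℂˣ) :
    ∃ lam : G →* ℂˣ, ∀ x : (P : Subgroup G), lam (x : G) = μ x := by
  classical
  have hp : p.Prime := hM.1
  haveI : Fintype (Cfsg.IrrCharacter G) := Fintype.ofFinite _
  haveI : Fintype (P : Subgroup G) := Fintype.ofFinite _
  obtain ⟨a, ha⟩ : ∃ a : ℕ, a = (Nat.card G).factorization p := ⟨_, rfl⟩
  have hPcard : Nat.card (P : Subgroup G) = p ^ a := by
    rw [ha]
    exact Sylow.card_eq_multiplicity P
  have hPne : (Nat.card (P : Subgroup G) : ℂ) ≠ 0 := by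
    rw [hPcard]
    exact_mod_cast (pow_pos hp.pos _).ne'
  have hGne : (Nat.card G : ℂ) ≠ 0 := by
    exact_mod_cast Nat.card_pos.ne'
  obtain ⟨μc, hμc⟩ : ∃ μc : Cfsg.IrrCharacter (P : Subgroup G),
      ∀ x, (μc : ↥(P : Subgroup G) → ℂ) x = (μ x : ℂ) :=
    ⟨⟨fun x => (μ x : ℂ), isIrrCharacter_of_hom μ⟩, fun x => rfl⟩
  have hn : ∀ β : Cfsg.IrrCharacter G, ∃ n : ℕ,
      Cfsg.classInner (fun x : (P : Subgroup G) => (β : G → ℂ) x)
        (μc : ↥(P : Subgroup G) → ℂ) = n :=
    fun β => IsCharacter.classInner_irr_nat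
      (IsCharacter.restrict (P : Subgroup G) (IsIrrCharacter.isCharacter β.2)) μc.2
  choose n hn using hn
  obtain ⟨S, hS⟩ : ∃ S : ℕ, S = ∑ β ∈ Finset.univ.filter
      (· ∈ Cfsg.blockOf M ((oneIrr G : Cfsg.IrrCharacter G) : G → ℂ)),
      Cfsg.charDegree (β : G → ℂ) ^ 2 := ⟨_, rfl⟩
  have hSfac : S.factorization p = a := by
    rw [hS, factorization_sum_sq_degree hM (oneIrr G), ← principalBlock_eq,
      blockDefect_principal hM, ← ha]
    omega
  -- the function ρ_B
  obtain ⟨f, hf⟩ : ∃ f : G → ℂ, f = fun x => ∑ β ∈ Finset.univ.filter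
      (· ∈ Cfsg.blockOf M ((oneIrr G : Cfsg.IrrCharacter G) : G → ℂ)),
      (Cfsg.charDegree (β : G → ℂ) : ℂ) * (β : G → ℂ) x := ⟨_, rfl⟩
  have hvan : ∀ x : G, p ∣ orderOf x → f x = 0 := by
    intro x hx
    have h1 := blockCoeff_eq_zero_of_pSingular hM (oneIrr G) x hx
    unfold Cfsg.blockCoeff at h1
    rw [finsum_mem_eq_sum_filter_lib] at h1
    have h2 := (mul_eq_zero.mp h1).resolve_left (inv_ne_zero hGne)
    have h3 := congrArg conj h2
    rw [map_sum, map_zero] at h3
    rw [hf]
    simp only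
    rw [← h3]
    apply Finset.sum_congr rfl
    intro β _
    rw [map_mul, Complex.conj_conj,
      IsCharacter.apply_one_eq_charDegree (IsIrrCharacter.isCharacter β.2), Complex.conj_natCast]
  have h1 : ∑ x : (P : Subgroup G), f x * conj ((μc : ↥(P : Subgroup G) → ℂ) x) = f 1 := by
    rw [Finset.sum_eq_single (1 : (P : Subgroup G))]
    · rw [hμc, map_one]
      simp
    · intro x _ hx
      rw [hvan (x : G), zero_mul]
      apply orderOf_dvd_of_mem_pSubgroup hp (P : Subgroup G) hPcard x.2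
      intro h
      apply hx
      exact Subtype.ext h
    · intro h
      exact absurd (Finset.mem_univ _) h
  have h2 : ∑ x : (P : Subgroup G), f x * conj ((μc : ↥(P : Subgroup G) → ℂ) x)
      = ∑ β ∈ Finset.univ.filter
        (· ∈ Cfsg.blockOf M ((oneIrr G : Cfsg.IrrCharacter G) : G → ℂ)),
        (Cfsg.charDegree (β : G → ℂ) : ℂ) * ((Nat.card (P : Subgroup G) : ℂ) * (n β : ℂ)) := by
    rw [hf]
    simp only
    simp_rw [Finset.sum_mul]
    rw [Finset.sum_comm]
    apply Finset.sum_congr rfl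
    intro β _
    rw [← hn β]
    unfold Cfsg.classInner
    rw [← mul_assoc (Nat.card (P : Subgroup G) : ℂ), mul_inv_cancel₀ hPne, one_mul,
      Finset.mul_sum]
    apply Finset.sum_congr rfl
    intro x _
    ring
  have h3 : f 1 = (S : ℂ) := by
    rw [hf, hS]
    simp only
    push_cast
    apply Finset.sum_congr rfl
    intro β _
    rw [IsCharacter.apply_one_eq_charDegree (IsIrrCharacter.isCharacter β.2), sq]
  obtain ⟨T, hT⟩ : ∃ T : ℕ, T = ∑ β ∈ Finset.univ.filter
      (· ∈ Cfsg.blockOf M ((oneIrr G : Cfsg.IrrCharacter G) : G → ℂ)),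
      Cfsg.charDegree (β : G → ℂ) * n β := ⟨_, rfl⟩
  have hST : S = p ^ a * T := by
    have h4 : (S : ℂ) = ((p ^ a * T : ℕ) : ℂ) := by
      rw [← h3, ← h1, h2, hT, hPcard]
      push_cast
      rw [Finset.mul_sum]
      apply Finset.sum_congr rfl
      intro β _
      ring
    exact_mod_cast h4
  have hS0 : S ≠ 0 := by
    rw [hS]
    apply ne_of_gt
    apply Finset.sum_pos'
    · intro β _
      exact Nat.zero_le _
    · refine ⟨oneIrr G, ?_, ?_⟩
      · rw [Finset.mem_filter]
        exact ⟨Finset.mem_univ _, sameBlock_refl hM _⟩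
      · exact pow_pos (Nat.pos_of_ne_zero (charDegree_ne_zero _)) 2
  have hpT : ¬ p ∣ T := by
    intro hdvd
    obtain ⟨T', hT'⟩ := hdvd
    have h5 : p ^ (a + 1) ∣ S := by
      rw [hST, hT', pow_succ]
      exact ⟨T', by ring⟩
    have h6 := (hp.pow_dvd_iff_le_factorization hS0).mp h5
    rw [hSfac] at h6
    omega
  obtain ⟨β, hβmem, hβ⟩ : ∃ β ∈ Finset.univ.filter
      (· ∈ Cfsg.blockOf M ((oneIrr G : Cfsg.IrrCharacter G) : G → ℂ)),
      ¬ p ∣ Cfsg.charDegree (β : G → ℂ) * n β := by
    by_contra hcon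
    push Not at hcon
    apply hpT
    rw [hT]
    exact Finset.dvd_sum hcon
  rw [Finset.mem_filter] at hβmem
  have hβdeg : ¬ p ∣ Cfsg.charDegree (β : G → ℂ) := fun h => hβ (Dvd.dvd.mul_right h _)
  have hnβ : n β ≠ 0 := by
    intro h0
    apply hβ
    rw [h0, mul_zero]
    exact dvd_zero p
  have hβ1 : Cfsg.charDegree (β : G → ℂ) = 1 := hlin β hβmem.2 hβdeg
  have hβone : (β : G → ℂ) 1 = 1 := by
    rw [IsCharacter.apply_one_eq_charDegree (IsIrrCharacter.isCharacter β.2), hβ1, Nat.cast_one]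
  obtain ⟨lam, hlam⟩ : ∃ lam : G →* ℂˣ, lam = linearCharHom (IsIrrCharacter.isCharacter β.2) hβone :=
    ⟨_, rfl⟩
  have hlamv : ∀ g : G, ((lam g : ℂˣ) : ℂ) = (β : G → ℂ) g := by
    intro g
    rw [hlam, linearCharHom_apply]
  refine ⟨lam, ?_⟩
  obtain ⟨βP, hβP⟩ : ∃ βP : Cfsg.IrrCharacter (P : Subgroup G),
      ∀ x, (βP : ↥(P : Subgroup G) → ℂ) x = (β : G → ℂ) x := by
    refine ⟨⟨fun x => ((lam.comp (P : Subgroup G).subtype) x : ℂ),
      isIrrCharacter_of_hom (lam.comp (P : Subgroup G).subtype)⟩, ?_⟩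
    intro x
    exact hlamv x
  have hfun : (fun x : (P : Subgroup G) => (β : G → ℂ) x) = (βP : ↥(P : Subgroup G) → ℂ) := by
    funext x
    rw [hβP]
  have h7 := hn β
  rw [hfun, classInner_irrCharacter] at h7
  have h8 : βP = μc := by
    by_contra hne
    rw [if_neg hne] at h7
    apply hnβ
    exact_mod_cast h7.symm
  intro x
  apply Units.ext
  rw [hlamv, ← hβP, h8, hμc]

end partB

section final

variable {G : Type*} [Group G] [Fintype G] [DecidableEq G]
variable {p : ℕ} {M : Ideal Cfsg.AlgInt}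

theorem sInf_factorization_principalBlock (hM : Cfsg.IsPModular p M) :
    sInf ((fun χ : Cfsg.IrrCharacter G => (Cfsg.charDegree (χ : G → ℂ)).factorization p) ''
      (Cfsg.principalBlock M G)) = 0 := by
  rw [Nat.sInf_eq_zero]
  left
  refine ⟨oneIrr G, ?_, ?_⟩
  · rw [principalBlock_eq]; exact sameBlock_refl hM _
  · show (Cfsg.charDegree (fun _ : G => (1 : ℂ))).factorization p = 0
    rw [charDegree_one_fun]
    simp

theorem blockHeight_principalBlock (hM : Cfsg.IsPModular p M) (χ : Cfsg.IrrCharacter G)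
    (hχ : χ ∈ Cfsg.principalBlock M G) :
    Cfsg.blockHeight p (Cfsg.principalBlock M G) (χ : G → ℂ)
      = (Cfsg.charDegree (χ : G → ℂ)).factorization p := by
  have := factorization_eq_sInf_add_height (p := p) (Cfsg.principalBlock M G) χ hχ
  rw [sInf_factorization_principalBlock hM, zero_add] at this
  exact this.symm

/-- the height-zero characters of the principal block all have the same degree exactly when the
group has a normal `p`-complement -/
theorem principal_equal_heightZero_degrees_iff (hM : Cfsg.IsPModular p M) [Fact p.Prime] :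
    (∃ d : ℕ, ∀ χ : Cfsg.IrrCharacter G, χ ∈ Cfsg.principalBlock M G →
      Cfsg.blockHeight p (Cfsg.principalBlock M G) (χ : G → ℂ) = 0 →
      Cfsg.charDegree (χ : G → ℂ) = d) ↔ Cfsg.HasNormalPComplement p G := by
  classical
  have hp : p.Prime := hM.1
  constructor
  · rintro ⟨d, hd⟩
    have h1mem : oneIrr G ∈ Cfsg.principalBlock M G := by
      rw [principalBlock_eq]; exact sameBlock_refl hM _
    have h1deg : Cfsg.charDegree ((oneIrr G : Cfsg.IrrCharacter G) : G → ℂ) = 1 :=
      charDegree_one_fun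
    have hd1 : d = 1 := by
      rw [← hd (oneIrr G) h1mem (by rw [blockHeight_principalBlock hM _ h1mem, h1deg]; simp),
        h1deg]
    have hlin : ∀ χ : Cfsg.IrrCharacter G, χ ∈ Cfsg.principalBlock M G →
        ¬ p ∣ Cfsg.charDegree (χ : G → ℂ) → Cfsg.charDegree (χ : G → ℂ) = 1 := by
      intro χ hχ hndvd
      rw [← hd1]
      apply hd χ hχ
      rw [blockHeight_principalBlock hM χ hχ]
      exact Nat.factorization_eq_zero_of_not_dvd hndvd
    obtain ⟨P⟩ : Nonempty (Sylow p G) := inferInstance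
    exact hasNormalPComplement_of_hom_extend P
      (fun μ => exists_hom_extend_of_principal hM P hlin μ)
  · rintro ⟨P, N, hNn, hc⟩
    haveI := hNn
    refine ⟨1, ?_⟩
    intro χ hχ hh
    rw [blockHeight_principalBlock hM χ hχ] at hh
    have hcard := hc.card_mul_card
    have hidx : N.index = Nat.card (P : Subgroup G) := hc.symm.index_eq_card
    have hPcard : Nat.card (P : Subgroup G) = p ^ (Nat.card G).factorization p :=
      Sylow.card_eq_multiplicity P
    obtain ⟨a, ha⟩ : ∃ a : ℕ, a = (Nat.card G).factorization p := ⟨_, rfl⟩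
    rw [← ha] at hPcard
    have hNp : ¬ p ∣ Nat.card N := by
      intro hdvd
      obtain ⟨t, ht⟩ := hdvd
      have h1 : p ^ (a + 1) ∣ Nat.card G := by
        rw [← hcard, hPcard, ht, pow_succ]
        exact ⟨t, by ring⟩
      have h2 := (hp.pow_dvd_iff_le_factorization Nat.card_pos.ne').mp h1
      omega
    obtain ⟨ψ, -, hψ⟩ := exists_inflIrr_of_mem_principalBlock N hM hNp χ hχ
    have hdeg : Cfsg.charDegree (χ : G → ℂ) = Cfsg.charDegree (ψ : G ⧸ N → ℂ) := by
      rw [← hψ]
      unfold Cfsg.charDegree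
      rw [inflIrr_apply]
      rfl
    have hdvd : Cfsg.charDegree (χ : G → ℂ) ∣ p ^ a := by
      rw [hdeg, ← hPcard, ← hidx, Subgroup.index_eq_card]
      exact IsIrrCharacter.charDegree_dvd_card ψ.2
    obtain ⟨j, -, hj⟩ := (Nat.dvd_prime_pow hp).mp hdvd
    rw [hj, hp.factorization_pow, Finsupp.single_eq_same] at hh
    rw [hj, hh, pow_zero]

end final

end Cfsg.Agent.Lib.Helper6
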