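import Mathlib

set_option autoImplicit false
set_option linter.unusedSectionVars false
set_option maxHeartbeats 1600000

/-!
Reduction of a rank-two lattice with an integral positive definite form: a reduced basis.
-/

namespace Cfsg.Agent.Lib.Helper6.Q2

open scoped ComplexConjugate
open Module

section lattice

variable {X : Type*} [Fintype X] {J : Type*} [Fintype J] [DecidableEq J]

/-- plain Hermitian product of functions on a finite type -/
noncomputable def ip (f h : X → ℂ) : ℂ := ∑ x, f x * conj (h x)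

/-- integral combinations of a family of functions -/
noncomputable def lc (g : J → X → ℂ) (n : J → ℤ) : X → ℂ := ∑ j, (n j : ℂ) • g j

theorem ip_add_left (f f' h : X → ℂ) : ip (f + f') h = ip f h + ip f' h := by
  unfold ip
  simp only [Pi.add_apply, add_mul, Finset.sum_add_distrib]

theorem ip_add_right (f h h' : X → ℂ) : ip f (h + h') = ip f h + ip f h' := by
  unfold ip
  simp only [Pi.add_apply, map_add, mul_add, Finset.sum_add_distrib]

theorem ip_smul_left (α : ℂ) (f h : X → ℂ) : ip (α • f) h = α * ip f h := by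
  unfold ip
  simp only [Pi.smul_apply, smul_eq_mul, Finset.mul_sum, mul_assoc]

theorem ip_smul_right (α : ℂ) (f h : X → ℂ) : ip f (α • h) = conj α * ip f h := by
  unfold ip
  simp only [Pi.smul_apply, smul_eq_mul, map_mul, Finset.mul_sum]
  apply Finset.sum_congr rfl
  intro x _
  ring

theorem ip_sum_left {ι : Type*} (s : Finset ι) (F : ι → X → ℂ) (h : X → ℂ) :
    ip (∑ i ∈ s, F i) h = ∑ i ∈ s, ip (F i) h := by
  unfold ip
  simp only [Finset.sum_apply, Finset.sum_mul]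
  rw [Finset.sum_comm]

theorem ip_sum_right {ι : Type*} (s : Finset ι) (f : X → ℂ) (F : ι → X → ℂ) :
    ip f (∑ i ∈ s, F i) = ∑ i ∈ s, ip f (F i) := by
  unfold ip
  simp only [Finset.sum_apply, map_sum, Finset.mul_sum]
  rw [Finset.sum_comm]

theorem ip_conj (f h : X → ℂ) : conj (ip f h) = ip h f := by
  unfold ip
  rw [map_sum]
  apply Finset.sum_congr rfl
  intro x _
  rw [map_mul, Complex.conj_conj, mul_comm]

theorem ip_self (f : X → ℂ) : ip f f = ((∑ x, Complex.normSq (f x) : ℝ) : ℂ) := by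
  unfold ip
  push_cast
  apply Finset.sum_congr rfl
  intro x _
  exact Complex.mul_conj _

theorem ip_self_eq_zero {f : X → ℂ} (h : ip f f = 0) : f = 0 := by
  rw [ip_self] at h
  have h' : ∑ x, Complex.normSq (f x) = 0 := by exact_mod_cast h
  funext x
  have := (Finset.sum_eq_zero_iff_of_nonneg
    (fun x _ => Complex.normSq_nonneg (f x))).mp h' x (Finset.mem_univ x)
  exact Complex.normSq_eq_zero.mp this

theorem lc_apply (g : J → X → ℂ) (n : J → ℤ) (x : X) :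
    lc g n x = ∑ j, (n j : ℂ) * g j x := by
  unfold lc
  simp only [Finset.sum_apply, Pi.smul_apply, smul_eq_mul]

theorem lc_single (g : J → X → ℂ) (j : J) : lc g (Pi.single j 1) = g j := by
  unfold lc
  rw [Finset.sum_eq_single j]
  · rw [Pi.single_eq_same, Int.cast_one, one_smul]
  · intro j' _ hne
    rw [Pi.single_eq_of_ne hne, Int.cast_zero, zero_smul]
  · intro h
    exact absurd (Finset.mem_univ j) h

theorem lc_mem_span (g : J → X → ℂ) (n : J → ℤ) :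
    lc g n ∈ Submodule.span ℂ (Set.range g) := by
  unfold lc
  apply Submodule.sum_mem
  intro j _
  exact Submodule.smul_mem _ _ (Submodule.subset_span ⟨j, rfl⟩)

theorem lc_neg (g : J → X → ℂ) (n : J → ℤ) : lc g (-n) = -lc g n := by
  funext x
  rw [Pi.neg_apply, lc_apply, lc_apply, ← Finset.sum_neg_distrib]
  apply Finset.sum_congr rfl
  intro j _
  rw [Pi.neg_apply]
  push_cast
  ring

theorem lc_add (g : J → X → ℂ) (n n' : J → ℤ) : lc g (n + n') = lc g n + lc g n' := by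
  funext x
  rw [Pi.add_apply, lc_apply, lc_apply, lc_apply, ← Finset.sum_add_distrib]
  apply Finset.sum_congr rfl
  intro j _
  rw [Pi.add_apply]
  push_cast
  ring

theorem ip_lc_lc (g : J → X → ℂ) (n n' : J → ℤ) :
    ip (lc g n) (lc g n') = ∑ j, ∑ j', (n j : ℂ) * (n' j' : ℂ) * ip (g j) (g j') := by
  unfold lc
  rw [ip_sum_left]
  apply Finset.sum_congr rfl
  intro j _
  rw [ip_smul_left, ip_sum_right, Finset.mul_sum]
  apply Finset.sum_congr rfl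
  intro j' _
  rw [ip_smul_right, map_intCast]
  ring

/-- the scaled products of integral combinations are integers -/
theorem ip_lc_int (g : J → X → ℂ) (κ : ℝ)
    (hint : ∀ j j', ∃ m : ℤ, (κ : ℂ) * ip (g j) (g j') = m) (n n' : J → ℤ) :
    ∃ m : ℤ, (κ : ℂ) * ip (lc g n) (lc g n') = m := by
  choose mI hmI using hint
  refine ⟨∑ j, ∑ j', n j * n' j' * mI j j', ?_⟩
  rw [ip_lc_lc, Finset.mul_sum]
  push_cast
  apply Finset.sum_congr rfl
  intro j _
  rw [Finset.mul_sum]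
  apply Finset.sum_congr rfl
  intro j' _
  rw [← hmI j j']
  ring

theorem ip_comb (κ : ℝ) (f1 f2 : X → ℂ) (u v : ℝ) (a b c : ℂ)
    (h11 : (κ : ℂ) * ip f1 f1 = a) (h12 : (κ : ℂ) * ip f1 f2 = b)
    (h21 : (κ : ℂ) * ip f2 f1 = b) (h22 : (κ : ℂ) * ip f2 f2 = c) :
    (κ : ℂ) * ip ((u : ℂ) • f1 + (v : ℂ) • f2) ((u : ℂ) • f1 + (v : ℂ) • f2)
      = (u : ℂ) ^ 2 * a + 2 * (u : ℂ) * (v : ℂ) * b + (v : ℂ) ^ 2 * c := by
  simp only [ip_add_left, ip_add_right, ip_smul_left, ip_smul_right, Complex.conj_ofReal]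
  linear_combination ((u : ℂ) ^ 2) * h11 + ((u : ℂ) * (v : ℂ)) * h12 + ((v : ℂ) * (u : ℂ)) * h21
    + ((v : ℂ) ^ 2) * h22

/-- the spanning step -/
theorem exists_coeff_of_finrank_two (g : J → X → ℂ)
    (hrank : finrank ℂ (Submodule.span ℂ (Set.range g)) = 2) (f1 f2 : X → ℂ)
    (hf1V : f1 ∈ Submodule.span ℂ (Set.range g)) (hf2V : f2 ∈ Submodule.span ℂ (Set.range g))
    (hf1 : f1 ≠ 0) (hpar : ¬ ∃ α : ℂ, f2 = α • f1) (j : J) :
    ∃ α γ : ℂ, g j = α • f1 + γ • f2 := by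
  obtain ⟨V, hV⟩ : ∃ V : Submodule ℂ (X → ℂ), V = Submodule.span ℂ (Set.range g) := ⟨_, rfl⟩
  rw [← hV] at hrank hf1V hf2V
  have hli : LinearIndependent ℂ ![(⟨f1, hf1V⟩ : V), ⟨f2, hf2V⟩] := by
    rw [LinearIndependent.pair_iff]
    intro s t hst
    have hst' : s • f1 + t • f2 = 0 := by
      have := congrArg (Subtype.val) hst
      simpa using this
    by_cases ht : t = 0
    · subst ht
      rw [zero_smul, add_zero] at hst'
      rcases smul_eq_zero.mp hst' with h | h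
      · exact ⟨h, rfl⟩
      · exact absurd h hf1
    · exfalso
      apply hpar
      refine ⟨-(s / t), ?_⟩
      have h1 : t • f2 = -(s • f1) := eq_neg_of_add_eq_zero_right hst'
      calc f2 = t⁻¹ • (t • f2) := by rw [smul_smul, inv_mul_cancel₀ ht, one_smul]
        _ = -(s / t) • f1 := by
            rw [h1, smul_neg, smul_smul, neg_smul]
            congr 2
            field_simp
  have htop := hli.span_eq_top_of_card_eq_finrank' (by rw [Fintype.card_fin, hrank])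
  have hgV : g j ∈ V := by rw [hV]; exact Submodule.subset_span ⟨j, rfl⟩
  have hmem : (⟨g j, hgV⟩ : V) ∈
      Submodule.span ℂ (Set.range ![(⟨f1, hf1V⟩ : V), ⟨f2, hf2V⟩]) := by
    rw [htop]; trivial
  rw [Submodule.mem_span_range_iff_exists_fun] at hmem
  obtain ⟨cf, hcf⟩ := hmem
  rw [Fin.sum_univ_two] at hcf
  refine ⟨cf 0, cf 1, ?_⟩
  have := congrArg Subtype.val hcf
  simpa using this.symm

theorem quad_bound (a b c : ℤ) (u v : ℝ) (hu : |u| ≤ 1 / 2) (hv : |v| ≤ 1 / 2)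
    (ha : 1 ≤ a) (h1 : 2 * b ≤ a) (h2 : -(2 * b) ≤ a) (hac : a ≤ c) :
    u ^ 2 * (a : ℝ) + 2 * u * v * (b : ℝ) + v ^ 2 * (c : ℝ) ≤ 3 / 4 * (c : ℝ) := by
  have haR : (1 : ℝ) ≤ (a : ℝ) := by exact_mod_cast ha
  have h1R : 2 * (b : ℝ) ≤ (a : ℝ) := by exact_mod_cast h1
  have h2R : -(2 * (b : ℝ)) ≤ (a : ℝ) := by exact_mod_cast h2
  have hacR : (a : ℝ) ≤ (c : ℝ) := by exact_mod_cast hac
  have hu2 : u ^ 2 ≤ 1 / 4 := by
    have := abs_le.mp hu
    nlinarith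
  have hv2 : v ^ 2 ≤ 1 / 4 := by
    have := abs_le.mp hv
    nlinarith
  have hkey : 4 * u * v * (b : ℝ) ≤ (a : ℝ) * (u ^ 2 + v ^ 2) := by
    nlinarith [mul_nonneg (by linarith : (0:ℝ) ≤ (a : ℝ) - 2 * (b : ℝ)) (sq_nonneg (u + v)),
      mul_nonneg (by linarith : (0:ℝ) ≤ (a : ℝ) + 2 * (b : ℝ)) (sq_nonneg (u - v))]
  nlinarith [sq_nonneg u, sq_nonneg v]

/-- a reduced basis of a rank two lattice with an integral form (without the sign normalisation) -/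
theorem exists_reduced_pair_aux (g : J → X → ℂ) (κ : ℝ) (hκ : 0 < κ)
    (hint : ∀ j j', ∃ m : ℤ, (κ : ℂ) * ip (g j) (g j') = m)
    (hrank : finrank ℂ (Submodule.span ℂ (Set.range g)) = 2) :
    ∃ (n1 n2 : J → ℤ) (a b c : ℤ) (m1 m2 : J → ℤ),
      (κ : ℂ) * ip (lc g n1) (lc g n1) = a ∧ (κ : ℂ) * ip (lc g n1) (lc g n2) = b ∧
      (κ : ℂ) * ip (lc g n2) (lc g n2) = c ∧
      1 ≤ a ∧ 2 * b ≤ a ∧ -(2 * b) ≤ a ∧ a ≤ c ∧
      ∀ j, g j = (m1 j : ℂ) • lc g n1 + (m2 j : ℂ) • lc g n2 := by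
  classical
  have hκC : (κ : ℂ) ≠ 0 := by exact_mod_cast hκ.ne'
  obtain ⟨Q, hQ⟩ : ∃ Q : (J → ℤ) → (J → ℤ) → ℂ,
      Q = fun n n' => (κ : ℂ) * ip (lc g n) (lc g n') := ⟨_, rfl⟩
  have hQint : ∀ n n', ∃ m : ℤ, Q n n' = m := by
    intro n n'
    rw [hQ]
    exact ip_lc_int g κ hint n n'
  have hQsymm : ∀ n n', Q n' n = Q n n' := by
    intro n n'
    obtain ⟨m, hm⟩ := hQint n n'
    have h1 : conj (Q n n') = Q n' n := by
      rw [hQ]
      simp only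
      rw [map_mul, Complex.conj_ofReal, ip_conj]
    rw [← h1, hm, map_intCast]
  have hQzero : ∀ n, Q n n = 0 → lc g n = 0 := by
    intro n h
    rw [hQ] at h
    simp only at h
    rcases mul_eq_zero.mp h with h | h
    · exact absurd h hκC
    · exact ip_self_eq_zero h
  have hQnat : ∀ n, ∃ m : ℕ, Q n n = m := by
    intro n
    obtain ⟨z, hz⟩ := hQint n n
    have hre : (z : ℝ) = κ * ∑ x, Complex.normSq (lc g n x) := by
      have h1 := hz
      rw [hQ] at h1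
      simp only at h1
      rw [ip_self] at h1
      exact_mod_cast h1.symm
    have hz0 : 0 ≤ z := by
      have : (0 : ℝ) ≤ (z : ℝ) := by
        rw [hre]
        exact mul_nonneg hκ.le (Finset.sum_nonneg (fun x _ => Complex.normSq_nonneg _))
      exact_mod_cast this
    refine ⟨z.toNat, ?_⟩
    rw [hz]
    have : ((z.toNat : ℤ) : ℂ) = (z : ℂ) := by rw [Int.toNat_of_nonneg hz0]
    rw [← this]
    push_cast
    rfl
  -- step 1
  have hne1 : ∃ m : ℕ, ∃ n : J → ℤ, lc g n ≠ 0 ∧ Q n n = m := by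
    have hex : ∃ j, g j ≠ 0 := by
      by_contra hcon
      push Not at hcon
      have h0 : Submodule.span ℂ (Set.range g) = ⊥ := by
        rw [Submodule.span_eq_bot]
        rintro _ ⟨j, rfl⟩
        exact hcon j
      rw [h0, finrank_bot] at hrank
      omega
    obtain ⟨j, hj⟩ := hex
    obtain ⟨m, hm⟩ := hQnat (Pi.single j 1)
    exact ⟨m, Pi.single j 1, by rw [lc_single]; exact hj, hm⟩
  obtain ⟨n1, hn1ne, hn1Q⟩ := Nat.find_spec hne1
  have hamin : ∀ n, lc g n ≠ 0 → ∀ m : ℕ, Q n n = m → Nat.find hne1 ≤ m :=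
    fun n hn m hm => Nat.find_min' hne1 ⟨n, hn, hm⟩
  obtain ⟨a₀, ha₀⟩ : ∃ a₀ : ℕ, a₀ = Nat.find hne1 := ⟨_, rfl⟩
  rw [← ha₀] at hn1Q hamin
  obtain ⟨f1, hf1⟩ : ∃ f1 : X → ℂ, f1 = lc g n1 := ⟨_, rfl⟩
  rw [← hf1] at hn1ne
  have ha₀pos : 1 ≤ a₀ := by
    rcases Nat.eq_zero_or_pos a₀ with h | h
    · exfalso
      apply hn1ne
      rw [hf1]
      apply hQzero
      rw [hn1Q, h, Nat.cast_zero]
    · exact h
  -- step 2
  have hne2 : ∃ m : ℕ, ∃ n : J → ℤ, (¬ ∃ α : ℂ, lc g n = α • f1) ∧ Q n n = m := by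
    by_contra hcon
    push Not at hcon
    have hall : ∀ j, ∃ α : ℂ, g j = α • f1 := by
      intro j
      by_contra hj
      push Not at hj
      obtain ⟨m, hm⟩ := hQnat (Pi.single j 1)
      exact hcon m (Pi.single j 1) (by rw [lc_single]; exact hj) hm
    have hle : Submodule.span ℂ (Set.range g) ≤ Submodule.span ℂ {f1} := by
      rw [Submodule.span_le]
      rintro _ ⟨j, rfl⟩
      obtain ⟨α, hα⟩ := hall j
      rw [hα]
      exact Submodule.smul_mem _ _ (Submodule.mem_span_singleton_self f1)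
    have h1 := Submodule.finrank_mono hle
    rw [hrank, finrank_span_singleton hn1ne] at h1
    omega
  obtain ⟨n2, hn2par, hn2Q⟩ := Nat.find_spec hne2
  have hcmin : ∀ n, (¬ ∃ α : ℂ, lc g n = α • f1) → ∀ m : ℕ, Q n n = m → Nat.find hne2 ≤ m :=
    fun n hn m hm => Nat.find_min' hne2 ⟨n, hn, hm⟩
  obtain ⟨c₀, hc₀⟩ : ∃ c₀ : ℕ, c₀ = Nat.find hne2 := ⟨_, rfl⟩
  rw [← hc₀] at hn2Q hcmin
  obtain ⟨f2, hf2⟩ : ∃ f2 : X → ℂ, f2 = lc g n2 := ⟨_, rfl⟩
  rw [← hf2] at hn2par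
  obtain ⟨b₀, hb₀⟩ := hQint n1 n2
  have hb₀' : Q n2 n1 = b₀ := by rw [hQsymm n1 n2, hb₀]
  have hf2ne : f2 ≠ 0 := by
    intro h
    apply hn2par
    exact ⟨0, by rw [h, zero_smul]⟩
  have hac : a₀ ≤ c₀ := hamin n2 (by rw [← hf2]; exact hf2ne) c₀ hn2Q
  -- the four products
  have h11 : (κ : ℂ) * ip f1 f1 = ((a₀ : ℤ) : ℂ) := by
    rw [hf1]; rw [hQ] at hn1Q; simp only at hn1Q; rw [hn1Q]; push_cast; rfl
  have h12 : (κ : ℂ) * ip f1 f2 = (b₀ : ℂ) := by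
    rw [hf1, hf2]; rw [hQ] at hb₀; exact hb₀
  have h21 : (κ : ℂ) * ip f2 f1 = (b₀ : ℂ) := by
    rw [hf1, hf2]; rw [hQ] at hb₀'; exact hb₀'
  have h22 : (κ : ℂ) * ip f2 f2 = ((c₀ : ℤ) : ℂ) := by
    rw [hf2]; rw [hQ] at hn2Q; simp only at hn2Q; rw [hn2Q]; push_cast; rfl
  -- the value of the form on real combinations
  have hval : ∀ (n : J → ℤ) (u v : ℝ) (m : ℕ), lc g n = (u : ℂ) • f1 + (v : ℂ) • f2 →
      Q n n = m →
      (m : ℝ) = u ^ 2 * ((a₀ : ℤ) : ℝ) + 2 * u * v * (b₀ : ℝ) + v ^ 2 * ((c₀ : ℤ) : ℝ) := by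
    intro n u v m hn hm
    rw [hQ] at hm
    simp only at hm
    rw [hn, ip_comb κ f1 f2 u v _ _ _ h11 h12 h21 h22] at hm
    exact_mod_cast hm.symm
  -- the inequalities
  have hpar_add : ∀ e : ℂ, ¬ ∃ α : ℂ, e • f1 + f2 = α • f1 := by
    intro e hcon
    obtain ⟨α, hα⟩ := hcon
    apply hn2par
    refine ⟨α - e, ?_⟩
    rw [sub_smul, ← hα]
    abel
  have hb1 : -(2 * b₀) ≤ (a₀ : ℤ) := by
    have hlc : lc g (n1 + n2) = ((1 : ℝ) : ℂ) • f1 + ((1 : ℝ) : ℂ) • f2 := by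
      rw [lc_add, ← hf1, ← hf2, Complex.ofReal_one, one_smul, one_smul]
    obtain ⟨m, hm⟩ := hQnat (n1 + n2)
    have h1 := hval (n1 + n2) 1 1 m hlc hm
    have h2 : c₀ ≤ m := by
      apply hcmin (n1 + n2) _ m hm
      rw [lc_add, ← hf1, ← hf2]
      have := hpar_add 1
      rw [one_smul] at this
      exact this
    have h3 : ((c₀ : ℤ) : ℝ) ≤ (m : ℝ) := by exact_mod_cast h2
    have h4 : (0 : ℝ) ≤ ((a₀ : ℤ) : ℝ) + 2 * (b₀ : ℝ) := by nlinarith
    have h5 : (0 : ℤ) ≤ (a₀ : ℤ) + 2 * b₀ := by exact_mod_cast h4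
    linarith
  have hb2 : 2 * b₀ ≤ (a₀ : ℤ) := by
    have hlc : lc g (-n1 + n2) = ((-1 : ℝ) : ℂ) • f1 + ((1 : ℝ) : ℂ) • f2 := by
      rw [lc_add, lc_neg, ← hf1, ← hf2, Complex.ofReal_neg, Complex.ofReal_one, one_smul,
        neg_one_smul]
    obtain ⟨m, hm⟩ := hQnat (-n1 + n2)
    have h1 := hval (-n1 + n2) (-1) 1 m hlc hm
    have h2 : c₀ ≤ m := by
      apply hcmin (-n1 + n2) _ m hm
      rw [lc_add, lc_neg, ← hf1, ← hf2]
      have := hpar_add (-1)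
      rw [neg_one_smul] at this
      exact this
    have h3 : ((c₀ : ℤ) : ℝ) ≤ (m : ℝ) := by exact_mod_cast h2
    have h4 : (0 : ℝ) ≤ ((a₀ : ℤ) : ℝ) - 2 * (b₀ : ℝ) := by nlinarith
    have h5 : (0 : ℤ) ≤ (a₀ : ℤ) - 2 * b₀ := by exact_mod_cast h4
    linarith
  have ha₀Z : (1 : ℤ) ≤ (a₀ : ℤ) := by exact_mod_cast ha₀pos
  have hacZ : (a₀ : ℤ) ≤ (c₀ : ℤ) := by exact_mod_cast hac
  -- the determinant
  obtain ⟨Δ, hΔ⟩ : ∃ Δ : ℤ, Δ = (a₀ : ℤ) * (c₀ : ℤ) - b₀ ^ 2 := ⟨_, rfl⟩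
  have hΔpos : 0 < Δ := by
    rw [hΔ]
    nlinarith [mul_nonneg (by linarith : (0:ℤ) ≤ (a₀ : ℤ)) (by linarith : (0:ℤ) ≤ (c₀ : ℤ) - a₀),
      mul_nonneg (by linarith : (0:ℤ) ≤ (a₀ : ℤ) + 2 * b₀) (by linarith : (0:ℤ) ≤ (a₀ : ℤ) - 2 * b₀)]
  -- step 4: the coefficients
  have hcoef : ∀ j, ∃ m1 m2 : ℤ, g j = (m1 : ℂ) • f1 + (m2 : ℂ) • f2 := by
    intro j
    obtain ⟨α, γ, hαγ⟩ := exists_coeff_of_finrank_two g hrank f1 f2
      (by rw [hf1]; exact lc_mem_span g n1) (by rw [hf2]; exact lc_mem_span g n2) hn1ne hn2par j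
    obtain ⟨r1, hr1⟩ := hQint (Pi.single j 1) n1
    obtain ⟨r2, hr2⟩ := hQint (Pi.single j 1) n2
    rw [hQ] at hr1 hr2
    simp only at hr1 hr2
    rw [lc_single, ← hf1] at hr1
    rw [lc_single, ← hf2] at hr2
    have eq1 : α * ((a₀ : ℤ) : ℂ) + γ * (b₀ : ℂ) = (r1 : ℂ) := by
      rw [← hr1, hαγ, ip_add_left, ip_smul_left, ip_smul_left, ← h11, ← h21]
      ring
    have eq2 : α * (b₀ : ℂ) + γ * ((c₀ : ℤ) : ℂ) = (r2 : ℂ) := by
      rw [← hr2, hαγ, ip_add_left, ip_smul_left, ip_smul_left, ← h12, ← h22]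
      ring
    have hΔC : (Δ : ℂ) ≠ 0 := by exact_mod_cast hΔpos.ne'
    have hΔR : (Δ : ℝ) ≠ 0 := by exact_mod_cast hΔpos.ne'
    obtain ⟨αr, hαr⟩ : ∃ αr : ℝ, αr = ((r1 * (c₀ : ℤ) - r2 * b₀ : ℤ) : ℝ) / (Δ : ℝ) := ⟨_, rfl⟩
    obtain ⟨γr, hγr⟩ : ∃ γr : ℝ, γr = (((a₀ : ℤ) * r2 - b₀ * r1 : ℤ) : ℝ) / (Δ : ℝ) := ⟨_, rfl⟩
    have hα : α = (αr : ℂ) := by
      rw [hαr]
      push_cast
      rw [eq_div_iff hΔC, hΔ]
      push_cast
      linear_combination ((c₀ : ℤ) : ℂ) * eq1 - (b₀ : ℂ) * eq2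
    have hγ : γ = (γr : ℂ) := by
      rw [hγr]
      push_cast
      rw [eq_div_iff hΔC, hΔ]
      push_cast
      linear_combination ((a₀ : ℤ) : ℂ) * eq2 - (b₀ : ℂ) * eq1
    obtain ⟨m1, hm1⟩ : ∃ m1 : ℤ, m1 = round αr := ⟨_, rfl⟩
    obtain ⟨m2, hm2⟩ : ∃ m2 : ℤ, m2 = round γr := ⟨_, rfl⟩
    obtain ⟨u, hu⟩ : ∃ u : ℝ, u = αr - (m1 : ℝ) := ⟨_, rfl⟩
    obtain ⟨v, hv⟩ : ∃ v : ℝ, v = γr - (m2 : ℝ) := ⟨_, rfl⟩
    have hu' : |u| ≤ 1 / 2 := by rw [hu, hm1]; exact abs_sub_round αr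
    have hv' : |v| ≤ 1 / 2 := by rw [hv, hm2]; exact abs_sub_round γr
    obtain ⟨n', hn'⟩ : ∃ n' : J → ℤ, n' = Pi.single j 1 - (m1 • n1 + m2 • n2) := ⟨_, rfl⟩
    have hlc : lc g n' = (u : ℂ) • f1 + (v : ℂ) • f2 := by
      have hgj : ∀ x, g j x = (αr : ℂ) * f1 x + (γr : ℂ) * f2 x := by
        intro x
        rw [hαγ, hα, hγ]
        rfl
      funext x
      have e1 : lc g n' x = g j x - ((m1 : ℂ) * f1 x + (m2 : ℂ) * f2 x) := by
        have e2 : lc g n' x = lc g (Pi.single j 1) x - ((m1 : ℂ) * lc g n1 x + (m2 : ℂ) * lc g n2 x) := by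
          rw [lc_apply, lc_apply, lc_apply, lc_apply, Finset.mul_sum, Finset.mul_sum,
            ← Finset.sum_add_distrib, ← Finset.sum_sub_distrib]
          apply Finset.sum_congr rfl
          intro j' _
          rw [hn']
          simp only [Pi.sub_apply, Pi.add_apply, Pi.smul_apply, smul_eq_mul]
          push_cast
          ring
        rw [e2, lc_single, ← hf1, ← hf2]
      rw [e1, hgj, Pi.add_apply, Pi.smul_apply, Pi.smul_apply, smul_eq_mul, smul_eq_mul, hu, hv]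
      push_cast
      ring
    obtain ⟨m, hm⟩ := hQnat n'
    have hmval := hval n' u v m hlc hm
    have hbound := quad_bound (a₀ : ℤ) b₀ (c₀ : ℤ) u v hu' hv' ha₀Z hb2 hb1 hacZ
    have hcR : (1 : ℝ) ≤ ((c₀ : ℤ) : ℝ) := by exact_mod_cast ha₀Z.trans hacZ
    have hv0 : v = 0 := by
      by_contra hvne
      have hnpar : ¬ ∃ α : ℂ, lc g n' = α • f1 := by
        rintro ⟨β, hβ⟩
        apply hn2par
        refine ⟨(β - (u : ℂ)) / (v : ℂ), ?_⟩
        have hvC : (v : ℂ) ≠ 0 := by exact_mod_cast hvne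
        have h1 : (v : ℂ) • f2 = (β - (u : ℂ)) • f1 := by
          rw [sub_smul, ← hβ, hlc]
          abel
        calc f2 = (v : ℂ)⁻¹ • ((v : ℂ) • f2) := by
              rw [smul_smul, inv_mul_cancel₀ hvC, one_smul]
          _ = ((β - (u : ℂ)) / (v : ℂ)) • f1 := by
              rw [h1, smul_smul]
              congr 1
              field_simp
      have h2 : c₀ ≤ m := hcmin n' hnpar m hm
      have h3 : ((c₀ : ℤ) : ℝ) ≤ (m : ℝ) := by exact_mod_cast h2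
      linarith
    have hu0 : u = 0 := by
      by_contra hune
      have hne : lc g n' ≠ 0 := by
        rw [hlc, hv0, Complex.ofReal_zero, zero_smul, add_zero]
        have huC : (u : ℂ) ≠ 0 := by exact_mod_cast hune
        exact smul_ne_zero huC hn1ne
      have h2 : a₀ ≤ m := hamin n' hne m hm
      have h3 : ((a₀ : ℤ) : ℝ) ≤ (m : ℝ) := by exact_mod_cast h2
      rw [hv0] at hmval
      have hu2 : u ^ 2 ≤ 1 / 4 := by
        have := abs_le.mp hu'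
        nlinarith
      have haR : (1 : ℝ) ≤ ((a₀ : ℤ) : ℝ) := by exact_mod_cast ha₀Z
      nlinarith
    refine ⟨m1, m2, ?_⟩
    have hz : lc g n' = 0 := by
      rw [hlc, hu0, hv0, Complex.ofReal_zero, zero_smul, zero_smul, add_zero]
    have hαm : αr = (m1 : ℝ) := by rw [hu] at hu0; linarith
    have hγm : γr = (m2 : ℝ) := by rw [hv] at hv0; linarith
    rw [hαγ, hα, hγ, hαm, hγm]
    push_cast
    rfl
  choose m1 m2 hm12 using hcoef
  refine ⟨n1, n2, (a₀ : ℤ), b₀, (c₀ : ℤ), m1, m2, ?_, ?_, ?_, ha₀Z, hb2, hb1, hacZ, ?_⟩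
  · rw [← hf1]; exact h11
  · rw [← hf1, ← hf2]; exact h12
  · rw [← hf2]; exact h22
  · intro j
    rw [← hf1, ← hf2]
    exact hm12 j

/-- a reduced basis of a rank two lattice with an integral form -/
theorem exists_reduced_pair (g : J → X → ℂ) (κ : ℝ) (hκ : 0 < κ)
    (hint : ∀ j j', ∃ m : ℤ, (κ : ℂ) * ip (g j) (g j') = m)
    (hrank : finrank ℂ (Submodule.span ℂ (Set.range g)) = 2) :
    ∃ (n1 n2 : J → ℤ) (a b c : ℤ) (m1 m2 : J → ℤ),
      (κ : ℂ) * ip (lc g n1) (lc g n1) = a ∧ (κ : ℂ) * ip (lc g n1) (lc g n2) = b ∧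
      (κ : ℂ) * ip (lc g n2) (lc g n2) = c ∧
      1 ≤ a ∧ b ≤ 0 ∧ -(2 * b) ≤ a ∧ a ≤ c ∧
      ∀ j, g j = (m1 j : ℂ) • lc g n1 + (m2 j : ℂ) • lc g n2 := by
  obtain ⟨n1, n2, a, b, c, m1, m2, h11, h12, h22, ha, hb2, hb1, hac, hsp⟩ :=
    exists_reduced_pair_aux g κ hκ hint hrank
  by_cases hb : b ≤ 0
  · exact ⟨n1, n2, a, b, c, m1, m2, h11, h12, h22, ha, hb, hb1, hac, hsp⟩
  · refine ⟨n1, -n2, a, -b, c, m1, fun j => -m2 j, h11, ?_, ?_, ha, by linarith, by linarith,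
      hac, ?_⟩
    · rw [lc_neg]
      have : ip (lc g n1) (-lc g n2) = -ip (lc g n1) (lc g n2) := by
        have := ip_smul_right (-1 : ℂ) (lc g n1) (lc g n2)
        rw [neg_one_smul, map_neg, map_one, neg_one_mul] at this
        exact this
      rw [this, mul_neg, h12]
      push_cast
      rfl
    · rw [lc_neg]
      have e1 : ip (-lc g n2) (-lc g n2) = ip (lc g n2) (lc g n2) := by
        have h1 := ip_smul_right (-1 : ℂ) (-lc g n2) (lc g n2)
        have h2 := ip_smul_left (-1 : ℂ) (lc g n2) (lc g n2)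
        rw [neg_one_smul, map_neg, map_one, neg_one_mul] at h1
        rw [neg_one_smul, neg_one_mul] at h2
        rw [h1, h2, neg_neg]
      rw [e1, h22]
    · intro j
      rw [hsp j, lc_neg]
      push_cast
      rw [smul_neg, neg_smul, neg_neg]

end lattice

end Cfsg.Agent.Lib.Helper6.Q2
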