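import Mathlib
import Cfsg.Prelude.Def_Blocks
import Cfsg.Prelude.Def_BlockRank
import Cfsg.Agent.Lib.Helper6.Q2Lat
import Cfsg.Agent.Lib.Helper6.BlkRankOne
import Cfsg.Agent.Lib.Helper6.SubContribExp

set_option autoImplicit false
set_option linter.unusedSectionVars false
set_option maxHeartbeats 1600000
open Cfsg

/-!
A reduced basic pair for a block of `p`-regular rank two.
-/

namespace Cfsg.Agent.Lib.Helper6.Q2

open Cfsg.Agent.Lib.Helper6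
open scoped ComplexConjugate

section block

variable {K : Type*} [Group K] [Fintype K] [DecidableEq K]
variable {p : ℕ} {M : Ideal Cfsg.AlgInt}

/-- the inner product on the `p`-regular elements -/
noncomputable def rin (p : ℕ) (f h : K → ℂ) : ℂ :=
  (Nat.card K : ℂ)⁻¹ * ∑ s ∈ Finset.univ.filter (fun s : K => ¬ p ∣ orderOf s), f s * conj (h s)

theorem pRegularPart_apply_of_reg (f : K → ℂ) (s : K) (hs : ¬ p ∣ orderOf s) :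
    Cfsg.pRegularPart p f s = f s := by
  unfold Cfsg.pRegularPart
  rw [if_pos]
  exact hs

theorem pRegularPart_apply_of_not_reg (f : K → ℂ) (s : K) (hs : p ∣ orderOf s) :
    Cfsg.pRegularPart p f s = 0 := by
  unfold Cfsg.pRegularPart
  rw [if_neg]
  intro h
  exact h hs

/-- the plain product of `p`-regular parts is the regular product -/
theorem ip_pRegularPart (f h : K → ℂ) :
    ip (Cfsg.pRegularPart p f) (Cfsg.pRegularPart p h)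
      = ∑ s ∈ Finset.univ.filter (fun s : K => ¬ p ∣ orderOf s), f s * conj (h s) := by
  unfold ip
  rw [Finset.sum_filter]
  apply Finset.sum_congr rfl
  intro s _
  by_cases hs : p ∣ orderOf s
  · rw [if_neg (not_not.mpr hs), pRegularPart_apply_of_not_reg f s hs, zero_mul]
  · rw [if_pos hs, pRegularPart_apply_of_reg f s hs, pRegularPart_apply_of_reg h s hs]

theorem exists_basic_pair (hM : Cfsg.IsPModular p M) [Fact p.Prime] (ξ₀ : Cfsg.IrrCharacter K)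
    [Fintype (Cfsg.IrrCharacter K)] [DecidablePred (· ∈ Cfsg.blockOf M (ξ₀ : K → ℂ))]
    (hrank : Cfsg.blockRank p (Cfsg.blockOf M (ξ₀ : K → ℂ)) = 2) :
    ∃ (n1 n2 m1 m2 : Cfsg.IrrCharacter K → ℤ) (a b c : ℤ) (φ₁ φ₂ : K → ℂ),
      φ₁ = ∑ ξ ∈ Finset.univ.filter (· ∈ Cfsg.blockOf M (ξ₀ : K → ℂ)),
        (n1 ξ : ℂ) • (ξ : K → ℂ) ∧
      φ₂ = ∑ ξ ∈ Finset.univ.filter (· ∈ Cfsg.blockOf M (ξ₀ : K → ℂ)),
        (n2 ξ : ℂ) • (ξ : K → ℂ) ∧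
      (∀ ξ ∈ Cfsg.blockOf M (ξ₀ : K → ℂ), ∀ s : K, ¬ p ∣ orderOf s →
        (ξ : K → ℂ) s = (m1 ξ : ℂ) * φ₁ s + (m2 ξ : ℂ) * φ₂ s) ∧
      (p : ℂ) ^ Cfsg.blockDefect p (Cfsg.blockOf M (ξ₀ : K → ℂ)) * rin p φ₁ φ₁ = a ∧
      (p : ℂ) ^ Cfsg.blockDefect p (Cfsg.blockOf M (ξ₀ : K → ℂ)) * rin p φ₁ φ₂ = b ∧
      (p : ℂ) ^ Cfsg.blockDefect p (Cfsg.blockOf M (ξ₀ : K → ℂ)) * rin p φ₂ φ₁ = b ∧
      (p : ℂ) ^ Cfsg.blockDefect p (Cfsg.blockOf M (ξ₀ : K → ℂ)) * rin p φ₂ φ₂ = c ∧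
      1 ≤ a ∧ b ≤ 0 ∧ -(2 * b) ≤ a ∧ a ≤ c ∧ (p : ℤ) ∣ a * c - b ^ 2 := by
  classical
  have hp : p.Prime := hM.1
  obtain ⟨d, hd⟩ : ∃ d : ℕ, d = Cfsg.blockDefect p (Cfsg.blockOf M (ξ₀ : K → ℂ)) := ⟨_, rfl⟩
  rw [← hd]
  have hcardC : (Nat.card K : ℂ) ≠ 0 := card_ne_zero_complex K
  have hcardR : (0 : ℝ) < (Nat.card K : ℝ) := by exact_mod_cast Nat.card_pos
  -- the family
  obtain ⟨g, hg⟩ : ∃ g : {ξ : Cfsg.IrrCharacter K // ξ ∈ (Cfsg.blockOf M (ξ₀ : K → ℂ))} → K → ℂ,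
      g = fun ξ => Cfsg.pRegularPart p (ξ.1 : K → ℂ) := ⟨_, rfl⟩
  obtain ⟨κ, hκdef⟩ : ∃ κ : ℝ, κ = (p : ℝ) ^ d / (Nat.card K : ℝ) := ⟨_, rfl⟩
  have hκ : 0 < κ := by
    rw [hκdef]
    have : (0 : ℝ) < (p : ℝ) ^ d := pow_pos (by exact_mod_cast hp.pos) d
    positivity
  have hκC : (κ : ℂ) = (p : ℂ) ^ d * (Nat.card K : ℂ)⁻¹ := by
    rw [hκdef]
    push_cast
    rw [div_eq_mul_inv]
  have hint : ∀ ξ ξ' : {ξ : Cfsg.IrrCharacter K // ξ ∈ (Cfsg.blockOf M (ξ₀ : K → ℂ))},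
      (κ : ℂ) * ip (g ξ) (g ξ') = (mH p (Cfsg.blockOf M (ξ₀ : K → ℂ)) ξ.1 ξ'.1 : ℂ) := by
    intro ξ ξ'
    rw [hg]
    simp only
    rw [ip_pRegularPart, hκC, mul_assoc, hd]
    exact pow_defect_mul_regInner hM ξ₀ ξ.1 ξ'.1 ξ'.2
  have hrank' : Module.finrank ℂ (Submodule.span ℂ (Set.range g)) = 2 := by
    rw [← hrank]
    unfold Cfsg.blockRank
    rw [Set.image_eq_range, hg]
  obtain ⟨n1, n2, a, b, c, m1, m2, h11, h12, h22, ha, hb0, hba, hac, hsp⟩ :=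
    exists_reduced_pair g κ hκ (fun ξ ξ' => ⟨_, hint ξ ξ'⟩) hrank'
  -- extension by zero
  obtain ⟨E, hE⟩ : ∃ E : ({ξ : Cfsg.IrrCharacter K // ξ ∈ (Cfsg.blockOf M (ξ₀ : K → ℂ))} → ℤ) → Cfsg.IrrCharacter K → ℤ,
      E = fun n ξ => if h : ξ ∈ (Cfsg.blockOf M (ξ₀ : K → ℂ)) then n ⟨ξ, h⟩ else 0 := ⟨_, rfl⟩
  have hEmem : ∀ (n : {ξ : Cfsg.IrrCharacter K // ξ ∈ (Cfsg.blockOf M (ξ₀ : K → ℂ))} → ℤ)
      (ξ : {ξ : Cfsg.IrrCharacter K // ξ ∈ (Cfsg.blockOf M (ξ₀ : K → ℂ))}), E n ξ.1 = n ξ := by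
    intro n ξ
    rw [hE]
    simp only
    rw [dif_pos ξ.2]
  obtain ⟨Φ, hΦ⟩ : ∃ Φ : ({ξ : Cfsg.IrrCharacter K // ξ ∈ (Cfsg.blockOf M (ξ₀ : K → ℂ))} → ℤ) → K → ℂ,
      Φ = fun n => ∑ ξ ∈ Finset.univ.filter (· ∈ (Cfsg.blockOf M (ξ₀ : K → ℂ))), (E n ξ : ℂ) • (ξ : K → ℂ) := ⟨_, rfl⟩
  have hΦapply : ∀ n s, Φ n s = ∑ ξ : {ξ : Cfsg.IrrCharacter K // ξ ∈ (Cfsg.blockOf M (ξ₀ : K → ℂ))},
      (n ξ : ℂ) * (ξ.1 : K → ℂ) s := by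
    intro n s
    rw [hΦ]
    simp only
    rw [Finset.sum_apply]
    rw [Finset.sum_subtype (Finset.univ.filter (· ∈ (Cfsg.blockOf M (ξ₀ : K → ℂ))))
      (p := fun ξ : Cfsg.IrrCharacter K => ξ ∈ (Cfsg.blockOf M (ξ₀ : K → ℂ))) (by intro x; simp)]
    apply Finset.sum_congr rfl
    intro ξ _
    rw [Pi.smul_apply, smul_eq_mul, hEmem]
  have hΦreg : ∀ n s, ¬ p ∣ orderOf s → lc g n s = Φ n s := by
    intro n s hs
    rw [lc_apply, hΦapply]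
    apply Finset.sum_congr rfl
    intro ξ _
    rw [hg]
    simp only
    rw [pRegularPart_apply_of_reg _ s hs]
  have hΦpreg : ∀ n, lc g n = Cfsg.pRegularPart p (Φ n) := by
    intro n
    funext s
    by_cases hs : p ∣ orderOf s
    · rw [pRegularPart_apply_of_not_reg _ s hs, lc_apply]
      apply Finset.sum_eq_zero
      intro ξ _
      rw [hg]
      simp only
      rw [pRegularPart_apply_of_not_reg _ s hs, mul_zero]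
    · rw [pRegularPart_apply_of_reg _ s hs]
      exact hΦreg n s hs
  have hrinΦ : ∀ n n', (p : ℂ) ^ d * rin p (Φ n) (Φ n') = (κ : ℂ) * ip (lc g n) (lc g n') := by
    intro n n'
    rw [hΦpreg n, hΦpreg n', ip_pRegularPart, hκC, mul_assoc]
    rfl
  have h21 : (κ : ℂ) * ip (lc g n2) (lc g n1) = (b : ℂ) := by
    have h1 : conj ((κ : ℂ) * ip (lc g n1) (lc g n2)) = (κ : ℂ) * ip (lc g n2) (lc g n1) := by
      rw [map_mul, Complex.conj_ofReal, ip_conj]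
    rw [← h1, h12, map_intCast]
  -- the divisibility of the determinant
  have hdet : (p : ℤ) ∣ a * c - b ^ 2 := by
    obtain ⟨ξ₁, hξ₁, h0⟩ := exists_height_zero (p := p) (Cfsg.blockOf M (ξ₀ : K → ℂ)) ξ₀
      (sameBlock_refl hM _)
    obtain ⟨κ₀, hκ₀⟩ : ∃ κ₀ : ℂ, κ₀ = kappa p (Cfsg.blockOf M (ξ₀ : K → ℂ)) ξ₁ := ⟨_, rfl⟩
    have hκ₀R : Cfsg.MemLocalRing M κ₀ := by rw [hκ₀]; exact (kappa_unit hM ξ₀ ξ₁ hξ₁ h0).1
    obtain ⟨nd, hnd⟩ : ∃ nd : {ξ : Cfsg.IrrCharacter K // ξ ∈ (Cfsg.blockOf M (ξ₀ : K → ℂ))} → ℤ,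
        nd = fun ξ => (normDeg p (Cfsg.blockOf M (ξ₀ : K → ℂ)) ξ.1 : ℤ) := ⟨_, rfl⟩
    have hr1 : ∀ ξ ξ' : {ξ : Cfsg.IrrCharacter K // ξ ∈ (Cfsg.blockOf M (ξ₀ : K → ℂ))},
        Cfsg.MemLocalIdeal M ((mH p (Cfsg.blockOf M (ξ₀ : K → ℂ)) ξ.1 ξ'.1 : ℂ) - κ₀ * ((nd ξ : ℂ) * (nd ξ' : ℂ))) := by
      intro ξ ξ'
      have := mH_rank_one hM ξ₀ ξ₁ ξ.1 ξ'.1 hξ₁ ξ.2 ξ'.2 h0
      rw [hnd, hκ₀]
      simp only
      push_cast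
      exact this
    have hform : ∀ n n' : {ξ : Cfsg.IrrCharacter K // ξ ∈ (Cfsg.blockOf M (ξ₀ : K → ℂ))} → ℤ,
        Cfsg.MemLocalIdeal M ((κ : ℂ) * ip (lc g n) (lc g n')
          - κ₀ * (((∑ ξ, n ξ * nd ξ : ℤ) : ℂ) * ((∑ ξ, n' ξ * nd ξ : ℤ) : ℂ))) := by
      intro n n'
      have e1 : (κ : ℂ) * ip (lc g n) (lc g n')
          = ∑ ξ, ∑ ξ', (n ξ : ℂ) * (n' ξ' : ℂ) * (mH p (Cfsg.blockOf M (ξ₀ : K → ℂ)) ξ.1 ξ'.1 : ℂ) := by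
        rw [ip_lc_lc, Finset.mul_sum]
        apply Finset.sum_congr rfl
        intro ξ _
        rw [Finset.mul_sum]
        apply Finset.sum_congr rfl
        intro ξ' _
        rw [← hint ξ ξ']
        ring
      have e2 : κ₀ * (((∑ ξ, n ξ * nd ξ : ℤ) : ℂ) * ((∑ ξ, n' ξ * nd ξ : ℤ) : ℂ))
          = ∑ ξ, ∑ ξ', (n ξ : ℂ) * (n' ξ' : ℂ) * (κ₀ * ((nd ξ : ℂ) * (nd ξ' : ℂ))) := by
        push_cast
        rw [Finset.sum_mul_sum, Finset.mul_sum]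
        apply Finset.sum_congr rfl
        intro ξ _
        rw [Finset.mul_sum]
        apply Finset.sum_congr rfl
        intro ξ' _
        ring
      rw [e1, e2, ← Finset.sum_sub_distrib]
      apply MemLocalIdeal.sum hM
      intro ξ _
      rw [← Finset.sum_sub_distrib]
      apply MemLocalIdeal.sum hM
      intro ξ' _
      rw [← mul_sub]
      exact MemLocalIdeal.mul_left hM
        (MemLocalRing.mul hM (memLocalRing_intCast hM _) (memLocalRing_intCast hM _)) (hr1 ξ ξ')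
    obtain ⟨s1, hs1⟩ : ∃ s1 : ℤ, s1 = ∑ ξ, n1 ξ * nd ξ := ⟨_, rfl⟩
    obtain ⟨s2, hs2⟩ : ∃ s2 : ℤ, s2 = ∑ ξ, n2 ξ * nd ξ := ⟨_, rfl⟩
    have ha' := hform n1 n1
    have hb' := hform n1 n2
    have hc' := hform n2 n2
    rw [h11, ← hs1] at ha'
    rw [h12, ← hs1, ← hs2] at hb'
    rw [h22, ← hs2] at hc'
    have hRi : ∀ z : ℤ, Cfsg.MemLocalRing M (z : ℂ) := fun z => memLocalRing_intCast hM z
    have hy' : Cfsg.MemLocalRing M (κ₀ * ((s2 : ℂ) * (s2 : ℂ))) :=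
      MemLocalRing.mul hM hκ₀R (MemLocalRing.mul hM (hRi _) (hRi _))
    have hw : Cfsg.MemLocalRing M (κ₀ * ((s1 : ℂ) * (s2 : ℂ))) :=
      MemLocalRing.mul hM hκ₀R (MemLocalRing.mul hM (hRi _) (hRi _))
    have hP1 := MemLocalIdeal.mul_sub_mul hM (hRi a) hy' ha' hc'
    have hP2 := MemLocalIdeal.mul_sub_mul hM (hRi b) hw hb' hb'
    have hP := MemLocalIdeal.sub hM hP1 hP2
    have e : ((a : ℂ) * (c : ℂ) - κ₀ * ((s1 : ℂ) * (s1 : ℂ)) * (κ₀ * ((s2 : ℂ) * (s2 : ℂ))))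
        - ((b : ℂ) * (b : ℂ) - κ₀ * ((s1 : ℂ) * (s2 : ℂ)) * (κ₀ * ((s1 : ℂ) * (s2 : ℂ))))
        = ((a * c - b ^ 2 : ℤ) : ℂ) := by
      push_cast
      ring
    rw [e] at hP
    exact (memLocalIdeal_intCast_iff hM _).mp hP
  refine ⟨E n1, E n2, E m1, E m2, a, b, c, Φ n1, Φ n2, ?_, ?_, ?_, ?_, ?_, ?_, ?_, ha, hb0, hba,
    hac, hdet⟩
  · rw [hΦ]
  · rw [hΦ]
  · intro ξ hξ s hs
    have h1 := congrFun (hsp ⟨ξ, hξ⟩) s
    rw [hg] at h1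
    simp only at h1
    rw [pRegularPart_apply_of_reg _ s hs] at h1
    rw [h1, Pi.add_apply, Pi.smul_apply, Pi.smul_apply, smul_eq_mul, smul_eq_mul,
      ← hg, hΦreg n1 s hs, hΦreg n2 s hs]
    have e1 := hEmem m1 ⟨ξ, hξ⟩
    have e2 := hEmem m2 ⟨ξ, hξ⟩
    simp only at e1 e2
    rw [e1, e2]
  · rw [hrinΦ, h11]
  · rw [hrinΦ, h12]
  · rw [hrinΦ, h21]
  · rw [hrinΦ, h22]

end block

end Cfsg.Agent.Lib.Helper6.Q2
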