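import Mathlib
import Cfsg.Prelude.Def_Blocks
import Cfsg.Agent.Lib.Helper6.CycloIneq
import Cfsg.Agent.Lib.Helper6.SubContribLower

set_option autoImplicit false
set_option linter.unusedSectionVars false
open Cfsg

/-!
Cyclotomic helpers for the quadratic form method (major subsections of rank two).
-/

namespace Cfsg.Agent.Lib.Helper6.Q2

open Cfsg.Agent.Lib.Helper6
open scoped ComplexConjugate
open Polynomial

theorem isIntegral_aeval_root (N : ℕ) (hN : 0 < N) (P : ℤ[X]) (η : ℂ) (hη : η ^ N = 1) :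
    IsIntegral ℤ (aeval η P) := by
  have hηint : IsIntegral ℤ η := IsIntegral.of_pow hN (by rw [hη]; exact isIntegral_one)
  rw [aeval_eq_sum_range]
  apply IsIntegral.sum
  intro i _
  exact (IsIntegral.pow hηint i).smul _

theorem conj_aeval_int (P : ℤ[X]) (η : ℂ) : conj (aeval η P) = aeval (conj η) P := by
  rw [aeval_eq_sum_range, aeval_eq_sum_range, map_sum]
  apply Finset.sum_congr rfl
  intro i _
  rw [zsmul_eq_mul, zsmul_eq_mul, map_mul, map_pow, map_intCast]

theorem conj_mem_primitiveRoots {N : ℕ} (hN : 0 < N) {η : ℂ} (hη : η ∈ primitiveRoots N ℂ) :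
    conj η ∈ primitiveRoots N ℂ := by
  rw [mem_primitiveRoots hN] at hη ⊢
  have hnorm : ‖η‖ = 1 := Complex.norm_eq_one_of_pow_eq_one hη.pow_eq_one hN.ne'
  rw [← Complex.inv_eq_conj hnorm]
  exact hη.inv

theorem pow_eq_one_of_mem_primitiveRoots {N : ℕ} (hN : 0 < N) {η : ℂ}
    (hη : η ∈ primitiveRoots N ℂ) : η ^ N = 1 :=
  ((mem_primitiveRoots hN).mp hη).pow_eq_one

/-- an integer polynomial vanishing at one primitive root of unity vanishes at all of them -/
theorem aeval_eq_zero_of_primitive (N : ℕ) (hN : 0 < N) (P : ℤ[X]) {η η' : ℂ}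
    (hη : η ∈ primitiveRoots N ℂ) (hη' : η' ∈ primitiveRoots N ℂ)
    (h : aeval η P = 0) : aeval η' P = 0 := by
  rw [mem_primitiveRoots hN] at hη hη'
  have hint : IsIntegral ℤ η := hη.isIntegral hN
  have hdvd : minpoly ℤ η ∣ P := minpoly.isIntegrallyClosed_dvd hint h
  rw [← cyclotomic_eq_minpoly hη hN] at hdvd
  obtain ⟨Q, rfl⟩ := hdvd
  rw [map_mul]
  have h0 : aeval η' (cyclotomic N ℤ) = 0 := by
    rw [aeval_def, eval₂_eq_eval_map, map_cyclotomic]
    haveI : NeZero (N : ℂ) := ⟨by exact_mod_cast hN.ne'⟩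
    exact isRoot_cyclotomic_iff.mpr hη'
  rw [h0, zero_mul]

theorem aeval_ne_zero_of_primitive (N : ℕ) (hN : 0 < N) (P : ℤ[X]) {η η' : ℂ}
    (hη : η ∈ primitiveRoots N ℂ) (hη' : η' ∈ primitiveRoots N ℂ)
    (h : aeval η P ≠ 0) : aeval η' P ≠ 0 :=
  fun h' => h (aeval_eq_zero_of_primitive N hN P hη' hη h')

/-- dichotomy: everywhere nonzero or everywhere zero on the primitive roots -/
theorem aeval_dichotomy (N : ℕ) (hN : 0 < N) (P : ℤ[X]) :
    (∀ η ∈ primitiveRoots N ℂ, aeval η P ≠ 0) ∨ (∀ η ∈ primitiveRoots N ℂ, aeval η P = 0) := by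
  by_cases h : ∀ η ∈ primitiveRoots N ℂ, aeval η P ≠ 0
  · exact Or.inl h
  · right
    push Not at h
    obtain ⟨η₀, hη₀, h0⟩ := h
    intro η hη
    exact aeval_eq_zero_of_primitive N hN P hη₀ hη h0

variable {p : ℕ} {M : Ideal Cfsg.AlgInt}

/-- lower bound for the square sum of the values with divisibility in the local ring -/
theorem totient_mul_sq_le_sum_normSq (hM : Cfsg.IsPModular p M) (N : ℕ) (hN : 0 < N)
    (A : ℤ[X]) (h : ℕ)
    (hne : ∀ η ∈ primitiveRoots N ℂ, aeval η A ≠ 0)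
    (hloc : ∀ η ∈ primitiveRoots N ℂ, Cfsg.MemLocalRing M (aeval η A / (p : ℂ) ^ h)) :
    (Nat.totient N : ℝ) * (p : ℝ) ^ (2 * h)
      ≤ ∑ η ∈ primitiveRoots N ℂ, Complex.normSq (aeval η A) := by
  apply totient_mul_pow_le_sum_of_pos hM N hN (A * expand ℤ (N - 1) A) (2 * h)
    (fun η => Complex.normSq (aeval η A))
  · intro η hη
    have hη1 : η ^ N = 1 := pow_eq_one_of_mem_primitiveRoots hN hη
    refine ⟨?_, Complex.normSq_pos.mpr (hne η hη)⟩
    rw [map_mul, expand_aeval, ← conj_eq_pow_of_pow_eq_one hN hη1, ← conj_aeval_int,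
      Complex.mul_conj]
  · intro η hη
    have hη1 : η ^ N = 1 := pow_eq_one_of_mem_primitiveRoots hN hη
    have h1 := hloc η hη
    have h2 := hloc (conj η) (conj_mem_primitiveRoots hN hη)
    have h3 := MemLocalRing.mul hM h1 h2
    have e : aeval η (A * expand ℤ (N - 1) A) / (p : ℂ) ^ (2 * h)
        = aeval η A / (p : ℂ) ^ h * (aeval (conj η) A / (p : ℂ) ^ h) := by
      rw [map_mul, expand_aeval, ← conj_eq_pow_of_pow_eq_one hN hη1, two_mul, pow_add,
        div_mul_div_comm]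
    rw [e]
    exact h3

end Cfsg.Agent.Lib.Helper6.Q2
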