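import Mathlib
import Cfsg.Prelude.Def_Blocks
import Cfsg.Agent.Lib.Helper6.Q2Cyc
import Cfsg.Agent.Lib.Helper6.BlkLocal

set_option autoImplicit false
set_option linter.unusedSectionVars false
set_option maxHeartbeats 1600000
open Cfsg

/-!
The counting core of the quadratic form method for a reduced binary Cartan form.
-/

namespace Cfsg.Agent.Lib.Helper6.Q2

open Cfsg.Agent.Lib.Helper6
open scoped ComplexConjugate
open Polynomial

/-- the bilinear expression of the contributions in the coordinates -/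
noncomputable def mm (a b c : ℤ) (P1 P2 Q1 Q2 : ℤ[X]) (η : ℂ) : ℂ :=
  (a : ℂ) * (aeval η P1 * conj (aeval η Q1))
    + (b : ℂ) * (aeval η P1 * conj (aeval η Q2) + aeval η P2 * conj (aeval η Q1))
    + (c : ℂ) * (aeval η P2 * conj (aeval η Q2))

theorem real_of_complex_sum {ι : Type*} [Fintype ι] (f : ι → ℂ) (Δ : ℤ) (r : ℝ)
    (h : (Δ : ℂ) * ∑ χ, f χ * conj (f χ) = (r : ℂ)) :
    (Δ : ℝ) * ∑ χ, Complex.normSq (f χ) = r := by
  simp_rw [Complex.mul_conj] at h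
  exact_mod_cast h

theorem sum_sum_normSq_eq (N : ℕ) {ι : Type*} [Fintype ι] (P : ι → ℤ[X]) (Δ r : ℝ)
    (h : ∀ η ∈ primitiveRoots N ℂ, Δ * ∑ χ, Complex.normSq (aeval η (P χ)) = r) :
    Δ * ∑ χ, ∑ η ∈ primitiveRoots N ℂ, Complex.normSq (aeval η (P χ))
      = (Nat.totient N : ℝ) * r := by
  rw [Finset.sum_comm, Finset.mul_sum, Finset.sum_congr rfl h, Finset.sum_const,
    Complex.card_primitiveRoots, nsmul_eq_mul]

theorem reduced_arith (a b c : ℤ) (ha : 2 ≤ a) (hb0 : b ≤ 0) (hba : -(2 * b) ≤ a)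
    (hac : a ≤ c) : a + c + b ≤ a * c - b ^ 2 := by
  obtain ⟨t, ht⟩ : ∃ t : ℤ, t = -b := ⟨_, rfl⟩
  have hb : b = -t := by rw [ht]; ring
  subst hb
  have ht0 : 0 ≤ t := by linarith
  have h2t : 2 * t ≤ a := by linarith
  have h1 : (a - 1) * (a - 1) ≤ (a - 1) * (c - 1) := by
    apply mul_le_mul_of_nonneg_left <;> linarith
  have h2 : t * (t - 1) ≤ a * (a - 2) := by
    rcases eq_or_lt_of_le ht0 with h | h
    · rw [← h]; nlinarith
    · have ht1 : 1 ≤ t := h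
      nlinarith [mul_nonneg (by linarith : (0:ℤ) ≤ a - 2 * t) (by linarith : (0:ℤ) ≤ a),
        mul_nonneg (by linarith : (0:ℤ) ≤ t - 1) (by linarith : (0:ℤ) ≤ t)]
  nlinarith

variable {p : ℕ} {M : Ideal Cfsg.AlgInt}

theorem core_bound (hM : Cfsg.IsPModular p M) {ι : Type*} [Fintype ι] [DecidableEq ι]
    (S : Finset ι) (N : ℕ) (hN : 0 < N) (A1 A2 : ι → ℤ[X]) (a b c : ℤ) (d : ℕ) (ht : ι → ℕ)
    (ha : 1 ≤ a) (hb0 : b ≤ 0) (hba : -(2 * b) ≤ a) (hac : a ≤ c)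
    (hpD : (p : ℤ) ∣ a * c - b ^ 2)
    (H11 : ∀ η ∈ primitiveRoots N ℂ, ((a * c - b ^ 2 : ℤ) : ℂ)
        * ∑ χ, aeval η (A1 χ) * conj (aeval η (A1 χ)) = (p : ℂ) ^ d * (c : ℂ))
    (H12 : ∀ η ∈ primitiveRoots N ℂ, ((a * c - b ^ 2 : ℤ) : ℂ)
        * ∑ χ, aeval η (A1 χ) * conj (aeval η (A2 χ)) = -((p : ℂ) ^ d * (b : ℂ)))
    (H22 : ∀ η ∈ primitiveRoots N ℂ, ((a * c - b ^ 2 : ℤ) : ℂ)
        * ∑ χ, aeval η (A2 χ) * conj (aeval η (A2 χ)) = (p : ℂ) ^ d * (a : ℂ))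
    (Hne : ∀ χ ∈ S, ∀ η ∈ primitiveRoots N ℂ, aeval η (A1 χ) ≠ 0 ∨ aeval η (A2 χ) ≠ 0)
    (Hex : ∃ χ ∈ S, ht χ = 0)
    (Ha : ∀ χ ∈ S, ht χ = 0 → ∀ η ∈ primitiveRoots N ℂ,
      ¬ Cfsg.MemLocalIdeal M (mm a b c (A1 χ) (A2 χ) (A1 χ) (A2 χ) η))
    (Hb : ∀ ψ ∈ S, 1 ≤ ht ψ → ∀ χ ∈ S, ∀ η ∈ primitiveRoots N ℂ,
      Cfsg.MemLocalRing M (mm a b c (A1 ψ) (A2 ψ) (A1 χ) (A2 χ) η / (p : ℂ)))
    (Hc : ∀ χ ∈ S, ht χ = 0 → ∀ ψ ∈ S, ∀ η ∈ primitiveRoots N ℂ,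
      mm a b c (A1 ψ) (A2 ψ) (A1 χ) (A2 χ) η ≠ 0) :
    S.card ≤ p ^ d := by
  classical
  have hp : p.Prime := hM.1
  have hp2 : (2 : ℝ) ≤ (p : ℝ) := by exact_mod_cast hp.two_le
  have hΦpos : (0 : ℝ) < (Nat.totient N : ℝ) := by exact_mod_cast Nat.totient_pos.mpr hN
  obtain ⟨Φ, hΦ⟩ : ∃ Φ : ℝ, Φ = (Nat.totient N : ℝ) := ⟨_, rfl⟩
  rw [← hΦ] at hΦpos
  have hcardR : (primitiveRoots N ℂ).card = Nat.totient N := Complex.card_primitiveRoots N
  obtain ⟨η₀, hη₀⟩ : ∃ η₀, η₀ ∈ primitiveRoots N ℂ := by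
    have : 0 < (primitiveRoots N ℂ).card := by rw [hcardR]; exact Nat.totient_pos.mpr hN
    exact Finset.card_pos.mp this
  -- the difference polynomials
  obtain ⟨A3, hA3⟩ : ∃ A3 : ι → ℤ[X], A3 = fun χ => A1 χ - A2 χ := ⟨_, rfl⟩
  have hA3v : ∀ (χ : ι) (η : ℂ), aeval η (A3 χ) = aeval η (A1 χ) - aeval η (A2 χ) := by
    intro χ η
    rw [hA3, map_sub]
  -- the three sums
  obtain ⟨S1, hS1⟩ : ∃ S1 : ι → ℝ, S1 = fun χ =>
      ∑ η ∈ primitiveRoots N ℂ, Complex.normSq (aeval η (A1 χ)) := ⟨_, rfl⟩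
  obtain ⟨S2, hS2⟩ : ∃ S2 : ι → ℝ, S2 = fun χ =>
      ∑ η ∈ primitiveRoots N ℂ, Complex.normSq (aeval η (A2 χ)) := ⟨_, rfl⟩
  obtain ⟨S3, hS3⟩ : ∃ S3 : ι → ℝ, S3 = fun χ =>
      ∑ η ∈ primitiveRoots N ℂ, Complex.normSq (aeval η (A3 χ)) := ⟨_, rfl⟩
  have hS1nn : ∀ χ, 0 ≤ S1 χ := by
    intro χ; rw [hS1]; exact Finset.sum_nonneg (fun η _ => Complex.normSq_nonneg _)
  have hS2nn : ∀ χ, 0 ≤ S2 χ := by
    intro χ; rw [hS2]; exact Finset.sum_nonneg (fun η _ => Complex.normSq_nonneg _)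
  have hS3nn : ∀ χ, 0 ≤ S3 χ := by
    intro χ; rw [hS3]; exact Finset.sum_nonneg (fun η _ => Complex.normSq_nonneg _)
  -- the determinant
  obtain ⟨Δ, hΔ⟩ : ∃ Δ : ℤ, Δ = a * c - b ^ 2 := ⟨_, rfl⟩
  have hΔpos : 0 < Δ := by
    rw [hΔ]
    nlinarith [mul_nonneg (by linarith : (0:ℤ) ≤ a) (by linarith : (0:ℤ) ≤ c - a),
      mul_nonneg (by linarith : (0:ℤ) ≤ a + 2 * b) (by linarith : (0:ℤ) ≤ a - 2 * b)]
  have hΔR : (0 : ℝ) < (Δ : ℝ) := by exact_mod_cast hΔpos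
  rw [← hΔ] at H11 H12 H22 hpD
  -- the real identities
  have hT1 : (Δ : ℝ) * ∑ χ, S1 χ = Φ * ((p : ℝ) ^ d * (c : ℝ)) := by
    rw [hS1, hΦ]
    apply sum_sum_normSq_eq
    intro η hη
    apply real_of_complex_sum
    rw [H11 η hη]
    push_cast
    ring
  have hT2 : (Δ : ℝ) * ∑ χ, S2 χ = Φ * ((p : ℝ) ^ d * (a : ℝ)) := by
    rw [hS2, hΦ]
    apply sum_sum_normSq_eq
    intro η hη
    apply real_of_complex_sum
    rw [H22 η hη]
    push_cast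
    ring
  have hT3 : (Δ : ℝ) * ∑ χ, S3 χ = Φ * ((p : ℝ) ^ d * ((a : ℝ) + (c : ℝ) + 2 * (b : ℝ))) := by
    rw [hS3, hΦ]
    apply sum_sum_normSq_eq
    intro η hη
    apply real_of_complex_sum
    have H21 : (Δ : ℂ) * ∑ χ, aeval η (A2 χ) * conj (aeval η (A1 χ))
        = -((p : ℂ) ^ d * (b : ℂ)) := by
      have h1 := congrArg conj (H12 η hη)
      rw [map_mul, map_sum, map_neg, map_mul, map_pow, map_intCast, map_intCast,
        Complex.conj_natCast] at h1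
      rw [← h1]
      congr 1
      apply Finset.sum_congr rfl
      intro χ _
      rw [map_mul, Complex.conj_conj, mul_comm]
    have hexp : ∀ χ, aeval η (A3 χ) * conj (aeval η (A3 χ))
        = aeval η (A1 χ) * conj (aeval η (A1 χ)) - aeval η (A1 χ) * conj (aeval η (A2 χ))
          - aeval η (A2 χ) * conj (aeval η (A1 χ)) + aeval η (A2 χ) * conj (aeval η (A2 χ)) := by
      intro χ
      rw [hA3v, map_sub]
      ring
    simp_rw [hexp]
    rw [Finset.sum_add_distrib, Finset.sum_sub_distrib, Finset.sum_sub_distrib, mul_add, mul_sub,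
      mul_sub, H11 η hη, H12 η hη, H21, H22 η hη]
    push_cast
    ring
  -- lower bound tool
  have lb : ∀ P : ℤ[X], (∀ η ∈ primitiveRoots N ℂ, aeval η P ≠ 0) →
      Φ ≤ ∑ η ∈ primitiveRoots N ℂ, Complex.normSq (aeval η P) := by
    intro P hP
    rw [hΦ]
    exact totient_le_sum_normSq_aeval_primitiveRoots N hN P hP
  have hpd : (0 : ℝ) < (p : ℝ) ^ d := pow_pos (by linarith) d
  rcases eq_or_lt_of_le ha with ha1 | ha2
  · -- the diagonal case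
    have hb : b = 0 := by omega
    subst hb
    subst ha1
    have hΔc : Δ = c := by rw [hΔ]; ring
    rw [hΔc] at hpD hT1 hT2 hΔR hΔpos
    have hcp : (p : ℤ) ≤ c := Int.le_of_dvd hΔpos hpD
    have hcpR : (p : ℝ) ≤ (c : ℝ) := by exact_mod_cast hcp
    have hT1' : ∑ χ, S1 χ = Φ * (p : ℝ) ^ d := by
      have : (c : ℝ) * ∑ χ, S1 χ = (c : ℝ) * (Φ * (p : ℝ) ^ d) := by rw [hT1]; ring
      exact mul_left_cancel₀ hΔR.ne' this
    by_cases hA : ∀ ψ ∈ S, aeval η₀ (A1 ψ) ≠ 0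
    · -- all first coordinates are nonzero
      have h1 : ∀ ψ ∈ S, Φ ≤ S1 ψ := by
        intro ψ hψ
        rw [hS1]
        apply lb
        intro η hη
        exact aeval_ne_zero_of_primitive N hN _ hη₀ hη (hA ψ hψ)
      have h2 : (S.card : ℝ) * Φ ≤ Φ * (p : ℝ) ^ d := by
        calc (S.card : ℝ) * Φ = ∑ ψ ∈ S, Φ := by rw [Finset.sum_const, nsmul_eq_mul]
          _ ≤ ∑ ψ ∈ S, S1 ψ := Finset.sum_le_sum h1
          _ ≤ ∑ ψ, S1 ψ := Finset.sum_le_sum_of_subset_of_nonneg (Finset.subset_univ _)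
              (fun χ _ _ => hS1nn χ)
          _ = Φ * (p : ℝ) ^ d := hT1'
      have h3 : (S.card : ℝ) ≤ (p : ℝ) ^ d := by
        have : Φ * (S.card : ℝ) ≤ Φ * (p : ℝ) ^ d := by rw [mul_comm]; exact h2
        exact le_of_mul_le_mul_left this hΦpos
      exact_mod_cast h3
    · push Not at hA
      obtain ⟨ψ₀, hψ₀S, hψ₀⟩ := hA
      have hψ₀' : ∀ η ∈ primitiveRoots N ℂ, aeval η (A1 ψ₀) = 0 := fun η hη =>
        aeval_eq_zero_of_primitive N hN _ hη₀ hη hψ₀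
      obtain ⟨χ₀, hχ₀S, hχ₀0⟩ := Hex
      have hint : ∀ (P : ℤ[X]) (η : ℂ), η ∈ primitiveRoots N ℂ →
          Cfsg.MemLocalRing M (aeval η P) ∧ Cfsg.MemLocalRing M (conj (aeval η P)) := by
        intro P η hη
        constructor
        · exact memLocalRing_of_isIntegral hM
            (isIntegral_aeval_root N hN P η (pow_eq_one_of_mem_primitiveRoots hN hη))
        · rw [conj_aeval_int]
          exact memLocalRing_of_isIntegral hM
            (isIntegral_aeval_root N hN P (conj η)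
              (pow_eq_one_of_mem_primitiveRoots hN (conj_mem_primitiveRoots hN hη)))
      -- step 1
      have step1 : ∀ χ ∈ S, ht χ = 0 → ∀ η ∈ primitiveRoots N ℂ, aeval η (A2 χ) ≠ 0 := by
        intro χ hχ h0 η hη hzero
        apply Hc χ hχ h0 ψ₀ hψ₀S η hη
        unfold mm
        rw [hψ₀' η hη, hzero]
        simp
      -- step 2
      have hcI : ∀ z : ℂ, Cfsg.MemLocalRing M z → Cfsg.MemLocalIdeal M ((c : ℂ) * z) := by
        intro z hz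
        exact MemLocalIdeal.mul_right hM ((memLocalIdeal_intCast_iff hM c).mpr hpD) hz
      have hunit : ∀ η ∈ primitiveRoots N ℂ,
          ¬ Cfsg.MemLocalIdeal M (conj (aeval η (A1 χ₀))) := by
        intro η hη hI
        apply Ha χ₀ hχ₀S hχ₀0 η hη
        unfold mm
        simp only [Int.cast_one, Int.cast_zero, one_mul, zero_mul, add_zero]
        exact MemLocalIdeal.add hM (MemLocalIdeal.mul_left hM (hint _ η hη).1 hI)
          (hcI _ (MemLocalRing.mul hM (hint _ η hη).1 (hint _ η hη).2))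
      -- step 3
      have step3 : ∀ ψ ∈ S, 1 ≤ ht ψ → ∀ η ∈ primitiveRoots N ℂ,
          Cfsg.MemLocalRing M (aeval η (A1 ψ) / (p : ℂ) ^ 1) := by
        intro ψ hψ hht η hη
        have h1 := Hb ψ hψ hht χ₀ hχ₀S η hη
        obtain ⟨c', hc'⟩ := hpD
        have h2 : Cfsg.MemLocalRing M
            ((c' : ℂ) * (aeval η (A2 ψ) * conj (aeval η (A2 χ₀)))) :=
          MemLocalRing.mul hM (memLocalRing_intCast hM c')
            (MemLocalRing.mul hM (hint _ η hη).1 (hint _ η hη).2)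
        have hne : conj (aeval η (A1 χ₀)) ≠ 0 :=
          ne_zero_of_not_memLocalIdeal hM (hunit η hη)
        have hp0 : (p : ℂ) ≠ 0 := by exact_mod_cast hp.ne_zero
        have e : aeval η (A1 ψ) / (p : ℂ) ^ 1
            = (mm 1 0 c (A1 ψ) (A2 ψ) (A1 χ₀) (A2 χ₀) η / (p : ℂ)
                - (c' : ℂ) * (aeval η (A2 ψ) * conj (aeval η (A2 χ₀))))
              * (conj (aeval η (A1 χ₀)))⁻¹ := by
          unfold mm
          rw [hc']
          push_cast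
          field_simp
          ring
        rw [e]
        exact MemLocalRing.mul hM (MemLocalRing.sub hM h1 h2)
          (MemLocalRing.inv (hint _ η hη).2 (hunit η hη))
      -- step 4
      have step4 : ∀ ψ ∈ S, (p : ℝ) ^ 2 * Φ ≤ S1 ψ + (p : ℝ) ^ 2 * S2 ψ := by
        intro ψ hψ
        have hp2nn : (0 : ℝ) ≤ (p : ℝ) ^ 2 := by positivity
        by_cases h0 : ht ψ = 0
        · have h1 : Φ ≤ S2 ψ := by
            rw [hS2]; exact lb _ (step1 ψ hψ h0)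
          nlinarith [hS1nn ψ]
        · have hge : 1 ≤ ht ψ := Nat.one_le_iff_ne_zero.mpr h0
          rcases aeval_dichotomy N hN (A1 ψ) with h1 | h1
          · have h2 := totient_mul_sq_le_sum_normSq hM N hN (A1 ψ) 1 h1 (step3 ψ hψ hge)
            rw [mul_one, ← hΦ] at h2
            have h3 : Φ * (p : ℝ) ^ 2 ≤ S1 ψ := by rw [hS1]; exact h2
            nlinarith [hS2nn ψ]
          · have h2 : ∀ η ∈ primitiveRoots N ℂ, aeval η (A2 ψ) ≠ 0 := by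
              intro η hη
              rcases Hne ψ hψ η hη with h | h
              · exact absurd (h1 η hη) h
              · exact h
            have h3 : Φ ≤ S2 ψ := by rw [hS2]; exact lb _ h2
            nlinarith [hS1nn ψ]
      -- step 5
      have h5 : (S.card : ℝ) * ((p : ℝ) ^ 2 * Φ) ≤ ∑ χ, S1 χ + (p : ℝ) ^ 2 * ∑ χ, S2 χ := by
        calc (S.card : ℝ) * ((p : ℝ) ^ 2 * Φ) = ∑ ψ ∈ S, (p : ℝ) ^ 2 * Φ := by
              rw [Finset.sum_const, nsmul_eq_mul]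
          _ ≤ ∑ ψ ∈ S, (S1 ψ + (p : ℝ) ^ 2 * S2 ψ) := Finset.sum_le_sum step4
          _ ≤ ∑ ψ, (S1 ψ + (p : ℝ) ^ 2 * S2 ψ) :=
              Finset.sum_le_sum_of_subset_of_nonneg (Finset.subset_univ _)
                (fun χ _ _ => add_nonneg (hS1nn χ) (mul_nonneg (by positivity) (hS2nn χ)))
          _ = ∑ χ, S1 χ + (p : ℝ) ^ 2 * ∑ χ, S2 χ := by
              rw [Finset.sum_add_distrib, Finset.mul_sum]
      have hT2' : (c : ℝ) * ∑ χ, S2 χ = Φ * (p : ℝ) ^ d := by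
        rw [hT2]; push_cast; ring
      have h6 : (c : ℝ) * ((S.card : ℝ) * ((p : ℝ) ^ 2 * Φ))
          ≤ Φ * (p : ℝ) ^ d * ((c : ℝ) + (p : ℝ) ^ 2) := by
        calc (c : ℝ) * ((S.card : ℝ) * ((p : ℝ) ^ 2 * Φ))
            ≤ (c : ℝ) * (∑ χ, S1 χ + (p : ℝ) ^ 2 * ∑ χ, S2 χ) :=
              mul_le_mul_of_nonneg_left h5 hΔR.le
          _ = (c : ℝ) * ∑ χ, S1 χ + (p : ℝ) ^ 2 * ((c : ℝ) * ∑ χ, S2 χ) := by ring
          _ = Φ * (p : ℝ) ^ d * ((c : ℝ) + (p : ℝ) ^ 2) := by rw [hT1', hT2']; ring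
      have h7 : (c : ℝ) + (p : ℝ) ^ 2 ≤ (c : ℝ) * (p : ℝ) ^ 2 := by
        nlinarith [mul_nonneg (by linarith : (0:ℝ) ≤ (c : ℝ) - 2)
          (by nlinarith : (0:ℝ) ≤ (p : ℝ) ^ 2 - 1)]
      have h8 : ((c : ℝ) * (p : ℝ) ^ 2 * Φ) * (S.card : ℝ)
          ≤ ((c : ℝ) * (p : ℝ) ^ 2 * Φ) * (p : ℝ) ^ d := by
        calc ((c : ℝ) * (p : ℝ) ^ 2 * Φ) * (S.card : ℝ)
            = (c : ℝ) * ((S.card : ℝ) * ((p : ℝ) ^ 2 * Φ)) := by ring
          _ ≤ Φ * (p : ℝ) ^ d * ((c : ℝ) + (p : ℝ) ^ 2) := h6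
          _ ≤ Φ * (p : ℝ) ^ d * ((c : ℝ) * (p : ℝ) ^ 2) :=
              mul_le_mul_of_nonneg_left h7 (by positivity)
          _ = ((c : ℝ) * (p : ℝ) ^ 2 * Φ) * (p : ℝ) ^ d := by ring
      have hpos : (0 : ℝ) < (c : ℝ) * (p : ℝ) ^ 2 * Φ := by positivity
      have h9 : (S.card : ℝ) ≤ (p : ℝ) ^ d := le_of_mul_le_mul_left h8 hpos
      exact_mod_cast h9
  · -- the generic case
    have ha2' : 2 ≤ a := ha2
    have key : ∀ χ ∈ S, 2 * Φ ≤ S1 χ + S2 χ + S3 χ := by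
      intro χ hχ
      rcases aeval_dichotomy N hN (A1 χ) with h1 | h1
      · rcases aeval_dichotomy N hN (A2 χ) with h2 | h2
        · have e1 : Φ ≤ S1 χ := by rw [hS1]; exact lb _ h1
          have e2 : Φ ≤ S2 χ := by rw [hS2]; exact lb _ h2
          linarith [hS3nn χ]
        · have e1 : Φ ≤ S1 χ := by rw [hS1]; exact lb _ h1
          have e3 : Φ ≤ S3 χ := by
            rw [hS3]
            apply lb
            intro η hη
            rw [hA3v, h2 η hη, sub_zero]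
            exact h1 η hη
          linarith [hS2nn χ]
      · have h2 : ∀ η ∈ primitiveRoots N ℂ, aeval η (A2 χ) ≠ 0 := by
          intro η hη
          rcases Hne χ hχ η hη with h | h
          · exact absurd (h1 η hη) h
          · exact h
        have e2 : Φ ≤ S2 χ := by rw [hS2]; exact lb _ h2
        have e3 : Φ ≤ S3 χ := by
          rw [hS3]
          apply lb
          intro η hη
          rw [hA3v, h1 η hη, zero_sub, neg_ne_zero]
          exact h2 η hη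
        linarith [hS1nn χ]
    have h5 : (S.card : ℝ) * (2 * Φ) ≤ ∑ χ, S1 χ + ∑ χ, S2 χ + ∑ χ, S3 χ := by
      calc (S.card : ℝ) * (2 * Φ) = ∑ ψ ∈ S, 2 * Φ := by
            rw [Finset.sum_const, nsmul_eq_mul]
        _ ≤ ∑ ψ ∈ S, (S1 ψ + S2 ψ + S3 ψ) := Finset.sum_le_sum key
        _ ≤ ∑ ψ, (S1 ψ + S2 ψ + S3 ψ) :=
            Finset.sum_le_sum_of_subset_of_nonneg (Finset.subset_univ _)
              (fun χ _ _ => add_nonneg (add_nonneg (hS1nn χ) (hS2nn χ)) (hS3nn χ))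
        _ = ∑ χ, S1 χ + ∑ χ, S2 χ + ∑ χ, S3 χ := by
            rw [Finset.sum_add_distrib, Finset.sum_add_distrib]
    have h6 : (Δ : ℝ) * ((S.card : ℝ) * (2 * Φ))
        ≤ 2 * Φ * ((p : ℝ) ^ d * ((a : ℝ) + (c : ℝ) + (b : ℝ))) := by
      calc (Δ : ℝ) * ((S.card : ℝ) * (2 * Φ))
          ≤ (Δ : ℝ) * (∑ χ, S1 χ + ∑ χ, S2 χ + ∑ χ, S3 χ) :=
            mul_le_mul_of_nonneg_left h5 hΔR.le
        _ = (Δ : ℝ) * ∑ χ, S1 χ + (Δ : ℝ) * ∑ χ, S2 χ + (Δ : ℝ) * ∑ χ, S3 χ := by ring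
        _ = 2 * Φ * ((p : ℝ) ^ d * ((a : ℝ) + (c : ℝ) + (b : ℝ))) := by
            rw [hT1, hT2, hT3]; ring
    have h7 : (a : ℝ) + (c : ℝ) + (b : ℝ) ≤ (Δ : ℝ) := by
      have := reduced_arith a b c ha2' hb0 hba hac
      rw [← hΔ] at this
      exact_mod_cast this
    have h8 : (2 * Φ * (Δ : ℝ)) * (S.card : ℝ) ≤ (2 * Φ * (Δ : ℝ)) * (p : ℝ) ^ d := by
      calc (2 * Φ * (Δ : ℝ)) * (S.card : ℝ) = (Δ : ℝ) * ((S.card : ℝ) * (2 * Φ)) := by ring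
        _ ≤ 2 * Φ * ((p : ℝ) ^ d * ((a : ℝ) + (c : ℝ) + (b : ℝ))) := h6
        _ ≤ 2 * Φ * ((p : ℝ) ^ d * (Δ : ℝ)) := by
            apply mul_le_mul_of_nonneg_left _ (by positivity)
            exact mul_le_mul_of_nonneg_left h7 hpd.le
        _ = (2 * Φ * (Δ : ℝ)) * (p : ℝ) ^ d := by ring
    have hpos : (0 : ℝ) < 2 * Φ * (Δ : ℝ) := by positivity
    have h9 : (S.card : ℝ) ≤ (p : ℝ) ^ d := le_of_mul_le_mul_left h8 hpos
    exact_mod_cast h9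

end Cfsg.Agent.Lib.Helper6.Q2
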