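import Mathlib

set_option autoImplicit false

/-!
Abstract Burnside-mark induction: a family of vectors `β i` indexed by a poset `I` with an
action of a finite `p`-group `A`, with "unique restriction"; Moebius inversion `m` of `β`
has `(|T i| / |A_i|) • m i` in a lattice `L` as soon as certain averages lie in `L`.
-/

namespace Cfsg.Agent.Lib.Helper6.StarM

theorem finsum_set_eq_sum_filter {α N : Type*} [Fintype α] [AddCommMonoid N] (s : Set α)
    [DecidablePred (· ∈ s)] (f : α → N) :
    ∑ᶠ a ∈ s, f a = ∑ a ∈ Finset.univ.filter (· ∈ s), f a := by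
  rw [← finsum_mem_coe_finset]
  congr 1
  ext a
  simp

theorem card_inf_map_conj {A : Type*} [Group A] (N T : Subgroup A) (g : A) (hg : g ∈ N) :
    Nat.card ↥(N ⊓ T.map (MulAut.conj g).toMonoidHom) = Nat.card ↥(N ⊓ T) := by
  have hNmap : N.map (MulAut.conj g).toMonoidHom = N := by
    ext x
    simp only [Subgroup.mem_map, MulEquiv.coe_toMonoidHom, MulAut.conj_apply]
    constructor
    · rintro ⟨y, hy, rfl⟩
      exact N.mul_mem (N.mul_mem hg hy) (N.inv_mem hg)
    · intro hx
      exact ⟨g⁻¹ * x * g, N.mul_mem (N.mul_mem (N.inv_mem hg) hx) hg, by group⟩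
  have hinj : Function.Injective (MulAut.conj g).toMonoidHom := (MulAut.conj g).injective
  conv_lhs => rw [← hNmap]
  rw [← Subgroup.map_inf _ _ _ hinj, Subgroup.card_map_of_injective hinj]

section orbit

variable {Γ : Type*} [Group Γ] {I : Type*} [Fintype I] [MulAction Γ I]
variable {V : Type*} [AddCommGroup V]

/-- a sum of an invariant function over a finite `Γ`-set lies in `L` as soon as the
orbit-length multiples do -/
theorem sum_mem_of_orbit (L : AddSubgroup V) (F : I → V)
    (hinv : ∀ (γ : Γ) (i : I), F (γ • i) = F i)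
    (hL : ∀ i : I, (MulAction.stabilizer Γ i).index • F i ∈ L) :
    ∑ i, F i ∈ L := by
  classical
  rw [← Finset.sum_fiberwise Finset.univ
    (fun i => (Quotient.mk'' i : MulAction.orbitRel.Quotient Γ I)) F]
  apply AddSubgroup.sum_mem
  intro ω _
  have hmem : ∀ i : I, (Quotient.mk'' i : MulAction.orbitRel.Quotient Γ I) = ω ↔
      i ∈ MulAction.orbit Γ ω.out := by
    intro i
    constructor
    · intro hi
      have h2 : (Quotient.mk'' i : MulAction.orbitRel.Quotient Γ I) = Quotient.mk'' ω.out := by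
        rw [hi, Quotient.out_eq']
      exact MulAction.orbitRel_apply.mp (Quotient.exact' h2)
    · intro hi
      have h2 : (Quotient.mk'' i : MulAction.orbitRel.Quotient Γ I) = Quotient.mk'' ω.out :=
        Quotient.sound' (MulAction.orbitRel_apply.mpr hi)
      rw [h2, Quotient.out_eq']
  have h1 : ∀ i ∈ Finset.univ.filter
      (fun i : I => (Quotient.mk'' i : MulAction.orbitRel.Quotient Γ I) = ω),
      F i = F ω.out := by
    intro i hi
    rw [Finset.mem_filter] at hi
    obtain ⟨γ, hγ⟩ := (hmem i).mp hi.2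
    rw [← hγ]
    exact hinv γ _
  rw [Finset.sum_congr rfl h1, Finset.sum_const]
  have h3 : (Finset.univ.filter
      (fun i : I => (Quotient.mk'' i : MulAction.orbitRel.Quotient Γ I) = ω)).card
      = (MulAction.stabilizer Γ ω.out).index := by
    rw [MulAction.index_stabilizer, ← Set.ncard_coe_finset]
    congr 1
    ext i
    simp only [Finset.coe_filter, Finset.mem_univ, true_and, Set.mem_ofPred_eq]
    exact hmem i
  rw [h3]
  exact hL _

end orbit

section marks

variable {A : Type*} [Group A] {I : Type*} [MulAction A I]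

/-- the poset data -/
structure PosetData (A : Type*) [Group A] (I : Type*) [MulAction A I] where
  T : I → Subgroup A
  le : I → I → Prop
  T_smul : ∀ (a : A) (i : I), T (a • i) = (T i).map (MulAut.conj a).toMonoidHom
  smul_of_mem : ∀ (i : I) (a : A), a ∈ T i → a • i = i
  le_refl : ∀ i, le i i
  le_trans : ∀ i j k, le i j → le j k → le i k
  T_mono : ∀ i j, le i j → T i ≤ T j
  eq_of_le : ∀ i j, le i j → T i = T j → i = j
  le_smul : ∀ (a : A) i j, le i j → le (a • i) (a • j)
  exists_le : ∀ j (H : Subgroup A), H ≤ T j → ∃ i, le i j ∧ T i = H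
  le_of_le : ∀ i i' j, le i j → le i' j → T i ≤ T i' → le i i'

variable {V : Type*} [AddCommGroup V]

theorem card_lt_of_lt [Finite A] (D : PosetData A I) {i j : I} (h : D.le i j) (hne : i ≠ j) :
    Nat.card (D.T i) < Nat.card (D.T j) := by
  have hle := D.T_mono i j h
  rcases lt_or_eq_of_le (Subgroup.card_le_of_le hle) with h1 | h1
  · exact h1
  · exfalso
    apply hne
    apply D.eq_of_le i j h
    exact Subgroup.eq_of_le_of_card_ge hle (le_of_eq h1.symm)

/-- Moebius inversion of `β` -/
noncomputable def mfun [Finite A] (D : PosetData A I) (β : I → V) (i : I) : V :=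
  β i - ∑ᶠ (j : I) (_ : D.le i j ∧ i ≠ j), mfun D β j
termination_by Nat.card A - Nat.card (D.T i)
decreasing_by
  have h1 := card_lt_of_lt D ‹D.le i j ∧ i ≠ j›.1 ‹D.le i j ∧ i ≠ j›.2
  have h2 : Nat.card (D.T j) ≤ Nat.card A := Subgroup.card_le_card_group _
  omega

variable [Fintype A] [Fintype I]

theorem mfun_eq (D : PosetData A I) (β : I → V) (i : I)
    [DecidablePred (fun j => D.le i j ∧ i ≠ j)] :
    mfun D β i = β i - ∑ j ∈ Finset.univ.filter (fun j => D.le i j ∧ i ≠ j), mfun D β j := by
  rw [mfun]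
  congr 1
  have := finsum_set_eq_sum_filter {j : I | D.le i j ∧ i ≠ j} (fun j => mfun D β j)
  simp only [Set.mem_ofPred_eq] at this
  exact this

theorem beta_eq_sum (D : PosetData A I) (β : I → V) (i : I) [DecidablePred (fun j => D.le i j)] :
    β i = ∑ j ∈ Finset.univ.filter (fun j => D.le i j), mfun D β j := by
  classical
  have h1 : Finset.univ.filter (fun j => D.le i j)
      = insert i (Finset.univ.filter (fun j => D.le i j ∧ i ≠ j)) := by
    ext j
    simp only [Finset.mem_filter, Finset.mem_univ, true_and, Finset.mem_insert]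
    constructor
    · intro h
      by_cases hj : i = j
      · left; exact hj.symm
      · right; exact ⟨h, hj⟩
    · rintro (h | h)
      · rw [h]; exact D.le_refl i
      · exact h.1
  rw [h1, Finset.sum_insert, mfun_eq D β i]
  · abel
  · simp

theorem mfun_smul (D : PosetData A I) (β : I → V) (hβ : ∀ (a : A) (i : I), β (a • i) = β i)
    (a : A) : ∀ (n : ℕ) (i : I), Nat.card A - Nat.card (D.T i) = n →
      mfun D β (a • i) = mfun D β i := by
  classical
  intro n
  induction n using Nat.strong_induction_on with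
  | _ n ih =>
    intro i hi
    rw [mfun_eq D β (a • i), mfun_eq D β i, hβ]
    congr 1
    symm
    apply Finset.sum_bij (fun j _ => a • j)
    · intro j hj
      simp only [Finset.mem_filter, Finset.mem_univ, true_and] at hj ⊢
      refine ⟨D.le_smul a i j hj.1, ?_⟩
      intro h
      exact hj.2 (MulAction.injective a h)
    · intro j _ j' _ h
      exact MulAction.injective a h
    · intro j hj
      simp only [Finset.mem_filter, Finset.mem_univ, true_and] at hj
      refine ⟨a⁻¹ • j, ?_, ?_⟩
      · simp only [Finset.mem_filter, Finset.mem_univ, true_and]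
        constructor
        · have := D.le_smul a⁻¹ _ _ hj.1
          rwa [inv_smul_smul] at this
        · intro h
          apply hj.2
          rw [h, smul_inv_smul]
      · exact smul_inv_smul a j
    · intro j hj
      simp only [Finset.mem_filter, Finset.mem_univ, true_and] at hj
      have h1 := card_lt_of_lt D hj.1 hj.2
      have h2 : Nat.card (D.T j) ≤ Nat.card A := Subgroup.card_le_card_group _
      exact (ih (Nat.card A - Nat.card (D.T j)) (by omega) j rfl).symm

section main

variable [Module ℂ V]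

theorem filter_le_eq_insert (D : PosetData A I) (i : I) [DecidablePred (fun j => D.le i j)]
    [DecidablePred (fun j => D.le i j ∧ i ≠ j)] [DecidableEq I] :
    Finset.univ.filter (fun j => D.le i j)
      = insert i (Finset.univ.filter (fun j => D.le i j ∧ i ≠ j)) := by
  ext j
  simp only [Finset.mem_filter, Finset.mem_univ, true_and, Finset.mem_insert]
  constructor
  · intro h
    by_cases hj : i = j
    · left; exact hj.symm
    · right; exact ⟨h, hj⟩
  · rintro (h | h)
    · rw [h]; exact D.le_refl i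
    · exact h.1

/-- level sums: the `β`'s at level `H` against the marks above `H` -/
theorem sum_level (D : PosetData A I) (β : I → V) (H : Subgroup A) (c : I → ℂ)
    (hc : ∀ j k, D.le j k → D.T j = H → c j = c k)
    [DecidablePred (fun j => D.T j = H)] [DecidablePred (fun k => H ≤ D.T k)] :
    ∑ j ∈ Finset.univ.filter (fun j => D.T j = H), c j • β j
      = ∑ k ∈ Finset.univ.filter (fun k => H ≤ D.T k), c k • mfun D β k := by
  classical
  have h0 : ∀ j, c j • β j
      = ∑ k ∈ Finset.univ.filter (fun k => D.le j k), c j • mfun D β k := by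
    intro j
    rw [← Finset.smul_sum, ← beta_eq_sum D β j]
  rw [Finset.sum_congr rfl (fun j _ => h0 j)]
  rw [Finset.sum_comm' (t' := Finset.univ.filter (fun k => H ≤ D.T k))
    (s' := fun k => Finset.univ.filter (fun j => D.T j = H ∧ D.le j k))]
  · apply Finset.sum_congr rfl
    intro k hk
    simp only [Finset.mem_filter, Finset.mem_univ, true_and] at hk
    obtain ⟨j₀, hj₀k, hj₀T⟩ := D.exists_le k H hk
    have hset : Finset.univ.filter (fun j => D.T j = H ∧ D.le j k) = {j₀} := by
      ext j
      simp only [Finset.mem_filter, Finset.mem_univ, true_and, Finset.mem_singleton]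
      constructor
      · rintro ⟨hjT, hjk⟩
        exact D.eq_of_le j j₀ (D.le_of_le j j₀ k hjk hj₀k (by rw [hjT, hj₀T]))
          (by rw [hjT, hj₀T])
      · rintro rfl
        exact ⟨hj₀T, hj₀k⟩
    rw [hset, Finset.sum_singleton, hc j₀ k hj₀k hj₀T]
  · intro j k
    simp only [Finset.mem_filter, Finset.mem_univ, true_and]
    constructor
    · rintro ⟨hjT, hjk⟩
      refine ⟨⟨hjT, hjk⟩, ?_⟩
      rw [← hjT]
      exact D.T_mono j k hjk
    · rintro ⟨⟨h1, h2⟩, _⟩
      exact ⟨h1, h2⟩

theorem sum_beta_eq (D : PosetData A I) (β : I → V) (i : I) (n : A) :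
    ∑ᶠ j ∈ {j | D.le i j ∧ D.T j = D.T i ⊔ Subgroup.zpowers n}, β j
      = ∑ᶠ k ∈ {k | D.le i k ∧ n ∈ D.T k}, mfun D β k := by
  classical
  rw [finsum_set_eq_sum_filter, finsum_set_eq_sum_filter]
  have hc : ∀ j k, D.le j k → D.T j = D.T i ⊔ Subgroup.zpowers n →
      (if D.le i j then (1 : ℂ) else 0) = (if D.le i k then (1 : ℂ) else 0) := by
    intro j k hjk hjT
    have : D.le i j ↔ D.le i k := by
      constructor
      · intro h; exact D.le_trans i j k h hjk
      · intro h
        exact D.le_of_le i j k h hjk (by rw [hjT]; exact le_sup_left)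
    rw [if_congr this rfl rfl]
  have h := sum_level D β (D.T i ⊔ Subgroup.zpowers n) (fun j => if D.le i j then (1 : ℂ) else 0) hc
  have e1 : ∑ j ∈ Finset.univ.filter (fun j => D.T j = D.T i ⊔ Subgroup.zpowers n),
      (if D.le i j then (1 : ℂ) else 0) • β j
      = ∑ j ∈ Finset.univ.filter (· ∈ {j | D.le i j ∧ D.T j = D.T i ⊔ Subgroup.zpowers n}), β j := by
    simp only [ite_smul, one_smul, zero_smul]
    rw [← Finset.sum_filter, Finset.filter_filter]
    apply Finset.sum_congr
    · ext j
      simp only [Finset.mem_filter, Finset.mem_univ, true_and, Set.mem_ofPred_eq]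
      tauto
    · intro _ _; rfl
  have e2 : ∑ k ∈ Finset.univ.filter (fun k => D.T i ⊔ Subgroup.zpowers n ≤ D.T k),
      (if D.le i k then (1 : ℂ) else 0) • mfun D β k
      = ∑ k ∈ Finset.univ.filter (· ∈ {k | D.le i k ∧ n ∈ D.T k}), mfun D β k := by
    simp only [ite_smul, one_smul, zero_smul]
    rw [← Finset.sum_filter, Finset.filter_filter]
    apply Finset.sum_congr
    · ext k
      simp only [Finset.mem_filter, Finset.mem_univ, true_and, Set.mem_ofPred_eq]
      constructor
      · rintro ⟨h1, h2⟩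
        refine ⟨h2, ?_⟩
        exact h1 ((le_sup_right : Subgroup.zpowers n ≤ _) (Subgroup.mem_zpowers n))
      · rintro ⟨h1, h2⟩
        refine ⟨?_, h1⟩
        apply sup_le (D.T_mono i k h1)
        rw [Subgroup.zpowers_le]; exact h2
    · intro _ _; rfl
  rw [← e1, ← e2]
  exact h

theorem sum_sum_eq (D : PosetData A I) (m : I → V) (i : I) (N : Subgroup A)
    [DecidablePred (fun k => D.le i k)] :
    ∑ᶠ n ∈ (N : Set A), ∑ᶠ k ∈ {k | D.le i k ∧ n ∈ D.T k}, m k
      = ∑ k ∈ Finset.univ.filter (fun k => D.le i k), (Nat.card ↥(N ⊓ D.T k)) • m k := by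
  classical
  rw [finsum_set_eq_sum_filter]
  have h1 : ∀ n : A, ∑ᶠ k ∈ {k | D.le i k ∧ n ∈ D.T k}, m k
      = ∑ k ∈ Finset.univ.filter (fun k => D.le i k), if n ∈ D.T k then m k else 0 := by
    intro n
    rw [finsum_set_eq_sum_filter, ← Finset.sum_filter, Finset.filter_filter]
    apply Finset.sum_congr
    · ext k
      simp only [Finset.mem_filter, Finset.mem_univ, true_and, Set.mem_ofPred_eq]
    · intro _ _; rfl
  simp_rw [h1]
  rw [Finset.sum_comm]
  apply Finset.sum_congr rfl
  intro k _
  rw [← Finset.sum_filter, Finset.filter_filter, Finset.sum_const]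
  congr 1
  rw [Nat.card_eq_fintype_card]
  symm
  apply Fintype.card_of_subtype
  intro x
  simp only [Finset.mem_filter, Finset.mem_univ, true_and, SetLike.mem_coe, Subgroup.mem_inf]

variable (p : ℕ) [hp : Fact p.Prime]

theorem step (D : PosetData A I) (hA : IsPGroup p A) (L : AddSubgroup V) (β : I → V)
    (hβ : ∀ (a : A) (i : I), β (a • i) = β i) (i : I)
    (hF3 : ((Nat.card (MulAction.stabilizer A i) : ℂ)⁻¹) •
        ∑ᶠ n ∈ (MulAction.stabilizer A i : Set A),
          ∑ᶠ j ∈ {j | D.le i j ∧ D.T j = D.T i ⊔ Subgroup.zpowers n}, β j ∈ L)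
    (ih : ∀ j, D.le i j → i ≠ j →
      ((Nat.card (D.T j) : ℂ) / (Nat.card (MulAction.stabilizer A j) : ℂ)) • mfun D β j ∈ L) :
    ((Nat.card (D.T i) : ℂ) / (Nat.card (MulAction.stabilizer A i) : ℂ)) • mfun D β i ∈ L := by
  classical
  obtain ⟨N, hN⟩ : ∃ N : Subgroup A, N = MulAction.stabilizer A i := ⟨_, rfl⟩
  rw [← hN] at hF3 ⊢
  have hcN : (Nat.card N : ℂ) ≠ 0 := by exact_mod_cast Nat.card_pos.ne'
  rw [finsum_mem_congr rfl (fun n _ => sum_beta_eq D β i n), sum_sum_eq D (mfun D β) i N,
    filter_le_eq_insert D i, Finset.sum_insert (by simp)] at hF3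
  have hTN : D.T i ≤ N := by
    intro a ha
    rw [hN, MulAction.mem_stabilizer_iff]
    exact D.smul_of_mem i a ha
  have hinf : N ⊓ D.T i = D.T i := inf_eq_right.mpr hTN
  rw [hinf] at hF3
  have hY : ∑ k ∈ Finset.univ.filter (fun j => D.le i j ∧ i ≠ j),
      ((Nat.card ↥(N ⊓ D.T k) : ℂ) / (Nat.card N : ℂ)) • mfun D β k ∈ L := by
    rw [Finset.sum_filter]
    apply sum_mem_of_orbit (Γ := N) L
    · intro γ k
      have hγ : (γ : A) • i = i := by
        have h0 : (γ : A) ∈ MulAction.stabilizer A i := by rw [← hN]; exact γ.2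
        exact MulAction.mem_stabilizer_iff.mp h0
      have hγ' : (γ : A)⁻¹ • i = i := by
        rw [inv_smul_eq_iff]; exact hγ.symm
      have hsm : γ • k = (γ : A) • k := rfl
      rw [hsm]
      have hcond : (D.le i ((γ : A) • k) ∧ i ≠ (γ : A) • k) ↔ (D.le i k ∧ i ≠ k) := by
        constructor
        · rintro ⟨h1, h2⟩
          constructor
          · have := D.le_smul (γ : A)⁻¹ _ _ h1
            rwa [hγ', inv_smul_smul] at this
          · intro h; apply h2; rw [← h]; exact hγ.symm
        · rintro ⟨h1, h2⟩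
          constructor
          · have := D.le_smul (γ : A) _ _ h1
            rwa [hγ] at this
          · intro h; apply h2; apply MulAction.injective (γ : A)
            show (γ : A) • i = (γ : A) • k
            rw [hγ]; exact h
      have hw : Nat.card ↥(N ⊓ D.T ((γ : A) • k)) = Nat.card ↥(N ⊓ D.T k) := by
        rw [D.T_smul]
        exact card_inf_map_conj N (D.T k) (γ : A) γ.2
      rw [if_congr hcond rfl rfl]
      by_cases hc : D.le i k ∧ i ≠ k
      · rw [if_pos hc, if_pos hc, hw, mfun_smul D β hβ (γ : A) _ k rfl]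
      · rw [if_neg hc, if_neg hc]
    · intro k
      by_cases hc : D.le i k ∧ i ≠ k
      swap
      · rw [if_neg hc, smul_zero]; exact L.zero_mem
      rw [if_pos hc]
      have hκ := ih k hc.1 hc.2
      obtain ⟨S, hS⟩ : ∃ S : Subgroup A, S = MulAction.stabilizer A k := ⟨_, rfl⟩
      rw [← hS] at hκ
      have hkey : (MulAction.stabilizer N k) = S.subgroupOf N := by rw [hS]; ext; rfl
      have hidx : (MulAction.stabilizer N k).index = S.relIndex N := by rw [hkey]; rfl
      rw [hidx]
      have hTS : D.T k ≤ S := by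
        intro a ha; rw [hS, MulAction.mem_stabilizer_iff]; exact D.smul_of_mem k a ha
      obtain ⟨x₁, hx₁⟩ := (hA.to_subgroup (S ⊓ N)).exists_card_eq
      obtain ⟨x₂, hx₂⟩ := (hA.to_subgroup (D.T k)).exists_card_eq
      obtain ⟨x₃, hx₃⟩ := (hA.to_subgroup (N ⊓ D.T k)).exists_card_eq
      obtain ⟨x₄, hx₄⟩ := (hA.to_subgroup S).exists_card_eq
      have e1 : Nat.card ↥(D.T k ⊓ (S ⊓ N)) * (D.T k).relIndex (S ⊓ N) = Nat.card ↥(S ⊓ N) := by
        have := Subgroup.relIndex_mul_relIndex ⊥ (D.T k ⊓ (S ⊓ N)) (S ⊓ N) bot_le inf_le_right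
        rwa [Subgroup.relIndex_bot_left, Subgroup.relIndex_bot_left,
          Subgroup.inf_relIndex_right] at this
      have e2 : D.T k ⊓ (S ⊓ N) = N ⊓ D.T k := by
        rw [← inf_assoc, inf_eq_left.mpr hTS, inf_comm]
      rw [e2] at e1
      have e3 : Nat.card (D.T k) * (D.T k).relIndex S = Nat.card S := by
        have := Subgroup.relIndex_mul_relIndex ⊥ (D.T k) S bot_le hTS
        rwa [Subgroup.relIndex_bot_left, Subgroup.relIndex_bot_left] at this
      have hr'0 : (D.T k).relIndex S ≠ 0 := by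
        intro h; rw [h, mul_zero] at e3; exact Nat.card_pos.ne' e3.symm
      have e4 : (D.T k).relIndex (S ⊓ N) ≤ (D.T k).relIndex S :=
        Subgroup.relIndex_le_of_le_right inf_le_left hr'0
      have hle : Nat.card ↥(S ⊓ N) * Nat.card (D.T k)
          ≤ Nat.card ↥(N ⊓ D.T k) * Nat.card S := by
        rw [← e1, ← e3]
        calc Nat.card ↥(N ⊓ D.T k) * (D.T k).relIndex (S ⊓ N) * Nat.card (D.T k)
            = Nat.card ↥(N ⊓ D.T k) * (Nat.card (D.T k) * (D.T k).relIndex (S ⊓ N)) := by ring
          _ ≤ Nat.card ↥(N ⊓ D.T k) * (Nat.card (D.T k) * (D.T k).relIndex S) := by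
            apply Nat.mul_le_mul_left; exact Nat.mul_le_mul_left _ e4
      have hdvd : Nat.card ↥(S ⊓ N) * Nat.card (D.T k)
          ∣ Nat.card ↥(N ⊓ D.T k) * Nat.card S := by
        rw [hx₁, hx₂, hx₃, hx₄, ← pow_add, ← pow_add] at hle ⊢
        exact pow_dvd_pow p ((Nat.pow_le_pow_iff_right hp.out.one_lt).mp hle)
      obtain ⟨q, hq⟩ := hdvd
      have e5 : Nat.card ↥(S ⊓ N) * S.relIndex N = Nat.card N := by
        have := Subgroup.relIndex_mul_relIndex ⊥ (S ⊓ N) N bot_le inf_le_right
        rwa [Subgroup.relIndex_bot_left, Subgroup.relIndex_bot_left,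
          Subgroup.inf_relIndex_right] at this
      have hnat : S.relIndex N * Nat.card ↥(N ⊓ D.T k) * Nat.card S
          = q * Nat.card (D.T k) * Nat.card N := by
        rw [← e5]
        calc S.relIndex N * Nat.card ↥(N ⊓ D.T k) * Nat.card S
            = S.relIndex N * (Nat.card ↥(N ⊓ D.T k) * Nat.card S) := by ring
          _ = S.relIndex N * (Nat.card ↥(S ⊓ N) * Nat.card (D.T k) * q) := by rw [hq]
          _ = q * Nat.card (D.T k) * (Nat.card ↥(S ⊓ N) * S.relIndex N) := by ring
      have hcS : (Nat.card S : ℂ) ≠ 0 := by exact_mod_cast Nat.card_pos.ne'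
      have hcoef : (S.relIndex N : ℂ) * ((Nat.card ↥(N ⊓ D.T k) : ℂ) / (Nat.card N : ℂ))
          = (q : ℂ) * ((Nat.card (D.T k) : ℂ) / (Nat.card S : ℂ)) := by
        rw [mul_div_assoc', mul_div_assoc', div_eq_div_iff hcN hcS]
        exact_mod_cast hnat
      have : (S.relIndex N) • (((Nat.card ↥(N ⊓ D.T k) : ℂ) / (Nat.card N : ℂ)) • mfun D β k)
          = q • (((Nat.card (D.T k) : ℂ) / (Nat.card S : ℂ)) • mfun D β k) := by
        rw [← Nat.cast_smul_eq_nsmul ℂ, ← Nat.cast_smul_eq_nsmul ℂ, smul_smul, smul_smul, hcoef]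
      rw [this]
      exact L.nsmul_mem hκ q
  have hgoal : ((Nat.card (D.T i) : ℂ) / (Nat.card N : ℂ)) • mfun D β i
      = ((Nat.card N : ℂ)⁻¹) • ((Nat.card ↥(D.T i)) • mfun D β i
          + ∑ k ∈ Finset.univ.filter (fun j => D.le i j ∧ i ≠ j),
              (Nat.card ↥(N ⊓ D.T k)) • mfun D β k)
        - ∑ k ∈ Finset.univ.filter (fun j => D.le i j ∧ i ≠ j),
            ((Nat.card ↥(N ⊓ D.T k) : ℂ) / (Nat.card N : ℂ)) • mfun D β k := by
    rw [smul_add, Finset.smul_sum]
    have h1 : ∀ k, ((Nat.card N : ℂ)⁻¹) • ((Nat.card ↥(N ⊓ D.T k)) • mfun D β k)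
        = ((Nat.card ↥(N ⊓ D.T k) : ℂ) / (Nat.card N : ℂ)) • mfun D β k := by
      intro k
      rw [← Nat.cast_smul_eq_nsmul ℂ, smul_smul, div_eq_inv_mul]
    simp_rw [h1]
    rw [← Nat.cast_smul_eq_nsmul ℂ, smul_smul, div_eq_inv_mul]
    abel
  rw [hgoal]
  exact L.sub_mem hF3 hY

/-- **Burnside-mark induction.** -/
theorem exists_marks (D : PosetData A I) (hA : IsPGroup p A) (L : AddSubgroup V) (β : I → V)
    (hβ : ∀ (a : A) (i : I), β (a • i) = β i)
    (hF3 : ∀ i, ((Nat.card (MulAction.stabilizer A i) : ℂ)⁻¹) •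
        ∑ᶠ n ∈ (MulAction.stabilizer A i : Set A),
          ∑ᶠ j ∈ {j | D.le i j ∧ D.T j = D.T i ⊔ Subgroup.zpowers n}, β j ∈ L) :
    ∃ m : I → V, (∀ i, β i = ∑ᶠ j ∈ {j | D.le i j}, m j) ∧
      (∀ (a : A) (i : I), m (a • i) = m i) ∧
      (∀ (c : I → ℂ) (a : A), (∀ j k, D.le j k → D.T j = Subgroup.zpowers a → c j = c k) →
        ∑ᶠ j ∈ {j | D.T j = Subgroup.zpowers a}, c j • β j
          = ∑ᶠ k ∈ {k | a ∈ D.T k}, c k • m k) ∧
      ∀ i, ((Nat.card (D.T i) : ℂ) / (Nat.card (MulAction.stabilizer A i) : ℂ)) • m i ∈ L := by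
  classical
  refine ⟨mfun D β, ?_, ?_, ?_, ?_⟩
  · intro i
    rw [finsum_set_eq_sum_filter]
    exact beta_eq_sum D β i
  · intro a i; exact mfun_smul D β hβ a _ i rfl
  · intro c a hc
    rw [finsum_set_eq_sum_filter, finsum_set_eq_sum_filter]
    have h := sum_level D β (Subgroup.zpowers a) c hc
    have e2 : Finset.univ.filter (· ∈ {k | a ∈ D.T k})
        = Finset.univ.filter (fun k => Subgroup.zpowers a ≤ D.T k) := by
      ext k
      simp only [Finset.mem_filter, Finset.mem_univ, true_and, Set.mem_ofPred_eq,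
        Subgroup.zpowers_le]
    rw [e2]
    exact h
  · have key : ∀ (n : ℕ) (i : I), Nat.card A - Nat.card (D.T i) = n →
        ((Nat.card (D.T i) : ℂ) / (Nat.card (MulAction.stabilizer A i) : ℂ)) • mfun D β i ∈ L := by
      intro n
      induction n using Nat.strong_induction_on with
      | _ n ih =>
        intro i hi
        apply step p D hA L β hβ i (hF3 i)
        intro j hij hne
        have h1 := card_lt_of_lt D hij hne
        have h2 : Nat.card (D.T j) ≤ Nat.card A := Subgroup.card_le_card_group _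
        exact ih _ (by omega) j rfl
    intro i; exact key _ i rfl

end main

end marks

end Cfsg.Agent.Lib.Helper6.StarM
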