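import Mathlib
import Cfsg.Prelude.Def_BrauerPairs
import Cfsg.Agent.Lib.Helper6.KpCross
import Cfsg.Agent.Lib.Helper6.PPartEl
import Cfsg.Agent.Lib.Helper6.ClassMult
import Cfsg.Agent.Lib.Helper6.Orthogonality

set_option autoImplicit false

/-!
The block kernel formula ("Part A"): the sum of `χ g * conj (χ h)` over a block in terms of
the idempotent coefficients of the blocks of `C_G(g_p)` inducing it.
-/

open Cfsg

namespace Cfsg.Agent.Lib.Helper6.Star

open Cfsg.Agent.Lib.Helper6
open scoped ComplexConjugate

section general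

variable {K : Type*} [Group K] [Fintype K]

theorem sum_blockCoeff_conj_eq (b : Set (IrrCharacter K)) (x y : K) :
    ∑ c : K, blockCoeff b (c * y * c⁻¹ * x⁻¹)
      = ∑ᶠ ζ ∈ b, (ζ : K → ℂ) x * conj ((ζ : K → ℂ) y) := by
  classical
  haveI : Fintype (IrrCharacter K) := Fintype.ofFinite _
  have hK := card_ne_zero_complex K
  unfold blockCoeff
  rw [finsum_mem_eq_sum_filter_lib]
  simp_rw [finsum_mem_eq_sum_filter_lib b]
  rw [← Finset.mul_sum, Finset.sum_comm, Finset.mul_sum]
  apply Finset.sum_congr rfl
  intro ζ _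
  rw [← Finset.mul_sum, ← map_sum, IsIrrCharacter.sum_conj_mul ζ.2 y x⁻¹]
  have h1 := IsIrrCharacter.apply_one_ne_zero ζ.2
  have h2 := IsIrrCharacter.conj_apply_one ζ.2
  rw [IsCharacter.apply_inv (IsIrrCharacter.isCharacter ζ.2) x]
  simp only [map_div₀, map_mul, Complex.conj_natCast, Complex.conj_conj, h2]
  field_simp

theorem orderOf_conj_eq (k y : K) : orderOf (k * y * k⁻¹) = orderOf y := by
  have := MulEquiv.orderOf_eq (MulAut.conj k) y
  simpa using this

theorem pRegularPart_isClassFunction' (p : ℕ) {f : K → ℂ} (hf : IsClassFunction K f) :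
    IsClassFunction K (pRegularPart p f) := by
  intro y k
  unfold pRegularPart IsPRegular
  rw [orderOf_conj_eq, hf]

end general

section A

variable {G : Type*} [Group G] [Fintype G] [DecidableEq G]
variable {p : ℕ} [hp : Fact p.Prime] {M : Ideal Cfsg.AlgInt}

theorem sum_ppEl_eq (u : G) (hu : ∃ k : ℕ, orderOf u = p ^ k) (H : Subgroup G) [Fintype H]
    (hH : H = Subgroup.centralizer ({u} : Set G)) (F : G → ℂ) :
    ∑ g : G, (if ppEl p g = u then F g else 0)
      = ∑ y ∈ Finset.univ.filter (fun y : H => ¬ p ∣ orderOf y), F (u * (y : G)) := by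
  rw [← Finset.sum_filter]
  symm
  apply Finset.sum_bij (fun (y : H) _ => u * (y : G))
  · intro y hy
    simp only [Finset.mem_filter, Finset.mem_univ, true_and] at hy ⊢
    apply ppEl_mul_of_commute hu
    · rw [Subgroup.orderOf_coe]; exact hy
    · have : (y : G) ∈ Subgroup.centralizer ({u} : Set G) := by rw [← hH]; exact y.2
      rw [mem_centralizer_singleton_iff] at this
      exact this
  · intro a _ b _ hab
    exact Subtype.ext (mul_left_cancel hab)
  · intro g hg
    simp only [Finset.mem_filter, Finset.mem_univ, true_and] at hg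
    have hmem : prEl p g ∈ H := by
      rw [hH, mem_centralizer_singleton_iff, ← hg]
      exact (commute_ppEl_prEl (p := p) g).eq
    refine ⟨⟨prEl p g, hmem⟩, ?_, ?_⟩
    · simp only [Finset.mem_filter, Finset.mem_univ, true_and]
      rw [← Subgroup.orderOf_coe]
      exact prEl_pRegular g
    · simp only
      rw [← hg]
      exact ppEl_mul_prEl p g
  · intro y _
    rfl

/-- the kernel form of the block part, for class functions and `p`-regular arguments -/
theorem blockPart_eq_sum_pRegular {K : Type*} [Group K] [Fintype K] [DecidableEq K]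
    (hM : IsPModular p M) (b : Set (IrrCharacter K)) (hb : IsPBlock M b) {f : K → ℂ}
    (hf : IsClassFunction K f) (s : K) (hs : ¬ p ∣ orderOf s) :
    blockPart b f s
      = ∑ y ∈ Finset.univ.filter (fun y : K => ¬ p ∣ orderOf y), blockCoeff b (y * s⁻¹) * f y := by
  obtain ⟨ξ₀, rfl⟩ := hb
  rw [blockPart_eq_blockPart_pRegularPart hM ξ₀ f s hs,
    blockPart_eq_sum _ (pRegularPart_isClassFunction' p hf) s]
  rw [← Equiv.sum_comp (Equiv.mulRight s⁻¹)
    (fun k => blockCoeff (blockOf M (ξ₀ : K → ℂ)) k * pRegularPart p f (k * s))]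
  rw [Finset.sum_filter]
  apply Finset.sum_congr rfl
  intro y _
  simp only [Equiv.coe_mulRight, inv_mul_cancel_right]
  unfold pRegularPart IsPRegular
  split_ifs <;> simp

/-- **Part A.** -/
theorem partA (hM : IsPModular p M) (B : Set (IrrCharacter G)) (hB : IsPBlock M B) (g h : G)
    (H : Subgroup G) (hH : H = Subgroup.centralizer ({ppEl p g} : Set G)) :
    ∑ᶠ χ ∈ B, (χ : G → ℂ) g * conj ((χ : G → ℂ) h)
      = ∑ b ∈ inducingBlocks M H B,
          ∑ x ∈ Finset.univ.filter (fun x : G => x * ppEl p h * x⁻¹ = ppEl p g),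
            subgroupBlockCoeff H b (x * prEl p h * x⁻¹ * (prEl p g)⁻¹) := by
  classical
  haveI : Fintype (IrrCharacter G) := Fintype.ofFinite _
  haveI : Fintype H := Fintype.ofFinite _
  have hG := card_ne_zero_complex G
  obtain ⟨u, hu⟩ : ∃ u : G, u = ppEl p g := ⟨_, rfl⟩
  obtain ⟨s, hs⟩ : ∃ s : G, s = prEl p g := ⟨_, rfl⟩
  have hupow : ∃ k : ℕ, orderOf u = p ^ k := by rw [hu]; exact orderOf_ppEl g
  have hsreg : ¬ p ∣ orderOf s := by rw [hs]; exact prEl_pRegular g
  have hus : u * s = g := by rw [hu, hs]; exact ppEl_mul_prEl p g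
  have hsH : s ∈ H := by
    rw [hH, mem_centralizer_singleton_iff, hs]
    exact (commute_ppEl_prEl (p := p) g).eq
  have hH' : H = Subgroup.centralizer ({u} : Set G) := by rw [hu]; exact hH
  rw [← hu, ← hs]
  -- the two sides as functions of `h`
  obtain ⟨L, hL⟩ : ∃ L : G → ℂ, L = fun h => ∑ᶠ χ ∈ B, (χ : G → ℂ) g * conj ((χ : G → ℂ) h) :=
    ⟨_, rfl⟩
  obtain ⟨R, hR⟩ : ∃ R : G → ℂ, R = fun h => ∑ b ∈ inducingBlocks M H B,
      ∑ x ∈ Finset.univ.filter (fun x : G => x * ppEl p h * x⁻¹ = u),
        subgroupBlockCoeff H b (x * prEl p h * x⁻¹ * s⁻¹) := ⟨_, rfl⟩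
  suffices hLR : L = R by
    have := congrFun hLR h
    rw [hL, hR] at this
    exact this
  -- class functions
  have hLc : IsClassFunction G L := by
    intro h y
    rw [hL]
    simp only
    apply finsum_mem_congr rfl
    intro χ _
    rw [IsIrrCharacter.isClassFunction χ.2]
  have hRc : IsClassFunction G R := by
    intro h y
    rw [hR]
    simp only
    apply Finset.sum_congr rfl
    intro b _
    rw [ppEl_conj, prEl_conj]
    symm
    apply Finset.sum_bij (fun (x : G) _ => x * y⁻¹)
    · intro x hx
      simp only [Finset.mem_filter, Finset.mem_univ, true_and] at hx ⊢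
      rw [← hx]; group
    · intro a _ b _ hab
      exact mul_right_cancel hab
    · intro x hx
      simp only [Finset.mem_filter, Finset.mem_univ, true_and] at hx
      refine ⟨x * y, ?_, by group⟩
      simp only [Finset.mem_filter, Finset.mem_univ, true_and]
      rw [← hx]; group
    · intro x _
      congr 1
      group
  -- pairing with irreducible characters
  have hpairL : ∀ χ : IrrCharacter G, ∑ h : G, L h * (χ : G → ℂ) h
      = (Nat.card G : ℂ) * (if χ ∈ B then (χ : G → ℂ) g else 0) := by
    intro χ
    rw [hL]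
    simp only
    simp_rw [finsum_mem_eq_sum_filter_lib B, Finset.sum_mul]
    rw [Finset.sum_comm]
    have h1 : ∀ χ' : IrrCharacter G, ∑ h : G, (χ' : G → ℂ) g * conj ((χ' : G → ℂ) h) * (χ : G → ℂ) h
        = (Nat.card G : ℂ) * ((χ' : G → ℂ) g * if χ = χ' then 1 else 0) := by
      intro χ'
      have h2 := classInner_irrCharacter χ χ'
      unfold classInner at h2
      rw [← h2]
      field_simp
      rw [Finset.mul_sum]
      apply Finset.sum_congr rfl
      intro h _
      ring
    rw [Finset.sum_congr rfl (fun χ' _ => h1 χ'), ← Finset.mul_sum]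
    congr 1
    by_cases hχ : χ ∈ B
    · rw [if_pos hχ, Finset.sum_eq_single χ]
      · simp
      · intro χ' _ hne
        rw [if_neg (Ne.symm hne), mul_zero]
      · intro hn
        exact absurd (Finset.mem_filter.mpr ⟨Finset.mem_univ _, hχ⟩) hn
    · rw [if_neg hχ]
      apply Finset.sum_eq_zero
      intro χ' hχ'
      rw [Finset.mem_filter] at hχ'
      have : χ ≠ χ' := by
        intro h; rw [h] at hχ; exact hχ hχ'.2
      rw [if_neg this, mul_zero]
  have hpairR : ∀ χ : IrrCharacter G, ∑ h : G, R h * (χ : G → ℂ) h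
      = (Nat.card G : ℂ) * (if χ ∈ B then (χ : G → ℂ) g else 0) := by
    intro χ
    rw [hR]
    simp only
    simp_rw [Finset.sum_mul]
    rw [Finset.sum_comm]
    -- for each block
    have hb : ∀ b ∈ inducingBlocks M H B,
        ∑ h : G, ∑ x ∈ Finset.univ.filter (fun x : G => x * ppEl p h * x⁻¹ = u),
          subgroupBlockCoeff H b (x * prEl p h * x⁻¹ * s⁻¹) * (χ : G → ℂ) h
        = (Nat.card G : ℂ) * blockPart b (fun c : H => (χ : G → ℂ) (u * (c : G))) ⟨s, hsH⟩ := by
      intro b hb
      have hbind := (mem_inducingBlocks H B b).mp hb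
      have h1 : ∀ h : G, ∑ x ∈ Finset.univ.filter (fun x : G => x * ppEl p h * x⁻¹ = u),
          subgroupBlockCoeff H b (x * prEl p h * x⁻¹ * s⁻¹) * (χ : G → ℂ) h
          = ∑ x : G, if ppEl p (x * h * x⁻¹) = u then
              subgroupBlockCoeff H b (prEl p (x * h * x⁻¹) * s⁻¹) * (χ : G → ℂ) (x * h * x⁻¹)
              else 0 := by
        intro h
        rw [Finset.sum_filter]
        apply Finset.sum_congr rfl
        intro x _
        rw [ppEl_conj, prEl_conj, IsIrrCharacter.isClassFunction χ.2]
      rw [Finset.sum_congr rfl (fun h _ => h1 h), Finset.sum_comm]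
      have h2 : ∀ x : G, ∑ h : G, (if ppEl p (x * h * x⁻¹) = u then
              subgroupBlockCoeff H b (prEl p (x * h * x⁻¹) * s⁻¹) * (χ : G → ℂ) (x * h * x⁻¹)
              else 0)
          = ∑ h' : G, if ppEl p h' = u then
              subgroupBlockCoeff H b (prEl p h' * s⁻¹) * (χ : G → ℂ) h' else 0 := by
        intro x
        exact Equiv.sum_comp (MulAut.conj x).toEquiv
          (fun h' => if ppEl p h' = u then
              subgroupBlockCoeff H b (prEl p h' * s⁻¹) * (χ : G → ℂ) h' else 0)
      rw [Finset.sum_congr rfl (fun x _ => h2 x), Finset.sum_const, Finset.card_univ,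
        ← Nat.card_eq_fintype_card, nsmul_eq_mul]
      congr 1
      rw [sum_ppEl_eq u hupow H hH']
      have hclass : IsClassFunction H (fun c : H => (χ : G → ℂ) (u * (c : G))) := by
        intro c k
        simp only [Subgroup.coe_mul, Subgroup.coe_inv]
        have hk : u * (k : G) = (k : G) * u := by
          have : (k : G) ∈ Subgroup.centralizer ({u} : Set G) := by rw [← hH']; exact k.2
          rw [mem_centralizer_singleton_iff] at this
          exact this
        have : u * ((k : G) * (c : G) * (k : G)⁻¹) = (k : G) * (u * (c : G)) * (k : G)⁻¹ := by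
          rw [← mul_assoc, ← mul_assoc, hk]; group
        rw [this, IsIrrCharacter.isClassFunction χ.2]
      rw [blockPart_eq_sum_pRegular hM b hbind.1 hclass ⟨s, hsH⟩
        (by rw [← Subgroup.orderOf_coe]; exact hsreg)]
      apply Finset.sum_congr rfl
      intro y hy
      simp only [Finset.mem_filter, Finset.mem_univ, true_and] at hy
      have hyc : Commute u (y : G) := by
        have : (y : G) ∈ Subgroup.centralizer ({u} : Set G) := by rw [← hH']; exact y.2
        rw [mem_centralizer_singleton_iff] at this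
        exact this
      have hyreg : ¬ p ∣ orderOf (y : G) := by rw [Subgroup.orderOf_coe]; exact hy
      rw [prEl_mul_of_commute hupow hyreg hyc]
      congr 1
      unfold subgroupBlockCoeff
      have hmem : (y : G) * s⁻¹ ∈ H := H.mul_mem y.2 (H.inv_mem hsH)
      rw [dif_pos hmem]
      rfl
    rw [Finset.sum_congr rfl hb, ← Finset.mul_sum]
    congr 1
    by_cases hχ : χ ∈ B
    · rw [if_pos hχ]
      have := apply_shift_eq_sum_inducingBlocks hM u hupow H hH' B hB χ hχ ⟨s, hsH⟩
        (by rw [← Subgroup.orderOf_coe]; exact hsreg)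
      rw [← this]
      simp only
      rw [hus]
    · rw [if_neg hχ]
      apply Finset.sum_eq_zero
      intro b hb
      exact blockPart_shift_eq_zero_of_not_mem hM u hupow H hH'
        ((mem_inducingBlocks H B b).mp hb) χ hχ ⟨s, hsH⟩
        (by rw [← Subgroup.orderOf_coe]; exact hsreg)
  -- conclude
  have hzero : (fun h => conj (L h) - conj (R h)) = 0 := by
    apply eq_zero_of_classInner_irr_eq_zero
    · intro h y
      simp only
      rw [hLc, hRc]
    · intro χ
      unfold classInner
      have : ∑ h : G, (conj (L h) - conj (R h)) * conj ((χ : G → ℂ) h)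
          = conj (∑ h : G, L h * (χ : G → ℂ) h - ∑ h : G, R h * (χ : G → ℂ) h) := by
        rw [map_sub, map_sum, map_sum, ← Finset.sum_sub_distrib]
        apply Finset.sum_congr rfl
        intro h _
        rw [map_mul, map_mul]
        ring
      rw [this, hpairL, hpairR, sub_self, map_zero, mul_zero]
  funext h
  have := congrFun hzero h
  simp only [Pi.zero_apply, sub_eq_zero] at this
  exact (starRingEnd ℂ).injective this

end A

end Cfsg.Agent.Lib.Helper6.Star
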