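import Mathlib
import Cfsg.Prelude.Def_BrauerPairs
import Cfsg.Agent.Lib.Helper6.BlkCoverDefect
import Cfsg.Agent.Lib.Helper6.BlkCover3
import Cfsg.Agent.Lib.Helper6.BlkPairs
import Cfsg.Agent.Lib.Helper6.BrConj
import Cfsg.Agent.Lib.Helper6.Ramified

set_option autoImplicit false

/-!
Preparations for the relative second main theorem: blocks over a normal subgroup of
`p`-power index, coset counting, central extensions.
-/

open Cfsg

namespace Cfsg.Agent.Lib.Helper6.Star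

open Cfsg.Agent.Lib.Helper6
open scoped ComplexConjugate

section prep

variable {p : ℕ} [hp : Fact p.Prime] {M : Ideal Cfsg.AlgInt}

/-- over a normal subgroup of `p`-power index, the characters over a stable block form a
block -/
theorem overSet_block {H : Type*} [Group H] [Fintype H] [DecidableEq H] (hM : IsPModular p M)
    (N : Subgroup H) [Fintype N] (hN : N.Normal) (hidx : ∃ k : ℕ, N.index = p ^ k)
    (θ₀ : IrrCharacter N) (hst : GStable N hN (blockOf M (θ₀ : N → ℂ))) :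
    ∃ ζ₀ : IrrCharacter H, classInner (fun n : N => (ζ₀ : H → ℂ) n) (θ₀ : N → ℂ) ≠ 0 ∧
      overSet N (blockOf M (θ₀ : N → ℂ)) = blockOf M (ζ₀ : H → ℂ) := by
  obtain ⟨ζ₀, hζ₀⟩ := exists_irr_over N θ₀
  refine ⟨ζ₀, hζ₀, ?_⟩
  ext ζ
  constructor
  · rintro ⟨θ, hθ, hc⟩
    haveI := hN
    exact sameBlock_of_cover_of_index N hM hidx ζ₀ ζ θ₀ θ hθ hζ₀ hc
  · intro hζ
    exact overSet_union_blocks N hN hM θ₀ hst ζ₀ ⟨θ₀, sameBlock_refl hM _, hζ₀⟩ ζ hζ

/-- the index of a normal subgroup supplemented by a cyclic `p`-group -/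
theorem index_pow_of_gen {Γ : Type*} [Group Γ] [Finite Γ] (N : Subgroup Γ) [N.Normal] (n : Γ)
    (hn : ∃ k : ℕ, orderOf n = p ^ k)
    (hgen : ∀ γ : Γ, ∃ i : ℕ, ∃ c ∈ N, γ = n ^ i * c) : ∃ k : ℕ, N.index = p ^ k := by
  obtain ⟨k, hk⟩ := hn
  have hall : ∀ q : Γ ⧸ N, q ∈ Subgroup.zpowers (n : Γ ⧸ N) := by
    intro q
    induction q using QuotientGroup.induction_on with
    | H γ =>
      obtain ⟨i, c, hc, rfl⟩ := hgen γ
      rw [Subgroup.mem_zpowers_iff]
      refine ⟨i, ?_⟩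
      rw [QuotientGroup.mk_mul, (QuotientGroup.eq_one_iff c).mpr hc, mul_one]
      simp
  have hcard := orderOf_eq_card_of_forall_mem_zpowers hall
  have hdvd : orderOf (n : Γ ⧸ N) ∣ p ^ k := by
    apply orderOf_dvd_of_pow_eq_one
    rw [← QuotientGroup.mk_pow, ← hk, pow_orderOf_eq_one]
    rfl
  obtain ⟨j, _, hj⟩ := (Nat.dvd_prime_pow hp.out).1 hdvd
  refine ⟨j, ?_⟩
  rw [Subgroup.index_eq_card, ← hcard, hj]

/-- coset counting -/
theorem sum_eq_index_mul_sum {Γ : Type*} [Group Γ] [Fintype Γ] (N : Subgroup Γ) [Fintype N]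
    [N.Normal]
    (n : Γ) (hgen : ∀ γ : Γ, ∃ i : ℕ, ∃ c ∈ N, γ = n ^ i * c) (F : Γ → ℂ)
    (hF : ∀ γ, F (n * γ) = F γ) :
    ∑ γ : Γ, F γ = (N.index : ℂ) * ∑ c : N, F (c : Γ) := by
  classical
  haveI : Fintype (Γ ⧸ N) := Fintype.ofFinite _
  have hpow : ∀ (i : ℕ) (γ : Γ), F (n ^ i * γ) = F γ := by
    intro i
    induction i with
    | zero => intro γ; simp
    | succ i ih =>
      intro γ
      rw [pow_succ', mul_assoc, hF, ih]
  rw [← Finset.sum_fiberwise Finset.univ (fun γ : Γ => (γ : Γ ⧸ N)) F]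
  have hfib : ∀ q : Γ ⧸ N, ∑ γ ∈ Finset.univ.filter (fun γ : Γ => (γ : Γ ⧸ N) = q), F γ
      = ∑ c : N, F (c : Γ) := by
    intro q
    obtain ⟨i, c₀, hc₀, hq⟩ := hgen q.out
    have hni : n ^ i = q.out * c₀⁻¹ := by rw [hq]; group
    symm
    apply Finset.sum_bij (fun (c : N) _ => n ^ i * (c : Γ))
    · intro c _
      simp only [Finset.mem_filter, Finset.mem_univ, true_and]
      rw [hni, mul_assoc, QuotientGroup.mk_mul,
        (QuotientGroup.eq_one_iff (c₀⁻¹ * (c : Γ))).mpr (N.mul_mem (N.inv_mem hc₀) c.2), mul_one]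
      exact QuotientGroup.out_eq' q
    · intro a _ b _ hab
      exact Subtype.ext (mul_left_cancel hab)
    · intro γ hγ
      simp only [Finset.mem_filter, Finset.mem_univ, true_and] at hγ
      have hmem : q.out⁻¹ * γ ∈ N := by
        rw [← QuotientGroup.eq, QuotientGroup.out_eq', hγ]
      have hmem2 : (n ^ i)⁻¹ * γ ∈ N := by
        have : (n ^ i)⁻¹ * γ = c₀ * (q.out⁻¹ * γ) := by rw [hni]; group
        rw [this]
        exact N.mul_mem hc₀ hmem
      exact ⟨⟨(n ^ i)⁻¹ * γ, hmem2⟩, Finset.mem_univ _, by simp⟩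
    · intro c _
      rw [hpow]
  rw [Finset.sum_congr rfl (fun q _ => hfib q), Finset.sum_const, Finset.card_univ,
    nsmul_eq_mul, Subgroup.index_eq_card, Nat.card_eq_fintype_card]

end prep

end Cfsg.Agent.Lib.Helper6.Star
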