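import Mathlib
import Cfsg.Agent.Lib.Helper6.StarR1

set_option autoImplicit false

/-!
Blocks of a central extension `H = ⟨z⟩ N'` and the blocks of `N'`.
-/

open Cfsg

namespace Cfsg.Agent.Lib.Helper6.Star

open Cfsg.Agent.Lib.Helper6
open scoped ComplexConjugate

section r5

variable {p : ℕ} [hp : Fact p.Prime] {M : Ideal Cfsg.AlgInt}

theorem sum_eq_sum_subgroup_of_support {H : Type*} [Group H] [Fintype H] (N' : Subgroup H)
    [Fintype N'] (f : H → ℂ) (hf : ∀ x, x ∉ N' → f x = 0) :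
    ∑ x : H, f x = ∑ m : N', f (m : H) := by
  classical
  rw [← Finset.sum_filter_of_ne (p := fun x => x ∈ N')]
  · symm
    apply Finset.sum_bij (fun (m : N') _ => (m : H))
    · intro m _
      simp
    · intro a _ b _ hab
      exact Subtype.ext hab
    · intro x hx
      simp only [Finset.mem_filter, Finset.mem_univ, true_and] at hx
      exact ⟨⟨x, hx⟩, Finset.mem_univ _, rfl⟩
    · intro m _
      rfl
  · intro x _ hx
    by_contra h
    exact hx (hf x h)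

/-- conjugation is trivial on class functions of `N'` when `H = ⟨z⟩ N'` with `z` central -/
theorem conjFun_eq_of_central_gen {H : Type*} [Group H] (N' : Subgroup H) (hN' : N'.Normal)
    (z : H) (hz : ∀ h : H, z * h = h * z) (hgen : ∀ h : H, ∃ i : ℕ, ∃ c ∈ N', h = z ^ i * c)
    {ψ : N' → ℂ} (hψ : IsClassFunction N' ψ) (x : H) : conjFun N' hN' ψ x = ψ := by
  funext m
  rw [conjFun_apply]
  obtain ⟨i, c, hc, rfl⟩ := hgen x
  have hzi : ∀ y : H, z ^ i * y = y * z ^ i := by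
    intro y
    induction i with
    | zero => simp
    | succ i ih => rw [pow_succ, mul_assoc, hz, ← mul_assoc, ih, mul_assoc]
  have e1 : z ^ i * c * (m : H) * (z ^ i * c)⁻¹ = c * (m : H) * c⁻¹ := by
    rw [mul_inv_rev, mul_assoc (z ^ i), mul_assoc (z ^ i), hzi]
    group
  have e2 : (⟨z ^ i * c * (m : H) * (z ^ i * c)⁻¹, hN'.conj_mem m m.2 (z ^ i * c)⟩ : N')
      = ⟨c, hc⟩ * m * ⟨c, hc⟩⁻¹ := Subtype.ext e1
  rw [e2]
  exact hψ m ⟨c, hc⟩

/-- induction of blocks from the centralizer of a `p`-subgroup through the Brauer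
homomorphism -/
theorem isInducedBlock_iff_omega {G : Type*} [Group G] [Fintype G] [DecidableEq G]
    (hM : IsPModular p M) (Q : Subgroup G) (hQ : IsPGroup p Q) (H : Subgroup G)
    (hH : H = Subgroup.centralizer (Q : Set G)) (𝔤 : Set (IrrCharacter H))
    (B : Set (IrrCharacter G)) :
    IsInducedBlock M H 𝔤 B ↔ IsPBlock M 𝔤 ∧ IsPBlock M B ∧
      ∀ ζ ∈ 𝔤, MemLocalIdeal M
        ((∑ᶠ x : H, blockCoeff B (x : G) * (ζ : H → ℂ) x / (ζ : H → ℂ) 1) - 1) := by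
  subst hH
  haveI : Fintype (Subgroup.centralizer (Q : Set G)) := Fintype.ofFinite _
  rw [← isBrauerPairOf_iff_isInducedBlock hM Q hQ 𝔤 B]
  unfold IsBrauerPairOf IsBrauerPair brauerOmega
  constructor
  · rintro ⟨⟨_, h1⟩, h2, h3⟩
    exact ⟨h1, h2, h3⟩
  · rintro ⟨h1, h2, h3⟩
    exact ⟨⟨hQ, h1⟩, h2, h3⟩

/-- blocks of a central extension by a `p`-element correspond to blocks of the normal
subgroup; version for sums of idempotent coefficients -/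
theorem sum_blockCoeff_central_ext {H : Type*} [Group H] [Fintype H] [DecidableEq H]
    (hM : IsPModular p M) (N' : Subgroup H) [Fintype N'] (hN' : N'.Normal)
    (hidx : ∃ k : ℕ, N'.index = p ^ k) (z : H) (hz : ∀ h : H, z * h = h * z)
    (hgen : ∀ h : H, ∃ i : ℕ, ∃ c ∈ N', h = z ^ i * c)
    {K' : Type*} [Group K'] [Fintype K'] (φ' : K' ≃* N')
    (W : IrrCharacter H → Prop) (cond : IrrCharacter K' → Prop)
    (hW : ∀ (ζ : IrrCharacter H) (θ : IrrCharacter K'),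
      classInner (fun m : N' => (ζ : H → ℂ) m) (mapIrr φ' θ : N' → ℂ) ≠ 0 → (W ζ ↔ cond θ))
    (h : H) :
    ∑ᶠ 𝔤 ∈ {𝔤 : Set (IrrCharacter H) | IsPBlock M 𝔤 ∧ ∀ ζ ∈ 𝔤, W ζ}, blockCoeff 𝔤 h
      = ∑ᶠ A' ∈ {A' : Set (IrrCharacter K') | IsPBlock M A' ∧ ∀ θ ∈ A', cond θ},
          extendByZero N' (fun m : N' => blockCoeff A' (φ'.symm m)) h := by
  classical
  -- every set of characters of `N'` is stable
  have hfix : ∀ (ψ : IrrCharacter N') (x : H), irrConj N' hN' x ψ = ψ := by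
    intro ψ x
    apply Subtype.ext
    rw [irrConj_coe]
    exact conjFun_eq_of_central_gen N' hN' z hz hgen (IsIrrCharacter.isClassFunction ψ.2) x
  have hstable : ∀ S : Set (IrrCharacter N'), GStable N' hN' S := by
    intro S ψ hψ x
    rw [hfix]; exact hψ
  -- the map on blocks
  have hov : ∀ θ₀ : IrrCharacter K',
      ∃ ζ₀ : IrrCharacter H,
        classInner (fun n : N' => (ζ₀ : H → ℂ) n) (mapIrr φ' θ₀ : N' → ℂ) ≠ 0 ∧
        overSet N' (mapIrr φ' '' blockOf M (θ₀ : K' → ℂ)) = blockOf M (ζ₀ : H → ℂ) := by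
    intro θ₀
    rw [mapIrr_image_blockOf]
    exact overSet_block hM N' hN' hidx (mapIrr φ' θ₀) (hstable _)
  symm
  apply finsum_mem_eq_of_bijOn (fun A' : Set (IrrCharacter K') => overSet N' (mapIrr φ' '' A'))
  · refine ⟨?_, ?_, ?_⟩
    · -- maps to
      rintro A' ⟨⟨θ₀, rfl⟩, hcond⟩
      obtain ⟨ζ₀, _, hζ₀⟩ := hov θ₀
      refine ⟨⟨ζ₀, hζ₀⟩, ?_⟩
      rintro ζ ⟨θ₁, ⟨θ, hθ, rfl⟩, hc⟩
      exact (hW ζ θ hc).mpr (hcond θ hθ)
    · -- injective
      rintro A' ⟨⟨θ₀, rfl⟩, _⟩ A'' ⟨⟨θ₀', rfl⟩, _⟩ heq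
      simp only at heq
      obtain ⟨ζ₀, hζ₀c, hζ₀⟩ := hov θ₀
      have hmem : ζ₀ ∈ overSet N' (mapIrr φ' '' blockOf M (θ₀' : K' → ℂ)) := by
        rw [← heq]
        exact ⟨mapIrr φ' θ₀, ⟨θ₀, sameBlock_refl hM _, rfl⟩, hζ₀c⟩
      have := mem_of_constituent_of_mem_overSet N' hN' (hstable _) hmem (mapIrr φ' θ₀) hζ₀c
      obtain ⟨θ, hθ, hθe⟩ := this
      have : θ = θ₀ := (mapIrr φ').injective hθe
      rw [this] at hθ
      exact (blockOf_eq_of_mem hM hθ).symm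
    · -- surjective
      rintro 𝔤 ⟨⟨ζ₁, rfl⟩, hWall⟩
      obtain ⟨θ₁, hθ₁⟩ := exists_constituent_restrict N' ζ₁.2
      obtain ⟨θ, hθ⟩ : ∃ θ : IrrCharacter K', mapIrr φ' θ = θ₁ :=
        ⟨(mapIrr φ').symm θ₁, (mapIrr φ').apply_symm_apply θ₁⟩
      obtain ⟨ζ₀, hζ₀c, hζ₀⟩ := hov θ
      have hζ₁mem : ζ₁ ∈ overSet N' (mapIrr φ' '' blockOf M (θ : K' → ℂ)) :=
        ⟨θ₁, ⟨θ, sameBlock_refl hM _, hθ⟩, hθ₁⟩
      have heq : overSet N' (mapIrr φ' '' blockOf M (θ : K' → ℂ)) = blockOf M (ζ₁ : H → ℂ) := by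
        rw [hζ₀] at hζ₁mem ⊢
        exact blockOf_eq_of_mem hM hζ₁mem
      refine ⟨blockOf M (θ : K' → ℂ), ⟨⟨θ, rfl⟩, ?_⟩, heq⟩
      intro θ' hθ'
      obtain ⟨ζ', hζ'⟩ := exists_irr_over N' (mapIrr φ' θ')
      have hζ'mem : ζ' ∈ blockOf M (ζ₁ : H → ℂ) := by
        rw [← heq]
        exact ⟨mapIrr φ' θ', ⟨θ', hθ', rfl⟩, hζ'⟩
      exact (hW ζ' θ' hζ').mp (hWall ζ' hζ'mem)
  · rintro A' _
    rw [blockCoeff_overSet_eq N' hN' (hstable _)]
    congr 1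
    funext m
    rw [blockCoeff_mapIrr_image]

end r5

end Cfsg.Agent.Lib.Helper6.Star
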