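import Mathlib
import Cfsg.Agent.Lib.Helper6.StarR2
import Cfsg.Agent.Lib.Helper6.StarA

set_option autoImplicit false

/-!
The relative second main theorem, abstract form ("Lemma R").
-/

open Cfsg

namespace Cfsg.Agent.Lib.Helper6.Star

open Cfsg.Agent.Lib.Helper6
open scoped ComplexConjugate

section lemmaR

variable {p : ℕ} [hp : Fact p.Prime] {M : Ideal Cfsg.AlgInt}

/-- idempotent coefficients of a set of characters of `K`, pushed to `Γ` along `ι` -/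
noncomputable def extCoeff {K Γ : Type*} [Group K] [Group Γ] (ι : K →* Γ)
    (A : Set (IrrCharacter K)) (γ : Γ) : ℂ := by
  classical exact if h : ∃ k, ι k = γ then blockCoeff A h.choose else 0

theorem extCoeff_apply {K Γ : Type*} [Group K] [Group Γ] (ι : K →* Γ)
    (hι : Function.Injective ι) (A : Set (IrrCharacter K)) (k : K) :
    extCoeff ι A (ι k) = blockCoeff A k := by
  unfold extCoeff
  have h : ∃ k', ι k' = ι k := ⟨k, rfl⟩
  rw [dif_pos h]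
  congr 1
  exact hι h.choose_spec

theorem extCoeff_of_not_mem {K Γ : Type*} [Group K] [Group Γ] (ι : K →* Γ)
    (A : Set (IrrCharacter K)) {γ : Γ} (h : ¬ ∃ k, ι k = γ) : extCoeff ι A γ = 0 := by
  unfold extCoeff
  rw [dif_neg h]

theorem blockCoeff_conj_eq {K : Type*} [Group K] (B : Set (IrrCharacter K)) (x y : K) :
    blockCoeff B (x * y * x⁻¹) = blockCoeff B y := by
  unfold blockCoeff
  congr 1
  apply finsum_mem_congr rfl
  intro χ _
  rw [IsIrrCharacter.isClassFunction χ.2]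

theorem centralizer_zpowers_eq {Γ : Type*} [Group Γ] (n : Γ) :
    Subgroup.centralizer ((Subgroup.zpowers n : Subgroup Γ) : Set Γ)
      = Subgroup.centralizer ({n} : Set Γ) := by
  ext x
  rw [Subgroup.mem_centralizer_iff, Subgroup.mem_centralizer_iff]
  constructor
  · intro h y hy
    rw [Set.mem_singleton_iff] at hy
    rw [hy]
    exact h n (Subgroup.mem_zpowers n)
  · intro h y hy
    obtain ⟨k, rfl⟩ := Subgroup.mem_zpowers_iff.mp hy
    have h1 : Commute n x := h n rfl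
    exact (h1.zpow_left k).eq

/-- **Lemma R.** -/
theorem lemmaR {Γ : Type*} [Group Γ] [Fintype Γ] [DecidableEq Γ] (hM : IsPModular p M)
    {K : Type*} [Group K] [Fintype K] (ι : K →* Γ) (hι : Function.Injective ι)
    (hNn : ι.range.Normal)
    (n : Γ) (hn : ∃ k : ℕ, orderOf n = p ^ k)
    (hgen : ∀ γ : Γ, ∃ i : ℕ, ∃ k : K, γ = n ^ i * ι k)
    (A : Set (IrrCharacter K)) (hA : IsPBlock M A)
    (hst : ∀ γ : Γ, ∀ θ ∈ A, ∃ θ' ∈ A, ∀ k k' : K, ι k' = γ * ι k * γ⁻¹ →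
      (θ' : K → ℂ) k' = (θ : K → ℂ) k)
    {K' : Type*} [Group K'] [Fintype K'] (ι' : K' →* Γ) (hι' : Function.Injective ι')
    (hrange' : ∀ γ : Γ, (∃ k', ι' k' = γ) ↔ ((∃ k, ι k = γ) ∧ n * γ = γ * n))
    (a : Γ) (ha : ∃ k', ι' k' = a) (har : ¬ p ∣ orderOf a) (h : Γ) :
    ∑ c : K, extCoeff ι A (ι c * h * (ι c)⁻¹ * (n * a)⁻¹)
      = ∑ c ∈ Finset.univ.filter (fun c : K => ι c * ppEl p h * (ι c)⁻¹ = n),
          ∑ᶠ A'' ∈ {A'' : Set (IrrCharacter K') | IsPBlock M A'' ∧ ∀ θ ∈ A'',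
              MemLocalIdeal M ((∑ x : K', extCoeff ι A (ι' x) * (θ : K' → ℂ) x
                / (θ : K' → ℂ) 1) - 1)},
            extCoeff ι' A'' (ι c * prEl p h * (ι c)⁻¹ * a⁻¹) := by
  classical
  -- Step 0: the normal subgroup
  obtain ⟨N, hN⟩ : ∃ N : Subgroup Γ, N = ι.range := ⟨_, rfl⟩
  haveI : Fintype N := Fintype.ofFinite _
  have hNnorm : N.Normal := by rw [hN]; exact hNn
  haveI := hNnorm
  have hmemN : ∀ γ, γ ∈ N ↔ ∃ k, ι k = γ := by
    intro γ; rw [hN]; exact MonoidHom.mem_range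
  obtain ⟨φ, hφ⟩ : ∃ φ : K ≃* N, ∀ k, ((φ k : N) : Γ) = ι k := by
    subst hN
    exact ⟨MonoidHom.ofInjective hι, fun k => rfl⟩
  have hφsymm : ∀ m : N, ι (φ.symm m) = (m : Γ) := by
    intro m; rw [← hφ, MulEquiv.apply_symm_apply]
  obtain ⟨θ₀, hθ₀⟩ := hA
  obtain ⟨AN, hAN⟩ : ∃ AN : Set (IrrCharacter N), AN = mapIrr φ '' A := ⟨_, rfl⟩
  have hANblock : AN = blockOf M (mapIrr φ θ₀ : N → ℂ) := by
    rw [hAN, hθ₀, mapIrr_image_blockOf]
  have hANcoeff : ∀ m : N, blockCoeff AN m = blockCoeff A (φ.symm m) := by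
    intro m; rw [hAN, blockCoeff_mapIrr_image]
  have hANst : GStable N hNnorm AN := by
    intro ψ hψ γ
    rw [hAN] at hψ ⊢
    obtain ⟨θ, hθ, rfl⟩ := hψ
    obtain ⟨θ', hθ', hconj⟩ := hst γ⁻¹ θ hθ
    refine ⟨θ', hθ', ?_⟩
    apply Subtype.ext
    rw [irrConj_coe]
    funext m
    rw [conjFun_apply, mapIrr_apply, mapIrr_apply]
    apply hconj
    rw [hφsymm, hφsymm]
    simp only [inv_inv]
    group
  have hgenN : ∀ γ : Γ, ∃ i : ℕ, ∃ c ∈ N, γ = n ^ i * c := by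
    intro γ
    obtain ⟨i, k, hk⟩ := hgen γ
    exact ⟨i, ι k, (hmemN _).mpr ⟨k, rfl⟩, hk⟩
  have hidx : ∃ k : ℕ, N.index = p ^ k := index_pow_of_gen N n hn hgenN
  -- Step 1: the block of Γ
  rw [hANblock] at hANst
  obtain ⟨ζ₀, hζ₀c, hζ₀⟩ := overSet_block hM N hNnorm hidx (mapIrr φ θ₀) hANst
  rw [← hANblock] at hANst hζ₀
  obtain ⟨𝔅, h𝔅⟩ : ∃ 𝔅 : Set (IrrCharacter Γ), 𝔅 = overSet N AN := ⟨_, rfl⟩
  have h𝔅block : IsPBlock M 𝔅 := ⟨ζ₀, by rw [h𝔅, hζ₀]⟩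
  have h𝔅coeff : ∀ γ : Γ, blockCoeff 𝔅 γ = extCoeff ι A γ := by
    intro γ
    rw [h𝔅, blockCoeff_overSet_eq N hNnorm hANst]
    by_cases hγ : γ ∈ N
    · rw [extendByZero_of_mem N _ hγ, hANcoeff]
      obtain ⟨k, rfl⟩ := (hmemN γ).mp hγ
      rw [extCoeff_apply ι hι]
      congr 1
      apply hι
      rw [hφsymm]
    · rw [extendByZero_of_not_mem N _ hγ, extCoeff_of_not_mem]
      intro h; exact hγ ((hmemN γ).mpr h)
  -- the elements
  obtain ⟨⟨ka, hka⟩, hacomm⟩ := (hrange' a).mp ha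
  have haN : a ∈ N := (hmemN a).mpr ⟨ka, hka⟩
  obtain ⟨g, hg⟩ : ∃ g : Γ, g = n * a := ⟨_, rfl⟩
  have hpp : ppEl p g = n := by rw [hg]; exact ppEl_mul_of_commute hn har hacomm
  have hpr : prEl p g = a := by rw [hg]; exact prEl_mul_of_commute hn har hacomm
  have hgn : n * g = g * n := by rw [hg, mul_assoc, ← hacomm, ← mul_assoc]
  obtain ⟨H₁, hH₁⟩ : ∃ H₁ : Subgroup Γ, H₁ = Subgroup.centralizer ({n} : Set Γ) := ⟨_, rfl⟩
  haveI : Fintype H₁ := Fintype.ofFinite _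
  have hmemH₁ : ∀ γ, γ ∈ H₁ ↔ n * γ = γ * n := by
    intro γ; rw [hH₁, mem_centralizer_singleton_iff]
  have hH₁' : H₁ = Subgroup.centralizer ({ppEl p g} : Set Γ) := by rw [hpp]; exact hH₁
  have hA1 := sum_blockCoeff_conj_eq 𝔅 g h
  have hA2 := partA hM 𝔅 h𝔅block g h H₁ hH₁'
  rw [hpp, hpr] at hA2
  rw [hA2, Finset.sum_comm] at hA1
  -- Step 4: coset counting
  obtain ⟨ε, hε⟩ : ∃ ε : Γ → ℂ, ε = fun y => ∑ b ∈ inducingBlocks M H₁ 𝔅,
      subgroupBlockCoeff H₁ b y := ⟨_, rfl⟩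
  obtain ⟨F₁, hF₁⟩ : ∃ F₁ : Γ → ℂ, F₁ = fun γ => blockCoeff 𝔅 (γ * h * γ⁻¹ * g⁻¹) := ⟨_, rfl⟩
  obtain ⟨F₂, hF₂⟩ : ∃ F₂ : Γ → ℂ, F₂ = fun γ =>
      if γ * ppEl p h * γ⁻¹ = n then ε (γ * prEl p h * γ⁻¹ * a⁻¹) else 0 := ⟨_, rfl⟩
  have hsum12 : ∑ γ : Γ, F₁ γ = ∑ γ : Γ, F₂ γ := by
    rw [hF₁, hF₂, hA1, ← Finset.sum_filter]
    apply Finset.sum_congr rfl
    intro γ _
    rw [hε]
  have hF₁n : ∀ γ, F₁ (n * γ) = F₁ γ := by
    intro γ
    rw [hF₁]
    simp only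
    have : n * γ * h * (n * γ)⁻¹ * g⁻¹ = n * (γ * h * γ⁻¹ * g⁻¹) * n⁻¹ := by
      have h1 : n⁻¹ * g⁻¹ = g⁻¹ * n⁻¹ := by
        rw [← mul_inv_rev, ← mul_inv_rev, hgn]
      calc n * γ * h * (n * γ)⁻¹ * g⁻¹ = n * (γ * h * γ⁻¹) * (n⁻¹ * g⁻¹) := by group
        _ = n * (γ * h * γ⁻¹) * (g⁻¹ * n⁻¹) := by rw [h1]
        _ = n * (γ * h * γ⁻¹ * g⁻¹) * n⁻¹ := by group
    rw [this, blockCoeff_conj_eq]
  have hεn : ∀ y, ε (n * y * n⁻¹) = ε y := by
    intro y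
    rw [hε]
    simp only
    apply Finset.sum_congr rfl
    intro b _
    by_cases hy : y ∈ H₁
    · have : n * y * n⁻¹ = y := by
        rw [(hmemH₁ y).mp hy]; group
      rw [this]
    · have hy' : n * y * n⁻¹ ∉ H₁ := by
        intro hc
        apply hy
        have hnH : n ∈ H₁ := (hmemH₁ n).mpr rfl
        have : y = n⁻¹ * (n * y * n⁻¹) * n := by group
        rw [this]
        exact H₁.mul_mem (H₁.mul_mem (H₁.inv_mem hnH) hc) hnH
      unfold subgroupBlockCoeff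
      rw [dif_neg hy, dif_neg hy']
  have hF₂n : ∀ γ, F₂ (n * γ) = F₂ γ := by
    intro γ
    rw [hF₂]
    simp only
    have hcond : (n * γ * ppEl p h * (n * γ)⁻¹ = n) ↔ (γ * ppEl p h * γ⁻¹ = n) := by
      constructor
      · intro hc
        have : γ * ppEl p h * γ⁻¹ = n⁻¹ * (n * γ * ppEl p h * (n * γ)⁻¹) * n := by group
        rw [this, hc]; group
      · intro hc
        have : n * γ * ppEl p h * (n * γ)⁻¹ = n * (γ * ppEl p h * γ⁻¹) * n⁻¹ := by group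
        rw [this, hc]; group
    rw [if_congr hcond rfl rfl]
    by_cases hc : γ * ppEl p h * γ⁻¹ = n
    · rw [if_pos hc, if_pos hc]
      have : n * γ * prEl p h * (n * γ)⁻¹ * a⁻¹ = n * (γ * prEl p h * γ⁻¹ * a⁻¹) * n⁻¹ := by
        have h1 : n⁻¹ * a⁻¹ = a⁻¹ * n⁻¹ := by
          rw [← mul_inv_rev, ← mul_inv_rev, hacomm]
        calc n * γ * prEl p h * (n * γ)⁻¹ * a⁻¹
            = n * (γ * prEl p h * γ⁻¹) * (n⁻¹ * a⁻¹) := by group
          _ = n * (γ * prEl p h * γ⁻¹) * (a⁻¹ * n⁻¹) := by rw [h1]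
          _ = n * (γ * prEl p h * γ⁻¹ * a⁻¹) * n⁻¹ := by group
      rw [this, hεn]
    · rw [if_neg hc, if_neg hc]
  have hc1 := sum_eq_index_mul_sum N n hgenN F₁ hF₁n
  have hc2 := sum_eq_index_mul_sum N n hgenN F₂ hF₂n
  have hidx0 : (N.index : ℂ) ≠ 0 := by
    obtain ⟨k, hk⟩ := hidx
    rw [hk]
    exact_mod_cast pow_ne_zero k hp.out.ne_zero
  have hsumN : ∑ c : N, F₁ (c : Γ) = ∑ c : N, F₂ (c : Γ) := by
    rw [hc1, hc2] at hsum12
    exact mul_left_cancel₀ hidx0 hsum12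
  have hsumK : ∑ c : K, F₁ (ι c) = ∑ c : K, F₂ (ι c) := by
    rw [Fintype.sum_equiv φ.toEquiv (fun c => F₁ (ι c)) (fun m => F₁ (m : Γ))
        (fun c => by simp only [MulEquiv.toEquiv_eq_coe, MulEquiv.coe_toEquiv, hφ]),
      Fintype.sum_equiv φ.toEquiv (fun c => F₂ (ι c)) (fun m => F₂ (m : Γ))
        (fun c => by simp only [MulEquiv.toEquiv_eq_coe, MulEquiv.coe_toEquiv, hφ])]
    exact hsumN
  -- Step 5: identification of ε
  have hεeq : ∀ y : Γ, ε y = ∑ᶠ A'' ∈ {A'' : Set (IrrCharacter K') | IsPBlock M A'' ∧ ∀ θ ∈ A'',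
      MemLocalIdeal M ((∑ x : K', extCoeff ι A (ι' x) * (θ : K' → ℂ) x
        / (θ : K' → ℂ) 1) - 1)}, extCoeff ι' A'' y := by
    intro y
    have hrangeH : ∀ k', ι' k' ∈ H₁ := by
      intro k'
      rw [hmemH₁]
      exact ((hrange' (ι' k')).mp ⟨k', rfl⟩).2
    by_cases hy : y ∈ H₁
    swap
    · rw [hε]
      simp only
      rw [Finset.sum_eq_zero, finsum_mem_eq_zero_of_forall_eq_zero]
      · intro A'' _
        apply extCoeff_of_not_mem
        rintro ⟨k', rfl⟩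
        exact hy (hrangeH k')
      · intro b _
        unfold subgroupBlockCoeff
        rw [dif_neg hy]
    -- y ∈ H₁
    obtain ⟨N', hN'⟩ : ∃ N' : Subgroup H₁, N' = N.subgroupOf H₁ := ⟨_, rfl⟩
    haveI : Fintype N' := Fintype.ofFinite _
    have hN'norm : N'.Normal := by rw [hN']; exact hNnorm.subgroupOf H₁
    have hmemN' : ∀ x : H₁, x ∈ N' ↔ (x : Γ) ∈ N := by
      intro x; rw [hN', Subgroup.mem_subgroupOf]
    have hidx' : ∃ k : ℕ, N'.index = p ^ k := by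
      obtain ⟨k, hk⟩ := hidx
      have : N'.index ∣ N.index := by
        rw [hN']
        exact Subgroup.relIndex_dvd_index_of_normal N H₁
      rw [hk] at this
      obtain ⟨j, _, hj⟩ := (Nat.dvd_prime_pow hp.out).1 this
      exact ⟨j, hj⟩
    have hnH : n ∈ H₁ := (hmemH₁ n).mpr rfl
    have hz : ∀ x : H₁, (⟨n, hnH⟩ : H₁) * x = x * ⟨n, hnH⟩ := by
      intro x
      apply Subtype.ext
      exact (hmemH₁ x).mp x.2
    have hgen' : ∀ x : H₁, ∃ i : ℕ, ∃ c ∈ N', x = (⟨n, hnH⟩ : H₁) ^ i * c := by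
      intro x
      obtain ⟨i, c, hc, hx⟩ := hgenN (x : Γ)
      have hcH : c ∈ H₁ := by
        have : c = (n ^ i)⁻¹ * (x : Γ) := by rw [hx]; group
        rw [this]
        exact H₁.mul_mem (H₁.inv_mem (H₁.pow_mem hnH i)) x.2
      refine ⟨i, ⟨c, hcH⟩, (hmemN' _).mpr hc, ?_⟩
      apply Subtype.ext
      rw [Subgroup.coe_mul, Subgroup.coe_pow]
      exact hx
    -- the equivalence K' ≃* N'
    obtain ⟨φ', hφ'⟩ : ∃ φ' : K' ≃* N', ∀ k', (((φ' k' : N') : H₁) : Γ) = ι' k' := by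
      have h1 : ∀ k', ι' k' ∈ H₁ := hrangeH
      have h2 : ∀ k', (ι'.codRestrict H₁ h1) k' ∈ N' := by
        intro k'
        rw [hmemN']
        exact (hmemN _).mpr ((hrange' (ι' k')).mp ⟨k', rfl⟩).1
      refine ⟨MulEquiv.ofBijective ((ι'.codRestrict H₁ h1).codRestrict N' h2) ⟨?_, ?_⟩,
        fun k' => rfl⟩
      · intro k₁ k₂ hk
        apply hι'
        have := congrArg (fun m : N' => ((m : H₁) : Γ)) hk
        exact this
      · intro m
        have hm : ((m : H₁) : Γ) ∈ N := (hmemN' _).mp m.2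
        obtain ⟨k', hk'⟩ := (hrange' ((m : H₁) : Γ)).mpr
          ⟨(hmemN _).mp hm, (hmemH₁ _).mp (m : H₁).2⟩
        exact ⟨k', Subtype.ext (Subtype.ext hk')⟩
    -- the conditions
    obtain ⟨W, hWdef⟩ : ∃ W : IrrCharacter H₁ → Prop, W = fun ζ : IrrCharacter H₁ => MemLocalIdeal M
        ((∑ᶠ x : H₁, blockCoeff 𝔅 (x : Γ) * (ζ : H₁ → ℂ) x / (ζ : H₁ → ℂ) 1) - 1) := ⟨_, rfl⟩
    obtain ⟨cond, hconddef⟩ : ∃ cond : IrrCharacter K' → Prop, cond = fun θ : IrrCharacter K' => MemLocalIdeal M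
        ((∑ x : K', extCoeff ι A (ι' x) * (θ : K' → ℂ) x / (θ : K' → ℂ) 1) - 1) := ⟨_, rfl⟩
    have hW : ∀ (ζ : IrrCharacter H₁) (θ : IrrCharacter K'),
        classInner (fun m : N' => (ζ : H₁ → ℂ) m) (mapIrr φ' θ : N' → ℂ) ≠ 0 →
          (W ζ ↔ cond θ) := by
      intro ζ θ hcon
      rw [hWdef, hconddef]
      simp only
      have hres := restrict_eq_smul_of_invariant N' hN'norm ζ.2 (mapIrr φ' θ).2
        (fun x => conjFun_eq_of_central_gen N' hN'norm ⟨n, hnH⟩ hz hgen'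
          (IsIrrCharacter.isClassFunction (mapIrr φ' θ).2) x) hcon
      have hresm : ∀ m : N', (ζ : H₁ → ℂ) (m : H₁)
          = classInner (fun m : N' => (ζ : H₁ → ℂ) m) (mapIrr φ' θ : N' → ℂ)
            * (mapIrr φ' θ : N' → ℂ) m := by
        intro m
        have := congrFun hres m
        simpa using this
      have hsum : ∑ᶠ x : H₁, blockCoeff 𝔅 (x : Γ) * (ζ : H₁ → ℂ) x / (ζ : H₁ → ℂ) 1
          = ∑ x : K', extCoeff ι A (ι' x) * (θ : K' → ℂ) x / (θ : K' → ℂ) 1 := by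
        rw [finsum_eq_sum_of_fintype,
          sum_eq_sum_subgroup_of_support N'
            (fun x : H₁ => blockCoeff 𝔅 (x : Γ) * (ζ : H₁ → ℂ) x / (ζ : H₁ → ℂ) 1)]
        · symm
          apply Fintype.sum_equiv φ'.toEquiv
          intro k'
          simp only [MulEquiv.toEquiv_eq_coe, MulEquiv.coe_toEquiv]
          rw [hφ', h𝔅coeff, hresm (φ' k')]
          have h1 : (ζ : H₁ → ℂ) 1 = classInner (fun m : N' => (ζ : H₁ → ℂ) m)
              (mapIrr φ' θ : N' → ℂ) * (mapIrr φ' θ : N' → ℂ) 1 := hresm 1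
          rw [h1, mapIrr_apply_apply, mapIrr_apply_one]
          have hθ1 := IsIrrCharacter.apply_one_ne_zero θ.2
          field_simp
        · intro x hx
          have : (x : Γ) ∉ N := fun hc => hx ((hmemN' x).mpr hc)
          rw [h𝔅coeff, extCoeff_of_not_mem ι A (fun hc => this ((hmemN _).mpr hc))]
          simp
      rw [hsum]
    have hkey := sum_blockCoeff_central_ext hM N' hN'norm hidx' ⟨n, hnH⟩ hz hgen' φ' W cond hW
      ⟨y, hy⟩
    -- left side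
    have hleft : ε y = ∑ᶠ 𝔤 ∈ {𝔤 : Set (IrrCharacter H₁) | IsPBlock M 𝔤 ∧ ∀ ζ ∈ 𝔤, W ζ},
        blockCoeff 𝔤 ⟨y, hy⟩ := by
      rw [hε]
      simp only
      rw [← finsum_mem_coe_finset]
      apply finsum_mem_congr
      · ext b
        simp only [Finset.mem_coe, mem_inducingBlocks, Set.mem_ofPred_eq]
        have hQ : IsPGroup p (Subgroup.zpowers n) := by
          obtain ⟨k, hk⟩ := hn
          apply IsPGroup.of_card (n := k)
          rw [Nat.card_zpowers, hk]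
        rw [isInducedBlock_iff_omega hM (Subgroup.zpowers n) hQ H₁
          (by rw [centralizer_zpowers_eq]; exact hH₁) b 𝔅, hWdef]
        constructor
        · rintro ⟨h1, _, h3⟩
          exact ⟨h1, h3⟩
        · rintro ⟨h1, h3⟩
          exact ⟨h1, h𝔅block, h3⟩
      · intro b _
        unfold subgroupBlockCoeff
        rw [dif_pos hy]
    rw [hleft, hkey, hconddef]
    apply finsum_mem_congr rfl
    intro A'' _
    by_cases hyN : (⟨y, hy⟩ : H₁) ∈ N'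
    · rw [extendByZero_of_mem N' _ hyN]
      have : y = ι' (φ'.symm ⟨⟨y, hy⟩, hyN⟩) := by
        rw [← hφ', MulEquiv.apply_symm_apply]
      conv_rhs => rw [this]
      rw [extCoeff_apply ι' hι']
    · rw [extendByZero_of_not_mem N' _ hyN, extCoeff_of_not_mem]
      rintro ⟨k', rfl⟩
      apply hyN
      rw [hmemN']
      exact (hmemN _).mpr ((hrange' (ι' k')).mp ⟨k', rfl⟩).1
  -- conclusion
  have hLHS : ∀ c : K, extCoeff ι A (ι c * h * (ι c)⁻¹ * (n * a)⁻¹) = F₁ (ι c) := by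
    intro c
    rw [hF₁]
    simp only
    rw [h𝔅coeff, hg]
  rw [Finset.sum_congr rfl (fun c _ => hLHS c), hsumK, hF₂]
  simp only
  rw [← Finset.sum_filter]
  apply Finset.sum_congr rfl
  intro c _
  rw [hεeq]

end lemmaR

end Cfsg.Agent.Lib.Helper6.Star
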