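import Mathlib
import Cfsg.Agent.Lib.Helper6.BrConj2
import Cfsg.Agent.Lib.Helper6.BrSat1
import Cfsg.Agent.Lib.Helper6.BrAbel
import Cfsg.Agent.Lib.Helper6.BrFull
import Cfsg.Agent.Lib.Helper6.BrPair2
import Cfsg.Agent.Lib.Helper6.SylowMap
import Cfsg.Agent.Lib.Helper6.GreenCount
import Cfsg.Agent.Lib.Helper6.BlkDefect
import Cfsg.Agent.Lib.Helper6.StarR3

set_option autoImplicit false
set_option linter.unusedSectionVars false

/-!
Calculus of the idempotent coefficient functions `pc a` of indexed Brauer pairs.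
-/

open Cfsg

namespace Cfsg.Agent.Lib.Helper6.Star

open Cfsg.Agent.Lib.Helper6
open scoped ComplexConjugate

section pcdef

variable {G : Type*} [Group G] [Fintype G] [DecidableEq G]

/-- the idempotent coefficient function of an indexed pair, as a function on the group -/
noncomputable def pc (a : BrauerPairIdx G) : G → ℂ :=
  subgroupBlockCoeff (Subgroup.centralizer (a.1 : Set G)) a.2

theorem pc_of_mem (a : BrauerPairIdx G) {g : G}
    (hg : g ∈ Subgroup.centralizer (a.1 : Set G)) : pc a g = blockCoeff a.2 ⟨g, hg⟩ :=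
  subgroupBlockCoeff_of_mem _ _ hg

theorem pc_of_not_mem (a : BrauerPairIdx G) {g : G}
    (hg : g ∉ Subgroup.centralizer (a.1 : Set G)) : pc a g = 0 :=
  subgroupBlockCoeff_of_not_mem _ _ hg

theorem mem_of_pc_ne_zero (a : BrauerPairIdx G) {g : G} (h : pc a g ≠ 0) :
    g ∈ Subgroup.centralizer (a.1 : Set G) := by
  by_contra hg
  exact h (pc_of_not_mem a hg)

theorem pc_conjPair (x : G) (a : BrauerPairIdx G) (g : G) :
    pc (conjPair x a) g = pc a (x⁻¹ * g * x) :=
  subgroupBlockCoeff_conjBlock a.1 x a.2 g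

theorem pc_conj_of_mem_centralizer (a : BrauerPairIdx G) {c : G}
    (hc : c ∈ Subgroup.centralizer (a.1 : Set G)) (g : G) :
    pc a (c * g * c⁻¹) = pc a g := by
  by_cases hg : g ∈ Subgroup.centralizer (a.1 : Set G)
  · have hg' : c * g * c⁻¹ ∈ Subgroup.centralizer (a.1 : Set G) :=
      Subgroup.mul_mem _ (Subgroup.mul_mem _ hc hg) (Subgroup.inv_mem _ hc)
    rw [pc_of_mem a hg, pc_of_mem a hg']
    have := blockCoeff_conj_eq a.2 (⟨c, hc⟩ : Subgroup.centralizer (a.1 : Set G)) ⟨g, hg⟩
    rw [← this]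
    rfl
  · have hg' : c * g * c⁻¹ ∉ Subgroup.centralizer (a.1 : Set G) := by
      intro h
      apply hg
      have h2 := Subgroup.mul_mem _ (Subgroup.mul_mem _ (Subgroup.inv_mem _ hc) h) hc
      have h3 : c⁻¹ * (c * g * c⁻¹) * c = g := by group
      rwa [h3] at h2
    rw [pc_of_not_mem a hg, pc_of_not_mem a hg']

/-- an element fixing an indexed pair normalizes its group and stabilizes its block -/
theorem stab_of_conjPair_eq (x : G) (a : BrauerPairIdx G) (h : conjPair x a = a) :
    x ∈ Subgroup.normalizer (a.1 : Set G) ∧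
      StabilizesBlock (Subgroup.centralizer (a.1 : Set G)) a.2 x := by
  obtain ⟨Q, f⟩ := a
  have h1 : Q.map (MulAut.conj x).toMonoidHom = Q := congrArg Sigma.fst h
  have hn : x ∈ Subgroup.normalizer (Q : Set G) := mem_normalizer_of_map_conj_eq h1
  refine ⟨hn, ?_⟩
  show StabilizesBlock (Subgroup.centralizer (Q : Set G)) f x
  rw [conjPair_of_mem_normalizer Q hn f] at h
  have h2 := eq_of_heq (Sigma.mk.inj h).2
  rw [stabilizesBlock_iff]
  exact ⟨normalizer_le_normalizer_centralizer Q hn, h2⟩

theorem pc_conj_of_conjPair_eq (x : G) (a : BrauerPairIdx G) (h : conjPair x a = a) (g : G) :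
    pc a (x⁻¹ * g * x) = pc a g := by
  rw [← pc_conjPair, h]

theorem conjPair_inv_eq (x : G) (a : BrauerPairIdx G) (h : conjPair x a = a) :
    conjPair x⁻¹ a = a := by
  conv_lhs => rw [← h]
  exact conjPair_inv_conjPair x a

theorem pc_conj_of_conjPair_eq' (x : G) (a : BrauerPairIdx G) (h : conjPair x a = a) (g : G) :
    pc a (x * g * x⁻¹) = pc a g := by
  have := pc_conj_of_conjPair_eq x⁻¹ a (conjPair_inv_eq x a h) g
  rwa [inv_inv] at this

theorem conjPair_eq_of_mem_centralizer (a : BrauerPairIdx G) {c : G}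
    (hc : c ∈ Subgroup.centralizer (a.1 : Set G)) : conjPair c a = a := by
  obtain ⟨Q, f⟩ := a
  have hcN : c ∈ Subgroup.normalizer (Q : Set G) := by
    rw [Subgroup.mem_normalizer_iff]
    intro g
    have hc' : ∀ q ∈ (Q : Set G), q * c = c * q := fun q hq => Subgroup.mem_centralizer_iff.mp hc q hq
    constructor
    · intro hg
      have : c * g * c⁻¹ = g := by
        rw [← hc' g hg]; group
      rw [this]; exact hg
    · intro hg
      have h2 := hc' _ hg
      have : g = c * g * c⁻¹ := by
        have h3 : c * g * c⁻¹ * c = c * (c * g * c⁻¹) := h2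
        have h4 : c * g = c * (c * g * c⁻¹) := by
          rw [← h3]; group
        exact mul_left_cancel h4
      rw [this]; exact hg
  exact conjPair_of_stab Q f hcN
    (stabilizesBlock_of_mem_sup Q f (Subgroup.mem_sup_right hc))

/-- the stabilizer of an indexed pair -/
noncomputable def pairStab (a : BrauerPairIdx G) : Subgroup G where
  carrier := {x | conjPair x a = a}
  mul_mem' := by
    intro x y hx hy
    show conjPair (x * y) a = a
    rw [conjPair_mul, (hy : conjPair y a = a), (hx : conjPair x a = a)]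
  one_mem' := conjPair_one a
  inv_mem' := by
    intro x hx
    exact conjPair_inv_eq x a hx

theorem mem_pairStab (a : BrauerPairIdx G) (x : G) : x ∈ pairStab a ↔ conjPair x a = a :=
  Iff.rfl

theorem centralizer_le_pairStab (a : BrauerPairIdx G) :
    Subgroup.centralizer (a.1 : Set G) ≤ pairStab a :=
  fun _ hc => conjPair_eq_of_mem_centralizer a hc

theorem pairStab_le_normalizer (a : BrauerPairIdx G) :
    pairStab a ≤ Subgroup.normalizer (a.1 : Set G) :=
  fun x hx => (stab_of_conjPair_eq x a hx).1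

end pcdef

section pcfin

variable {G : Type*} [Group G] [Fintype G] [DecidableEq G] {p : ℕ} [hp : Fact p.Prime]
  {M : Ideal Cfsg.AlgInt}

theorem le_pairStab (hM : IsPModular p M) (a : BrauerPairIdx G)
    (ha : IsBrauerPair p M a.1 a.2) : a.1 ≤ pairStab a := by
  intro u hu
  obtain ⟨Q, f⟩ := a
  exact conjPair_of_mem hM Q f ha hu

/-- the coefficient function of a pair is an idempotent under convolution -/
theorem pc_conv (a : BrauerPairIdx G) (d : G) :
    ∑ c : G, pc a c * pc a (c⁻¹ * d) = pc a d := by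
  classical
  haveI : Fintype (Subgroup.centralizer (a.1 : Set G)) := Fintype.ofFinite _
  by_cases hd : d ∈ Subgroup.centralizer (a.1 : Set G)
  · rw [sum_eq_sum_subgroup_of_support (Subgroup.centralizer (a.1 : Set G))
      (fun c => pc a c * pc a (c⁻¹ * d))
      (fun x hx => by
        show pc a x * pc a (x⁻¹ * d) = 0
        rw [pc_of_not_mem a hx, zero_mul])]
    rw [pc_of_mem a hd, ← blockCoeff_conv a.2 (⟨d, hd⟩ : Subgroup.centralizer (a.1 : Set G))]
    apply Fintype.sum_equiv (Equiv.inv _)
    intro m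
    have hm' : (m : G)⁻¹ * d ∈ Subgroup.centralizer (a.1 : Set G) :=
      Subgroup.mul_mem _ (Subgroup.inv_mem _ m.2) hd
    rw [pc_of_mem a m.2, pc_of_mem a hm', mul_comm]
    simp only [Equiv.inv_apply, inv_inv]
    rfl
  · rw [pc_of_not_mem a hd]
    apply Finset.sum_eq_zero
    intro c _
    by_cases hc : c ∈ Subgroup.centralizer (a.1 : Set G)
    · have : c⁻¹ * d ∉ Subgroup.centralizer (a.1 : Set G) := by
        intro h
        apply hd
        have h2 := Subgroup.mul_mem _ hc h
        rwa [mul_inv_cancel_left] at h2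
      rw [pc_of_not_mem a this, mul_zero]
    · rw [pc_of_not_mem a hc, zero_mul]

theorem pc_eq_zero_of_pSingular (hM : IsPModular p M) (a : BrauerPairIdx G)
    (ha : IsPBlock M a.2) {g : G} (hg : p ∣ orderOf g) : pc a g = 0 := by
  by_cases hgC : g ∈ Subgroup.centralizer (a.1 : Set G)
  · rw [pc_of_mem a hgC]
    obtain ⟨χ₀, hχ₀⟩ := ha
    rw [hχ₀]
    haveI : Fintype (Subgroup.centralizer (a.1 : Set G)) := Fintype.ofFinite _
    apply blockCoeff_eq_zero_of_pSingular hM
    have : orderOf (⟨g, hgC⟩ : Subgroup.centralizer (a.1 : Set G)) = orderOf g :=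
      Subgroup.orderOf_mk g hgC
    rw [this]
    exact hg
  · exact pc_of_not_mem a hgC

end pcfin

end Cfsg.Agent.Lib.Helper6.Star
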