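import Mathlib
import Cfsg.Agent.Lib.Helper6.StarPc
import Cfsg.Agent.Lib.Helper6.BrPair5
import Cfsg.Agent.Lib.Helper6.GenCharOps
import Cfsg.Agent.Lib.Helper6.StarM

set_option autoImplicit false
set_option linter.unusedSectionVars false

/-!
The family of functions attached to a stable function on a maximal Brauer pair, and the
index type of the Burnside-mark induction.
-/

open Cfsg

namespace Cfsg.Agent.Lib.Helper6.Star

open Cfsg.Agent.Lib.Helper6
open scoped ComplexConjugate

section eta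

variable {G : Type*} [Group G] [Fintype G] [DecidableEq G] {p : ℕ} [hp : Fact p.Prime]
  {M : Ideal Cfsg.AlgInt}

/-- stability of a function under the fusion of the subpairs of `m` -/
def IsStableFn (p : ℕ) (M : Ideal Cfsg.AlgInt) (m : BrauerPairIdx G) (η : G → ℂ) : Prop :=
  ∀ (b : BrauerPairIdx G), Relation.ReflTransGen (NormalSubpairRel p M) b m →
    ∀ y : G, Relation.ReflTransGen (NormalSubpairRel p M) (conjPair y b) m →
      ∀ u ∈ b.1, η (y * u * y⁻¹) = η u

/-- the function attached to the pair `𝔰` -/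
noncomputable def etaFam (p : ℕ) (M : Ideal Cfsg.AlgInt) (m : BrauerPairIdx G) (η : G → ℂ)
    (𝔰 : BrauerPairIdx G) (t : G) : ℂ := by
  classical
  exact dite (∃ x : G, Relation.ReflTransGen (NormalSubpairRel p M) (conjPair x 𝔰) m)
    (fun h => η (h.choose * t * h.choose⁻¹)) (fun _ => 0)

theorem etaFam_eq {m : BrauerPairIdx G} {η : G → ℂ} (hη : IsStableFn p M m η)
    {𝔰 : BrauerPairIdx G} {x : G}
    (hx : Relation.ReflTransGen (NormalSubpairRel p M) (conjPair x 𝔰) m) {t : G}
    (ht : t ∈ 𝔰.1) : etaFam p M m η 𝔰 t = η (x * t * x⁻¹) := by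
  have hex : ∃ x : G, Relation.ReflTransGen (NormalSubpairRel p M) (conjPair x 𝔰) m := ⟨x, hx⟩
  unfold etaFam
  rw [dif_pos hex]
  have hx' := hex.choose_spec
  have h1 : conjPair (hex.choose * x⁻¹) (conjPair x 𝔰) = conjPair hex.choose 𝔰 := by
    rw [conjPair_mul, conjPair_inv_conjPair]
  have h2 := hη (conjPair x 𝔰) hx (hex.choose * x⁻¹) (by rw [h1]; exact hx') (x * t * x⁻¹)
    (conj_mem_map_conj 𝔰.1 x ht)
  rw [← h2]
  congr 1
  group

theorem etaFam_mono {m : BrauerPairIdx G} {η : G → ℂ} (hη : IsStableFn p M m η)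
    {j k : BrauerPairIdx G} (hjk : Relation.ReflTransGen (NormalSubpairRel p M) j k)
    (hk : ∃ x : G, Relation.ReflTransGen (NormalSubpairRel p M) (conjPair x k) m) {t : G}
    (ht : t ∈ j.1) : etaFam p M m η j t = etaFam p M m η k t := by
  obtain ⟨x, hx⟩ := hk
  have hj : Relation.ReflTransGen (NormalSubpairRel p M) (conjPair x j) m :=
    (chain_conj x j k hjk).trans hx
  rw [etaFam_eq hη hj ht, etaFam_eq hη hx (le_of_chain j k hjk ht)]

theorem etaFam_conj {m : BrauerPairIdx G} {η : G → ℂ} (hη : IsStableFn p M m η) (w : G)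
    {𝔰 : BrauerPairIdx G}
    (h𝔰 : ∃ x : G, Relation.ReflTransGen (NormalSubpairRel p M) (conjPair x 𝔰) m) {t : G}
    (ht : t ∈ 𝔰.1) :
    etaFam p M m η (conjPair w 𝔰) (w * t * w⁻¹) = etaFam p M m η 𝔰 t := by
  obtain ⟨x, hx⟩ := h𝔰
  have h1 : conjPair (x * w⁻¹) (conjPair w 𝔰) = conjPair x 𝔰 := by
    rw [conjPair_mul, conjPair_inv_conjPair]
  have h2 : Relation.ReflTransGen (NormalSubpairRel p M)
      (conjPair (x * w⁻¹) (conjPair w 𝔰)) m := by rw [h1]; exact hx
  rw [etaFam_eq hη h2 (conj_mem_map_conj 𝔰.1 w ht), etaFam_eq hη hx ht]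
  congr 1
  group

theorem etaFam_isGeneralizedCharacter {m : BrauerPairIdx G} {η : G → ℂ}
    (hη : IsStableFn p M m η)
    (hηP : IsGeneralizedCharacter m.1 (fun u : m.1 => η (u : G))) {𝔰 : BrauerPairIdx G}
    (h𝔰 : ∃ x : G, Relation.ReflTransGen (NormalSubpairRel p M) (conjPair x 𝔰) m) :
    IsGeneralizedCharacter 𝔰.1 (fun t : 𝔰.1 => etaFam p M m η 𝔰 (t : G)) := by
  obtain ⟨x, hx⟩ := h𝔰
  have hle : (conjPair x 𝔰).1 ≤ m.1 := le_of_chain _ _ hx
  let f : 𝔰.1 →* m.1 :=
    { toFun := fun t => ⟨x * (t : G) * x⁻¹, hle (conj_mem_map_conj 𝔰.1 x t.2)⟩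
      map_one' := Subtype.ext (by simp)
      map_mul' := by
        intro a b
        apply Subtype.ext
        show x * ((a : G) * (b : G)) * x⁻¹ = x * (a : G) * x⁻¹ * (x * (b : G) * x⁻¹)
        group }
  have h := IsGeneralizedCharacter.comp f hηP
  convert h using 1
  funext t
  exact etaFam_eq hη hx t.2

theorem exists_conj_le (hM : IsPModular p M) (B : Set (IrrCharacter G)) (m : BrauerPairIdx G)
    (hmax : IsMaximalBrauerPair p M B m.1 m.2) (𝔰 : BrauerPairIdx G)
    (h𝔰 : IsBrauerPairOf p M B 𝔰.1 𝔰.2) :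
    ∃ x : G, Relation.ReflTransGen (NormalSubpairRel p M) (conjPair x 𝔰) m := by
  obtain ⟨P, e⟩ := m
  obtain ⟨Q, f⟩ := 𝔰
  exact exists_conj_subpairLE hM B P Q e f hmax h𝔰

end eta

section idx

variable {G : Type*} [Group G] [Fintype G] [DecidableEq G] (p : ℕ) [hp : Fact p.Prime]
  (M : Ideal Cfsg.AlgInt) (B : Set (IrrCharacter G)) (At : Subgroup (G × G))

/-- the index type: a subgroup of `At` with a Brauer pair of `B` on its first projection -/
@[ext] structure Idx where
  T : Subgroup ↥At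
  pair : BrauerPairIdx G
  hfst : pair.1 = (T.map At.subtype).map (MonoidHom.fst G G)
  hB : IsBrauerPairOf p M B pair.1 pair.2

instance : Finite (Idx p M B At) :=
  Finite.of_injective (fun i : Idx p M B At => (i.T, i.pair)) (by
    intro i j h
    have h2 := Prod.ext_iff.mp h
    exact Idx.ext h2.1 h2.2)

variable {At}

theorem map_conj_map_subtype (T : Subgroup ↥At) (a : ↥At) :
    (T.map (MulAut.conj a).toMonoidHom).map At.subtype
      = (T.map At.subtype).map (MulAut.conj (a : G × G)).toMonoidHom := by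
  rw [Subgroup.map_map, Subgroup.map_map]
  congr 1

theorem map_fst_map_conj (T : Subgroup (G × G)) (w : G × G) :
    (T.map (MulAut.conj w).toMonoidHom).map (MonoidHom.fst G G)
      = (T.map (MonoidHom.fst G G)).map (MulAut.conj w.1).toMonoidHom := by
  rw [Subgroup.map_map, Subgroup.map_map]
  congr 1

variable {p M B}

noncomputable instance instSMulIdx : SMul ↥At (Idx p M B At) where
  smul a i :=
    { T := i.T.map (MulAut.conj a).toMonoidHom
      pair := conjPair ((a : G × G).1) i.pair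
      hfst := by
        show (i.pair.1).map (MulAut.conj (a : G × G).1).toMonoidHom = _
        rw [i.hfst, map_conj_map_subtype, map_fst_map_conj]
      hB := isBrauerPairOf_conj B i.pair.1 (a : G × G).1 i.pair.2 i.hB }

theorem smul_T (a : ↥At) (i : Idx p M B At) :
    (a • i).T = i.T.map (MulAut.conj a).toMonoidHom := rfl

theorem smul_pair (a : ↥At) (i : Idx p M B At) :
    (a • i).pair = conjPair ((a : G × G).1) i.pair := rfl

noncomputable instance instMulActionIdx : MulAction ↥At (Idx p M B At) where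
  one_smul i := by
    apply Idx.ext
    · rw [smul_T]
      ext x
      simp [Subgroup.mem_map]
    · rw [smul_pair]
      exact conjPair_one _
  mul_smul a b i := by
    apply Idx.ext
    · rw [smul_T, smul_T, smul_T, Subgroup.map_map]
      congr 1
      ext t <;> simp [MulAut.conj_apply, mul_assoc]
    · rw [smul_pair, smul_pair, smul_pair]
      exact conjPair_mul _ _ _

/-- the poset data for the Burnside-mark induction -/
noncomputable def posetData (hM : IsPModular p M) :
    StarM.PosetData ↥At (Idx p M B At) where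
  T i := i.T
  le i j := i.T ≤ j.T ∧ Relation.ReflTransGen (NormalSubpairRel p M) i.pair j.pair
  T_smul a i := rfl
  smul_of_mem i a ha := by
    apply Idx.ext
    · rw [smul_T]
      exact map_conj_eq_of_mem_normalizer (Subgroup.le_normalizer ha)
    · rw [smul_pair]
      have hmem : (a : G × G).1 ∈ i.pair.1 := by
        rw [i.hfst]
        exact Subgroup.mem_map.mpr ⟨(a : G × G), Subgroup.mem_map.mpr ⟨a, ha, rfl⟩, rfl⟩
      exact conjPair_of_mem hM i.pair.1 i.pair.2 i.hB.1 hmem
  le_refl i := ⟨le_rfl, Relation.ReflTransGen.refl⟩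
  le_trans i j k h1 h2 := ⟨h1.1.trans h2.1, h1.2.trans h2.2⟩
  T_mono i j h := h.1
  eq_of_le i j h hT := by
    have h1 : i.pair.1 = j.pair.1 := by rw [i.hfst, j.hfst, hT]
    apply Idx.ext hT
    obtain ⟨Ti, ⟨Q, f⟩, hf1, hf2⟩ := i
    obtain ⟨Tj, ⟨Q', f'⟩, hf1', hf2'⟩ := j
    change Q = Q' at h1
    subst h1
    have h3 := subpair_unique hM hf2'.1 h.2 Relation.ReflTransGen.refl
    show (⟨Q, f⟩ : BrauerPairIdx G) = ⟨Q, f'⟩
    rw [h3]
  le_smul a i j h := ⟨Subgroup.map_mono h.1, chain_conj _ _ _ h.2⟩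
  exists_le j H hH := by
    have hQ : (H.map At.subtype).map (MonoidHom.fst G G) ≤ j.pair.1 := by
      rw [j.hfst]; exact Subgroup.map_mono (Subgroup.map_mono hH)
    obtain ⟨f, hf, hle⟩ := exists_subpair hM j.hB.1 hQ
    have hB' : IsBrauerPairOf p M B ((H.map At.subtype).map (MonoidHom.fst G G)) f :=
      (isBrauerPairOf_iff_of_chain hM B j.hB.2.1 ⟨_, f⟩ j.pair hle).mp j.hB
    exact ⟨⟨H, ⟨_, f⟩, rfl, hB'⟩, ⟨hH, hle⟩, rfl⟩
  le_of_le i i' j h h' hT := by
    refine ⟨hT, ?_⟩
    have hAA : i.pair.1 ≤ i'.pair.1 := by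
      rw [i.hfst, i'.hfst]; exact Subgroup.map_mono (Subgroup.map_mono hT)
    exact subpair_mono hM j.hB.1 h.2 h'.2 hAA

end idx

end Cfsg.Agent.Lib.Helper6.Star
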