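import Mathlib
import Cfsg.Agent.Lib.Helper6.StarPc
import Cfsg.Agent.Lib.Helper6.BlkDefLe
import Cfsg.Agent.Lib.Helper6.PPartEl

set_option autoImplicit false
set_option linter.unusedSectionVars false

/-!
Fixed points of twisted diagonal subgroups, and the relative second main theorem in
subgroup form.
-/

open Cfsg

namespace Cfsg.Agent.Lib.Helper6.Star

open Cfsg.Agent.Lib.Helper6
open scoped ComplexConjugate

section fix

variable {G : Type*} [Group G]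

/-- the stabilizer of `x` for the two-sided action of `G × G` on `G` -/
def fixStab (x : G) : Subgroup (G × G) where
  carrier := {t | t.1 * x * t.2⁻¹ = x}
  mul_mem' := by
    intro s t hs ht
    have hs' : s.1 * x * s.2⁻¹ = x := hs
    have ht' : t.1 * x * t.2⁻¹ = x := ht
    show (s * t).1 * x * (s * t).2⁻¹ = x
    calc (s * t).1 * x * (s * t).2⁻¹ = s.1 * (t.1 * x * t.2⁻¹) * s.2⁻¹ := by
          simp only [Prod.fst_mul, Prod.snd_mul, mul_inv_rev]; group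
      _ = x := by rw [ht', hs']
  one_mem' := by
    show (1 : G × G).1 * x * (1 : G × G).2⁻¹ = x
    simp
  inv_mem' := by
    intro t ht
    have ht' : t.1 * x * t.2⁻¹ = x := ht
    show (t⁻¹).1 * x * ((t⁻¹).2)⁻¹ = x
    simp only [Prod.fst_inv, Prod.snd_inv, inv_inv]
    calc t.1⁻¹ * x * t.2 = t.1⁻¹ * (t.1 * x * t.2⁻¹) * t.2 := by rw [ht']
      _ = x := by group

theorem mem_fixStab (x : G) (t : G × G) : t ∈ fixStab x ↔ t.1 * x * t.2⁻¹ = x := Iff.rfl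

/-- the points fixed by a subgroup of `G × G` -/
def fixSet (T : Subgroup (G × G)) : Set G := {x | T ≤ fixStab x}

theorem mem_fixSet (T : Subgroup (G × G)) (x : G) :
    x ∈ fixSet T ↔ ∀ t ∈ T, t.1 * x * t.2⁻¹ = x := Iff.rfl

theorem mem_fixSet_sup (T : Subgroup (G × G)) (n : G × G) (x : G) :
    x ∈ fixSet (T ⊔ Subgroup.zpowers n) ↔ x ∈ fixSet T ∧ n.1 * x * n.2⁻¹ = x := by
  show T ⊔ Subgroup.zpowers n ≤ fixStab x ↔ T ≤ fixStab x ∧ n.1 * x * n.2⁻¹ = x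
  rw [sup_le_iff, Subgroup.zpowers_le]
  rfl

theorem fixSet_anti {T T' : Subgroup (G × G)} (h : T ≤ T') : fixSet T' ⊆ fixSet T :=
  fun _ hx => le_trans h hx

theorem mem_fixSet_iff_of_mem {T : Subgroup (G × G)} {Q : Subgroup G}
    (hQ : Q = T.map (MonoidHom.fst G G)) {x₀ : G} (h₀ : x₀ ∈ fixSet T) (x : G) :
    x ∈ fixSet T ↔ x * x₀⁻¹ ∈ Subgroup.centralizer (Q : Set G) := by
  subst hQ
  rw [Subgroup.mem_centralizer_iff]
  constructor
  · intro hx q hq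
    obtain ⟨t, ht, rfl⟩ := Subgroup.mem_map.mp hq
    have h1 : t.1 * x * t.2⁻¹ = x := hx ht
    have h2 : t.1 * x₀ * t.2⁻¹ = x₀ := h₀ ht
    show t.1 * (x * x₀⁻¹) = x * x₀⁻¹ * t.1
    calc t.1 * (x * x₀⁻¹) = (t.1 * x * t.2⁻¹) * (t.1 * x₀ * t.2⁻¹)⁻¹ * t.1 := by group
      _ = x * x₀⁻¹ * t.1 := by rw [h1, h2]
  · intro hc t ht
    have h2 : t.1 * x₀ * t.2⁻¹ = x₀ := h₀ ht
    have h3 : t.1 * (x * x₀⁻¹) = x * x₀⁻¹ * t.1 :=
      hc t.1 (Subgroup.mem_map.mpr ⟨t, ht, rfl⟩)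
    show t.1 * x * t.2⁻¹ = x
    calc t.1 * x * t.2⁻¹ = (t.1 * (x * x₀⁻¹)) * x₀ * t.2⁻¹ := by group
      _ = x * x₀⁻¹ * (t.1 * x₀ * t.2⁻¹) := by rw [h3]; group
      _ = x := by rw [h2]; group

theorem conj_mem_fixSet {T : Subgroup (G × G)} {z : G × G}
    (hz : z ∈ Subgroup.normalizer (T : Set (G × G))) {x : G} (hx : x ∈ fixSet T) :
    z.1⁻¹ * x * z.2 ∈ fixSet T := by
  intro t ht
  have h1 : z * t * z⁻¹ ∈ T := (Subgroup.mem_normalizer_iff.mp hz t).mp ht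
  have h2 : (z * t * z⁻¹).1 * x * ((z * t * z⁻¹).2)⁻¹ = x := hx h1
  simp only [Prod.fst_mul, Prod.snd_mul, Prod.fst_inv, Prod.snd_inv] at h2
  show t.1 * (z.1⁻¹ * x * z.2) * t.2⁻¹ = z.1⁻¹ * x * z.2
  calc t.1 * (z.1⁻¹ * x * z.2) * t.2⁻¹
      = z.1⁻¹ * (z.1 * t.1 * z.1⁻¹ * x * (z.2 * t.2 * z.2⁻¹)⁻¹) * z.2 := by group
    _ = z.1⁻¹ * x * z.2 := by rw [h2]

theorem conj_mem_fixSet_iff {T : Subgroup (G × G)} {z : G × G}
    (hz : z ∈ Subgroup.normalizer (T : Set (G × G))) (x : G) :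
    z.1⁻¹ * x * z.2 ∈ fixSet T ↔ x ∈ fixSet T := by
  constructor
  · intro h
    have h2 := conj_mem_fixSet (Subgroup.inv_mem _ hz) h
    simp only [Prod.fst_inv, Prod.snd_inv, inv_inv] at h2
    have h3 : z.1 * (z.1⁻¹ * x * z.2) * z.2⁻¹ = x := by group
    rwa [h3] at h2
  · exact conj_mem_fixSet hz

/-- left multiplication by a centralizing element preserves the fixed points -/
theorem mul_mem_fixSet_iff {T : Subgroup (G × G)} {Q : Subgroup G}
    (hQ : Q = T.map (MonoidHom.fst G G)) {c : G}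
    (hc : c ∈ Subgroup.centralizer (Q : Set G)) (x : G) :
    c⁻¹ * x ∈ fixSet T ↔ x ∈ fixSet T := by
  subst hQ
  have key : ∀ (d : G), d ∈ Subgroup.centralizer
      ((T.map (MonoidHom.fst G G) : Subgroup G) : Set G) → ∀ y, y ∈ fixSet T → d * y ∈ fixSet T := by
    intro d hd y hy t ht
    have h1 : t.1 * y * t.2⁻¹ = y := hy ht
    have h2 : t.1 * d = d * t.1 :=
      Subgroup.mem_centralizer_iff.mp hd t.1 (Subgroup.mem_map.mpr ⟨t, ht, rfl⟩)
    show t.1 * (d * y) * t.2⁻¹ = d * y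
    calc t.1 * (d * y) * t.2⁻¹ = (t.1 * d) * y * t.2⁻¹ := by group
      _ = d * (t.1 * y * t.2⁻¹) := by rw [h2]; group
      _ = d * y := by rw [h1]
  constructor
  · intro h
    have := key c hc _ h
    rwa [mul_inv_cancel_left] at this
  · intro h
    exact key c⁻¹ (Subgroup.inv_mem _ hc) x h

/-- the indicator function of the fixed points -/
noncomputable def fixInd (T : Subgroup (G × G)) (x : G) : ℂ := by
  classical exact if x ∈ fixSet T then 1 else 0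

theorem fixInd_of_mem {T : Subgroup (G × G)} {x : G} (h : x ∈ fixSet T) : fixInd T x = 1 := by
  unfold fixInd
  rw [if_pos h]

theorem fixInd_of_not_mem {T : Subgroup (G × G)} {x : G} (h : x ∉ fixSet T) :
    fixInd T x = 0 := by
  unfold fixInd
  rw [if_neg h]

theorem fixInd_congr {T T' : Subgroup (G × G)} {x y : G} (h : x ∈ fixSet T ↔ y ∈ fixSet T') :
    fixInd T x = fixInd T' y := by
  by_cases hx : x ∈ fixSet T
  · rw [fixInd_of_mem hx, fixInd_of_mem (h.mp hx)]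
  · rw [fixInd_of_not_mem hx, fixInd_of_not_mem (fun hy => hx (h.mpr hy))]

theorem fixInd_mul_self (T : Subgroup (G × G)) (x : G) : fixInd T x * fixInd T x = fixInd T x := by
  by_cases hx : x ∈ fixSet T
  · rw [fixInd_of_mem hx, one_mul]
  · rw [fixInd_of_not_mem hx, zero_mul]

theorem fixInd_sup (T : Subgroup (G × G)) (n : G × G) (x : G) [Decidable (n.1 * x * n.2⁻¹ = x)] :
    fixInd (T ⊔ Subgroup.zpowers n) x = fixInd T x * (if n.1 * x * n.2⁻¹ = x then 1 else 0) := by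
  by_cases hx : x ∈ fixSet T
  · by_cases hn : n.1 * x * n.2⁻¹ = x
    · rw [fixInd_of_mem hx, if_pos hn, fixInd_of_mem ((mem_fixSet_sup T n x).mpr ⟨hx, hn⟩), one_mul]
    · rw [if_neg hn, mul_zero]
      exact fixInd_of_not_mem (fun h => hn ((mem_fixSet_sup T n x).mp h).2)
  · rw [fixInd_of_not_mem hx, zero_mul]
    exact fixInd_of_not_mem (fun h => hx ((mem_fixSet_sup T n x).mp h).1)

theorem sum_fixInd_mul [Fintype G] {T : Subgroup (G × G)} {Q : Subgroup G}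
    (hQ : Q = T.map (MonoidHom.fst G G)) [Fintype (Subgroup.centralizer (Q : Set G))]
    {x₀ : G} (h₀ : x₀ ∈ fixSet T) (F : G → ℂ) :
    ∑ x : G, fixInd T x * F x
      = ∑ c : Subgroup.centralizer (Q : Set G), F ((c : G) * x₀) := by
  classical
  rw [← Equiv.sum_comp (Equiv.mulRight x₀) (fun x => fixInd T x * F x)]
  rw [sum_eq_sum_subgroup_of_support (Subgroup.centralizer (Q : Set G))
    (fun y => fixInd T (Equiv.mulRight x₀ y) * F (Equiv.mulRight x₀ y))]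
  · apply Finset.sum_congr rfl
    intro c _
    have h1 : (c : G) * x₀ ∈ fixSet T := by
      rw [mem_fixSet_iff_of_mem hQ h₀, mul_inv_cancel_right]
      exact c.2
    show fixInd T ((c : G) * x₀) * F ((c : G) * x₀) = F ((c : G) * x₀)
    rw [fixInd_of_mem h1, one_mul]
  · intro y hy
    have h1 : y * x₀ ∉ fixSet T := by
      intro h
      apply hy
      have h2 := (mem_fixSet_iff_of_mem hQ h₀ _).mp h
      rwa [mul_inv_cancel_right] at h2
    show fixInd T (y * x₀) * F (y * x₀) = 0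
    rw [fixInd_of_not_mem h1, zero_mul]

theorem exists_pow_mul_of_mem_sup [Finite G] (C : Subgroup G) (n : G)
    (hn : n ∈ Subgroup.normalizer (C : Set G)) {g : G} (hg : g ∈ C ⊔ Subgroup.zpowers n) :
    ∃ i : ℕ, ∃ c ∈ C, g = n ^ i * c := by
  let S : Subgroup G :=
    { carrier := {g | ∃ i : ℤ, ∃ c ∈ C, g = n ^ i * c}
      one_mem' := ⟨0, 1, C.one_mem, by simp⟩
      mul_mem' := by
        rintro _ _ ⟨i, c, hc, rfl⟩ ⟨j, d, hd, rfl⟩
        have hw : n ^ (-j) ∈ Subgroup.normalizer (C : Set G) := Subgroup.zpow_mem _ hn _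
        have h1 : n ^ (-j) * c * (n ^ (-j))⁻¹ ∈ C := (Subgroup.mem_normalizer_iff.mp hw c).mp hc
        refine ⟨i + j, n ^ (-j) * c * (n ^ (-j))⁻¹ * d, C.mul_mem h1 hd, ?_⟩
        group
      inv_mem' := by
        rintro _ ⟨i, c, hc, rfl⟩
        have hw : n ^ i ∈ Subgroup.normalizer (C : Set G) := Subgroup.zpow_mem _ hn _
        have h1 : n ^ i * c⁻¹ * (n ^ i)⁻¹ ∈ C :=
          (Subgroup.mem_normalizer_iff.mp hw c⁻¹).mp (C.inv_mem hc)
        refine ⟨-i, n ^ i * c⁻¹ * (n ^ i)⁻¹, h1, ?_⟩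
        group }
  have hle : C ⊔ Subgroup.zpowers n ≤ S := by
    apply sup_le
    · intro c hc
      exact ⟨0, c, hc, by simp⟩
    · rw [Subgroup.zpowers_le]
      exact ⟨1, 1, C.one_mem, by simp⟩
  obtain ⟨i, c, hc, rfl⟩ := hle hg
  have h1 : n ^ i ∈ Submonoid.powers n :=
    mem_powers_iff_mem_zpowers.mpr ⟨i, rfl⟩
  obtain ⟨k, hk⟩ := (Submonoid.mem_powers_iff _ _).mp h1
  exact ⟨k, c, hc, by rw [hk]⟩

theorem mem_centralizer_sup_zpowers (Q : Subgroup G) (m g : G) :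
    g ∈ Subgroup.centralizer ((Q ⊔ Subgroup.zpowers m : Subgroup G) : Set G)
      ↔ g ∈ Subgroup.centralizer (Q : Set G) ∧ m * g = g * m := by
  constructor
  · intro hg
    refine ⟨Subgroup.centralizer_le (fun q hq => Subgroup.mem_sup_left hq) hg, ?_⟩
    exact Subgroup.mem_centralizer_iff.mp hg m (Subgroup.mem_sup_right (Subgroup.mem_zpowers m))
  · rintro ⟨h1, h2⟩
    have hle : Q ⊔ Subgroup.zpowers m ≤ Subgroup.centralizer ({g} : Set G) := by
      apply sup_le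
      · intro q hq
        rw [mem_centralizer_singleton_iff]
        exact (Subgroup.mem_centralizer_iff.mp h1 q hq).symm
      · rw [Subgroup.zpowers_le, mem_centralizer_singleton_iff]
        exact h2.symm
    rw [Subgroup.mem_centralizer_iff]
    intro q hq
    have := hle hq
    rw [mem_centralizer_singleton_iff] at this
    exact this.symm

end fix

section relsub

variable {G : Type*} [Group G] [Fintype G] [DecidableEq G] {p : ℕ} [hp : Fact p.Prime]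
  {M : Ideal Cfsg.AlgInt}

theorem extCoeff_inclusion {H Γ' : Subgroup G} (hle : H ≤ Γ') (A : Set (IrrCharacter H))
    (γ : Γ') :
    extCoeff (Subgroup.inclusion hle) A γ = subgroupBlockCoeff H A (γ : G) := by
  by_cases h : (γ : G) ∈ H
  · have h1 : γ = Subgroup.inclusion hle ⟨γ, h⟩ := Subtype.ext rfl
    rw [subgroupBlockCoeff_of_mem _ _ h]
    conv_lhs => rw [h1]
    exact extCoeff_apply _ (Subgroup.inclusion_injective hle) A _
  · rw [subgroupBlockCoeff_of_not_mem _ _ h]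
    apply extCoeff_of_not_mem
    rintro ⟨k, hk⟩
    apply h
    rw [← hk]
    exact k.2

theorem prEl_coe (E : Subgroup G) (e : E) : prEl p (e : G) = ((prEl p e : E) : G) := by
  unfold prEl
  rw [Subgroup.coe_mul, Subgroup.coe_inv, ppEl_coe]

/-- the relative second main theorem, for subgroups of a fixed group -/
theorem lemmaR_sub (hM : IsPModular p M) (C C' Γ' : Subgroup G) [Fintype C] [Fintype C']
    (hCΓ : C ≤ Γ') (hC'Γ : C' ≤ Γ') (hΓN : Γ' ≤ Subgroup.normalizer (C : Set G))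
    (n₁ : G) (hn₁ : ∃ k : ℕ, orderOf n₁ = p ^ k) (hn₁Γ : n₁ ∈ Γ')
    (hgen : ∀ γ ∈ Γ', ∃ i : ℕ, ∃ c ∈ C, γ = n₁ ^ i * c)
    (A : Set (IrrCharacter C)) (hA : IsPBlock M A)
    (hst : ∀ γ ∈ Γ', StabilizesBlock C A γ)
    (hC' : ∀ g : G, g ∈ C' ↔ g ∈ C ∧ n₁ * g = g * n₁)
    (r₁ : G) (hr₁ : r₁ ∈ C') (hr₁reg : ¬ p ∣ orderOf r₁) (h : G) (hh : h ∈ Γ') :
    ∑ c : C, subgroupBlockCoeff C A ((c : G) * h * (c : G)⁻¹ * (n₁ * r₁)⁻¹)
      = ∑ c ∈ Finset.univ.filter (fun c : C => (c : G) * ppEl p h * (c : G)⁻¹ = n₁),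
          ∑ᶠ A'' ∈ {A'' : Set (IrrCharacter C') | IsPBlock M A'' ∧ ∀ θ ∈ A'',
              MemLocalIdeal M ((∑ x : C', subgroupBlockCoeff C A (x : G) * (θ : C' → ℂ) x
                / (θ : C' → ℂ) 1) - 1)},
            subgroupBlockCoeff C' A'' ((c : G) * prEl p h * (c : G)⁻¹ * r₁⁻¹) := by
  classical
  haveI : Fintype Γ' := Fintype.ofFinite _
  have hι := Subgroup.inclusion_injective hCΓ
  have hι' := Subgroup.inclusion_injective hC'Γ
  have hNn : (Subgroup.inclusion hCΓ).range.Normal := by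
    constructor
    intro x hx g
    obtain ⟨c, rfl⟩ := hx
    have hgN := hΓN g.2
    have h1 : (g : G) * c * (g : G)⁻¹ ∈ C := (Subgroup.mem_normalizer_iff.mp hgN c).mp c.2
    exact ⟨⟨_, h1⟩, Subtype.ext rfl⟩
  have hnΓ : ∃ k : ℕ, orderOf (⟨n₁, hn₁Γ⟩ : Γ') = p ^ k := by
    obtain ⟨k, hk⟩ := hn₁
    exact ⟨k, by rw [Subgroup.orderOf_mk]; exact hk⟩
  have hgenΓ : ∀ γ : Γ', ∃ i : ℕ, ∃ k : C,
      γ = (⟨n₁, hn₁Γ⟩ : Γ') ^ i * Subgroup.inclusion hCΓ k := by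
    intro γ
    obtain ⟨i, c, hc, hγ⟩ := hgen γ γ.2
    refine ⟨i, ⟨c, hc⟩, Subtype.ext ?_⟩
    rw [Subgroup.coe_mul, Subgroup.coe_pow]
    exact hγ
  have hstΓ : ∀ γ : Γ', ∀ θ ∈ A, ∃ θ' ∈ A, ∀ k k' : C,
      Subgroup.inclusion hCΓ k' = γ * Subgroup.inclusion hCΓ k * γ⁻¹ →
      (θ' : C → ℂ) k' = (θ : C → ℂ) k := by
    intro γ θ hθ
    obtain ⟨θ', hθ', hconj⟩ := (hst γ γ.2).2 θ hθ
    refine ⟨θ', hθ', ?_⟩
    intro k k' hkk
    apply hconj k k'
    have := congrArg (Subtype.val) hkk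
    exact this
  have hrange' : ∀ γ : Γ', (∃ k', Subgroup.inclusion hC'Γ k' = γ) ↔
      ((∃ k, Subgroup.inclusion hCΓ k = γ) ∧ (⟨n₁, hn₁Γ⟩ : Γ') * γ = γ * ⟨n₁, hn₁Γ⟩) := by
    intro γ
    constructor
    · rintro ⟨k', rfl⟩
      have h1 := (hC' (k' : G)).mp k'.2
      exact ⟨⟨⟨k', h1.1⟩, Subtype.ext rfl⟩, Subtype.ext h1.2⟩
    · rintro ⟨⟨k, rfl⟩, h2⟩
      have h3 : n₁ * (k : G) = (k : G) * n₁ := congrArg Subtype.val h2
      exact ⟨⟨k, (hC' (k : G)).mpr ⟨k.2, h3⟩⟩, Subtype.ext rfl⟩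
  have haΓ : ∃ k', Subgroup.inclusion hC'Γ k' = (⟨r₁, hC'Γ hr₁⟩ : Γ') :=
    ⟨⟨r₁, hr₁⟩, Subtype.ext rfl⟩
  have harΓ : ¬ p ∣ orderOf (⟨r₁, hC'Γ hr₁⟩ : Γ') := by
    rw [Subgroup.orderOf_mk]; exact hr₁reg
  have key := lemmaR hM (Subgroup.inclusion hCΓ) hι hNn (⟨n₁, hn₁Γ⟩ : Γ') hnΓ hgenΓ A hA hstΓ
    (Subgroup.inclusion hC'Γ) hι' hrange' (⟨r₁, hC'Γ hr₁⟩ : Γ') haΓ harΓ (⟨h, hh⟩ : Γ')
  have hx : ∀ x : C', extCoeff (Subgroup.inclusion hCΓ) A (Subgroup.inclusion hC'Γ x)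
      = subgroupBlockCoeff C A (x : G) := fun x => extCoeff_inclusion hCΓ A _
  simp only [hx, extCoeff_inclusion] at key
  have hfilt : Finset.univ.filter (fun c : C =>
      Subgroup.inclusion hCΓ c * ppEl p (⟨h, hh⟩ : Γ') * (Subgroup.inclusion hCΓ c)⁻¹
        = (⟨n₁, hn₁Γ⟩ : Γ'))
      = Finset.univ.filter (fun c : C => (c : G) * ppEl p h * (c : G)⁻¹ = n₁) := by
    apply Finset.filter_congr
    intro c _
    rw [Subtype.ext_iff]
    have : ppEl p h = ((ppEl p (⟨h, hh⟩ : Γ') : Γ') : G) := ppEl_coe Γ' ⟨h, hh⟩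
    rw [this]
    rfl
  rw [hfilt] at key
  have hpr : prEl p h = ((prEl p (⟨h, hh⟩ : Γ') : Γ') : G) := prEl_coe Γ' ⟨h, hh⟩
  rw [hpr]
  exact key

end relsub

end Cfsg.Agent.Lib.Helper6.Star
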