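import Mathlib
import Cfsg.Agent.Lib.Helper6.StarPhi1
import Cfsg.Agent.Lib.Helper6.StarCut
import Cfsg.Agent.Lib.Helper6.BlkSections

set_option autoImplicit false
set_option linter.unusedSectionVars false
set_option maxHeartbeats 1600000

/-!
The functions `Phi T a` (values of the cut bimodule characters) and the induction step.
-/

open Cfsg

namespace Cfsg.Agent.Lib.Helper6.Star

open Cfsg.Agent.Lib.Helper6
open scoped ComplexConjugate

section phi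

variable {G : Type*} [Group G] [Fintype G] [DecidableEq G] {p : ℕ} [hp : Fact p.Prime]
  {M : Ideal Cfsg.AlgInt}

/-- the value at `z` of the cut bimodule function attached to `T` and the pair `a` -/
noncomputable def Phi (T : Subgroup (G × G)) (a : BrauerPairIdx G) (z : G × G) : ℂ :=
  ∑ x : G, fixInd T x * pc a (x * z.2 * x⁻¹ * z.1⁻¹)

theorem brauerOmega_eq_sum (P : Subgroup G) [Fintype (Subgroup.centralizer (P : Set G))]
    (β : G → ℂ) (ξ : Subgroup.centralizer (P : Set G) → ℂ) :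
    brauerOmega P β ξ = ∑ x : Subgroup.centralizer (P : Set G), β x * ξ x / ξ 1 := by
  unfold brauerOmega
  exact finsum_eq_sum_of_fintype _

theorem finsum_mem_sum_comm' {α β : Type*} [Finite α] (s : Set α) (t : Finset β)
    (f : α → β → ℂ) :
    ∑ᶠ a ∈ s, ∑ b ∈ t, f a b = ∑ b ∈ t, ∑ᶠ a ∈ s, f a b := by
  classical
  haveI := Fintype.ofFinite α
  rw [finsum_mem_eq_sum_filter_lib]
  simp_rw [finsum_mem_eq_sum_filter_lib s]
  exact Finset.sum_comm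

theorem mem_fixSet_map_conj (T : Subgroup (G × G)) (w : G × G) (x : G) :
    x ∈ fixSet (T.map (MulAut.conj w).toMonoidHom) ↔ w.1⁻¹ * x * w.2 ∈ fixSet T := by
  constructor
  · intro hx t ht
    have h1 : w * t * w⁻¹ ∈ T.map (MulAut.conj w).toMonoidHom :=
      Subgroup.mem_map.mpr ⟨t, ht, rfl⟩
    have h2 : (w * t * w⁻¹).1 * x * ((w * t * w⁻¹).2)⁻¹ = x := hx h1
    simp only [Prod.fst_mul, Prod.snd_mul, Prod.fst_inv, Prod.snd_inv] at h2
    show t.1 * (w.1⁻¹ * x * w.2) * t.2⁻¹ = w.1⁻¹ * x * w.2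
    calc t.1 * (w.1⁻¹ * x * w.2) * t.2⁻¹
        = w.1⁻¹ * (w.1 * t.1 * w.1⁻¹ * x * (w.2 * t.2 * w.2⁻¹)⁻¹) * w.2 := by group
      _ = w.1⁻¹ * x * w.2 := by rw [h2]
  · intro hx t' ht'
    obtain ⟨t, ht, rfl⟩ := Subgroup.mem_map.mp ht'
    have h2 : t.1 * (w.1⁻¹ * x * w.2) * t.2⁻¹ = w.1⁻¹ * x * w.2 := hx ht
    show (w * t * w⁻¹).1 * x * ((w * t * w⁻¹).2)⁻¹ = x
    simp only [Prod.fst_mul, Prod.snd_mul, Prod.fst_inv, Prod.snd_inv]
    calc w.1 * t.1 * w.1⁻¹ * x * (w.2 * t.2 * w.2⁻¹)⁻¹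
        = w.1 * (t.1 * (w.1⁻¹ * x * w.2) * t.2⁻¹) * w.2⁻¹ := by group
      _ = x := by rw [h2]; group

/-- equivariance of `Phi` under simultaneous conjugation -/
theorem Phi_conj (T : Subgroup (G × G)) (a : BrauerPairIdx G) (w z : G × G) :
    Phi (T.map (MulAut.conj w).toMonoidHom) (conjPair w.1 a) (w * z * w⁻¹) = Phi T a z := by
  unfold Phi
  symm
  apply Fintype.sum_equiv ((Equiv.mulLeft w.1).trans (Equiv.mulRight w.2⁻¹))
  intro y
  have h1 : fixInd T y = fixInd (T.map (MulAut.conj w).toMonoidHom) (w.1 * y * w.2⁻¹) := by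
    apply fixInd_congr
    rw [mem_fixSet_map_conj]
    have : w.1⁻¹ * (w.1 * y * w.2⁻¹) * w.2 = y := by group
    rw [this]
  show fixInd T y * pc a (y * z.2 * y⁻¹ * z.1⁻¹)
    = fixInd (T.map (MulAut.conj w).toMonoidHom) (w.1 * y * w.2⁻¹)
      * pc (conjPair w.1 a) (w.1 * y * w.2⁻¹ * (w * z * w⁻¹).2 * (w.1 * y * w.2⁻¹)⁻¹
        * ((w * z * w⁻¹).1)⁻¹)
  rw [← h1, pc_conjPair]
  congr 2
  simp only [Prod.fst_mul, Prod.snd_mul, Prod.fst_inv, Prod.snd_inv]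
  group

/-- `Phi T a` restricted to a subgroup normalizing `T` and fixing `a` is a character -/
theorem Phi_isCharacter (T : Subgroup (G × G)) (a : BrauerPairIdx G)
    (haT : a.1 = T.map (MonoidHom.fst G G)) (K : Subgroup (G × G))
    (hKT : ∀ z ∈ K, z ∈ Subgroup.normalizer (T : Set (G × G)))
    (hKa : ∀ z ∈ K, conjPair z.1 a = a) :
    IsCharacter K (fun k : K => Phi T a (k : G × G)) := by
  have h := StarCut.isCharacter_cut K (fixInd T) (pc a) (fixInd_mul_self T)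
    (fun z hz x => fixInd_congr (conj_mem_fixSet_iff (hKT z hz) x))
    (fun z hz c => pc_conj_of_conjPair_eq' z.1 a (hKa z hz) c)
    (fun c x hc => fixInd_congr (mul_mem_fixSet_iff haT (mem_of_pc_ne_zero a hc) x))
    (pc_conv a)
  exact h

/-- the induction step: the value at `n * r` in terms of the larger subgroup -/
theorem Phi_step (hM : IsPModular p M) (T : Subgroup (G × G)) (a : BrauerPairIdx G)
    (haT : a.1 = T.map (MonoidHom.fst G G)) (ha : IsBrauerPair p M a.1 a.2)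
    (n : G × G) (hn : ∃ k : ℕ, orderOf n = p ^ k)
    (hnT : n ∈ Subgroup.normalizer (T : Set (G × G)))
    (hna : conjPair n.1 a = a)
    (hTn : IsPGroup p ↥(T ⊔ Subgroup.zpowers n))
    (r : G × G) (hr : ¬ p ∣ orderOf r) (hnr : n * r = r * n) (hTr : ∀ t ∈ T, t * r = r * t) :
    Phi T a (n * r)
      = ∑ᶠ a' ∈ {a' : BrauerPairIdx G | a'.1 = (T ⊔ Subgroup.zpowers n).map (MonoidHom.fst G G)
            ∧ NormalSubpairRel p M a a'}, Phi (T ⊔ Subgroup.zpowers n) a' r := by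
  classical
  obtain ⟨Q, A⟩ := a
  change Q = T.map (MonoidHom.fst G G) at haT
  change IsBrauerPair p M Q A at ha
  by_cases hne : ∃ x₀, x₀ ∈ fixSet T
  swap
  · have h0 : ∀ (T' : Subgroup (G × G)), T ≤ T' → ∀ (b : BrauerPairIdx G) (z : G × G),
        Phi T' b z = 0 := by
      intro T' hT' b z
      unfold Phi
      apply Finset.sum_eq_zero
      intro x _
      rw [fixInd_of_not_mem (fun hx => hne ⟨x, fixSet_anti hT' hx⟩), zero_mul]
    rw [h0 T le_rfl]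
    symm
    apply finsum_mem_eq_zero_of_forall_eq_zero
    intro a' _
    exact h0 _ le_sup_left _ _
  obtain ⟨x₀, hx₀⟩ := hne
  haveI : Fintype (Subgroup.centralizer (Q : Set G)) := Fintype.ofFinite _
  obtain ⟨Q', hQ'⟩ : ∃ Q' : Subgroup G,
      Q' = (T ⊔ Subgroup.zpowers n).map (MonoidHom.fst G G) := ⟨_, rfl⟩
  rw [← hQ']
  haveI : Fintype (Subgroup.centralizer (Q' : Set G)) := Fintype.ofFinite _
  have hQ'eq : Q' = Q ⊔ Subgroup.zpowers n.1 := by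
    rw [hQ', Subgroup.map_sup, MonoidHom.map_zpowers, haT, MonoidHom.coe_fst]
  have hn1S : n.1 ∈ pairStab (⟨Q, A⟩ : BrauerPairIdx G) := hna
  have hQS : Q ≤ pairStab (⟨Q, A⟩ : BrauerPairIdx G) := le_pairStab hM ⟨Q, A⟩ ha
  have hQ'S : Q' ≤ pairStab (⟨Q, A⟩ : BrauerPairIdx G) := by
    rw [hQ'eq]; exact sup_le hQS (Subgroup.zpowers_le.mpr hn1S)
  have hn1N : n.1 ∈ Subgroup.normalizer (Q : Set G) := pairStab_le_normalizer _ hn1S
  have hn1NC : n.1 ∈ Subgroup.normalizer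
      ((Subgroup.centralizer (Q : Set G) : Subgroup G) : Set G) :=
    normalizer_le_normalizer_centralizer Q hn1N
  obtain ⟨Γ', hΓ'⟩ : ∃ Γ' : Subgroup G,
      Γ' = Subgroup.centralizer (Q : Set G) ⊔ Subgroup.zpowers n.1 := ⟨_, rfl⟩
  have hCΓ : Subgroup.centralizer (Q : Set G) ≤ Γ' := by rw [hΓ']; exact le_sup_left
  have hn1Γ : n.1 ∈ Γ' := by
    rw [hΓ']; exact Subgroup.mem_sup_right (Subgroup.mem_zpowers _)
  have hΓN : Γ' ≤ Subgroup.normalizer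
      ((Subgroup.centralizer (Q : Set G) : Subgroup G) : Set G) := by
    rw [hΓ']; exact sup_le Subgroup.le_normalizer (Subgroup.zpowers_le.mpr hn1NC)
  have hΓS : Γ' ≤ pairStab (⟨Q, A⟩ : BrauerPairIdx G) := by
    rw [hΓ']; exact sup_le (centralizer_le_pairStab (⟨Q, A⟩ : BrauerPairIdx G)) (Subgroup.zpowers_le.mpr hn1S)
  have hC'mem : ∀ g : G, g ∈ Subgroup.centralizer (Q' : Set G) ↔
      g ∈ Subgroup.centralizer (Q : Set G) ∧ n.1 * g = g * n.1 := by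
    intro g; rw [hQ'eq]; exact mem_centralizer_sup_zpowers Q n.1 g
  have hC'Γ : Subgroup.centralizer (Q' : Set G) ≤ Γ' := fun g hg => hCΓ ((hC'mem g).mp hg).1
  have hgen : ∀ γ ∈ Γ', ∃ i : ℕ, ∃ c ∈ Subgroup.centralizer (Q : Set G), γ = n.1 ^ i * c := by
    intro γ hγ; rw [hΓ'] at hγ; exact exists_pow_mul_of_mem_sup _ _ hn1NC hγ
  have hst : ∀ γ ∈ Γ', StabilizesBlock (Subgroup.centralizer (Q : Set G)) A γ :=
    fun γ hγ => (stab_of_conjPair_eq γ ⟨Q, A⟩ (hΓS hγ)).2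
  obtain ⟨kn, hkn⟩ := hn
  have hn1ord : ∃ k : ℕ, orderOf n.1 = p ^ k := by
    have h := orderOf_fst_dvd_orderOf (x := n)
    rw [hkn] at h
    obtain ⟨j, _, hj⟩ := (Nat.dvd_prime_pow hp.out).mp h
    exact ⟨j, hj⟩
  have hn2ord : ∃ k : ℕ, orderOf n.2 = p ^ k := by
    have h := orderOf_snd_dvd_orderOf (x := n)
    rw [hkn] at h
    obtain ⟨j, _, hj⟩ := (Nat.dvd_prime_pow hp.out).mp h
    exact ⟨j, hj⟩
  have hr1reg : ¬ p ∣ orderOf r.1 := fun h => hr (dvd_trans h orderOf_fst_dvd_orderOf)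
  have hr2reg : ¬ p ∣ orderOf r.2 := fun h => hr (dvd_trans h orderOf_snd_dvd_orderOf)
  have h1 : n.1⁻¹ * x₀ * n.2 * x₀⁻¹ ∈ Subgroup.centralizer (Q : Set G) :=
    (mem_fixSet_iff_of_mem haT hx₀ _).mp (conj_mem_fixSet hnT hx₀)
  have hrN : r ∈ Subgroup.normalizer (T : Set (G × G)) := by
    rw [Subgroup.mem_normalizer_iff]
    intro t
    constructor
    · intro ht
      have h2 : r * t * r⁻¹ = t := by rw [← hTr t ht]; group
      rw [h2]; exact ht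
    · intro ht
      have h2 := hTr _ ht
      have h4 : t = r * t * r⁻¹ := by
        have h3 : r * t = r * (r * t * r⁻¹) := by rw [← h2]; group
        exact mul_left_cancel h3
      rw [h4]; exact ht
  have h2 : r.1⁻¹ * x₀ * r.2 * x₀⁻¹ ∈ Subgroup.centralizer (Q : Set G) :=
    (mem_fixSet_iff_of_mem haT hx₀ _).mp (conj_mem_fixSet hrN hx₀)
  have h3 : r.1 ∈ Subgroup.centralizer (Q : Set G) := by
    rw [Subgroup.mem_centralizer_iff]
    intro q hq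
    rw [haT] at hq
    obtain ⟨t, ht, rfl⟩ := Subgroup.mem_map.mp hq
    exact congrArg Prod.fst (hTr t ht)
  have h4 : x₀ * r.2 * x₀⁻¹ ∈ Subgroup.centralizer (Q : Set G) := by
    have h : x₀ * r.2 * x₀⁻¹ = r.1 * (r.1⁻¹ * x₀ * r.2 * x₀⁻¹) := by group
    rw [h]; exact Subgroup.mul_mem _ h3 h2
  have h5 : x₀ * n.2 * x₀⁻¹ ∈ Γ' := by
    have h : x₀ * n.2 * x₀⁻¹ = n.1 * (n.1⁻¹ * x₀ * n.2 * x₀⁻¹) := by group
    rw [h]; exact Subgroup.mul_mem _ hn1Γ (hCΓ h1)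
  have hh : x₀ * n.2 * x₀⁻¹ * (x₀ * r.2 * x₀⁻¹) ∈ Γ' := Subgroup.mul_mem _ h5 (hCΓ h4)
  have hr1C' : r.1 ∈ Subgroup.centralizer (Q' : Set G) :=
    (hC'mem _).mpr ⟨h3, congrArg Prod.fst hnr⟩
  have hn2'ord : ∃ k : ℕ, orderOf (x₀ * n.2 * x₀⁻¹) = p ^ k := by
    rw [orderOf_conj_eq]; exact hn2ord
  have hr2'reg : ¬ p ∣ orderOf (x₀ * r.2 * x₀⁻¹) := by
    rw [orderOf_conj_eq]; exact hr2reg
  have hcomm : Commute (x₀ * n.2 * x₀⁻¹) (x₀ * r.2 * x₀⁻¹) := by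
    have h6 : n.2 * r.2 = r.2 * n.2 := congrArg Prod.snd hnr
    show x₀ * n.2 * x₀⁻¹ * (x₀ * r.2 * x₀⁻¹) = x₀ * r.2 * x₀⁻¹ * (x₀ * n.2 * x₀⁻¹)
    calc x₀ * n.2 * x₀⁻¹ * (x₀ * r.2 * x₀⁻¹) = x₀ * (n.2 * r.2) * x₀⁻¹ := by group
      _ = x₀ * (r.2 * n.2) * x₀⁻¹ := by rw [h6]
      _ = x₀ * r.2 * x₀⁻¹ * (x₀ * n.2 * x₀⁻¹) := by group
  have hpp : ppEl p (x₀ * n.2 * x₀⁻¹ * (x₀ * r.2 * x₀⁻¹)) = x₀ * n.2 * x₀⁻¹ :=
    ppEl_mul_of_commute hn2'ord hr2'reg hcomm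
  have hpr : prEl p (x₀ * n.2 * x₀⁻¹ * (x₀ * r.2 * x₀⁻¹)) = x₀ * r.2 * x₀⁻¹ :=
    prEl_mul_of_commute hn2'ord hr2'reg hcomm
  have key := lemmaR_sub hM (Subgroup.centralizer (Q : Set G))
    (Subgroup.centralizer (Q' : Set G)) Γ' hCΓ hC'Γ hΓN n.1 hn1ord hn1Γ hgen A ha.2 hst hC'mem
    r.1 hr1C' hr1reg _ hh
  rw [hpp, hpr] at key
  obtain ⟨𝒢, h𝒢⟩ : ∃ 𝒢 : Set (Set (IrrCharacter (Subgroup.centralizer (Q' : Set G)))),
      𝒢 = {A'' | IsPBlock M A'' ∧ ∀ θ ∈ A'',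
        MemLocalIdeal M ((∑ x : Subgroup.centralizer (Q' : Set G),
          subgroupBlockCoeff (Subgroup.centralizer (Q : Set G)) A (x : G)
            * (θ : Subgroup.centralizer (Q' : Set G) → ℂ) x
            / (θ : Subgroup.centralizer (Q' : Set G) → ℂ) 1) - 1)} := ⟨_, rfl⟩
  rw [← h𝒢] at key
  obtain ⟨filt, hfilt⟩ : ∃ filt : Finset (Subgroup.centralizer (Q : Set G)),
      filt = Finset.univ.filter (fun c : Subgroup.centralizer (Q : Set G) =>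
        (c : G) * (x₀ * n.2 * x₀⁻¹) * (c : G)⁻¹ = n.1) := ⟨_, rfl⟩
  rw [← hfilt] at key
  obtain ⟨S, hS⟩ : ∃ S : Set (BrauerPairIdx G),
      S = {a' : BrauerPairIdx G | a'.1 = Q' ∧ NormalSubpairRel p M ⟨Q, A⟩ a'} := ⟨_, rfl⟩
  rw [← hS]
  have hL : Phi T ⟨Q, A⟩ (n * r) = ∑ c : Subgroup.centralizer (Q : Set G),
      subgroupBlockCoeff (Subgroup.centralizer (Q : Set G)) A
        ((c : G) * (x₀ * n.2 * x₀⁻¹ * (x₀ * r.2 * x₀⁻¹)) * (c : G)⁻¹ * (n.1 * r.1)⁻¹) := by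
    unfold Phi
    rw [sum_fixInd_mul haT hx₀]
    apply Finset.sum_congr rfl
    intro c _
    show subgroupBlockCoeff (Subgroup.centralizer (Q : Set G)) A _ = _
    congr 1
    simp only [Prod.fst_mul, Prod.snd_mul]
    group
  have hR : ∀ a' : BrauerPairIdx G, Phi (T ⊔ Subgroup.zpowers n) a' r
      = ∑ c ∈ filt, pc a' ((c : G) * (x₀ * r.2 * x₀⁻¹) * (c : G)⁻¹ * r.1⁻¹) := by
    intro a'
    unfold Phi
    have e1 : ∀ x : G, fixInd (T ⊔ Subgroup.zpowers n) x * pc a' (x * r.2 * x⁻¹ * r.1⁻¹)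
        = fixInd T x * ((if n.1 * x * n.2⁻¹ = x then 1 else 0)
          * pc a' (x * r.2 * x⁻¹ * r.1⁻¹)) := by
      intro x; rw [fixInd_sup, mul_assoc]
    rw [Finset.sum_congr rfl (fun x _ => e1 x), sum_fixInd_mul haT hx₀, hfilt, Finset.sum_filter]
    apply Finset.sum_congr rfl
    intro c _
    have hiff : (n.1 * ((c : G) * x₀) * n.2⁻¹ = (c : G) * x₀) ↔
        ((c : G) * (x₀ * n.2 * x₀⁻¹) * (c : G)⁻¹ = n.1) := by
      constructor
      · intro h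
        calc (c : G) * (x₀ * n.2 * x₀⁻¹) * (c : G)⁻¹
            = (n.1 * ((c : G) * x₀) * n.2⁻¹) * n.2 * x₀⁻¹ * (c : G)⁻¹ := by rw [h]; group
          _ = n.1 := by group
      · intro h
        calc n.1 * ((c : G) * x₀) * n.2⁻¹
            = ((c : G) * (x₀ * n.2 * x₀⁻¹) * (c : G)⁻¹) * ((c : G) * x₀) * n.2⁻¹ := by rw [h]
          _ = (c : G) * x₀ := by group
    have harg : (c : G) * x₀ * r.2 * ((c : G) * x₀)⁻¹ * r.1⁻¹
        = (c : G) * (x₀ * r.2 * x₀⁻¹) * (c : G)⁻¹ * r.1⁻¹ := by group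
    by_cases hcnd : (c : G) * (x₀ * n.2 * x₀⁻¹) * (c : G)⁻¹ = n.1
    · rw [if_pos hcnd, if_pos (hiff.mpr hcnd), one_mul, harg]
    · rw [if_neg hcnd, if_neg (fun h => hcnd (hiff.mp h)), zero_mul]
  have hQ'p : IsPGroup p Q' := by
    rw [hQ']; exact hTn.map _
  have hQQ' : Q ≤ Q' := by rw [hQ'eq]; exact le_sup_left
  have hQ'N : Q' ≤ Subgroup.normalizer (Q : Set G) :=
    fun x hx => pairStab_le_normalizer _ (hQ'S hx)
  have hQ'st : ∀ x ∈ Q', StabilizesBlock (Subgroup.centralizer (Q : Set G)) A x :=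
    fun x hx => (stab_of_conjPair_eq x ⟨Q, A⟩ (hQ'S hx)).2
  have hbij : Set.BijOn (fun A'' : Set (IrrCharacter (Subgroup.centralizer (Q' : Set G))) =>
      (⟨Q', A''⟩ : BrauerPairIdx G)) 𝒢 S := by
    refine ⟨?_, ?_, ?_⟩
    · intro A'' hA''
      rw [h𝒢] at hA''
      rw [hS]
      obtain ⟨hblk, hω⟩ := hA''
      refine ⟨rfl, ha, ⟨hQ'p, hblk⟩, hQQ', hQ'N, hQ'st, ?_⟩
      intro ξ hξ
      rw [brauerOmega_eq_sum]
      exact hω ξ hξ
    · intro A₁ _ A₂ _ h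
      exact eq_of_heq (Sigma.mk.inj h).2
    · intro a' ha'
      rw [hS] at ha'
      obtain ⟨Q'', A''⟩ := a'
      obtain ⟨h1', h2'⟩ := ha'
      change Q'' = Q' at h1'
      subst h1'
      refine ⟨A'', ?_, rfl⟩
      rw [h𝒢]
      obtain ⟨_, ⟨_, hblk⟩, _, _, _, hω⟩ := h2'
      refine ⟨hblk, ?_⟩
      intro θ hθ
      have h := hω θ hθ
      rw [brauerOmega_eq_sum] at h
      exact h
  calc Phi T ⟨Q, A⟩ (n * r)
      = ∑ c ∈ filt, ∑ᶠ A'' ∈ 𝒢, subgroupBlockCoeff (Subgroup.centralizer (Q' : Set G)) A''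
          ((c : G) * (x₀ * r.2 * x₀⁻¹) * (c : G)⁻¹ * r.1⁻¹) := by rw [hL, key]
    _ = ∑ᶠ A'' ∈ 𝒢, ∑ c ∈ filt, pc (⟨Q', A''⟩ : BrauerPairIdx G)
          ((c : G) * (x₀ * r.2 * x₀⁻¹) * (c : G)⁻¹ * r.1⁻¹) := by
        rw [finsum_mem_sum_comm']; rfl
    _ = ∑ᶠ a' ∈ S, ∑ c ∈ filt, pc a' ((c : G) * (x₀ * r.2 * x₀⁻¹) * (c : G)⁻¹ * r.1⁻¹) :=
        finsum_mem_eq_of_bijOn (fun A'' => (⟨Q', A''⟩ : BrauerPairIdx G)) hbij (fun _ _ => rfl)
    _ = ∑ᶠ a' ∈ S, Phi (T ⊔ Subgroup.zpowers n) a' r :=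
        (finsum_mem_congr rfl (fun a' _ => hR a')).symm

end phi

end Cfsg.Agent.Lib.Helper6.Star
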