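import Mathlib
import Cfsg.Agent.Lib.Helper6.StarPhi2
import Cfsg.Agent.Lib.Helper6.StarEta

set_option autoImplicit false
set_option linter.unusedSectionVars false
set_option maxHeartbeats 1600000

/-!
The vectors `β i` of the Burnside-mark induction and the averaging hypothesis.
-/

open Cfsg

namespace Cfsg.Agent.Lib.Helper6.Star

open Cfsg.Agent.Lib.Helper6
open Cfsg.Agent.Lib.Helper6.KR
open scoped ComplexConjugate

section fixedhom

/-- the part of a character fixed by a commuting group, homomorphism version -/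
theorem isCharacter_fixed_part_hom {𝒦 N R : Type*} [Group 𝒦] [Group N] [Group R] [Fintype N]
    {χ : 𝒦 → ℂ} (hχ : Cfsg.IsCharacter 𝒦 χ) (φN : N →* 𝒦) (φR : R →* 𝒦)
    (hNR : ∀ n r, φN n * φR r = φR r * φN n) :
    Cfsg.IsCharacter R
      (fun r : R => (Nat.card N : ℂ)⁻¹ * ∑ n : N, χ (φN n * φR r)) := by
  classical
  obtain ⟨d, ρ, rfl⟩ := hχ
  obtain ⟨Y, hY⟩ : ∃ Y : Representation ℂ R (Fin d → ℂ), ∀ r : R, Y r = ρ (φR r) :=
    ⟨ρ.comp φR, fun r => rfl⟩
  obtain ⟨S, hS⟩ : ∃ S : (Fin d → ℂ) →ₗ[ℂ] (Fin d → ℂ), S = ∑ n : N, ρ (φN n) := ⟨_, rfl⟩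
  have hcard : (Nat.card N : ℂ) ≠ 0 := by exact_mod_cast Nat.card_pos.ne'
  have hSapp : ∀ w, S w = ∑ n : N, ρ (φN n) w := by
    intro w; rw [hS, LinearMap.sum_apply]
  have hρS : ∀ (n : N) (w : Fin d → ℂ), ρ (φN n) (S w) = S w := by
    intro n w
    rw [hSapp, map_sum]
    apply Fintype.sum_equiv (Equiv.mulLeft n)
    intro n'
    rw [Equiv.coe_mulLeft, map_mul, map_mul]
    rfl
  have hSS : S ∘ₗ S = (Nat.card N : ℂ) • S := by
    apply LinearMap.ext
    intro w
    rw [LinearMap.comp_apply, hSapp (S w), Finset.sum_congr rfl (fun n _ => hρS n w),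
      Finset.sum_const, Finset.card_univ, ← Nat.card_eq_fintype_card, LinearMap.smul_apply,
      Nat.cast_smul_eq_nsmul]
  obtain ⟨π, hπ⟩ : ∃ π : (Fin d → ℂ) →ₗ[ℂ] (Fin d → ℂ), π = (Nat.card N : ℂ)⁻¹ • S := ⟨_, rfl⟩
  have hπ2 : π ∘ₗ π = π := by
    rw [hπ, LinearMap.smul_comp, LinearMap.comp_smul, hSS, smul_smul, smul_smul]
    congr 1
    field_simp
  have hπY : ∀ r : R, Y r ∘ₗ π = π ∘ₗ Y r := by
    intro r
    rw [hπ, LinearMap.comp_smul, LinearMap.smul_comp, hY]
    congr 1
    apply LinearMap.ext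
    intro w
    rw [LinearMap.comp_apply, LinearMap.comp_apply, hSapp, hSapp, map_sum]
    apply Finset.sum_congr rfl
    intro n _
    have h1 : ρ (φR r) (ρ (φN n) w) = ρ (φR r * φN n) w := by rw [map_mul]; rfl
    have h2 : ρ (φN n) (ρ (φR r) w) = ρ (φN n * φR r) w := by rw [map_mul]; rfl
    rw [h1, h2, hNR n r]
  have hchar := chr_isCharacter (sub Y (LinearMap.range π) (inv_range Y π hπY))
  convert hchar using 1
  funext r
  rw [chr_cut Y π hπ2 hπY r]
  have htr : Y r ∘ₗ π = (Nat.card N : ℂ)⁻¹ • ∑ n : N, ρ (φN n * φR r) := by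
    rw [hπ, LinearMap.comp_smul, hY]
    congr 1
    apply LinearMap.ext
    intro w
    rw [LinearMap.comp_apply, hSapp, map_sum, LinearMap.sum_apply]
    apply Finset.sum_congr rfl
    intro n _
    have h1 : ρ (φR r) (ρ (φN n) w) = ρ (φR r * φN n) w := by rw [map_mul]; rfl
    rw [h1, hNR n r]
  rw [htr, map_smul, map_sum, smul_eq_mul]
  simp only [Algebra.algebraMap_self, RingHom.id_apply]
  rfl

theorem isCharacter_fixed_part_finsum {𝒦 N R : Type*} [Group 𝒦] [Group N] [Group R] [Finite N]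
    {χ : 𝒦 → ℂ} (hχ : Cfsg.IsCharacter 𝒦 χ) (φN : N →* 𝒦) (φR : R →* 𝒦)
    (hNR : ∀ n r, φN n * φR r = φR r * φN n) :
    Cfsg.IsCharacter R
      (fun r : R => (Nat.card N : ℂ)⁻¹ * ∑ᶠ n : N, χ (φN n * φR r)) := by
  haveI := Fintype.ofFinite N
  have h := isCharacter_fixed_part_hom hχ φN φR hNR
  convert h using 3
  exact finsum_eq_sum_of_fintype _

theorem finsum_mem_apply' {α ι : Type*} [Finite α] (s : Set α) (f : α → ι → ℂ) (r : ι) :
    (∑ᶠ a ∈ s, f a) r = ∑ᶠ a ∈ s, f a r := by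
  classical
  haveI := Fintype.ofFinite α
  rw [finsum_mem_eq_sum_filter_lib, finsum_mem_eq_sum_filter_lib, Finset.sum_apply]

/-- the generalized characters as an additive subgroup of the functions -/
def genCharSubgroup (K : Type*) [Group K] : AddSubgroup (K → ℂ) where
  carrier := {f | IsGeneralizedCharacter K f}
  add_mem' := fun ha hb => IsGeneralizedCharacter.add ha hb
  zero_mem' := IsGeneralizedCharacter.zero
  neg_mem' := fun ha => IsGeneralizedCharacter.neg ha

theorem mem_genCharSubgroup {K : Type*} [Group K] (f : K → ℂ) :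
    f ∈ genCharSubgroup K ↔ IsGeneralizedCharacter K f := Iff.rfl

end fixedhom

section beta

variable {G : Type*} [Group G] [Fintype G] [DecidableEq G] {p : ℕ} [hp : Fact p.Prime]
  {M : Ideal Cfsg.AlgInt} {B : Set (IrrCharacter G)} {At : Subgroup (G × G)}

/-- the vector attached to an index -/
noncomputable def betaFun (Rt : Subgroup (G × G)) (i : Idx p M B At) : ↥Rt → ℂ :=
  fun r => Phi (i.T.map At.subtype) i.pair (r : G × G)

theorem betaFun_smul (Rt : Subgroup (G × G))
    (hcomm : ∀ a ∈ At, ∀ r ∈ Rt, a * r = r * a) (a : ↥At) (i : Idx p M B At) :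
    betaFun Rt (a • i) = betaFun Rt i := by
  funext r
  unfold betaFun
  rw [smul_T, smul_pair, map_conj_map_subtype]
  have h1 : (r : G × G) = (a : G × G) * (r : G × G) * (a : G × G)⁻¹ := by
    rw [hcomm a a.2 r r.2]; group
  conv_lhs => rw [h1]
  exact Phi_conj _ _ _ _

theorem mem_normalizer_of_commute_all {H : Type*} [Group H] (T : Subgroup H) (r : H)
    (hTr : ∀ t ∈ T, t * r = r * t) : r ∈ Subgroup.normalizer (T : Set H) := by
  rw [Subgroup.mem_normalizer_iff]
  intro t
  constructor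
  · intro ht
    have h2 : r * t * r⁻¹ = t := by rw [← hTr t ht]; group
    rw [h2]; exact ht
  · intro ht
    have h2 := hTr _ ht
    have h4 : t = r * t * r⁻¹ := by
      have h3 : r * t = r * (r * t * r⁻¹) := by rw [← h2]; group
      exact mul_left_cancel h3
    rw [h4]; exact ht

/-- the sum over the indices above `i` at `T i ⊔ ⟨n⟩` is the value at `n * r` -/
theorem sum_beta_step (hM : IsPModular p M) (Rt : Subgroup (G × G)) (hAt : IsPGroup p At)
    (hRt : ∀ r ∈ Rt, ¬ p ∣ orderOf r) (hcomm : ∀ a ∈ At, ∀ r ∈ Rt, a * r = r * a)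
    (i : Idx p M B At) (n : ↥At) (hn : n • i = i) (r : ↥Rt) :
    (∑ᶠ j ∈ {j | (posetData (p := p) (M := M) (B := B) (At := At) hM).le i j ∧
        (posetData (p := p) (M := M) (B := B) (At := At) hM).T j
          = (posetData (p := p) (M := M) (B := B) (At := At) hM).T i ⊔ Subgroup.zpowers n},
        betaFun Rt j) r
      = Phi (i.T.map At.subtype) i.pair ((n : G × G) * (r : G × G)) := by
  classical
  rw [finsum_mem_apply']
  have hT : (n • i).T = i.T := congrArg Idx.T hn
  have hP : (n • i).pair = i.pair := congrArg Idx.pair hn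
  rw [smul_T] at hT
  rw [smul_pair] at hP
  have hnT : (n : G × G) ∈ Subgroup.normalizer ((i.T.map At.subtype : Subgroup (G × G)) : Set (G × G)) := by
    apply mem_normalizer_of_map_conj_eq
    rw [← map_conj_map_subtype, hT]
  have hnord : ∃ k : ℕ, orderOf (n : G × G) = p ^ k := by
    obtain ⟨k, hk⟩ := hAt n
    have h1 : orderOf n ∣ p ^ k := orderOf_dvd_of_pow_eq_one hk
    obtain ⟨j, _, hj⟩ := (Nat.dvd_prime_pow hp.out).mp h1
    exact ⟨j, by rw [Subgroup.orderOf_coe]; exact hj⟩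
  have hsupAt : i.T.map At.subtype ⊔ Subgroup.zpowers (n : G × G) ≤ At := by
    apply sup_le
    · intro x hx
      obtain ⟨t, _, rfl⟩ := Subgroup.mem_map.mp hx
      exact t.2
    · rw [Subgroup.zpowers_le]; exact n.2
  have hTn : IsPGroup p ↥(i.T.map At.subtype ⊔ Subgroup.zpowers (n : G × G)) :=
    hAt.to_le hsupAt
  have hTr : ∀ t ∈ i.T.map At.subtype, t * (r : G × G) = (r : G × G) * t := by
    intro t ht
    obtain ⟨t', _, rfl⟩ := Subgroup.mem_map.mp ht
    exact hcomm _ t'.2 _ r.2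
  have key := Phi_step hM (i.T.map At.subtype) i.pair i.hfst i.hB.1 (n : G × G) hnord hnT hP hTn
    (r : G × G) (hRt r r.2) (hcomm _ n.2 _ r.2) hTr
  rw [key]
  have hmapsup : (i.T ⊔ Subgroup.zpowers n).map At.subtype
      = i.T.map At.subtype ⊔ Subgroup.zpowers (n : G × G) := by
    rw [Subgroup.map_sup, MonoidHom.map_zpowers]
    rfl
  have hn1S : (n : G × G).1 ∈ pairStab i.pair := hP
  have hQS : i.pair.1 ≤ pairStab i.pair := le_pairStab hM i.pair i.hB.1
  have hfstsup : (i.T.map At.subtype ⊔ Subgroup.zpowers (n : G × G)).map (MonoidHom.fst G G)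
      = i.pair.1 ⊔ Subgroup.zpowers (n : G × G).1 := by
    rw [Subgroup.map_sup, MonoidHom.map_zpowers, ← i.hfst, MonoidHom.coe_fst]
  apply finsum_mem_eq_of_bijOn (fun j : Idx p M B At => j.pair)
  · refine ⟨?_, ?_, ?_⟩
    · rintro j ⟨hle, hjT⟩
      change j.T = i.T ⊔ Subgroup.zpowers n at hjT
      have h1 : j.pair.1 = (i.T.map At.subtype ⊔ Subgroup.zpowers (n : G × G)).map
          (MonoidHom.fst G G) := by
        rw [j.hfst, hjT, hmapsup]
      refine ⟨h1, ?_⟩
      apply isNormalSubpair_of_chain hM i.pair j.pair hle.2 i.hB.1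
      rw [h1, hfstsup]
      exact le_trans (sup_le hQS (Subgroup.zpowers_le.mpr hn1S)) (pairStab_le_normalizer _)
    · rintro j ⟨_, hjT⟩ j' ⟨_, hjT'⟩ h
      change j.T = i.T ⊔ Subgroup.zpowers n at hjT
      change j'.T = i.T ⊔ Subgroup.zpowers n at hjT'
      exact Idx.ext (hjT.trans hjT'.symm) h
    · rintro a' ⟨ha'1, ha'2⟩
      have hB' : IsBrauerPairOf p M B a'.1 a'.2 :=
        (isBrauerPairOf_iff_of_chain hM B i.hB.2.1 i.pair a'
          (Relation.ReflTransGen.single ha'2)).mpr i.hB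
      refine ⟨⟨i.T ⊔ Subgroup.zpowers n, a', by rw [ha'1, hmapsup], hB'⟩, ⟨⟨le_sup_left, Relation.ReflTransGen.single ha'2⟩, rfl⟩, rfl⟩
  · rintro j ⟨_, hjT⟩
    change j.T = i.T ⊔ Subgroup.zpowers n at hjT
    unfold betaFun
    rw [hjT, hmapsup]

/-- the averaging hypothesis of the Burnside-mark induction -/
theorem beta_avg (hM : IsPModular p M) (Rt : Subgroup (G × G)) (hAt : IsPGroup p At)
    (hRt : ∀ r ∈ Rt, ¬ p ∣ orderOf r) (hcomm : ∀ a ∈ At, ∀ r ∈ Rt, a * r = r * a)
    (i : Idx p M B At) :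
    ((Nat.card (MulAction.stabilizer ↥At i) : ℂ)⁻¹) •
        ∑ᶠ n ∈ (MulAction.stabilizer ↥At i : Set ↥At),
          ∑ᶠ j ∈ {j | (posetData (p := p) (M := M) (B := B) (At := At) hM).le i j ∧
            (posetData (p := p) (M := M) (B := B) (At := At) hM).T j
              = (posetData (p := p) (M := M) (B := B) (At := At) hM).T i ⊔ Subgroup.zpowers n},
            betaFun Rt j ∈ genCharSubgroup ↥Rt := by
  classical
  rw [mem_genCharSubgroup]
  obtain ⟨K, hK⟩ : ∃ K : Subgroup (G × G),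
      K = Subgroup.normalizer ((i.T.map At.subtype : Subgroup (G × G)) : Set (G × G))
        ⊓ (pairStab i.pair).comap (MonoidHom.fst G G) := ⟨_, rfl⟩
  have hKN : ∀ n : ↥(MulAction.stabilizer ↥At i), ((n : ↥At) : G × G) ∈ K := by
    intro n
    have hn : (n : ↥At) • i = i := n.2
    have hT : ((n : ↥At) • i).T = i.T := congrArg Idx.T hn
    have hP : ((n : ↥At) • i).pair = i.pair := congrArg Idx.pair hn
    rw [smul_T] at hT
    rw [smul_pair] at hP
    rw [hK]
    refine Subgroup.mem_inf.mpr ⟨?_, hP⟩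
    apply mem_normalizer_of_map_conj_eq
    rw [← map_conj_map_subtype, hT]
  have hKR : ∀ r : ↥Rt, (r : G × G) ∈ K := by
    intro r
    rw [hK]
    refine Subgroup.mem_inf.mpr ⟨?_, ?_⟩
    · apply mem_normalizer_of_commute_all
      intro t ht
      obtain ⟨t', _, rfl⟩ := Subgroup.mem_map.mp ht
      exact hcomm _ t'.2 _ r.2
    · show (r : G × G).1 ∈ pairStab i.pair
      apply centralizer_le_pairStab
      rw [Subgroup.mem_centralizer_iff]
      intro q hq
      rw [i.hfst] at hq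
      obtain ⟨t, ht, rfl⟩ := Subgroup.mem_map.mp hq
      obtain ⟨t', _, rfl⟩ := Subgroup.mem_map.mp ht
      exact congrArg Prod.fst (hcomm _ t'.2 _ r.2)
  have hχ : IsCharacter K (fun k : K => Phi (i.T.map At.subtype) i.pair (k : G × G)) := by
    apply Phi_isCharacter _ _ i.hfst
    · intro z hz
      rw [hK] at hz
      exact (Subgroup.mem_inf.mp hz).1
    · intro z hz
      rw [hK] at hz
      exact (Subgroup.mem_inf.mp hz).2
  have hchar := isCharacter_fixed_part_finsum hχ
    ((At.subtype.comp (MulAction.stabilizer ↥At i).subtype).codRestrict K hKN)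
    (Rt.subtype.codRestrict K hKR)
    (by
      intro n r
      apply Subtype.ext
      exact hcomm _ (n : ↥At).2 _ r.2)
  apply IsCharacter.isGeneralizedCharacter
  convert hchar using 1
  funext r
  rw [Pi.smul_apply, smul_eq_mul, finsum_mem_apply']
  congr 1
  rw [← finsum_set_coe_eq_finsum_mem]
  apply finsum_congr
  intro n
  exact sum_beta_step hM Rt hAt hRt hcomm i (n : ↥At) n.2 r

end beta

end Cfsg.Agent.Lib.Helper6.Star
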