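import Mathlib
import Cfsg.Agent.Lib.Helper6.StarBeta
import Cfsg.Agent.Lib.Helper6.ProdChar
import Cfsg.Agent.Lib.Helper6.IrrBasis
import Cfsg.Agent.Lib.Helper6.ClassFun
import Cfsg.Agent.Lib.Helper6.RepBasic
import Cfsg.Agent.Lib.Helper6.CharOps

set_option autoImplicit false
set_option linter.unusedSectionVars false
set_option maxHeartbeats 1600000

/-!
The two-variable function `Theta` and its restriction to a product of a `p`-group and a
`p'`-group.
-/

open Cfsg

namespace Cfsg.Agent.Lib.Helper6.Star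

open Cfsg.Agent.Lib.Helper6
open scoped ComplexConjugate

section aux

variable {K : Type*} [Group K] [Fintype K]

theorem classInner_genChar_char_int {θ χ : K → ℂ} (hθ : IsGeneralizedCharacter K θ)
    (hχ : IsCharacter K χ) : ∃ n : ℤ, classInner θ χ = n := by
  obtain ⟨a, b, ha, hb, rfl⟩ := hθ
  obtain ⟨na, hna⟩ := IsCharacter.classInner_nat ha hχ
  obtain ⟨nb, hnb⟩ := IsCharacter.classInner_nat hb hχ
  refine ⟨(na : ℤ) - (nb : ℤ), ?_⟩
  rw [classInner_sub_left, hna, hnb]
  push_cast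
  ring

theorem isGeneralizedCharacter_of_int {θ : K → ℂ} (hθ : IsClassFunction K θ)
    (h : ∀ χ : IrrCharacter K, ∃ n : ℤ, classInner θ (χ : K → ℂ) = n) :
    IsGeneralizedCharacter K θ := by
  classical
  haveI : Fintype (IrrCharacter K) := Fintype.ofFinite _
  rw [classFunction_eq_sum θ hθ]
  apply IsGeneralizedCharacter.sum
  intro χ _
  obtain ⟨n, hn⟩ := h χ
  rw [hn]
  exact IsGeneralizedCharacter.intCast_smul
    (IsCharacter.isGeneralizedCharacter (IsIrrCharacter.isCharacter χ.2)) n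

/-- the integers inside the complex numbers -/
def intSub : AddSubgroup ℂ := (Int.castAddHom ℂ).range

theorem mem_intSub (z : ℂ) : z ∈ intSub ↔ ∃ n : ℤ, z = n := by
  unfold intSub
  rw [AddMonoidHom.mem_range]
  constructor
  · rintro ⟨n, hn⟩
    exact ⟨n, hn.symm⟩
  · rintro ⟨n, hn⟩
    exact ⟨n, hn.symm⟩

end aux

section theta

variable {G : Type*} [Group G] [Fintype G] [DecidableEq G] {p : ℕ} [hp : Fact p.Prime]
  {M : Ideal Cfsg.AlgInt} {B : Set (IrrCharacter G)}

/-- the pairs of `B` on the cyclic group generated by `u` -/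
def pairsAt (p : ℕ) (M : Ideal Cfsg.AlgInt) (B : Set (IrrCharacter G)) (u : G) :
    Set (BrauerPairIdx G) :=
  {𝔰 | 𝔰.1 = Subgroup.zpowers u ∧ IsBrauerPairOf p M B 𝔰.1 𝔰.2}

/-- the two-variable function -/
noncomputable def Theta (p : ℕ) [Fact p.Prime] (M : Ideal Cfsg.AlgInt)
    (B : Set (IrrCharacter G)) (m : BrauerPairIdx G) (η : G → ℂ) (z : G × G) : ℂ :=
  ∑ᶠ 𝔰 ∈ pairsAt p M B (ppEl p z).1,
    etaFam p M m η 𝔰 (ppEl p z).1 * Phi (Subgroup.zpowers (ppEl p z)) 𝔰 (prEl p z)

theorem Theta_conj (hM : IsPModular p M) (m : BrauerPairIdx G)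
    (hmax : IsMaximalBrauerPair p M B m.1 m.2) (η : G → ℂ) (hη : IsStableFn p M m η)
    (w z : G × G) : Theta p M B m η (w * z * w⁻¹) = Theta p M B m η z := by
  unfold Theta
  rw [ppEl_conj, prEl_conj]
  symm
  apply finsum_mem_eq_of_bijOn (conjPair w.1)
  · refine ⟨?_, ?_, ?_⟩
    · rintro 𝔰 ⟨h1, h2⟩
      refine ⟨?_, isBrauerPairOf_conj B 𝔰.1 w.1 𝔰.2 h2⟩
      show 𝔰.1.map (MulAut.conj w.1).toMonoidHom = Subgroup.zpowers ((w * ppEl p z * w⁻¹).1)
      rw [h1, MonoidHom.map_zpowers]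
      rfl
    · intro a _ b _ h
      have h2 := congrArg (conjPair w.1⁻¹) h
      rwa [conjPair_inv_conjPair, conjPair_inv_conjPair] at h2
    · rintro 𝔰' ⟨h1, h2⟩
      have h3 : conjPair w.1 (conjPair w.1⁻¹ 𝔰') = 𝔰' := by
        have h := conjPair_inv_conjPair w.1⁻¹ 𝔰'
        rwa [inv_inv] at h
      refine ⟨conjPair w.1⁻¹ 𝔰', ⟨?_, isBrauerPairOf_conj B 𝔰'.1 w.1⁻¹ 𝔰'.2 h2⟩, h3⟩
      show 𝔰'.1.map (MulAut.conj w.1⁻¹).toMonoidHom = Subgroup.zpowers ((ppEl p z).1)
      rw [h1, MonoidHom.map_zpowers]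
      congr 1
      show w.1⁻¹ * (w * ppEl p z * w⁻¹).1 * (w.1⁻¹)⁻¹ = (ppEl p z).1
      simp only [Prod.fst_mul, Prod.fst_inv]
      group
  · rintro 𝔰 ⟨h1, h2⟩
    have he := exists_conj_le hM B m hmax 𝔰 h2
    have hu : (ppEl p z).1 ∈ 𝔰.1 := by rw [h1]; exact Subgroup.mem_zpowers _
    have h3 : (w * ppEl p z * w⁻¹).1 = w.1 * (ppEl p z).1 * w.1⁻¹ := rfl
    rw [h3, etaFam_conj hη w.1 he hu]
    have h4 : Subgroup.zpowers (w * ppEl p z * w⁻¹)
        = (Subgroup.zpowers (ppEl p z)).map (MulAut.conj w).toMonoidHom := by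
      rw [MonoidHom.map_zpowers]; rfl
    rw [h4, Phi_conj]

variable {At : Subgroup (G × G)}

theorem orderOf_coe_of_isPGroup (hAt : IsPGroup p At) (a : ↥At) :
    ∃ k : ℕ, orderOf (a : G × G) = p ^ k := by
  obtain ⟨k, hk⟩ := hAt a
  have h1 : orderOf a ∣ p ^ k := orderOf_dvd_of_pow_eq_one hk
  obtain ⟨j, _, hj⟩ := (Nat.dvd_prime_pow hp.out).mp h1
  exact ⟨j, by rw [Subgroup.orderOf_coe]; exact hj⟩

/-- the value of `Theta` at a product in terms of the marks -/
theorem Theta_eq_sum_marks (hM : IsPModular p M) (m : BrauerPairIdx G)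
    (hmax : IsMaximalBrauerPair p M B m.1 m.2) (η : G → ℂ) (hη : IsStableFn p M m η)
    (Rt : Subgroup (G × G)) (hAt : IsPGroup p At)
    (hRt : ∀ r ∈ Rt, ¬ p ∣ orderOf r) (hcomm : ∀ a ∈ At, ∀ r ∈ Rt, a * r = r * a)
    (mk : Idx p M B At → ↥Rt → ℂ)
    (h3 : ∀ (c : Idx p M B At → ℂ) (a : ↥At),
      (∀ j k, (posetData (p := p) (M := M) (B := B) (At := At) hM).le j k →
        (posetData (p := p) (M := M) (B := B) (At := At) hM).T j = Subgroup.zpowers a →
          c j = c k) →
      ∑ᶠ j ∈ {j | (posetData (p := p) (M := M) (B := B) (At := At) hM).T j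
          = Subgroup.zpowers a}, c j • betaFun Rt j
        = ∑ᶠ k ∈ {k | a ∈ (posetData (p := p) (M := M) (B := B) (At := At) hM).T k},
            c k • mk k)
    (a : ↥At) (r : ↥Rt) :
    Theta p M B m η ((a : G × G) * (r : G × G))
      = ∑ᶠ k ∈ {k : Idx p M B At | a ∈ k.T},
          etaFam p M m η k.pair (a : G × G).1 * mk k r := by
  classical
  have hao := orderOf_coe_of_isPGroup hAt a
  have hcom : Commute (a : G × G) (r : G × G) := hcomm _ a.2 _ r.2
  have hpp : ppEl p ((a : G × G) * (r : G × G)) = (a : G × G) :=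
    ppEl_mul_of_commute hao (hRt r r.2) hcom
  have hpr : prEl p ((a : G × G) * (r : G × G)) = (r : G × G) :=
    prEl_mul_of_commute hao (hRt r r.2) hcom
  unfold Theta
  rw [hpp, hpr]
  have hc : ∀ j k : Idx p M B At,
      (posetData (p := p) (M := M) (B := B) (At := At) hM).le j k →
      (posetData (p := p) (M := M) (B := B) (At := At) hM).T j = Subgroup.zpowers a →
      etaFam p M m η j.pair (a : G × G).1 = etaFam p M m η k.pair (a : G × G).1 := by
    intro j k hjk hjT
    apply etaFam_mono hη hjk.2 (exists_conj_le hM B m hmax k.pair k.hB)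
    rw [j.hfst]
    change j.T = Subgroup.zpowers a at hjT
    rw [hjT]
    exact Subgroup.mem_map.mpr ⟨(a : G × G),
      Subgroup.mem_map.mpr ⟨a, Subgroup.mem_zpowers a, rfl⟩, rfl⟩
  have key := congrFun (h3 (fun j => etaFam p M m η j.pair (a : G × G).1) a hc) r
  rw [finsum_mem_apply', finsum_mem_apply'] at key
  have hz : ((Subgroup.zpowers a).map At.subtype).map (MonoidHom.fst G G)
      = Subgroup.zpowers (a : G × G).1 := by
    rw [MonoidHom.map_zpowers, MonoidHom.map_zpowers]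
    rfl
  refine Eq.trans ?_ (key.trans ?_)
  · symm
    apply finsum_mem_eq_of_bijOn (fun j : Idx p M B At => j.pair)
    · refine ⟨?_, ?_, ?_⟩
      · intro j hj
        change j.T = Subgroup.zpowers a at hj
        refine ⟨?_, j.hB⟩
        rw [j.hfst, hj, hz]
      · intro j hj j' hj' h
        change j.T = Subgroup.zpowers a at hj
        change j'.T = Subgroup.zpowers a at hj'
        exact Idx.ext (hj.trans hj'.symm) h
      · rintro 𝔰 ⟨h1, h2⟩
        exact ⟨⟨Subgroup.zpowers a, 𝔰, by rw [h1, hz], h2⟩, rfl, rfl⟩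
    · intro j hj
      change j.T = Subgroup.zpowers a at hj
      show etaFam p M m η j.pair (a : G × G).1 * Phi (j.T.map At.subtype) j.pair (r : G × G)
        = etaFam p M m η j.pair (a : G × G).1
          * Phi (Subgroup.zpowers (a : G × G)) j.pair (r : G × G)
      rw [hj, MonoidHom.map_zpowers]
      rfl
  · apply finsum_mem_congr rfl
    intro k _
    rfl

/-- the restriction of `Theta` to a product of a `p`-group and a commuting `p'`-group -/
theorem Theta_prod_isGeneralizedCharacter (hM : IsPModular p M) (m : BrauerPairIdx G)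
    (hmax : IsMaximalBrauerPair p M B m.1 m.2) (η : G → ℂ) (hη : IsStableFn p M m η)
    (hηP : IsGeneralizedCharacter m.1 (fun u : m.1 => η (u : G)))
    (At Rt : Subgroup (G × G)) (hAt : IsPGroup p At)
    (hRt : ∀ r ∈ Rt, ¬ p ∣ orderOf r) (hcomm : ∀ a ∈ At, ∀ r ∈ Rt, a * r = r * a) :
    IsGeneralizedCharacter (↥At × ↥Rt)
      (fun z => Theta p M B m η ((z.1 : G × G) * (z.2 : G × G))) := by
  classical
  haveI : Fintype ↥At := Fintype.ofFinite _
  haveI : Fintype ↥Rt := Fintype.ofFinite _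
  haveI : Fintype (Idx p M B At) := Fintype.ofFinite _
  obtain ⟨mk, _, h2, h3, h4⟩ := StarM.exists_marks p
    (posetData (p := p) (M := M) (B := B) (At := At) hM) hAt (genCharSubgroup ↥Rt)
    (betaFun Rt) (betaFun_smul Rt hcomm) (beta_avg hM Rt hAt hRt hcomm)
  have hcf : IsClassFunction (↥At × ↥Rt)
      (fun z => Theta p M B m η ((z.1 : G × G) * (z.2 : G × G))) := by
    intro g h
    show Theta p M B m η ((((h * g * h⁻¹).1 : ↥At) : G × G) * (((h * g * h⁻¹).2 : ↥Rt) : G × G))
      = Theta p M B m η ((g.1 : G × G) * (g.2 : G × G))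
    have e1 : (h.2 : G × G) * (g.1 : G × G) = (g.1 : G × G) * (h.2 : G × G) :=
      (hcomm _ g.1.2 _ h.2.2).symm
    have e2 : ((h.2 : G × G) * (g.2 : G × G) * (h.2 : G × G)⁻¹) * (h.1 : G × G)⁻¹
        = (h.1 : G × G)⁻¹ * ((h.2 : G × G) * (g.2 : G × G) * (h.2 : G × G)⁻¹) :=
      (hcomm _ (At.inv_mem h.1.2) _
        (Rt.mul_mem (Rt.mul_mem h.2.2 g.2.2) (Rt.inv_mem h.2.2))).symm
    have e3 : (((h * g * h⁻¹).1 : ↥At) : G × G) * (((h * g * h⁻¹).2 : ↥Rt) : G × G)
        = ((h.1 : G × G) * (h.2 : G × G)) * ((g.1 : G × G) * (g.2 : G × G))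
          * ((h.1 : G × G) * (h.2 : G × G))⁻¹ := by
      show (h.1 : G × G) * (g.1 : G × G) * (h.1 : G × G)⁻¹
          * ((h.2 : G × G) * (g.2 : G × G) * (h.2 : G × G)⁻¹) = _
      calc (h.1 : G × G) * (g.1 : G × G) * (h.1 : G × G)⁻¹
            * ((h.2 : G × G) * (g.2 : G × G) * (h.2 : G × G)⁻¹)
          = (h.1 : G × G) * (g.1 : G × G) * ((h.1 : G × G)⁻¹
            * ((h.2 : G × G) * (g.2 : G × G) * (h.2 : G × G)⁻¹)) := by group
        _ = (h.1 : G × G) * (g.1 : G × G) * (((h.2 : G × G) * (g.2 : G × G)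
            * (h.2 : G × G)⁻¹) * (h.1 : G × G)⁻¹) := by rw [e2]
        _ = (h.1 : G × G) * ((g.1 : G × G) * (h.2 : G × G)) * (g.2 : G × G)
            * (h.2 : G × G)⁻¹ * (h.1 : G × G)⁻¹ := by group
        _ = (h.1 : G × G) * ((h.2 : G × G) * (g.1 : G × G)) * (g.2 : G × G)
            * (h.2 : G × G)⁻¹ * (h.1 : G × G)⁻¹ := by rw [e1]
        _ = ((h.1 : G × G) * (h.2 : G × G)) * ((g.1 : G × G) * (g.2 : G × G))
            * ((h.1 : G × G) * (h.2 : G × G))⁻¹ := by group
    rw [e3]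
    exact Theta_conj hM m hmax η hη _ _
  apply isGeneralizedCharacter_of_int hcf
  intro ψ
  obtain ⟨φ, ψ', hφ, hψ', hψeq⟩ := exists_prodFun_of_isIrrCharacter ψ.2
  rw [hψeq]
  -- the functions E k
  obtain ⟨E, hE⟩ : ∃ E : Idx p M B At → ↥At → ℂ, E = fun (k : Idx p M B At) (a : ↥At) =>
      if a ∈ k.T then etaFam p M m η k.pair (a : G × G).1 else 0 := ⟨_, rfl⟩
  have hΘ : (fun z : ↥At × ↥Rt => Theta p M B m η ((z.1 : G × G) * (z.2 : G × G)))
      = ∑ k : Idx p M B At, prodFun (E k) (mk k) := by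
    funext z
    rw [Theta_eq_sum_marks hM m hmax η hη Rt hAt hRt hcomm mk h3 z.1 z.2,
      finsum_mem_eq_sum_filter_lib, Finset.sum_filter, Finset.sum_apply]
    apply Finset.sum_congr rfl
    intro k _
    rw [hE]
    show (if k ∈ {k : Idx p M B At | z.1 ∈ k.T} then _ else 0)
      = (if z.1 ∈ k.T then etaFam p M m η k.pair (z.1 : G × G).1 else 0) * mk k z.2
    by_cases hk : z.1 ∈ k.T
    · rw [if_pos hk, if_pos (show k ∈ {k : Idx p M B At | z.1 ∈ k.T} from hk)]
    · rw [if_neg hk, if_neg (show k ∉ {k : Idx p M B At | z.1 ∈ k.T} from hk), zero_mul]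
  rw [hΘ, classInner_sum_left]
  simp_rw [classInner_prodFun]
  have hmem : ∑ k : Idx p M B At, classInner (E k) φ * classInner (mk k) ψ' ∈ intSub := by
    apply StarM.sum_mem_of_orbit (Γ := ↥At) intSub
      (fun k : Idx p M B At => classInner (E k) φ * classInner (mk k) ψ')
    · -- invariance
      intro b k
      show classInner (E (b • k)) φ * classInner (mk (b • k)) ψ'
        = classInner (E k) φ * classInner (mk k) ψ'
      rw [h2 b k]
      congr 1
      unfold classInner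
      congr 1
      symm
      apply Fintype.sum_equiv (MulAut.conj b).toEquiv
      intro a'
      show E k a' * conj (φ a') = E (b • k) (b * a' * b⁻¹) * conj (φ (b * a' * b⁻¹))
      rw [IsIrrCharacter.isClassFunction hφ a' b]
      congr 1
      rw [hE]
      show (if a' ∈ k.T then etaFam p M m η k.pair (a' : G × G).1 else 0)
        = (if b * a' * b⁻¹ ∈ (b • k).T then
            etaFam p M m η (b • k).pair ((b * a' * b⁻¹ : ↥At) : G × G).1 else 0)
      have hiff : b * a' * b⁻¹ ∈ (b • k).T ↔ a' ∈ k.T := by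
        rw [smul_T, mem_map_conj_iff]
        have : b⁻¹ * (b * a' * b⁻¹) * b = a' := by group
        rw [this]
      by_cases ha' : a' ∈ k.T
      · rw [if_pos ha', if_pos (hiff.mpr ha'), smul_pair]
        have ht : (a' : G × G).1 ∈ k.pair.1 := by
          rw [k.hfst]
          exact Subgroup.mem_map.mpr ⟨(a' : G × G), Subgroup.mem_map.mpr ⟨a', ha', rfl⟩, rfl⟩
        have h5 := etaFam_conj hη (b : G × G).1 (exists_conj_le hM B m hmax k.pair k.hB) ht
        rw [← h5]
        rfl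
      · rw [if_neg ha', if_neg (fun h => ha' (hiff.mp h))]
    · -- the lattice condition
      intro k
      rw [mem_intSub]
      haveI : Fintype ↥k.T := Fintype.ofFinite _
      have hmemk : ∀ t : ↥k.T,
          ((MonoidHom.fst G G).comp (At.subtype.comp k.T.subtype)) t ∈ k.pair.1 := by
        intro t
        rw [k.hfst]
        exact Subgroup.mem_map.mpr ⟨_, Subgroup.mem_map.mpr ⟨(t : ↥At), t.2, rfl⟩, rfl⟩
      have hηk : IsGeneralizedCharacter ↥k.T
          (fun t : ↥k.T => etaFam p M m η k.pair (((t : ↥At) : G × G).1)) :=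
        IsGeneralizedCharacter.comp
          (((MonoidHom.fst G G).comp (At.subtype.comp k.T.subtype)).codRestrict k.pair.1 hmemk)
          (etaFam_isGeneralizedCharacter hη hηP (exists_conj_le hM B m hmax k.pair k.hB))
      have hφk : IsCharacter ↥k.T (fun t : ↥k.T => φ (t : ↥At)) :=
        IsCharacter.comp k.T.subtype (IsIrrCharacter.isCharacter hφ)
      obtain ⟨n₁, hn₁⟩ := classInner_genChar_char_int hηk hφk
      obtain ⟨n₂, hn₂⟩ := classInner_genChar_char_int (h4 k) (IsIrrCharacter.isCharacter hψ')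
      refine ⟨n₁ * n₂, ?_⟩
      rw [classInner_smul_left] at hn₂
      have hT0 : (Nat.card ↥k.T : ℂ) ≠ 0 := card_ne_zero_complex _
      have hA0 : (Nat.card ↥At : ℂ) ≠ 0 := card_ne_zero_complex _
      have hN0 : (Nat.card ↥(MulAction.stabilizer ↥At k) : ℂ) ≠ 0 := card_ne_zero_complex _
      have hidx : ((MulAction.stabilizer ↥At k).index : ℂ)
          * (Nat.card ↥(MulAction.stabilizer ↥At k) : ℂ) = (Nat.card ↥At : ℂ) := by
        exact_mod_cast Subgroup.index_mul_card (MulAction.stabilizer ↥At k)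
      have hEk : classInner (E k) φ = (Nat.card ↥At : ℂ)⁻¹ * ((Nat.card ↥k.T : ℂ) * n₁) := by
        rw [← hn₁]
        unfold classInner
        rw [← mul_assoc (Nat.card ↥k.T : ℂ), mul_inv_cancel₀ hT0, one_mul]
        congr 1
        rw [sum_eq_sum_subgroup_of_support k.T (fun a => E k a * conj (φ a))]
        · apply Finset.sum_congr rfl
          intro t _
          rw [hE]
          show (if (t : ↥At) ∈ k.T then _ else 0) * _ = _
          rw [if_pos t.2]
        · intro a ha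
          rw [hE]
          show (if a ∈ k.T then _ else 0) * _ = 0
          rw [if_neg ha, zero_mul]
      rw [nsmul_eq_mul, hEk]
      have hmk : classInner (mk k) ψ' = (Nat.card ↥(MulAction.stabilizer ↥At k) : ℂ)
          / (Nat.card ↥k.T : ℂ) * n₂ := by
        rw [← hn₂]
        change _ = _ / _ * (((Nat.card ↥k.T : ℂ) / _) * _)
        field_simp
      rw [hmk]
      have hidx' : ((MulAction.stabilizer ↥At k).index : ℂ)
          = (Nat.card ↥At : ℂ) / (Nat.card ↥(MulAction.stabilizer ↥At k) : ℂ) := by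
        rw [← hidx]; field_simp
      rw [hidx']
      push_cast
      field_simp
  obtain ⟨n, hn⟩ := (mem_intSub _).mp hmem
  exact ⟨n, hn⟩

end theta

end Cfsg.Agent.Lib.Helper6.Star
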