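import Mathlib
import Cfsg.Agent.Lib.Helper6.StarTheta1
import Cfsg.Agent.Lib.Helper6.BrauerGlobal
import Cfsg.Agent.Lib.Helper6.ElemProps
import Cfsg.Agent.Lib.Helper6.NilProd
import Cfsg.Agent.Lib.Helper6.PComplement
import Cfsg.Agent.Lib.Helper6.Norm

set_option autoImplicit false
set_option linter.unusedSectionVars false
set_option maxHeartbeats 1600000

/-!
`Theta` is a generalized character of `G × G`; the star construction and its integrality.
-/

open Cfsg

namespace Cfsg.Agent.Lib.Helper6.Star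

open Cfsg.Agent.Lib.Helper6
open scoped ComplexConjugate

section theta2

variable {G : Type*} [Group G] [Fintype G] [DecidableEq G] {p : ℕ} [hp : Fact p.Prime]
  {M : Ideal Cfsg.AlgInt} {B : Set (IrrCharacter G)}

theorem Theta_isGeneralizedCharacter (hM : IsPModular p M) (m : BrauerPairIdx G)
    (hmax : IsMaximalBrauerPair p M B m.1 m.2) (η : G → ℂ) (hη : IsStableFn p M m η)
    (hηP : IsGeneralizedCharacter m.1 (fun u : m.1 => η (u : G))) :
    IsGeneralizedCharacter (G × G) (Theta p M B m η) := by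
  classical
  apply isGeneralizedCharacter_of_restrict (fun g h => Theta_conj hM m hmax η hη h g)
  intro E hE
  obtain ⟨q, hq, hEq⟩ := hE
  haveI : Group.IsNilpotent E := IsElementary.isNilpotent hq hEq
  haveI : Fintype E := Fintype.ofFinite E
  obtain ⟨K, hKn, hKcop, hKidx⟩ := exists_normal_pcomplement_of_nilpotent (E := E) p
  obtain ⟨S⟩ := (inferInstance : Nonempty (Sylow p E))
  obtain ⟨πS, πK, hdec, _, _⟩ := exists_proj_of_nilpotent S K hKn hKcop hKidx
  obtain ⟨At, hAt_def⟩ : ∃ At : Subgroup (G × G), At = (S : Subgroup E).map E.subtype :=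
    ⟨_, rfl⟩
  obtain ⟨Rt, hRt_def⟩ : ∃ Rt : Subgroup (G × G), Rt = K.map E.subtype := ⟨_, rfl⟩
  have hAt : IsPGroup p At := by rw [hAt_def]; exact S.isPGroup'.map _
  have hRt : ∀ r ∈ Rt, ¬ p ∣ orderOf r := by
    intro r hr
    rw [hRt_def] at hr
    obtain ⟨k, hk, rfl⟩ := Subgroup.mem_map.mp hr
    show ¬ p ∣ orderOf ((k : E) : G × G)
    rw [Subgroup.orderOf_coe]
    exact (mem_pcomplement_iff hKn hKcop hKidx k).1 hk
  have hcomm : ∀ a ∈ At, ∀ r ∈ Rt, a * r = r * a := by
    intro a ha r hr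
    rw [hAt_def] at ha
    rw [hRt_def] at hr
    obtain ⟨s, hs, rfl⟩ := Subgroup.mem_map.mp ha
    obtain ⟨k, hk, rfl⟩ := Subgroup.mem_map.mp hr
    have hdisj : Disjoint (S : Subgroup E) K := by
      apply Subgroup.disjoint_of_coprime_natCard
      rw [Sylow.card_eq_multiplicity S]
      exact (Nat.Coprime.pow_right _ hKcop).symm
    have hc := (Subgroup.commute_of_normal_of_disjoint (S : Subgroup E) K inferInstance hKn hdisj
      s k hs hk).eq
    exact congrArg (fun t : E => (t : G × G)) hc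
  have hprod := Theta_prod_isGeneralizedCharacter hM m hmax η hη hηP At Rt hAt hRt hcomm
  have hS_mem : ∀ e : E, ((E.subtype.comp (S : Subgroup E).subtype).comp πS) e ∈ At := by
    intro e
    rw [hAt_def]
    exact Subgroup.mem_map.mpr ⟨(πS e : E), (πS e).2, rfl⟩
  have hK_mem : ∀ e : E, ((E.subtype.comp K.subtype).comp πK) e ∈ Rt := by
    intro e
    rw [hRt_def]
    exact Subgroup.mem_map.mpr ⟨(πK e : E), (πK e).2, rfl⟩
  have h := IsGeneralizedCharacter.comp
    ((((E.subtype.comp (S : Subgroup E).subtype).comp πS).codRestrict At hS_mem).prod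
      (((E.subtype.comp K.subtype).comp πK).codRestrict Rt hK_mem)) hprod
  convert h using 1
  funext e
  show Theta p M B m η (e : G × G)
    = Theta p M B m η ((((πS e : E)) : G × G) * (((πK e : E)) : G × G))
  rw [← Subgroup.coe_mul, hdec e]

theorem isPPart_prod (g h : G) : IsPPart p ((g, h) : G × G) (ppEl p g, ppEl p h) := by
  refine ⟨(prEl p g, prEl p h), ?_, ?_, ?_, ?_⟩
  · show (ppEl p g * prEl p g, ppEl p h * prEl p h) = (g, h)
    rw [ppEl_mul_prEl, ppEl_mul_prEl]
  · show (ppEl p g * prEl p g, ppEl p h * prEl p h) = (prEl p g * ppEl p g, prEl p h * ppEl p h)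
    rw [(commute_ppEl_prEl g).eq, (commute_ppEl_prEl h).eq]
  · obtain ⟨i, hi⟩ := orderOf_ppEl (p := p) g
    obtain ⟨j, hj⟩ := orderOf_ppEl (p := p) h
    have h1 : orderOf ((ppEl p g, ppEl p h) : G × G) ∣ p ^ (i + j) := by
      rw [orderOf_dvd_iff_pow_eq_one]
      show ((ppEl p g) ^ (p ^ (i + j)), (ppEl p h) ^ (p ^ (i + j))) = ((1 : G), (1 : G))
      have e1 : (ppEl p g) ^ (p ^ (i + j)) = 1 := by
        rw [← orderOf_dvd_iff_pow_eq_one, hi]
        exact pow_dvd_pow p (Nat.le_add_right i j)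
      have e2 : (ppEl p h) ^ (p ^ (i + j)) = 1 := by
        rw [← orderOf_dvd_iff_pow_eq_one, hj]
        exact pow_dvd_pow p (Nat.le_add_left j i)
      rw [e1, e2]
    obtain ⟨k, _, hk⟩ := (Nat.dvd_prime_pow hp.out).mp h1
    exact ⟨k, hk⟩
  · intro hdvd
    rw [Prod.orderOf_mk] at hdvd
    have h1 : p ∣ orderOf (prEl p g) * orderOf (prEl p h) :=
      dvd_trans hdvd (Nat.lcm_dvd_mul _ _)
    rcases (Nat.Prime.dvd_mul hp.out).mp h1 with h2 | h2
    · exact prEl_pRegular g h2
    · exact prEl_pRegular h h2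

theorem ppEl_prod (g h : G) : ppEl p ((g, h) : G × G) = (ppEl p g, ppEl p h) :=
  ppEl_eq_of_isPPart (isPPart_prod g h)

theorem prEl_prod (g h : G) : prEl p ((g, h) : G × G) = (prEl p g, prEl p h) := by
  show (ppEl p ((g, h) : G × G))⁻¹ * (g, h) = ((ppEl p g)⁻¹ * g, (ppEl p h)⁻¹ * h)
  rw [ppEl_prod]
  rfl

/-- the section of `χ` at the pair `𝔰` over the `p`-element `u`, at `s` -/
noncomputable def sect (p : ℕ) [Fact p.Prime] (χ : G → ℂ) (𝔰 : BrauerPairIdx G) (u s : G) : ℂ :=
  ∑ h : G, if ppEl p h = u then pc 𝔰 (prEl p h * s⁻¹) * χ h else 0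

/-- the star construction -/
noncomputable def starFun (p : ℕ) [Fact p.Prime] (M : Ideal Cfsg.AlgInt)
    (B : Set (IrrCharacter G)) (m : BrauerPairIdx G) (η : G → ℂ) (χ : G → ℂ) (g : G) : ℂ :=
  ∑ᶠ 𝔰 ∈ pairsAt p M B (ppEl p g),
    etaFam p M m η 𝔰 (ppEl p g) * sect p χ 𝔰 (ppEl p g) (prEl p g)

theorem mem_fixSet_zpowers (u v x : G) :
    x ∈ fixSet (Subgroup.zpowers ((u, v) : G × G)) ↔ x * v * x⁻¹ = u := by
  show Subgroup.zpowers ((u, v) : G × G) ≤ fixStab x ↔ _
  rw [Subgroup.zpowers_le, mem_fixStab]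
  show u * x * v⁻¹ = x ↔ _
  constructor
  · intro h
    calc x * v * x⁻¹ = (u * x * v⁻¹) * v * x⁻¹ := by rw [h]
      _ = u := by group
  · intro h
    rw [← h]
    group

theorem sum_Phi_mul (χ : G → ℂ) (hχ : IsClassFunction G χ) (𝔰 : BrauerPairIdx G) (u s : G) :
    ∑ h : G, Phi (Subgroup.zpowers ((u, ppEl p h) : G × G)) 𝔰 (s, prEl p h) * χ h
      = (Nat.card G : ℂ) * sect p χ 𝔰 u s := by
  classical
  unfold Phi
  simp_rw [Finset.sum_mul]
  rw [Finset.sum_comm]
  have hx : ∀ x : G, ∑ h : G, fixInd (Subgroup.zpowers ((u, ppEl p h) : G × G)) x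
      * pc 𝔰 (x * ((s, prEl p h) : G × G).2 * x⁻¹ * ((s, prEl p h) : G × G).1⁻¹) * χ h
      = sect p χ 𝔰 u s := by
    intro x
    unfold sect
    apply Fintype.sum_equiv (MulAut.conj x).toEquiv
    intro h
    show fixInd (Subgroup.zpowers ((u, ppEl p h) : G × G)) x
        * pc 𝔰 (x * prEl p h * x⁻¹ * s⁻¹) * χ h
      = if ppEl p (x * h * x⁻¹) = u then pc 𝔰 (prEl p (x * h * x⁻¹) * s⁻¹) * χ (x * h * x⁻¹)
        else 0
    rw [ppEl_conj, prEl_conj, hχ h x]
    by_cases hc : x * ppEl p h * x⁻¹ = u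
    · rw [if_pos hc, fixInd_of_mem ((mem_fixSet_zpowers u _ x).mpr hc), one_mul]
    · rw [if_neg hc, fixInd_of_not_mem (fun hm => hc ((mem_fixSet_zpowers u _ x).mp hm)),
        zero_mul, zero_mul]
  rw [Finset.sum_congr rfl (fun x _ => hx x), Finset.sum_const, Finset.card_univ,
    nsmul_eq_mul, Nat.card_eq_fintype_card]

theorem sum_Theta_mul (m : BrauerPairIdx G) (η : G → ℂ) (χ : G → ℂ)
    (hχ : IsClassFunction G χ) (g : G) :
    ∑ h : G, Theta p M B m η (g, h) * χ h = (Nat.card G : ℂ) * starFun p M B m η χ g := by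
  classical
  haveI : Fintype (BrauerPairIdx G) := Fintype.ofFinite _
  unfold Theta starFun
  simp_rw [ppEl_prod, prEl_prod]
  rw [finsum_mem_eq_sum_filter_lib]
  simp_rw [finsum_mem_eq_sum_filter_lib (pairsAt p M B (ppEl p g)), Finset.sum_mul]
  rw [Finset.sum_comm, Finset.mul_sum]
  apply Finset.sum_congr rfl
  intro 𝔰 _
  simp_rw [mul_assoc]
  rw [← Finset.mul_sum, sum_Phi_mul χ hχ 𝔰 (ppEl p g) (prEl p g)]
  ring

/-- the star construction of a stable generalized character and a character is a generalized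
character -/
theorem starFun_isGeneralizedCharacter (hM : IsPModular p M) (m : BrauerPairIdx G)
    (hmax : IsMaximalBrauerPair p M B m.1 m.2) (η : G → ℂ) (hη : IsStableFn p M m η)
    (hηP : IsGeneralizedCharacter m.1 (fun u : m.1 => η (u : G))) (χ : G → ℂ)
    (hχ : IsCharacter G χ) : IsGeneralizedCharacter G (starFun p M B m η χ) := by
  classical
  have hG0 : (Nat.card G : ℂ) ≠ 0 := card_ne_zero_complex G
  have hχcf := IsCharacter.isClassFunction hχ
  have hpair : ∀ g : G, starFun p M B m η χ g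
      = (Nat.card G : ℂ)⁻¹ * ∑ h : G, Theta p M B m η (g, h) * χ h := by
    intro g
    rw [sum_Theta_mul m η χ hχcf g, ← mul_assoc, inv_mul_cancel₀ hG0, one_mul]
  have hΘ := Theta_isGeneralizedCharacter hM m hmax η hη hηP
  apply isGeneralizedCharacter_of_int
  · intro g w
    rw [hpair, hpair]
    congr 1
    apply Finset.sum_congr rfl
    intro h _
    congr 1
    have h1 : ((w * g * w⁻¹, h) : G × G) = ((w, 1) : G × G) * (g, h) * ((w, 1) : G × G)⁻¹ := by
      ext <;> simp
    rw [h1]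
    exact Theta_conj hM m hmax η hη _ _
  · intro χ'
    have hkey : classInner (starFun p M B m η χ) (χ' : G → ℂ)
        = classInner (Theta p M B m η) (prodFun (χ' : G → ℂ) (fun h => conj (χ h))) := by
      unfold classInner
      rw [Fintype.sum_prod_type, Nat.card_prod, Nat.cast_mul, mul_inv, mul_assoc]
      congr 1
      rw [Finset.mul_sum]
      apply Finset.sum_congr rfl
      intro g _
      rw [hpair g, mul_assoc, Finset.sum_mul]
      congr 1
      apply Finset.sum_congr rfl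
      intro h _
      unfold prodFun
      rw [map_mul, Complex.conj_conj]
      ring
    rw [hkey]
    exact classInner_genChar_char_int hΘ
      (IsCharacter.prodFun (IsIrrCharacter.isCharacter χ'.2) (IsCharacter.conj hχ))

end theta2

end Cfsg.Agent.Lib.Helper6.Star
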