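import Mathlib
import Cfsg.Agent.Lib.Helper6.StarTheta2
import Cfsg.Agent.Lib.Helper6.KpCross
import Cfsg.Agent.Lib.Helper6.BlkPairs
import Cfsg.Agent.Lib.Helper6.SubContrib
import Cfsg.Agent.Lib.Helper6.SubsecOrth
import Cfsg.Agent.Lib.Helper6.BlkSubNorm
import Cfsg.Agent.Lib.Helper6.BlkSecond3

set_option autoImplicit false
set_option linter.unusedSectionVars false
set_option maxHeartbeats 1600000

/-!
The section calculus of the star construction.
-/

open Cfsg

namespace Cfsg.Agent.Lib.Helper6.Star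

open Cfsg.Agent.Lib.Helper6
open scoped ComplexConjugate

section general

variable {K : Type*} [Group K] [Fintype K] [DecidableEq K] {p : ℕ} [hp : Fact p.Prime]
  {M : Ideal Cfsg.AlgInt}

theorem blockPart_sum_smul (b : Set (IrrCharacter K)) {ι : Type*} (s : Finset ι) (c : ι → ℂ)
    (F : ι → K → ℂ) (y : K) :
    blockPart b (∑ i ∈ s, c i • F i) y = ∑ i ∈ s, c i * blockPart b (F i) y := by
  classical
  haveI : Fintype (IrrCharacter K) := Fintype.ofFinite _
  rw [blockPart_eq_finset_sum]
  have h1 : ∀ i ∈ s, c i * blockPart b (F i) y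
      = ∑ χ ∈ Finset.univ.filter (· ∈ b), c i * (classInner (F i) (χ : K → ℂ) * (χ : K → ℂ) y) := by
    intro i _
    rw [blockPart_eq_finset_sum, Finset.mul_sum]
  rw [Finset.sum_congr rfl h1, Finset.sum_comm]
  apply Finset.sum_congr rfl
  intro χ _
  rw [classInner_sum_left, Finset.sum_mul]
  apply Finset.sum_congr rfl
  intro i _
  rw [classInner_smul_left]
  ring

theorem blockPart_congr_pRegular (hM : IsPModular p M) (ξ₀ : IrrCharacter K) {f g : K → ℂ}
    (h : ∀ c : K, ¬ p ∣ orderOf c → f c = g c) (y : K) (hy : ¬ p ∣ orderOf y) :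
    blockPart (blockOf M (ξ₀ : K → ℂ)) f y = blockPart (blockOf M (ξ₀ : K → ℂ)) g y := by
  rw [blockPart_eq_blockPart_pRegularPart hM ξ₀ f y hy,
    blockPart_eq_blockPart_pRegularPart hM ξ₀ g y hy]
  have : pRegularPart p f = pRegularPart p g := by
    funext c
    unfold pRegularPart
    by_cases hc : IsPRegular p c
    · rw [if_pos hc, if_pos hc]; exact h c hc
    · rw [if_neg hc, if_neg hc]
  rw [this]

theorem blockPart_blockPart_ite (hM : IsPModular p M) {b b' : Set (IrrCharacter K)}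
    (hb : IsPBlock M b) (hb' : IsPBlock M b') [Decidable (b = b')] (f : K → ℂ) (y : K) :
    blockPart b (blockPart b' f) y = if b = b' then blockPart b f y else 0 := by
  classical
  haveI : Fintype (IrrCharacter K) := Fintype.ofFinite _
  by_cases h : b = b'
  · rw [if_pos h, ← h, blockPart_blockPart]
  · rw [if_neg h]
    obtain ⟨ξ, rfl⟩ := hb
    obtain ⟨ξ', rfl⟩ := hb'
    exact blockPart_blockPart_of_disjoint _ _
      (disjoint_blockOf_of_ne hM ξ' ξ (fun h' => h h'.symm)) f y

/-- orthogonal expansion of a squared norm -/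
theorem sum_comb_mul_conj {ι Y : Type*} [DecidableEq ι] (s : Finset ι) (R : Finset Y)
    (a : ι → ℂ) (P : ι → Y → ℂ)
    (horth : ∀ i ∈ s, ∀ j ∈ s, i ≠ j → ∑ y ∈ R, P i y * conj (P j y) = 0) :
    ∑ y ∈ R, (∑ i ∈ s, a i * P i y) * conj (∑ j ∈ s, a j * P j y)
      = ∑ i ∈ s, a i * conj (a i) * ∑ y ∈ R, P i y * conj (P i y) := by
  have h1 : ∀ y ∈ R, (∑ i ∈ s, a i * P i y) * conj (∑ j ∈ s, a j * P j y)
      = ∑ i ∈ s, ∑ j ∈ s, a i * conj (a j) * (P i y * conj (P j y)) := by
    intro y _
    rw [map_sum, Finset.sum_mul]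
    apply Finset.sum_congr rfl
    intro i _
    rw [Finset.mul_sum]
    apply Finset.sum_congr rfl
    intro j _
    rw [map_mul]
    ring
  rw [Finset.sum_congr rfl h1, Finset.sum_comm]
  apply Finset.sum_congr rfl
  intro i hi
  rw [Finset.sum_comm]
  rw [Finset.sum_eq_single i]
  · rw [Finset.mul_sum]
  · intro j hj hji
    rw [← Finset.mul_sum, horth i hi j hj (fun h => hji h.symm), mul_zero]
  · intro h
    exact absurd hi h

end general

section sect

variable {G : Type*} [Group G] [Fintype G] [DecidableEq G] {p : ℕ} [hp : Fact p.Prime]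
  {M : Ideal Cfsg.AlgInt} {B : Set (IrrCharacter G)}

theorem commute_of_mem_centralizer_zpowers (u : G)
    (c : Subgroup.centralizer ((Subgroup.zpowers u : Subgroup G) : Set G)) :
    u * (c : G) = (c : G) * u :=
  Subgroup.mem_centralizer_iff.mp c.2 u (Subgroup.mem_zpowers u)

theorem isPGroup_zpowers (u : G) (hu : ∃ k : ℕ, orderOf u = p ^ k) :
    IsPGroup p (Subgroup.zpowers u) := by
  obtain ⟨k, hk⟩ := hu
  apply IsPGroup.of_card (n := k)
  rw [Nat.card_zpowers, hk]

theorem finsum_pairsAt (hM : IsPModular p M) (u : G) (hu : ∃ k : ℕ, orderOf u = p ^ k)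
    (F : BrauerPairIdx G → ℂ) :
    ∑ᶠ 𝔰 ∈ pairsAt p M B u, F 𝔰
      = ∑ b ∈ inducingBlocks M
          (Subgroup.centralizer ((Subgroup.zpowers u : Subgroup G) : Set G)) B,
          F ⟨Subgroup.zpowers u, b⟩ := by
  classical
  haveI : Fintype (Subgroup.centralizer ((Subgroup.zpowers u : Subgroup G) : Set G)) :=
    Fintype.ofFinite _
  rw [← finsum_mem_coe_finset]
  symm
  apply finsum_mem_eq_of_bijOn
    (fun b : Set (IrrCharacter (Subgroup.centralizer
      ((Subgroup.zpowers u : Subgroup G) : Set G))) => (⟨Subgroup.zpowers u, b⟩ : BrauerPairIdx G))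
  · refine ⟨?_, ?_, ?_⟩
    · intro b hb
      rw [Finset.mem_coe, mem_inducingBlocks] at hb
      exact ⟨rfl, (isBrauerPairOf_iff_isInducedBlock hM _ (isPGroup_zpowers u hu) b B).mpr hb⟩
    · intro b₁ _ b₂ _ h
      exact eq_of_heq (Sigma.mk.inj h).2
    · rintro ⟨Q, b⟩ ⟨h1, h2⟩
      change Q = Subgroup.zpowers u at h1
      subst h1
      refine ⟨b, ?_, rfl⟩
      rw [Finset.mem_coe, mem_inducingBlocks]
      exact (isBrauerPairOf_iff_isInducedBlock hM _ (isPGroup_zpowers u hu) b B).mp h2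
  · intro b _
    rfl

theorem sect_eq_blockPart (hM : IsPModular p M) (u : G) (hu : ∃ k : ℕ, orderOf u = p ^ k)
    (b : Set (IrrCharacter (Subgroup.centralizer ((Subgroup.zpowers u : Subgroup G) : Set G))))
    (hb : IsPBlock M b) (χ : G → ℂ) (hχ : IsClassFunction G χ)
    (s : Subgroup.centralizer ((Subgroup.zpowers u : Subgroup G) : Set G))
    (hsreg : ¬ p ∣ orderOf s) :
    sect p χ ⟨Subgroup.zpowers u, b⟩ u (s : G)
      = blockPart b (fun c : Subgroup.centralizer
          ((Subgroup.zpowers u : Subgroup G) : Set G) => χ (u * (c : G))) s := by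
  classical
  haveI : Fintype (Subgroup.centralizer ((Subgroup.zpowers u : Subgroup G) : Set G)) :=
    Fintype.ofFinite _
  have hH := centralizer_zpowers_eq u
  have hf : IsClassFunction (Subgroup.centralizer ((Subgroup.zpowers u : Subgroup G) : Set G))
      (fun c => χ (u * (c : G))) := by
    intro g h
    show χ (u * ((h * g * h⁻¹ : Subgroup.centralizer
      ((Subgroup.zpowers u : Subgroup G) : Set G)) : G)) = χ (u * (g : G))
    have hhu : u * (h : G) = (h : G) * u := commute_of_mem_centralizer_zpowers u h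
    have e1 : u * ((h * g * h⁻¹ : Subgroup.centralizer
        ((Subgroup.zpowers u : Subgroup G) : Set G)) : G)
        = (h : G) * (u * (g : G)) * (h : G)⁻¹ := by
      show u * ((h : G) * (g : G) * (h : G)⁻¹) = _
      calc u * ((h : G) * (g : G) * (h : G)⁻¹) = (u * (h : G)) * (g : G) * (h : G)⁻¹ := by group
        _ = (h : G) * (u * (g : G)) * (h : G)⁻¹ := by rw [hhu]; group
    rw [e1, hχ]
  rw [blockPart_eq_sum_pRegular hM b hb hf s hsreg]
  unfold sect
  rw [sum_ppEl_eq u hu _ hH (fun g => pc ⟨Subgroup.zpowers u, b⟩ (prEl p g * (s : G)⁻¹) * χ g)]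
  apply Finset.sum_congr rfl
  intro y hy
  have hyreg : ¬ p ∣ orderOf (y : G) := by
    rw [Subgroup.orderOf_coe]; exact (Finset.mem_filter.mp hy).2
  have hyu : Commute u (y : G) := commute_of_mem_centralizer_zpowers u y
  show pc ⟨Subgroup.zpowers u, b⟩ (prEl p (u * (y : G)) * (s : G)⁻¹) * χ (u * (y : G)) = _
  rw [prEl_mul_of_commute hu hyreg hyu]
  have hmem : (y : G) * (s : G)⁻¹ ∈ Subgroup.centralizer
      ((Subgroup.zpowers u : Subgroup G) : Set G) := (y * s⁻¹).2
  rw [pc_of_mem _ hmem]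
  rfl

/-- the second main theorem in terms of the sections -/
theorem apply_eq_sum_sect (hM : IsPModular p M) (hB : IsPBlock M B) (χ : IrrCharacter G)
    (hχ : χ ∈ B) (g : G) :
    (χ : G → ℂ) g = ∑ᶠ 𝔰 ∈ pairsAt p M B (ppEl p g),
      sect p (χ : G → ℂ) 𝔰 (ppEl p g) (prEl p g) := by
  classical
  haveI : Fintype (Subgroup.centralizer ((Subgroup.zpowers (ppEl p g) : Subgroup G) : Set G)) :=
    Fintype.ofFinite _
  have hu := orderOf_ppEl (p := p) g
  have hH := centralizer_zpowers_eq (ppEl p g)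
  have hs : prEl p g ∈ Subgroup.centralizer
      ((Subgroup.zpowers (ppEl p g) : Subgroup G) : Set G) := by
    rw [hH, mem_centralizer_singleton_iff]
    exact (commute_ppEl_prEl g).eq
  have hsreg : ¬ p ∣ orderOf (⟨prEl p g, hs⟩ : Subgroup.centralizer
      ((Subgroup.zpowers (ppEl p g) : Subgroup G) : Set G)) := by
    rw [Subgroup.orderOf_mk]; exact prEl_pRegular g
  rw [finsum_pairsAt hM (ppEl p g) hu]
  have h1 := apply_shift_eq_sum_inducingBlocks hM (ppEl p g) hu _ hH B hB χ hχ ⟨prEl p g, hs⟩ hsreg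
  have h2 : (χ : G → ℂ) g = (χ : G → ℂ) (ppEl p g * prEl p g) := by rw [ppEl_mul_prEl]
  rw [h2]
  refine h1.trans ?_
  apply Finset.sum_congr rfl
  intro b hb
  have hbB : IsPBlock M b := ((mem_inducingBlocks _ _ _).mp hb).1
  exact (sect_eq_blockPart hM (ppEl p g) hu b hbB (χ : G → ℂ)
    (IsIrrCharacter.isClassFunction χ.2) ⟨prEl p g, hs⟩ hsreg).symm

theorem starFun_isClassFunction (hM : IsPModular p M) (m : BrauerPairIdx G)
    (hmax : IsMaximalBrauerPair p M B m.1 m.2) (η : G → ℂ) (hη : IsStableFn p M m η)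
    (χ : G → ℂ) (hχ : IsClassFunction G χ) :
    IsClassFunction G (starFun p M B m η χ) := by
  have hG0 : (Nat.card G : ℂ) ≠ 0 := card_ne_zero_complex G
  have hpair : ∀ g : G, starFun p M B m η χ g
      = (Nat.card G : ℂ)⁻¹ * ∑ h : G, Theta p M B m η (g, h) * χ h := by
    intro g
    rw [sum_Theta_mul m η χ hχ g, ← mul_assoc, inv_mul_cancel₀ hG0, one_mul]
  intro g w
  rw [hpair, hpair]
  congr 1
  apply Finset.sum_congr rfl
  intro h _
  congr 1
  have h1 : ((w * g * w⁻¹, h) : G × G) = ((w, 1) : G × G) * (g, h) * ((w, 1) : G × G)⁻¹ := by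
    ext <;> simp
  rw [h1]
  exact Theta_conj hM m hmax η hη _ _

/-- if the attached functions are constant `c` on the pairs over the `p`-part of `g`, the star
construction multiplies the value at `g` by `c` -/
theorem starFun_apply_of_const (hM : IsPModular p M) (hB : IsPBlock M B) (m : BrauerPairIdx G)
    (η : G → ℂ) (χ : IrrCharacter G) (hχ : χ ∈ B) (g : G) (c : ℂ)
    (hc : ∀ 𝔰 ∈ pairsAt p M B (ppEl p g), etaFam p M m η 𝔰 (ppEl p g) = c) :
    starFun p M B m η (χ : G → ℂ) g = c * (χ : G → ℂ) g := by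
  unfold starFun
  rw [apply_eq_sum_sect hM hB χ hχ g, mul_finsum_mem]
  apply finsum_mem_congr rfl
  intro 𝔰 h𝔰
  rw [hc 𝔰 h𝔰]

/-- the values of the star construction on a `p`-section -/
theorem starFun_apply_shift (hM : IsPModular p M) (m : BrauerPairIdx G) (η : G → ℂ)
    (χ : G → ℂ) (hχ : IsClassFunction G χ) (u : G) (hu : ∃ k : ℕ, orderOf u = p ^ k)
    (c : Subgroup.centralizer ((Subgroup.zpowers u : Subgroup G) : Set G))
    (hc : ¬ p ∣ orderOf c) :
    starFun p M B m η χ (u * (c : G))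
      = ∑ b ∈ inducingBlocks M
          (Subgroup.centralizer ((Subgroup.zpowers u : Subgroup G) : Set G)) B,
          etaFam p M m η ⟨Subgroup.zpowers u, b⟩ u
            * blockPart b (fun c' : Subgroup.centralizer
                ((Subgroup.zpowers u : Subgroup G) : Set G) => χ (u * (c' : G))) c := by
  classical
  have hH := centralizer_zpowers_eq u
  have hcreg : ¬ p ∣ orderOf (c : G) := by rw [Subgroup.orderOf_coe]; exact hc
  have hcu : Commute u (c : G) := commute_of_mem_centralizer_zpowers u c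
  unfold starFun
  rw [ppEl_mul_of_commute hu hcreg hcu, prEl_mul_of_commute hu hcreg hcu,
    finsum_pairsAt hM u hu]
  apply Finset.sum_congr rfl
  intro b hb
  have hbB : IsPBlock M b := ((mem_inducingBlocks _ _ _).mp hb).1
  rw [sect_eq_blockPart hM u hu b hbB χ hχ c hc]

/-- the sections of the star construction -/
theorem sect_starFun (hM : IsPModular p M) (m : BrauerPairIdx G)
    (hmax : IsMaximalBrauerPair p M B m.1 m.2) (η : G → ℂ) (hη : IsStableFn p M m η)
    (χ : G → ℂ) (hχ : IsClassFunction G χ) (u : G) (hu : ∃ k : ℕ, orderOf u = p ^ k)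
    (b : Set (IrrCharacter (Subgroup.centralizer ((Subgroup.zpowers u : Subgroup G) : Set G))))
    (hb : b ∈ inducingBlocks M
      (Subgroup.centralizer ((Subgroup.zpowers u : Subgroup G) : Set G)) B)
    (s : Subgroup.centralizer ((Subgroup.zpowers u : Subgroup G) : Set G))
    (hsreg : ¬ p ∣ orderOf s) :
    sect p (starFun p M B m η χ) ⟨Subgroup.zpowers u, b⟩ u (s : G)
      = etaFam p M m η ⟨Subgroup.zpowers u, b⟩ u * sect p χ ⟨Subgroup.zpowers u, b⟩ u (s : G) := by
  classical
  have hbB : IsPBlock M b := ((mem_inducingBlocks _ _ _).mp hb).1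
  have hψ := starFun_isClassFunction hM m hmax η hη χ hχ
  rw [sect_eq_blockPart hM u hu b hbB _ hψ s hsreg, sect_eq_blockPart hM u hu b hbB χ hχ s hsreg]
  obtain ⟨ξ₀, hξ₀⟩ := hbB
  have hagree : ∀ c : Subgroup.centralizer ((Subgroup.zpowers u : Subgroup G) : Set G),
      ¬ p ∣ orderOf c →
      (fun c' : Subgroup.centralizer ((Subgroup.zpowers u : Subgroup G) : Set G) =>
        starFun p M B m η χ (u * (c' : G))) c
      = (∑ b' ∈ inducingBlocks M
          (Subgroup.centralizer ((Subgroup.zpowers u : Subgroup G) : Set G)) B,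
          etaFam p M m η ⟨Subgroup.zpowers u, b'⟩ u
            • blockPart b' (fun c' : Subgroup.centralizer
                ((Subgroup.zpowers u : Subgroup G) : Set G) => χ (u * (c' : G)))) c := by
    intro c hc
    rw [Finset.sum_apply]
    exact starFun_apply_shift hM m η χ hχ u hu c hc
  have h1 := blockPart_congr_pRegular hM ξ₀ hagree s hsreg
  rw [← hξ₀] at h1
  rw [h1, blockPart_sum_smul, Finset.sum_eq_single b]
  · rw [blockPart_blockPart_ite hM ⟨ξ₀, hξ₀⟩ ⟨ξ₀, hξ₀⟩, if_pos rfl]
  · intro b' hb' hne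
    have hb'B : IsPBlock M b' := ((mem_inducingBlocks _ _ _).mp hb').1
    rw [blockPart_blockPart_ite hM ⟨ξ₀, hξ₀⟩ hb'B, if_neg (fun h => hne h.symm), mul_zero]
  · intro h
    exact absurd hb h

end sect

end Cfsg.Agent.Lib.Helper6.Star
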