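import Mathlib
import Cfsg.Prelude.Def_Blocks
import Cfsg.Prelude.Def_BlockRank
import Cfsg.Agent.Lib.Helper6.Q2Core
import Cfsg.Agent.Lib.Helper6.Q2Blk
import Cfsg.Agent.Lib.Helper6.SubContribVal
import Cfsg.Agent.Lib.Helper6.SubContribNonvanish
import Cfsg.Agent.Lib.Helper6.SubContribPoly
import Cfsg.Agent.Lib.Helper6.SubContribLower
import Cfsg.Agent.Lib.Helper6.StarSect

set_option autoImplicit false
set_option linter.unusedSectionVars false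
set_option maxHeartbeats 3200000
open Cfsg

/-!
Major subsections of `p`-regular rank two: `k(B) ≤ p ^ d`.
-/

namespace Cfsg.Agent.Lib.Helper6.Q2

open Cfsg.Agent.Lib.Helper6
open scoped ComplexConjugate
open Polynomial

section rinlemmas

variable {K : Type*} [Group K] [Fintype K] [DecidableEq K] {p : ℕ}

theorem rin_comb (f h φ₁ φ₂ : K → ℂ) (α1 α2 β1 β2 : ℂ)
    (hf : ∀ s : K, ¬ p ∣ orderOf s → f s = α1 * φ₁ s + α2 * φ₂ s)
    (hh : ∀ s : K, ¬ p ∣ orderOf s → h s = β1 * φ₁ s + β2 * φ₂ s) :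
    rin p f h = α1 * conj β1 * rin p φ₁ φ₁ + α1 * conj β2 * rin p φ₁ φ₂
      + α2 * conj β1 * rin p φ₂ φ₁ + α2 * conj β2 * rin p φ₂ φ₂ := by
  unfold rin
  have h1 : ∀ s ∈ Finset.univ.filter (fun s : K => ¬ p ∣ orderOf s), f s * conj (h s)
      = α1 * conj β1 * (φ₁ s * conj (φ₁ s)) + α1 * conj β2 * (φ₁ s * conj (φ₂ s))
        + α2 * conj β1 * (φ₂ s * conj (φ₁ s)) + α2 * conj β2 * (φ₂ s * conj (φ₂ s)) := by
    intro s hs
    rw [Finset.mem_filter] at hs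
    rw [hf s hs.2, hh s hs.2]
    simp only [map_add, map_mul]
    ring
  rw [Finset.sum_congr rfl h1, Finset.sum_add_distrib, Finset.sum_add_distrib,
    Finset.sum_add_distrib, ← Finset.mul_sum, ← Finset.mul_sum, ← Finset.mul_sum,
    ← Finset.mul_sum]
  ring

theorem rin_comb_left (f h φ₁ φ₂ : K → ℂ) (α1 α2 : ℂ)
    (hf : ∀ s : K, ¬ p ∣ orderOf s → f s = α1 * φ₁ s + α2 * φ₂ s) :
    rin p f h = α1 * rin p φ₁ h + α2 * rin p φ₂ h := by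
  unfold rin
  have h1 : ∀ s ∈ Finset.univ.filter (fun s : K => ¬ p ∣ orderOf s), f s * conj (h s)
      = α1 * (φ₁ s * conj (h s)) + α2 * (φ₂ s * conj (h s)) := by
    intro s hs
    rw [Finset.mem_filter] at hs
    rw [hf s hs.2]
    ring
  rw [Finset.sum_congr rfl h1, Finset.sum_add_distrib, ← Finset.mul_sum, ← Finset.mul_sum]
  ring

theorem rin_comb_right (f h φ₁ φ₂ : K → ℂ) (β1 β2 : ℂ)
    (hh : ∀ s : K, ¬ p ∣ orderOf s → h s = β1 * φ₁ s + β2 * φ₂ s) :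
    rin p f h = conj β1 * rin p f φ₁ + conj β2 * rin p f φ₂ := by
  unfold rin
  have h1 : ∀ s ∈ Finset.univ.filter (fun s : K => ¬ p ∣ orderOf s), f s * conj (h s)
      = conj β1 * (f s * conj (φ₁ s)) + conj β2 * (f s * conj (φ₂ s)) := by
    intro s hs
    rw [Finset.mem_filter] at hs
    rw [hh s hs.2]
    simp only [map_add, map_mul]
    ring
  rw [Finset.sum_congr rfl h1, Finset.sum_add_distrib, ← Finset.mul_sum, ← Finset.mul_sum]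
  ring

end rinlemmas

section sub

variable {G : Type*} [Group G] [Fintype G] [DecidableEq G]
variable {p : ℕ} {M : Ideal Cfsg.AlgInt}

/-- a Parseval identity for the `b`-parts of the shifted characters -/
theorem parseval_shift (hM : Cfsg.IsPModular p M) [Fintype (Cfsg.IrrCharacter G)]
    (z : G) (hz : ∃ k : ℕ, orderOf z = p ^ k) (H : Subgroup G) [Fintype H]
    (hH : H = Subgroup.centralizer ({z} : Set G)) [Fintype (Cfsg.IrrCharacter H)]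
    (ξ₀ : Cfsg.IrrCharacter H) [DecidablePred (· ∈ Cfsg.blockOf M (ξ₀ : H → ℂ))]
    (f h : H → ℂ)
    (hf : ∀ s : H, ¬ p ∣ orderOf s → Cfsg.blockPart (Cfsg.blockOf M (ξ₀ : H → ℂ)) f s = f s) :
    ∑ χ : Cfsg.IrrCharacter G,
        rin p (Cfsg.blockPart (Cfsg.blockOf M (ξ₀ : H → ℂ))
            (fun c : H => (χ : G → ℂ) (z * (c : G)))) f
          * conj (rin p (Cfsg.blockPart (Cfsg.blockOf M (ξ₀ : H → ℂ))
            (fun c : H => (χ : G → ℂ) (z * (c : G)))) h)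
      = rin p h f := by
  classical
  obtain ⟨R, hR⟩ : ∃ R : Finset H, R = Finset.univ.filter (fun s : H => ¬ p ∣ orderOf s) :=
    ⟨_, rfl⟩
  obtain ⟨F, hF⟩ : ∃ F : Cfsg.IrrCharacter G → H → ℂ, F = fun (χ : Cfsg.IrrCharacter G) =>
      Cfsg.blockPart (Cfsg.blockOf M (ξ₀ : H → ℂ)) (fun c : H => (χ : G → ℂ) (z * (c : G))) :=
    ⟨_, rfl⟩
  obtain ⟨cH, hcH⟩ : ∃ cH : ℂ, cH = (Nat.card H : ℂ)⁻¹ := ⟨_, rfl⟩
  have hcHc : conj cH = cH := by rw [hcH, map_inv₀, Complex.conj_natCast]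
  have hL : ∀ (χ : Cfsg.IrrCharacter G) (w : H → ℂ),
      rin p (F χ) w = ∑ t ∈ R, (cH * conj (w t)) * F χ t := by
    intro χ w
    unfold rin
    rw [← hR, ← hcH, Finset.mul_sum]
    apply Finset.sum_congr rfl
    intro t _
    ring
  have hgoal : ∑ χ : Cfsg.IrrCharacter G, rin p (F χ) f * conj (rin p (F χ) h) = rin p h f := by
    simp_rw [hL]
    rw [sum_kernel_mul_conj₂ R (fun t => cH * conj (f t)) (fun t => cH * conj (h t)) F]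
    have hcol : ∀ t ∈ R, ∀ t' ∈ R, ∑ χ : Cfsg.IrrCharacter G, F χ t * conj (F χ t')
        = ∑ ξ ∈ Finset.univ.filter (· ∈ Cfsg.blockOf M (ξ₀ : H → ℂ)),
            (ξ : H → ℂ) t * conj ((ξ : H → ℂ) t') := by
      intro t ht t' ht'
      rw [hR, Finset.mem_filter] at ht ht'
      rw [hF]
      exact sum_irr_blockPart_shift_mul hM z hz H hH ξ₀ t t' ht.2 ht'.2
    rw [Finset.sum_comm]
    unfold rin
    rw [← hR, ← hcH, Finset.mul_sum]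
    apply Finset.sum_congr rfl
    intro t' ht'
    have hker : conj (f t') = ∑ t ∈ R, (cH * conj (f t))
        * ∑ ξ ∈ Finset.univ.filter (· ∈ Cfsg.blockOf M (ξ₀ : H → ℂ)),
            (ξ : H → ℂ) t * conj ((ξ : H → ℂ) t') := by
      have ht'reg : ¬ p ∣ orderOf t' := by
        rw [hR, Finset.mem_filter] at ht'
        exact ht'.2
      have h1 := blockPart_eq_sum_kernel hM ξ₀ f t' ht'reg
      rw [hf t' ht'reg] at h1
      rw [h1, map_sum, ← hR]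
      apply Finset.sum_congr rfl
      intro t _
      rw [map_mul, map_mul, map_sum, ← hcH, hcHc]
      have : ∑ ξ ∈ Finset.univ.filter (· ∈ Cfsg.blockOf M (ξ₀ : H → ℂ)),
          conj ((ξ : H → ℂ) t' * conj ((ξ : H → ℂ) t))
          = ∑ ξ ∈ Finset.univ.filter (· ∈ Cfsg.blockOf M (ξ₀ : H → ℂ)),
            (ξ : H → ℂ) t * conj ((ξ : H → ℂ) t') := by
        apply Finset.sum_congr rfl
        intro ξ _
        rw [map_mul, Complex.conj_conj, mul_comm]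
      rw [this]
      ring
    have h2 : ∀ t ∈ R, (cH * conj (f t)) * conj (cH * conj (h t'))
        * ∑ χ : Cfsg.IrrCharacter G, F χ t * conj (F χ t')
        = (cH * h t') * ((cH * conj (f t))
          * ∑ ξ ∈ Finset.univ.filter (· ∈ Cfsg.blockOf M (ξ₀ : H → ℂ)),
            (ξ : H → ℂ) t * conj ((ξ : H → ℂ) t')) := by
      intro t ht
      rw [hcol t ht t' ht', map_mul, Complex.conj_conj, hcHc]
      ring
    rw [Finset.sum_congr rfl h2, ← Finset.mul_sum, ← hker]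
    ring
  rw [hF] at hgoal
  exact hgoal

/-- Brauer's `k(B)`-bound for a major subsection of `p`-regular rank two -/
theorem card_le_of_major_rank_two (hM : Cfsg.IsPModular p M) [Fact p.Prime]
    (B : Set (Cfsg.IrrCharacter G))
    (d : ℕ) (hd : Cfsg.blockDefect p B = d) (u : G)
    (hu : u ^ (p ^ d) = 1) (H : Subgroup G) (hH : H = Subgroup.centralizer ({u} : Set G))
    (b : Set (Cfsg.IrrCharacter H)) (hind : Cfsg.IsInducedBlock M H b B)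
    (hdef : Cfsg.blockDefect p b = d) (hl : Cfsg.blockRank p b = 2) :
    Nat.card B ≤ p ^ d := by
  classical
  haveI : Fintype (Cfsg.IrrCharacter G) := Fintype.ofFinite _
  have hp : p.Prime := hM.1
  have hp0 : (p : ℂ) ≠ 0 := by exact_mod_cast hp.ne_zero
  obtain ⟨inst⟩ : Nonempty (Fintype H) := ⟨Fintype.ofFinite H⟩
  haveI : Fintype (Cfsg.IrrCharacter H) := Fintype.ofFinite _
  obtain ⟨ξ₀, hbξ⟩ := hind.1
  subst hbξ
  -- the roots of unity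
  obtain ⟨N, hNdef⟩ : ∃ N : ℕ, N = p ^ (d + 1) := ⟨_, rfl⟩
  have hN : 0 < N := by rw [hNdef]; exact pow_pos hp.pos _
  obtain ⟨ζ₀, hζ₀⟩ : ∃ ζ₀ : ℂ, IsPrimitiveRoot ζ₀ N :=
    ⟨_, Complex.isPrimitiveRoot_exp N hN.ne'⟩
  have hJ : ∀ η ∈ primitiveRoots N ℂ, ∃ j : ℕ, j.Coprime N ∧ ζ₀ ^ j = η := by
    intro η hη
    rw [mem_primitiveRoots hN] at hη
    haveI : NeZero N := ⟨hN.ne'⟩
    obtain ⟨j, _, hj1, hj2⟩ := (hζ₀.isPrimitiveRoot_iff).mp hη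
    exact ⟨j, hj1, hj2⟩
  choose! J hJ1 hJ2 using hJ
  have hJp : ∀ η ∈ primitiveRoots N ℂ, (J η).Coprime p := by
    intro η hη
    have h1 := hJ1 η hη
    rw [hNdef] at h1
    exact Nat.Coprime.coprime_dvd_right (dvd_pow_self p (Nat.succ_ne_zero d)) h1
  -- the central element
  have hcomm : ∀ g : G, g ∈ H → u * g = g * u := by
    intro g hg
    rw [hH, mem_centralizer_singleton_iff] at hg
    exact hg
  have humem : u ∈ H := by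
    rw [hH, mem_centralizer_singleton_iff]
  obtain ⟨zH, hzH⟩ : ∃ zH : H, (zH : G) = u := ⟨⟨u, humem⟩, rfl⟩
  have hzc : ∀ k : H, zH * k = k * zH := by
    intro k
    apply Subtype.ext
    rw [Subgroup.coe_mul, Subgroup.coe_mul, hzH]
    exact hcomm _ k.2
  have huN : u ^ N = 1 := by
    rw [hNdef, pow_succ, pow_mul, hu, one_pow]
  have hzN : zH ^ N = 1 := by
    apply Subtype.ext
    rw [Subgroup.coe_pow, hzH, huN]
    rfl
  have hordu : orderOf u ∣ p ^ d := orderOf_dvd_of_pow_eq_one hu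
  have hsub : ∀ j : ℕ, j.Coprime p → (∃ k : ℕ, orderOf (u ^ j) = p ^ k) ∧
      H = Subgroup.centralizer ({u ^ j} : Set G) := by
    intro j hj
    constructor
    · have h1 : orderOf (u ^ j) ∣ p ^ d := (orderOf_pow_dvd _).trans hordu
      obtain ⟨k', _, hk'⟩ := (Nat.dvd_prime_pow hp).mp h1
      exact ⟨k', hk'⟩
    · rw [hH]
      refine (centralizer_pow_eq_of_coprime u j ?_).symm
      exact Nat.Coprime.coprime_dvd_right hordu (Nat.Coprime.pow_right d hj)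
  -- the basic pair
  obtain ⟨n1, n2, m1, m2, a, b, c, φ₁, φ₂, hφ₁, hφ₂, hcoord, hg11, hg12, hg21, hg22, ha, hb0,
    hba, hac, hdet⟩ := exists_basic_pair hM ξ₀ hl
  rw [hdef] at hg11 hg12 hg21 hg22
  obtain ⟨P, hP⟩ : ∃ P : ℂ, P = (p : ℂ) ^ d := ⟨_, rfl⟩
  rw [← hP] at hg11 hg12 hg21 hg22
  have hP0 : P ≠ 0 := by rw [hP]; exact pow_ne_zero _ hp0
  obtain ⟨Δ, hΔ⟩ : ∃ Δ : ℤ, Δ = a * c - b ^ 2 := ⟨_, rfl⟩
  have hΔpos : 0 < Δ := by
    rw [hΔ]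
    nlinarith [mul_nonneg (by linarith : (0:ℤ) ≤ a) (by linarith : (0:ℤ) ≤ c - a),
      mul_nonneg (by linarith : (0:ℤ) ≤ a + 2 * b) (by linarith : (0:ℤ) ≤ a - 2 * b)]
  have hΔC : (Δ : ℂ) ≠ 0 := by exact_mod_cast hΔpos.ne'
  -- the multiplicities and the exponents
  have hmult : ∀ Χ : Cfsg.IrrCharacter G, ∃ n : Cfsg.IrrCharacter H → ℕ,
      ∀ ξ : Cfsg.IrrCharacter H, Cfsg.classInner (resFun H (Χ : G → ℂ)) (ξ : H → ℂ) = n ξ := by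
    intro Χ
    have hres : Cfsg.IsCharacter H (resFun H (Χ : G → ℂ)) :=
      IsCharacter.restrict H (IsIrrCharacter.isCharacter Χ.2)
    choose n hn using fun ξ : Cfsg.IrrCharacter H => IsCharacter.classInner_irr_nat hres ξ.2
    exact ⟨n, hn⟩
  choose mult hmultspec using hmult
  obtain ⟨lam, hlamdef⟩ : ∃ lam : Cfsg.IrrCharacter H → ℂ,
      lam = fun (ξ : Cfsg.IrrCharacter H) => (ξ : H → ℂ) zH / (ξ : H → ℂ) 1 := ⟨_, rfl⟩
  have hlam : ∀ ξ : Cfsg.IrrCharacter H, lam ξ ^ N = 1 := by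
    intro ξ
    rw [hlamdef]
    simp only
    rw [← IsIrrCharacter.apply_central_pow ξ.2 hzc, hzN,
      div_self (IsIrrCharacter.apply_one_ne_zero ξ.2)]
  have hex : ∀ ξ : Cfsg.IrrCharacter H, ∃ e : ℕ, ζ₀ ^ e = lam ξ := by
    intro ξ
    haveI : NeZero N := ⟨hN.ne'⟩
    obtain ⟨e, _, he⟩ := hζ₀.eq_pow_of_pow_eq_one (hlam ξ)
    exact ⟨e, he⟩
  choose e he using hex
  have hA : ∀ (j : ℕ) (Χ : Cfsg.IrrCharacter G) (ξ : Cfsg.IrrCharacter H),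
      Cfsg.classInner (fun c : H => (Χ : G → ℂ) (u ^ j * (c : G))) (ξ : H → ℂ)
        = (ζ₀ ^ j) ^ e ξ * (mult Χ ξ : ℂ) := by
    intro j Χ ξ
    have hzHj : ((zH ^ j : H) : G) = u ^ j := by rw [Subgroup.coe_pow, hzH]
    have hzcj : ∀ h : H, zH ^ j * h = h * zH ^ j := by
      intro h
      have : Commute zH h := hzc h
      exact (this.pow_left j).eq
    rw [classInner_shift_eq (u ^ j) H (zH ^ j) hzHj hzcj, hmultspec,
      IsIrrCharacter.apply_central_pow ξ.2 hzc]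
    have : (ξ : H → ℂ) zH / (ξ : H → ℂ) 1 = lam ξ := by rw [hlamdef]
    rw [this, ← he ξ, ← pow_mul, ← pow_mul, mul_comm (e ξ) j]
  -- the polynomials
  obtain ⟨A1, hA1⟩ : ∃ A1 : Cfsg.IrrCharacter G → ℤ[X], A1 = fun Χ =>
      ∑ ξ ∈ Finset.univ.filter (· ∈ Cfsg.blockOf M (ξ₀ : H → ℂ)),
        C ((mult Χ ξ : ℤ) * m1 ξ) * X ^ e ξ := ⟨_, rfl⟩
  obtain ⟨A2, hA2⟩ : ∃ A2 : Cfsg.IrrCharacter G → ℤ[X], A2 = fun Χ =>
      ∑ ξ ∈ Finset.univ.filter (· ∈ Cfsg.blockOf M (ξ₀ : H → ℂ)),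
        C ((mult Χ ξ : ℤ) * m2 ξ) * X ^ e ξ := ⟨_, rfl⟩
  have hA1v : ∀ (Χ : Cfsg.IrrCharacter G) (η : ℂ), aeval η (A1 Χ)
      = ∑ ξ ∈ Finset.univ.filter (· ∈ Cfsg.blockOf M (ξ₀ : H → ℂ)),
        ((mult Χ ξ : ℂ) * (m1 ξ : ℂ)) * η ^ e ξ := by
    intro Χ η
    rw [hA1]
    simp only [map_sum, map_mul, Polynomial.aeval_C, map_pow, Polynomial.aeval_X, eq_intCast,
      Int.cast_mul, Int.cast_natCast, map_natCast, map_intCast]
  have hA2v : ∀ (Χ : Cfsg.IrrCharacter G) (η : ℂ), aeval η (A2 Χ)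
      = ∑ ξ ∈ Finset.univ.filter (· ∈ Cfsg.blockOf M (ξ₀ : H → ℂ)),
        ((mult Χ ξ : ℂ) * (m2 ξ : ℂ)) * η ^ e ξ := by
    intro Χ η
    rw [hA2]
    simp only [map_sum, map_mul, Polynomial.aeval_C, map_pow, Polynomial.aeval_X, eq_intCast,
      Int.cast_mul, Int.cast_natCast, map_natCast, map_intCast]
  -- the coordinates of the `b`-parts
  have hK1 : ∀ (j : ℕ) (Χ : Cfsg.IrrCharacter G) (s : H), ¬ p ∣ orderOf s →
      Cfsg.blockPart (Cfsg.blockOf M (ξ₀ : H → ℂ))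
          (fun c : H => (Χ : G → ℂ) (u ^ j * (c : G))) s
        = aeval (ζ₀ ^ j) (A1 Χ) * φ₁ s + aeval (ζ₀ ^ j) (A2 Χ) * φ₂ s := by
    intro j Χ s hs
    rw [blockPart_eq_finset_sum, hA1v, hA2v, Finset.sum_mul, Finset.sum_mul,
      ← Finset.sum_add_distrib]
    apply Finset.sum_congr rfl
    intro ξ hξ
    rw [Finset.mem_filter] at hξ
    rw [hA j Χ ξ, hcoord ξ hξ.2 s hs]
    ring
  -- the contributions
  have hK2 : ∀ (j : ℕ) (Χ Ψ : Cfsg.IrrCharacter G),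
      P * subContrib p (u ^ j) H (Cfsg.blockOf M (ξ₀ : H → ℂ)) (Χ : G → ℂ) (Ψ : G → ℂ)
        = mm a b c (A1 Χ) (A2 Χ) (A1 Ψ) (A2 Ψ) (ζ₀ ^ j) := by
    intro j Χ Ψ
    have e1 : subContrib p (u ^ j) H (Cfsg.blockOf M (ξ₀ : H → ℂ)) (Χ : G → ℂ) (Ψ : G → ℂ)
        = rin p (Cfsg.blockPart (Cfsg.blockOf M (ξ₀ : H → ℂ))
            (fun c : H => (Χ : G → ℂ) (u ^ j * (c : G))))
          (Cfsg.blockPart (Cfsg.blockOf M (ξ₀ : H → ℂ))
            (fun c : H => (Ψ : G → ℂ) (u ^ j * (c : G)))) := rfl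
    rw [e1, rin_comb _ _ φ₁ φ₂ _ _ _ _ (hK1 j Χ) (hK1 j Ψ)]
    unfold mm
    linear_combination (aeval (ζ₀ ^ j) (A1 Χ) * conj (aeval (ζ₀ ^ j) (A1 Ψ))) * hg11
      + (aeval (ζ₀ ^ j) (A1 Χ) * conj (aeval (ζ₀ ^ j) (A2 Ψ))) * hg12
      + (aeval (ζ₀ ^ j) (A2 Χ) * conj (aeval (ζ₀ ^ j) (A1 Ψ))) * hg21
      + (aeval (ζ₀ ^ j) (A2 Χ) * conj (aeval (ζ₀ ^ j) (A2 Ψ))) * hg22
  -- the dual pair
  obtain ⟨ρ, hρ⟩ : ∃ ρ : ℝ, ρ = (p : ℝ) ^ d / (Δ : ℝ) := ⟨_, rfl⟩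
  have hρC : (ρ : ℂ) = P / (Δ : ℂ) := by
    rw [hρ, hP]
    push_cast
    rfl
  obtain ⟨ψ₁, hψ₁⟩ : ∃ ψ₁ : H → ℂ, ψ₁ = fun s =>
      ((ρ * (c : ℝ) : ℝ) : ℂ) * φ₁ s + ((-(ρ * (b : ℝ)) : ℝ) : ℂ) * φ₂ s := ⟨_, rfl⟩
  obtain ⟨ψ₂, hψ₂⟩ : ∃ ψ₂ : H → ℂ, ψ₂ = fun s =>
      ((-(ρ * (b : ℝ)) : ℝ) : ℂ) * φ₁ s + ((ρ * (a : ℝ) : ℝ) : ℂ) * φ₂ s := ⟨_, rfl⟩
  have hψ₁c : ∀ s : H, ¬ p ∣ orderOf s → ψ₁ s
      = ((ρ * (c : ℝ) : ℝ) : ℂ) * φ₁ s + ((-(ρ * (b : ℝ)) : ℝ) : ℂ) * φ₂ s := by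
    intro s _; rw [hψ₁]
  have hψ₂c : ∀ s : H, ¬ p ∣ orderOf s → ψ₂ s
      = ((-(ρ * (b : ℝ)) : ℝ) : ℂ) * φ₁ s + ((ρ * (a : ℝ) : ℝ) : ℂ) * φ₂ s := by
    intro s _; rw [hψ₂]
  have hG11 : rin p φ₁ φ₁ = (a : ℂ) / P := by rw [← hg11]; field_simp
  have hG12 : rin p φ₁ φ₂ = (b : ℂ) / P := by rw [← hg12]; field_simp
  have hG21 : rin p φ₂ φ₁ = (b : ℂ) / P := by rw [← hg21]; field_simp
  have hG22 : rin p φ₂ φ₂ = (c : ℂ) / P := by rw [← hg22]; field_simp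
  have hΔcast : (Δ : ℂ) = (a : ℂ) * (c : ℂ) - (b : ℂ) ^ 2 := by rw [hΔ]; push_cast; ring
  have hd11 : rin p φ₁ ψ₁ = 1 := by
    rw [rin_comb_right φ₁ ψ₁ φ₁ φ₂ _ _ hψ₁c, Complex.conj_ofReal, Complex.conj_ofReal, hG11,
      hG12]
    push_cast
    rw [hρC]
    field_simp
    rw [hΔcast]
    ring
  have hd21 : rin p φ₂ ψ₁ = 0 := by
    rw [rin_comb_right φ₂ ψ₁ φ₁ φ₂ _ _ hψ₁c, Complex.conj_ofReal, Complex.conj_ofReal, hG21,
      hG22]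
    push_cast
    rw [hρC]
    field_simp
    ring
  have hd12 : rin p φ₁ ψ₂ = 0 := by
    rw [rin_comb_right φ₁ ψ₂ φ₁ φ₂ _ _ hψ₂c, Complex.conj_ofReal, Complex.conj_ofReal, hG11,
      hG12]
    push_cast
    rw [hρC]
    field_simp
    ring
  have hd22 : rin p φ₂ ψ₂ = 1 := by
    rw [rin_comb_right φ₂ ψ₂ φ₁ φ₂ _ _ hψ₂c, Complex.conj_ofReal, Complex.conj_ofReal, hG21,
      hG22]
    push_cast
    rw [hρC]
    field_simp
    rw [hΔcast]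
    ring
  -- the dual functions lie in the span of the block
  have hbpφ : ∀ (nn : Cfsg.IrrCharacter H → ℤ) (s : H),
      Cfsg.blockPart (Cfsg.blockOf M (ξ₀ : H → ℂ))
        (∑ ξ ∈ Finset.univ.filter (· ∈ Cfsg.blockOf M (ξ₀ : H → ℂ)),
          (nn ξ : ℂ) • (ξ : H → ℂ)) s
      = (∑ ξ ∈ Finset.univ.filter (· ∈ Cfsg.blockOf M (ξ₀ : H → ℂ)),
          (nn ξ : ℂ) • (ξ : H → ℂ)) s := by
    intro nn s
    rw [Star.blockPart_sum_smul, Finset.sum_apply]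
    apply Finset.sum_congr rfl
    intro ξ hξ
    rw [Finset.mem_filter] at hξ
    rw [blockPart_irr_of_mem, if_pos hξ.2, Pi.smul_apply, smul_eq_mul]
  have hbpψ : ∀ (β1 β2 : ℂ) (w : H → ℂ), (w = fun s => β1 * φ₁ s + β2 * φ₂ s) → ∀ s : H,
      Cfsg.blockPart (Cfsg.blockOf M (ξ₀ : H → ℂ)) w s = w s := by
    intro β1 β2 w hw s
    have e1 : w = ∑ i ∈ (Finset.univ : Finset (Fin 2)), (![β1, β2] i) • (![φ₁, φ₂] i) := by
      rw [Fin.sum_univ_two, hw]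
      funext t
      simp
    rw [e1, Star.blockPart_sum_smul, Fin.sum_univ_two, Fin.sum_univ_two]
    simp only [Matrix.cons_val_zero, Matrix.cons_val_one, Pi.add_apply, Pi.smul_apply,
      smul_eq_mul]
    have h1 := hbpφ n1 s
    have h2 := hbpφ n2 s
    rw [← hφ₁] at h1
    rw [← hφ₂] at h2
    rw [h1, h2]
  -- the orthogonality relations
  have hcoordχ : ∀ (j : ℕ) (Χ : Cfsg.IrrCharacter G),
      rin p (Cfsg.blockPart (Cfsg.blockOf M (ξ₀ : H → ℂ))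
          (fun c : H => (Χ : G → ℂ) (u ^ j * (c : G)))) ψ₁ = aeval (ζ₀ ^ j) (A1 Χ) ∧
      rin p (Cfsg.blockPart (Cfsg.blockOf M (ξ₀ : H → ℂ))
          (fun c : H => (Χ : G → ℂ) (u ^ j * (c : G)))) ψ₂ = aeval (ζ₀ ^ j) (A2 Χ) := by
    intro j Χ
    constructor
    · rw [rin_comb_left _ ψ₁ φ₁ φ₂ _ _ (hK1 j Χ), hd11, hd21, mul_one, mul_zero, add_zero]
    · rw [rin_comb_left _ ψ₂ φ₁ φ₂ _ _ (hK1 j Χ), hd12, hd22, mul_one, mul_zero, zero_add]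
  have hpars : ∀ (j : ℕ), j.Coprime p → ∀ (w w' : H → ℂ),
      (∀ s : H, Cfsg.blockPart (Cfsg.blockOf M (ξ₀ : H → ℂ)) w s = w s) →
      ∑ Χ : Cfsg.IrrCharacter G,
        rin p (Cfsg.blockPart (Cfsg.blockOf M (ξ₀ : H → ℂ))
            (fun c : H => (Χ : G → ℂ) (u ^ j * (c : G)))) w
          * conj (rin p (Cfsg.blockPart (Cfsg.blockOf M (ξ₀ : H → ℂ))
            (fun c : H => (Χ : G → ℂ) (u ^ j * (c : G)))) w')
        = rin p w' w := by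
    intro j hj w w' hw
    exact parseval_shift hM (u ^ j) (hsub j hj).1 H (hsub j hj).2 ξ₀ w w' (fun s _ => hw s)
  have hψ₁bp := hbpψ _ _ ψ₁ hψ₁
  have hψ₂bp := hbpψ _ _ ψ₂ hψ₂
  have hT11 : ∀ j : ℕ, j.Coprime p → (Δ : ℂ) * ∑ Χ : Cfsg.IrrCharacter G,
      aeval (ζ₀ ^ j) (A1 Χ) * conj (aeval (ζ₀ ^ j) (A1 Χ)) = P * (c : ℂ) := by
    intro j hj
    have h1 := hpars j hj ψ₁ ψ₁ hψ₁bp
    simp_rw [(hcoordχ j _).1] at h1
    rw [h1, rin_comb_left ψ₁ ψ₁ φ₁ φ₂ _ _ hψ₁c, hd11, hd21]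
    push_cast
    rw [hρC]
    field_simp
    ring
  have hT12 : ∀ j : ℕ, j.Coprime p → (Δ : ℂ) * ∑ Χ : Cfsg.IrrCharacter G,
      aeval (ζ₀ ^ j) (A1 Χ) * conj (aeval (ζ₀ ^ j) (A2 Χ)) = -(P * (b : ℂ)) := by
    intro j hj
    have h1 := hpars j hj ψ₁ ψ₂ hψ₁bp
    simp_rw [(hcoordχ j _).1, (hcoordχ j _).2] at h1
    rw [h1, rin_comb_left ψ₂ ψ₁ φ₁ φ₂ _ _ hψ₂c, hd11, hd21]
    push_cast
    rw [hρC]
    field_simp
    ring
  have hT22 : ∀ j : ℕ, j.Coprime p → (Δ : ℂ) * ∑ Χ : Cfsg.IrrCharacter G,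
      aeval (ζ₀ ^ j) (A2 Χ) * conj (aeval (ζ₀ ^ j) (A2 Χ)) = P * (a : ℂ) := by
    intro j hj
    have h1 := hpars j hj ψ₂ ψ₂ hψ₂bp
    simp_rw [(hcoordχ j _).2] at h1
    rw [h1, rin_comb_left ψ₂ ψ₂ φ₁ φ₂ _ _ hψ₂c, hd12, hd22]
    push_cast
    rw [hρC]
    field_simp
    ring
  -- the block as a finset
  obtain ⟨S, hS⟩ : ∃ S : Finset (Cfsg.IrrCharacter G), S = Finset.univ.filter (· ∈ B) :=
    ⟨_, rfl⟩
  have hSmem : ∀ Χ, Χ ∈ S ↔ Χ ∈ B := by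
    intro Χ
    rw [hS, Finset.mem_filter]
    simp
  have hcardB : Nat.card B = S.card := by
    rw [Nat.card_eq_fintype_card, Fintype.card_subtype, hS]
  rw [hcardB]
  have hdefB : Cfsg.blockDefect p (Cfsg.blockOf M (ξ₀ : H → ℂ)) = Cfsg.blockDefect p B := by
    rw [hdef, hd]
  have hne : S.Nonempty := by
    obtain ⟨χ₁, hχ₁⟩ := hind.2.1
    exact ⟨χ₁, (hSmem χ₁).mpr (by rw [hχ₁]; exact sameBlock_refl hM _)⟩
  obtain ⟨χ₁, hχ₁S⟩ := hne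
  obtain ⟨χ₀, hχ₀B, hχ₀0⟩ := exists_height_zero (p := p) B χ₁ ((hSmem χ₁).mp hχ₁S)
  apply core_bound hM S N hN A1 A2 a b c d
    (fun Χ => Cfsg.blockHeight p B (Χ : G → ℂ)) ha hb0 hba hac hdet
  · intro η hη
    rw [← hΔ, ← hJ2 η hη, ← hP]
    exact hT11 (J η) (hJp η hη)
  · intro η hη
    rw [← hΔ, ← hJ2 η hη, ← hP]
    exact hT12 (J η) (hJp η hη)
  · intro η hη
    rw [← hΔ, ← hJ2 η hη, ← hP]
    exact hT22 (J η) (hJp η hη)
  · intro Χ hΧ η hη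
    rw [hSmem] at hΧ
    by_contra hcon
    push Not at hcon
    obtain ⟨r, hr, hre⟩ := exists_pos_subContrib_self hM (u ^ J η) (hsub _ (hJp η hη)).1 H
      (hsub _ (hJp η hη)).2 hind hdefB Χ hΧ
    have h1 := hK2 (J η) Χ Χ
    rw [hJ2 η hη, hre] at h1
    unfold mm at h1
    rw [hcon.1, hcon.2] at h1
    simp only [zero_mul, mul_zero, add_zero] at h1
    rcases mul_eq_zero.mp h1 with h | h
    · exact hP0 h
    · have : r = 0 := by exact_mod_cast h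
      linarith
  · exact ⟨χ₀, (hSmem χ₀).mpr hχ₀B, hχ₀0⟩
  · intro Χ hΧ h0 η hη
    rw [hSmem] at hΧ
    have h1 := pow_defect_mul_subContrib_not_mem hM (u ^ J η) (hsub _ (hJp η hη)).1 H
      (hsub _ (hJp η hη)).2 hind Χ Χ hΧ hΧ h0 h0
    rw [hdef, ← hP, hK2 (J η) Χ Χ, hJ2 η hη] at h1
    exact h1
  · intro Ψ hΨ hht Χ hΧ η hη
    rw [hSmem] at hΨ hΧ
    have h1 := pow_defect_mul_subContrib_div_memLocalRing hM (u ^ J η) (hsub _ (hJp η hη)).1 H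
      (hsub _ (hJp η hη)).2 ξ₀ B Ψ Χ hΨ
    rw [hd, ← hP, hK2 (J η) Ψ Χ, hJ2 η hη] at h1
    obtain ⟨t, ht⟩ : ∃ t : ℕ, Cfsg.blockHeight p B (Ψ : G → ℂ) = t + 1 :=
      ⟨Cfsg.blockHeight p B (Ψ : G → ℂ) - 1, by omega⟩
    rw [ht] at h1
    have h2 := MemLocalRing.mul hM h1 (MemLocalRing.pow hM (memLocalRing_natCast hM p) t)
    have e : mm a b c (A1 Ψ) (A2 Ψ) (A1 Χ) (A2 Χ) η / (p : ℂ) ^ (t + 1) * (p : ℂ) ^ t
        = mm a b c (A1 Ψ) (A2 Ψ) (A1 Χ) (A2 Χ) η / (p : ℂ) := by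
      rw [pow_succ]
      field_simp
    rw [e] at h2
    exact h2
  · intro Χ hΧ h0 Ψ hΨ η hη
    rw [hSmem] at hΨ hΧ
    have h1 := card_div_mul_subContrib_not_memLocalIdeal hM (u ^ J η) (hsub _ (hJp η hη)).1 H
      (hsub _ (hJp η hη)).2 hind hdefB Ψ Χ hΨ hΧ h0
    intro hzero
    apply h1
    have h2 := hK2 (J η) Ψ Χ
    rw [hJ2 η hη, hzero] at h2
    rcases mul_eq_zero.mp h2 with h | h
    · exact absurd h hP0
    · rw [h, mul_zero]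
      exact memLocalIdeal_zero hM

end sub

end Cfsg.Agent.Lib.Helper6.Q2
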