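import Mathlib
import Cfsg.Prelude.Def_Solvable
import Cfsg.Agent.Lib.Helper6.Q8Sylow2

set_option autoImplicit false
set_option linter.unusedSectionVars false

/-!
# Quaternion Sylow `2`-subgroups of order `8`: classes of `2`-elements and centralizers
-/

namespace Cfsg.Agent.Lib.Helper6.Q8

open Cfsg.Agent.Lib.Helper6

section generic

variable {C : Type*} [Group C] [Finite C]

/-- Burnside: if the normalizer of a Sylow `2`-subgroup centralizes it, the group has a normal
`2`-complement -/
theorem index_pPrimeCore_of_normalizer_le_centralizer (T : Sylow 2 C)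
    (hNC : Subgroup.normalizer ((T : Subgroup C) : Set C)
      ≤ Subgroup.centralizer ((T : Subgroup C) : Set C)) :
    ∃ k : ℕ, (Cfsg.pPrimeCore 2 C).index = 2 ^ k := by
  classical
  have : Fact (Nat.Prime 2) := ⟨Nat.prime_two⟩
  obtain ⟨K, hK⟩ : ∃ K : Subgroup C, K = (MonoidHom.transferSylow T hNC).ker := ⟨_, rfl⟩
  have hcompl : Subgroup.IsComplement' K (T : Subgroup C) := by
    rw [hK]
    exact MonoidHom.ker_transferSylow_isComplement' T hNC
  obtain ⟨j, hj⟩ := IsPGroup.iff_card.mp T.isPGroup'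
  have hKidx : K.index = 2 ^ j := by
    rw [hcompl.symm.index_eq_card]
    exact hj
  have hKcop : (Nat.card K).Coprime 2 := by
    rw [Nat.coprime_comm, Nat.Prime.coprime_iff_not_dvd Nat.prime_two, hK]
    exact MonoidHom.not_dvd_card_ker_transferSylow T hNC
  have hKn : K.Normal := by
    rw [hK]
    exact MonoidHom.normal_ker _
  have hle : K ≤ Cfsg.pPrimeCore 2 C := le_sSup ⟨hKn, hKcop⟩
  have hdvd := Subgroup.index_dvd_of_le hle
  rw [hKidx] at hdvd
  obtain ⟨k, _, hk⟩ := (Nat.dvd_prime_pow Nat.prime_two).mp hdvd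
  exact ⟨k, hk⟩

end generic

variable {G : Type*} [Group G] [Finite G]

/-- conjugating a `2`-element into the Sylow subgroup -/
theorem exists_conj_mem_sylow (S : Sylow 2 G) (g : G) (hg : ∃ k : ℕ, orderOf g = 2 ^ k) :
    ∃ c : G, c * g * c⁻¹ ∈ (S : Subgroup G) := by
  have : Fact (Nat.Prime 2) := ⟨Nat.prime_two⟩
  obtain ⟨k, hk⟩ := hg
  have hPg : IsPGroup 2 (Subgroup.zpowers g) := by
    apply IsPGroup.of_card (n := k)
    rw [Nat.card_zpowers, hk]
  obtain ⟨Q, hQ⟩ := hPg.exists_le_sylow
  obtain ⟨c, hc⟩ := MulAction.exists_smul_eq G Q S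
  have hgQ : g ∈ (Q : Subgroup G) := hQ (Subgroup.mem_zpowers g)
  refine ⟨c, ?_⟩
  rw [← hc, Sylow.coe_subgroup_smul]
  have := Subgroup.smul_mem_pointwise_smul g (MulAut.conj c) (Q : Subgroup G) hgQ
  rwa [MulAut.smul_def, MulAut.conj_apply] at this

/-- the classes of `2`-elements: the identity, the central involution, and the elements of
order four -/
theorem two_element_cases {S : Sylow 2 G} {z : G} (h : Q8Data (S : Subgroup G) z)
    (hz : z ∈ Subgroup.center G) (hcen : ∀ c ∈ Subgroup.center G, c = 1 ∨ c = z)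
    (hone : ∀ s t : G ⧸ Subgroup.center G, orderOf s = 2 → orderOf t = 2 → IsConj s t)
    {u : G} (hu : u ∈ (S : Subgroup G)) (huu : u * u ≠ 1)
    (g : G) (hg : ∃ k : ℕ, orderOf g = 2 ^ k) : g = 1 ∨ g = z ∨ IsConj g u := by
  have : Fact (Nat.Prime 2) := ⟨Nat.prime_two⟩
  obtain ⟨c, hc⟩ := exists_conj_mem_sylow S g hg
  have hgc : g = c⁻¹ * (c * g * c⁻¹) * c := by group
  have hzc : ∀ x : G, x * z = z * x := fun x => Subgroup.mem_center_iff.mp hz x
  by_cases hsq : (c * g * c⁻¹) * (c * g * c⁻¹) = 1
  · rcases h.invol _ hc hsq with h1 | h1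
    · left
      rw [hgc, h1]
      group
    · right; left
      rw [hgc, h1, mul_assoc, ← hzc c, ← mul_assoc, inv_mul_cancel, one_mul]
  · right; right
    -- orders in the quotient
    have hord : ∀ w : G, w ∈ (S : Subgroup G) → w * w ≠ 1 →
        orderOf (QuotientGroup.mk' (Subgroup.center G) w) = 2 := by
      intro w hw hww
      apply orderOf_eq_prime
      · rw [sq, ← map_mul, ← MonoidHom.mem_ker, QuotientGroup.ker_mk', h.sq_eq hw hww]
        exact hz
      · intro h1
        rw [← MonoidHom.mem_ker, QuotientGroup.ker_mk'] at h1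
        rcases hcen w h1 with h2 | h2
        · apply hww
          rw [h2, one_mul]
        · apply hww
          rw [h2]
          exact h.z_sq
    have h1 := hone _ _ (hord _ hc hsq) (hord u hu huu)
    obtain ⟨xb, hxb⟩ := isConj_iff.mp h1
    obtain ⟨x, rfl⟩ := QuotientGroup.mk'_surjective (Subgroup.center G) xb
    have h2 : x * (c * g * c⁻¹) * x⁻¹ * u⁻¹ ∈ Subgroup.center G := by
      rw [← QuotientGroup.ker_mk' (Subgroup.center G), MonoidHom.mem_ker, map_mul, map_mul,
        map_mul, map_inv, map_inv, hxb, mul_inv_cancel]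
    have hgconj : IsConj g (x * (c * g * c⁻¹) * x⁻¹) := by
      rw [isConj_iff]
      exact ⟨x * c, by group⟩
    rcases hcen _ h2 with h3 | h3
    · have h4 : x * (c * g * c⁻¹) * x⁻¹ = u := by
        have := mul_inv_eq_one.mp h3
        exact this
      rw [h4] at hgconj
      exact hgconj
    · have h4 : x * (c * g * c⁻¹) * x⁻¹ = z * u := mul_inv_eq_iff_eq_mul.mp h3
      have h5 : z * u = u⁻¹ := by
        rw [← h.sq_eq hu huu, h.cube_eq_inv hu]
      obtain ⟨s, _, hs⟩ := h.inv_conj u hu
      rw [h4, h5, ← hs] at hgconj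
      have h6 : IsConj (s * u * s⁻¹) u := (isConj_iff.mpr ⟨s, rfl⟩ : IsConj u (s * u * s⁻¹)).symm
      exact hgconj.trans h6

/-- the centralizer of an element of order four has a normal `2`-complement -/
theorem centralizer_index_pPrimeCore {S : Sylow 2 G} {z : G} (h : Q8Data (S : Subgroup G) z)
    {u : G} (hu : u ∈ (S : Subgroup G)) (huu : u * u ≠ 1) :
    ∃ k : ℕ, (Cfsg.pPrimeCore 2 (Subgroup.centralizer ({u} : Set G))).index = 2 ^ k := by
  classical
  have : Fact (Nat.Prime 2) := ⟨Nat.prime_two⟩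
  obtain ⟨T⟩ : Nonempty (Sylow 2 (Subgroup.centralizer ({u} : Set G))) := inferInstance
  apply index_pPrimeCore_of_normalizer_le_centralizer T
  have huC : u ∈ Subgroup.centralizer ({u} : Set G) := by
    rw [Subgroup.mem_centralizer_singleton_iff]
  have hcomm : ∀ n : Subgroup.centralizer ({u} : Set G), (n : G) * u = u * (n : G) := by
    intro n
    have := n.2
    rw [Subgroup.mem_centralizer_singleton_iff] at this
    exact this
  -- the generated subgroup of `u` is a normal `2`-subgroup of the centralizer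
  obtain ⟨U, hU⟩ : ∃ U : Subgroup (Subgroup.centralizer ({u} : Set G)),
      U = Subgroup.zpowers (⟨u, huC⟩ : Subgroup.centralizer ({u} : Set G)) := ⟨_, rfl⟩
  have hUc : (⟨u, huC⟩ : Subgroup.centralizer ({u} : Set G))
      ∈ Subgroup.center (Subgroup.centralizer ({u} : Set G)) := by
    rw [Subgroup.mem_center_iff]
    intro n
    apply Subtype.ext
    exact hcomm n
  haveI hUn : U.Normal := by
    rw [hU]
    have hle : Subgroup.zpowers (⟨u, huC⟩ : Subgroup.centralizer ({u} : Set G))
        ≤ Subgroup.center (Subgroup.centralizer ({u} : Set G)) := by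
      rw [Subgroup.zpowers_le]
      exact hUc
    constructor
    intro n hn g
    have h1 := Subgroup.mem_center_iff.mp (hle hn) g
    have h2 : g * n * g⁻¹ = n := by rw [h1]; group
    rw [h2]
    exact hn
  have hu4 : u ^ 4 = 1 := by
    have := h.pow4 u hu
    rw [← this, pow_succ, pow_succ, pow_succ, pow_one]
  have hUp : IsPGroup 2 U := by
    rw [hU]
    have hdvd : orderOf (⟨u, huC⟩ : Subgroup.centralizer ({u} : Set G)) ∣ 2 ^ 2 := by
      apply orderOf_dvd_of_pow_eq_one
      apply Subtype.ext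
      rw [Subgroup.coe_pow]
      exact hu4
    obtain ⟨j, _, hj⟩ := (Nat.dvd_prime_pow Nat.prime_two).mp hdvd
    apply IsPGroup.of_card (n := j)
    rw [Nat.card_zpowers, hj]
  have hUT : U ≤ (T : Subgroup (Subgroup.centralizer ({u} : Set G))) := hUp.le_sylow_of_normal T
  have huT : (⟨u, huC⟩ : Subgroup.centralizer ({u} : Set G))
      ∈ (T : Subgroup (Subgroup.centralizer ({u} : Set G))) := by
    apply hUT
    rw [hU]
    exact Subgroup.mem_zpowers _
  -- move `T` into `S`
  have hTG : IsPGroup 2 ((T : Subgroup (Subgroup.centralizer ({u} : Set G))).map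
      (Subgroup.centralizer ({u} : Set G)).subtype) := T.isPGroup'.map _
  obtain ⟨Q, hQ⟩ := hTG.exists_le_sylow
  obtain ⟨x, hx⟩ := MulAction.exists_smul_eq G Q S
  have hmove : ∀ y : Subgroup.centralizer ({u} : Set G),
      y ∈ (T : Subgroup (Subgroup.centralizer ({u} : Set G))) →
      x * (y : G) * x⁻¹ ∈ (S : Subgroup G) := by
    intro y hy
    have hyQ : (y : G) ∈ (Q : Subgroup G) := hQ ⟨y, hy, rfl⟩
    rw [← hx, Sylow.coe_subgroup_smul]
    have := Subgroup.smul_mem_pointwise_smul (y : G) (MulAut.conj x) (Q : Subgroup G) hyQ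
    rwa [MulAut.smul_def, MulAut.conj_apply] at this
  have hcases : ∀ y : Subgroup.centralizer ({u} : Set G),
      y ∈ (T : Subgroup (Subgroup.centralizer ({u} : Set G))) →
      (y : G) = 1 ∨ (y : G) = u ∨ (y : G) = u * u ∨ (y : G) = u * u * u := by
    intro y hy
    have h1 := hmove y hy
    have h2 := hmove ⟨u, huC⟩ huT
    have h3 : (x * u * x⁻¹) * (x * u * x⁻¹) ≠ 1 := by
      intro h4
      apply huu
      have : u * u = x⁻¹ * ((x * u * x⁻¹) * (x * u * x⁻¹)) * x := by group
      rw [this, h4]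
      group
    have h4 : (x * u * x⁻¹) * (x * (y : G) * x⁻¹) = (x * (y : G) * x⁻¹) * (x * u * x⁻¹) := by
      have : (x * u * x⁻¹) * (x * (y : G) * x⁻¹) = x * (u * (y : G)) * x⁻¹ := by group
      rw [this, ← hcomm y]
      group
    have hback : ∀ w : G, (y : G) = x⁻¹ * (x * (y : G) * x⁻¹) * x := by
      intro _
      group
    rcases h.cent _ h2 _ h1 h3 h4 with h5 | h5 | h5 | h5
    · left
      rw [hback 1, h5]
      group
    · right; left
      rw [hback 1, h5]
      group
    · right; right; left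
      rw [hback 1, h5]
      group
    · right; right; right
      rw [hback 1, h5]
      group
  intro n _
  rw [Subgroup.mem_centralizer_iff]
  intro y hy
  apply Subtype.ext
  rw [Subgroup.coe_mul, Subgroup.coe_mul]
  have hn := hcomm n
  rcases hcases y hy with h5 | h5 | h5 | h5
  · rw [h5, one_mul, mul_one]
  · rw [h5, hn]
  · rw [h5, mul_assoc, ← hn, ← mul_assoc, ← hn, mul_assoc]
  · rw [h5]
    calc u * u * u * (n : G) = u * u * (u * (n : G)) := by group
      _ = u * u * ((n : G) * u) := by rw [hn]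
      _ = u * (u * (n : G)) * u := by group
      _ = u * ((n : G) * u) * u := by rw [hn]
      _ = (u * (n : G)) * u * u := by group
      _ = ((n : G) * u) * u * u := by rw [hn]
      _ = (n : G) * (u * u * u) := by group

end Cfsg.Agent.Lib.Helper6.Q8
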