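import Mathlib
import Cfsg.Prelude.Def_Transfer
import Cfsg.Agent.Lib.Helper1.ThompsonBasic
import Cfsg.Agent.Lib.Helper1.Rk2
set_option autoImplicit false
/-! FARM RK3 (S4404), CASE A: `S` contains a `Z_3^3`.  `V` is an arbitrary subgroup (in the application
`V = [Q, M]`); Lemma INV enters as the hypothesis `hINV`. -/
namespace Cfsg.Agent.Lib.Helper6.RK3

open Cfsg
open scoped Pointwise

universe u

variable {S : Type u} [Group S]

/-- a subgroup of order at least `p ^ 2` of an elementary abelian `p`-group is not cyclic. -/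
theorem not_isCyclic_of_le_elementary [Finite S] {p : ℕ} (hp : p.Prime) {F C : Subgroup S}
    (hF : IsElementaryAbelian p F) (hCF : C ≤ F) (hcard : p ^ 2 ≤ Nat.card ↥C) : ¬ IsCyclic ↥C := by
  intro hc
  obtain ⟨g, hg⟩ := hc.exists_generator
  have h1 : orderOf g = Nat.card ↥C := orderOf_eq_card_of_forall_mem_zpowers hg
  have h2 : orderOf g ∣ p := by
    apply orderOf_dvd_of_pow_eq_one
    apply Subtype.ext
    rw [Subgroup.coe_pow, Subgroup.coe_one]
    exact hF.2 g (hCF g.2)
  have h3 : orderOf g ≤ p := Nat.le_of_dvd hp.pos h2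
  have h4 : p < p ^ 2 := by
    have := hp.two_le
    nlinarith
  omega

/-- conjugates of elementary abelian subgroups -/
theorem isElementaryAbelian_conj_smul {p : ℕ} {F : Subgroup S} (hF : IsElementaryAbelian p F) (g : S) :
    IsElementaryAbelian p (MulAut.conj g • F) := by
  rw [Subgroup.pointwise_smul_def]
  exact Cfsg.Agent.Lib.Helper1.isElementaryAbelian_map hF _

/-- a subgroup of `S` normal in the subgroup `P`, pushed to `S`, is normalized by `P`. -/
theorem le_normalizer_map_subtype (P : Subgroup S) (A : Subgroup ↥P) [hA : A.Normal] :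
    P ≤ Subgroup.normalizer ((A.map P.subtype : Subgroup S) : Set S) := by
  have h := Subgroup.le_normalizer_map (H := A) P.subtype
  rw [Subgroup.normalizer_eq_top, ← MonoidHom.range_eq_map, Subgroup.range_subtype] at h
  exact h

theorem caseA [Finite S] (Q V : Subgroup S) (hQ3 : IsPGroup 3 ↥Q)
    (hINV : ∀ F : Subgroup S, IsElementaryAbelian 3 F → Nat.card ↥F = 27 →
      Q ≤ Subgroup.normalizer (F : Set S) →
      9 ≤ Nat.card ↥(F ⊓ Subgroup.centralizer (V : Set S)))
    (h27 : ∃ F0 : Subgroup S, IsElementaryAbelian 3 F0 ∧ Nat.card ↥F0 = 27) :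
    ∃ (r : ℕ) (F : Subgroup S), r.Prime ∧ r ≠ 2 ∧ IsElementaryAbelian r F ∧ Nat.card ↥F = r ^ 3 ∧
      ¬ IsCyclic ↥(F ⊓ Subgroup.centralizer (V : Set S)) := by
  haveI : Fact (Nat.Prime 3) := ⟨Nat.prime_three⟩
  obtain ⟨P3, hQP⟩ := hQ3.exists_le_sylow
  obtain ⟨F0, hF0, hF0card⟩ := h27
  have hF0p : IsPGroup 3 ↥F0 := IsPGroup.of_card (n := 3) (by rw [hF0card]; norm_num)
  obtain ⟨P3', hF0P⟩ := hF0p.exists_le_sylow
  obtain ⟨g, hg⟩ := MulAction.exists_smul_eq S P3' P3
  -- the conjugate of `F0` inside `P3`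
  obtain ⟨F1, hF1def⟩ : ∃ F1 : Subgroup S, F1 = MulAut.conj g • F0 := ⟨_, rfl⟩
  have hF1 : IsElementaryAbelian 3 F1 := hF1def ▸ isElementaryAbelian_conj_smul hF0 g
  have hF1card : Nat.card ↥F1 = 27 := by
    rw [hF1def, Cfsg.Agent.Lib.Helper1.card_conj_smul, hF0card]
  have hF1P : F1 ≤ (P3 : Subgroup S) := by
    rw [hF1def, ← hg, Sylow.coe_subgroup_smul]
    exact Subgroup.pointwise_smul_le_pointwise_smul_iff.mpr hF0P
  -- inside the group `↥P3`
  obtain ⟨A, hAn, hAc, hAe, hAcard⟩ : ∃ A : Subgroup ↥(P3 : Subgroup S), A.Normal ∧ IsMulCommutative ↥A ∧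
      (∀ a ∈ A, a ^ 3 = 1) ∧ Nat.card ↥A = 3 ^ 3 := by
    by_contra hcon
    push Not at hcon
    have hE : IsMulCommutative ↥(F1.subgroupOf (P3 : Subgroup S)) := by
      have := hF1.1
      exact ⟨⟨fun a b => Subtype.ext (Subtype.ext (by
        have h := Cfsg.Agent.Lib.Helper1.isElementaryAbelian_comm hF1
          (Subgroup.mem_subgroupOf.mp a.2) (Subgroup.mem_subgroupOf.mp b.2)
        simpa using h))⟩⟩
    have hEe : ∀ e ∈ F1.subgroupOf (P3 : Subgroup S), e ^ 3 = 1 := by
      intro e he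
      apply Subtype.ext
      rw [Subgroup.coe_pow, Subgroup.coe_one]
      exact hF1.2 _ (Subgroup.mem_subgroupOf.mp he)
    have h := Cfsg.Agent.Lib.Helper1.Rk.s0100 (p := 3) (by norm_num) P3.isPGroup'
      (fun A hAn hAc hAe => hcon A hAn hAc hAe) (F1.subgroupOf (P3 : Subgroup S)) hE hEe
    rw [Nat.card_congr (Subgroup.subgroupOfEquivOfLe hF1P).toEquiv, hF1card] at h
    norm_num at h
  obtain ⟨F, hFdef⟩ : ∃ F : Subgroup S, F = A.map (P3 : Subgroup S).subtype := ⟨_, rfl⟩
  have hFel : IsElementaryAbelian 3 F := by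
    rw [hFdef]
    exact Cfsg.Agent.Lib.Helper1.isElementaryAbelian_map ⟨hAc, hAe⟩ _
  have hFcard : Nat.card ↥F = 27 := by
    rw [hFdef, Subgroup.card_map_of_injective (Subgroup.subtype_injective _), hAcard]; norm_num
  have hQF : Q ≤ Subgroup.normalizer (F : Set S) := by
    rw [hFdef]
    exact hQP.trans (le_normalizer_map_subtype (P3 : Subgroup S) A)
  have h9 := hINV F hFel hFcard hQF
  refine ⟨3, F, Nat.prime_three, by norm_num, hFel, by rw [hFcard]; norm_num, ?_⟩
  exact not_isCyclic_of_le_elementary Nat.prime_three hFel inf_le_left (by norm_num; exact h9)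

end Cfsg.Agent.Lib.Helper6.RK3
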