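import Mathlib
import Cfsg.Prelude.Def_Transfer
import Cfsg.Agent.Lib.Helper1.ThompsonBasic
import Cfsg.Agent.Lib.Helper1.Hall
import Cfsg.Agent.Lib.Helper1.SubnormalSylow
import Cfsg.Agent.Lib.Helper6.RK3CaseA
set_option autoImplicit false
/-! FARM RK3 (S4404), CASE B: `S` contains no `Z_3^3`.  `V` is an arbitrary subgroup (in the
application `V = [Q, M]`); Lemmas NSYL and HHc enter as the hypotheses `hNSYL`, `hHHc`. -/
namespace Cfsg.Agent.Lib.Helper6.RK3

open Cfsg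
open scoped Pointwise

universe u

/-- the `{3,p}`-part of `N`. -/
theorem exists_three_p_part (N p : ℕ) (hN : N ≠ 0) (hp : p.Prime) :
    ∃ m n a b : ℕ, N = m * n ∧ m = 3 ^ a * p ^ b ∧ ¬ 3 ∣ n ∧ ¬ p ∣ n := by
  have hN₁ : ordCompl[3] N ≠ 0 := (Nat.ordCompl_pos 3 hN).ne'
  refine ⟨3 ^ N.factorization 3 * p ^ (ordCompl[3] N).factorization p, ordCompl[p] (ordCompl[3] N),
    N.factorization 3, (ordCompl[3] N).factorization p, ?_, rfl, ?_, ?_⟩
  · have h1 := Nat.ordProj_mul_ordCompl_eq_self N 3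
    have h2 := Nat.ordProj_mul_ordCompl_eq_self (ordCompl[3] N) p
    calc N = 3 ^ N.factorization 3 * ordCompl[3] N := h1.symm
      _ = 3 ^ N.factorization 3 * (p ^ (ordCompl[3] N).factorization p *
            ordCompl[p] (ordCompl[3] N)) := by rw [h2]
      _ = _ := by ring
  · intro h
    exact Nat.not_dvd_ordCompl Nat.prime_three hN (h.trans (Nat.ordCompl_dvd _ p))
  · exact Nat.not_dvd_ordCompl hp hN₁

variable {S : Type u} [Group S]

theorem isElementaryAbelian_smul {p : ℕ} {F : Subgroup S} (hF : IsElementaryAbelian p F)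
    (a : MulAut S) : IsElementaryAbelian p (a • F) := by
  rw [Subgroup.pointwise_smul_def]
  exact Cfsg.Agent.Lib.Helper1.isElementaryAbelian_map hF _

theorem card_mulAut_smul (a : MulAut S) (F : Subgroup S) : Nat.card ↥(a • F) = Nat.card ↥F :=
  Nat.card_congr (Subgroup.equivSMul a F).toEquiv.symm

theorem caseB [Finite S] [Group.IsSolvable S] (Q V : Subgroup S) (hQ3 : IsPGroup 3 ↥Q)
    (p : ℕ) (hp : p.Prime) (hp2 : p ≠ 2) (E : Subgroup S) (hE : IsElementaryAbelian p E)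
    (hE3 : Nat.card ↥E = p ^ 3)
    (hNSYL : ∀ (H : Type u) [Group H] [Finite H] [Group.IsSolvable H] (p : ℕ), p.Prime → 5 ≤ p →
      (∀ q : ℕ, q.Prime → q ∣ Nat.card H → q = 3 ∨ q = p) →
      (¬ ∃ F : Subgroup H, IsElementaryAbelian 3 F ∧ Nat.card ↥F = 27) →
      ∀ P : Sylow p H, (P : Subgroup H).Normal)
    (hHHc : ∀ r : ℕ, r.Prime → 5 ≤ r → ∀ P : Subgroup S, IsPGroup r ↥P →
      Q ≤ Subgroup.normalizer (P : Set S) →
      (P ⊓ Subgroup.centralizer (V : Set S)).relIndex P ≤ r)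
    (hno : ¬ ∃ F0 : Subgroup S, IsElementaryAbelian 3 F0 ∧ Nat.card ↥F0 = 27) :
    ∃ (r : ℕ) (F : Subgroup S), r.Prime ∧ r ≠ 2 ∧ IsElementaryAbelian r F ∧ Nat.card ↥F = r ^ 3 ∧
      ¬ IsCyclic ↥(F ⊓ Subgroup.centralizer (V : Set S)) := by
  haveI : Fact p.Prime := ⟨hp⟩
  -- `p ≥ 5`
  have hp3 : p ≠ 3 := by
    rintro rfl
    exact hno ⟨E, hE, by rw [hE3]; norm_num⟩
  have hp5 : 5 ≤ p := by
    by_contra hcon
    push Not at hcon
    have := hp.two_le
    interval_cases p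
    · exact hp2 rfl
    · exact hp3 rfl
    · exact absurd hp (by decide)
  -- a Hall `{3,p}`-subgroup
  obtain ⟨m, n, a, b, hN, hm, h3n, hpn⟩ :=
    exists_three_p_part (Nat.card S) p Nat.card_pos.ne' hp
  have hmpos : 0 < m := by rw [hm]; positivity
  have hmn : m.Coprime n := by
    rw [hm]
    apply Nat.Coprime.mul_left
    · exact Nat.Coprime.pow_left _ ((Nat.Prime.coprime_iff_not_dvd Nat.prime_three).mpr h3n)
    · exact Nat.Coprime.pow_left _ ((Nat.Prime.coprime_iff_not_dvd hp).mpr hpn)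
  obtain ⟨H, hHcard⟩ := Cfsg.Agent.Lib.Helper1.hall_exists m n hN hmn
  have hidx : ∀ H' : Subgroup S, Nat.card ↥H' = m → H'.index = n := by
    intro H' hH'
    have h1 := H'.card_mul_index
    rw [hH', hN] at h1
    exact Nat.eq_of_mul_eq_mul_left hmpos h1
  -- move `Q` into it
  obtain ⟨k, hk⟩ := IsPGroup.iff_card.mp hQ3
  have hQcop : (Nat.card ↥Q).Coprime H.index := by
    rw [hidx H hHcard, hk]
    exact Nat.Coprime.pow_left _ ((Nat.Prime.coprime_iff_not_dvd Nat.prime_three).mpr h3n)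
  have hHcop : (Nat.card ↥H).Coprime H.index := by rw [hHcard, hidx H hHcard]; exact hmn
  obtain ⟨g, hg⟩ := Cfsg.Agent.Lib.Helper1.hall_dominance H Q hHcop hQcop
  obtain ⟨H₁, hH₁def⟩ : ∃ H₁ : Subgroup S, H₁ = MulAut.conj g • H := ⟨_, rfl⟩
  rw [← hH₁def] at hg
  have hH₁card : Nat.card ↥H₁ = m := by
    rw [hH₁def, Cfsg.Agent.Lib.Helper1.card_conj_smul, hHcard]
  have hH₁cop : (Nat.card ↥H₁).Coprime H₁.index := by
    rw [hH₁card, hidx H₁ hH₁card]; exact hmn
  have hEcop : (Nat.card ↥E).Coprime H₁.index := by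
    rw [hidx H₁ hH₁card, hE3]
    exact Nat.Coprime.pow_left _ ((Nat.Prime.coprime_iff_not_dvd hp).mpr hpn)
  obtain ⟨g', hg'⟩ := Cfsg.Agent.Lib.Helper1.hall_dominance H₁ E hH₁cop hEcop
  -- the conjugate `E'` of `E` inside `H₁`
  obtain ⟨E', hE'def⟩ : ∃ E' : Subgroup S, E' = (MulAut.conj g')⁻¹ • E := ⟨_, rfl⟩
  have hE'el : IsElementaryAbelian p E' := hE'def ▸ isElementaryAbelian_smul hE _
  have hE'card : Nat.card ↥E' = p ^ 3 := by rw [hE'def, card_mulAut_smul, hE3]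
  have hE'H : E' ≤ H₁ := by
    rw [hE'def, Subgroup.pointwise_smul_subset_iff, inv_inv]
    exact hg'
  -- the group `↥H₁`
  have hcardH : ∀ q : ℕ, q.Prime → q ∣ Nat.card ↥H₁ → q = 3 ∨ q = p := by
    intro q hq hqd
    rw [hH₁card, hm] at hqd
    rcases (Nat.Prime.dvd_mul hq).mp hqd with h | h
    · left
      exact (Nat.prime_dvd_prime_iff_eq hq Nat.prime_three).mp (hq.dvd_of_dvd_pow h)
    · right
      exact (Nat.prime_dvd_prime_iff_eq hq hp).mp (hq.dvd_of_dvd_pow h)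
  have hnoH : ¬ ∃ F : Subgroup ↥H₁, IsElementaryAbelian 3 F ∧ Nat.card ↥F = 27 := by
    rintro ⟨F, hF, hFcard⟩
    refine hno ⟨F.map H₁.subtype, Cfsg.Agent.Lib.Helper1.isElementaryAbelian_map hF _, ?_⟩
    rw [Subgroup.card_map_of_injective (Subgroup.subtype_injective _), hFcard]
  have hE'p : IsPGroup p ↥(E'.subgroupOf H₁) := by
    apply IsPGroup.of_card (n := 3)
    rw [Nat.card_congr (Subgroup.subgroupOfEquivOfLe hE'H).toEquiv, hE'card]
  obtain ⟨Pp, hPp⟩ := hE'p.exists_le_sylow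
  haveI hPpn : (Pp : Subgroup ↥H₁).Normal := hNSYL ↥H₁ p hp hp5 hcardH hnoH Pp
  obtain ⟨P, hPdef⟩ : ∃ P : Subgroup S, P = (Pp : Subgroup ↥H₁).map H₁.subtype := ⟨_, rfl⟩
  have hPpg : IsPGroup p ↥P := by
    rw [hPdef]; exact Pp.isPGroup'.map _
  have hQP : Q ≤ Subgroup.normalizer (P : Set S) := by
    rw [hPdef]
    exact hg.trans (le_normalizer_map_subtype H₁ (Pp : Subgroup ↥H₁))
  have hE'P : E' ≤ P := by
    intro e he
    rw [hPdef]
    exact ⟨⟨e, hE'H he⟩, hPp (Subgroup.mem_subgroupOf.mpr he), rfl⟩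
  -- HHc
  have h1 := hHHc p hp hp5 P hPpg hQP
  rw [Subgroup.inf_relIndex_left] at h1
  have h2 : (Subgroup.centralizer (V : Set S)).relIndex E' ≤
      (Subgroup.centralizer (V : Set S)).relIndex P :=
    Subgroup.relIndex_le_of_le_right hE'P (by
      intro h0
      have := Subgroup.relIndex_dvd_card (Subgroup.centralizer (V : Set S)) P
      rw [h0] at this
      exact Nat.card_pos.ne' (Nat.eq_zero_of_zero_dvd this))
  have h3 := Cfsg.Agent.Lib.Helper1.relIndex_mul_card_inf (Subgroup.centralizer (V : Set S)) E'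
  rw [hE'card, inf_comm] at h3
  have h4 : p ^ 2 ≤ Nat.card ↥(E' ⊓ Subgroup.centralizer (V : Set S)) := by
    have hle : (Subgroup.centralizer (V : Set S)).relIndex E' ≤ p := h2.trans h1
    have hpos : 0 < p := hp.pos
    by_contra hcon
    push Not at hcon
    have : (Subgroup.centralizer (V : Set S)).relIndex E' *
        Nat.card ↥(E' ⊓ Subgroup.centralizer (V : Set S)) < p * p ^ 2 := by
      calc _ ≤ p * Nat.card ↥(E' ⊓ Subgroup.centralizer (V : Set S)) :=
            Nat.mul_le_mul_right _ hle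
        _ < p * p ^ 2 := Nat.mul_lt_mul_of_pos_left hcon hpos
    rw [h3] at this
    have h5 : p * p ^ 2 = p ^ 3 := by ring
    omega
  exact ⟨p, E', hp, hp2, hE'el, hE'card,
    not_isCyclic_of_le_elementary hp hE'el inf_le_left h4⟩

end Cfsg.Agent.Lib.Helper6.RK3
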