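import Mathlib
import Cfsg.Agent.Lib.Helper1.PL2
import Cfsg.Agent.Lib.Helper1.SubnormalSylow
import Cfsg.Agent.Lib.Helper5.NA8U3
set_option autoImplicit false
open scoped commutatorElement
/-! FARM RK3 (S4404), unit I1 = claim A of Lemma INV (helper5's shape): a hyperplane `D` of `F ≅ Z_3^3`
moved by `x` has `N ⊓ C(D) = ⊥`. -/
namespace Cfsg.Agent.Lib.Helper6.RK3
open Cfsg.Agent.Lib.Helper1

universe u

variable {S : Type u} [Group S]

/-- an element centralized by `D` and `D'` is centralized by `D ⊔ D'`. -/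
theorem mem_centralizer_sup {D D' : Subgroup S} {m : S}
    (h1 : m ∈ Subgroup.centralizer (D : Set S)) (h2 : m ∈ Subgroup.centralizer (D' : Set S)) :
    m ∈ Subgroup.centralizer ((D ⊔ D' : Subgroup S) : Set S) := by
  have hD : D ≤ Subgroup.centralizer ((Subgroup.zpowers m : Subgroup S) : Set S) := by
    rw [Subgroup.le_centralizer_iff, Subgroup.zpowers_le]; exact h1
  have hD' : D' ≤ Subgroup.centralizer ((Subgroup.zpowers m : Subgroup S) : Set S) := by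
    rw [Subgroup.le_centralizer_iff, Subgroup.zpowers_le]; exact h2
  have h := Subgroup.le_centralizer_iff.mp (sup_le hD hD')
  exact h (Subgroup.mem_zpowers m)

/-- `F` abelian, `D ≤ F`, `F ≤ N(N)`: `F` normalizes `N ⊓ C(D)`. -/
theorem le_normalizer_inf_centralizer {F N D : Subgroup S}
    (hFc : ∀ a ∈ F, ∀ b ∈ F, a * b = b * a) (hDF : D ≤ F)
    (hFN : F ≤ Subgroup.normalizer (N : Set S)) :
    F ≤ Subgroup.normalizer ((N ⊓ Subgroup.centralizer (D : Set S) : Subgroup S) : Set S) := by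
  intro f hf
  apply PL.mem_normalizer_inf (hFN hf)
  apply PL.mem_normalizer_centralizer
  rw [Subgroup.mem_normalizer_iff]
  intro d
  constructor
  · intro hd
    have : f * d * f⁻¹ = d := by rw [hFc f hf d (hDF hd), mul_inv_cancel_right]
    rw [this]; exact hd
  · intro hd
    have h1 : f * d * f⁻¹ ∈ F := hDF hd
    have h2 : d ∈ F := by
      have : d = f⁻¹ * (f * d * f⁻¹) * f := by group
      rw [this]
      exact F.mul_mem (F.mul_mem (F.inv_mem hf) h1) hf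
    have : f * d * f⁻¹ = d := by rw [hFc f hf d h2, mul_inv_cancel_right]
    rw [this] at hd; exact hd

/-- the commutator map `m ↦ [m, x]` is injective on `N'` when `N' ⊓ x N' x⁻¹ = ⊥`. -/
theorem comm_map_inj (x : S) (N' : Subgroup S) (hinf : N' ⊓ PL.cj x N' = ⊥) {m m' : S}
    (hm : m ∈ N') (hm' : m' ∈ N') (h : ⁅m, x⁆ = ⁅m', x⁆) : m = m' := by
  rw [commutatorElement_def, commutatorElement_def] at h
  have e1 : m * (x * m⁻¹ * x⁻¹) = m' * (x * m'⁻¹ * x⁻¹) := by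
    have l1 : m * x * m⁻¹ * x⁻¹ = m * (x * m⁻¹ * x⁻¹) := by group
    have l2 : m' * x * m'⁻¹ * x⁻¹ = m' * (x * m'⁻¹ * x⁻¹) := by group
    rw [← l1, ← l2]; exact h
  have e2 : m'⁻¹ * m = (x * m'⁻¹ * x⁻¹) * (x * m⁻¹ * x⁻¹)⁻¹ := by
    have h3 : m'⁻¹ * (m * (x * m⁻¹ * x⁻¹)) = x * m'⁻¹ * x⁻¹ := by rw [e1]; group
    calc m'⁻¹ * m = (m'⁻¹ * (m * (x * m⁻¹ * x⁻¹))) * (x * m⁻¹ * x⁻¹)⁻¹ := by group
      _ = (x * m'⁻¹ * x⁻¹) * (x * m⁻¹ * x⁻¹)⁻¹ := by rw [h3]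
  have hu : x * (m'⁻¹ * m) * x⁻¹ = m'⁻¹ * m := by
    calc x * (m'⁻¹ * m) * x⁻¹ = (x * m'⁻¹ * x⁻¹) * (x * m⁻¹ * x⁻¹)⁻¹ := by group
      _ = m'⁻¹ * m := e2.symm
  have huN : m'⁻¹ * m ∈ N' := N'.mul_mem (N'.inv_mem hm') hm
  have huc : m'⁻¹ * m ∈ PL.cj x N' := by
    rw [PL.mem_cj]
    have h6 : x⁻¹ * (m'⁻¹ * m) * x = m'⁻¹ * m := by
      have h5 : x⁻¹ * (x * (m'⁻¹ * m) * x⁻¹) * x = m'⁻¹ * m := by group
      rw [hu] at h5; exact h5
    rw [h6]; exact huN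
  have h7 : m'⁻¹ * m ∈ N' ⊓ PL.cj x N' := ⟨huN, huc⟩
  rw [hinf, Subgroup.mem_bot] at h7
  have h2 : m = m' * (m'⁻¹ * m) := by group
  rw [h2, h7, mul_one]

/-- if moreover `|V| ≤ |N'|` then every `v ∈ V` is `a * b` with `a ∈ N'`, `b ∈ x N' x⁻¹`. -/
theorem exists_mul_of_comm_map [Finite S] (x : S) (V N' : Subgroup S)
    (hNV : ∀ m ∈ N', ⁅m, x⁆ ∈ V) (hinf : N' ⊓ PL.cj x N' = ⊥)
    (hcard : Nat.card ↥V ≤ Nat.card ↥N') :
    ∀ v ∈ V, ∃ a ∈ N', ∃ b ∈ PL.cj x N', v = a * b := by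
  have hconj : ∀ m ∈ N', x * m * x⁻¹ ∈ PL.cj x N' := by
    intro m hm
    rw [PL.mem_cj]
    have : x⁻¹ * (x * m * x⁻¹) * x = m := by group
    rw [this]; exact hm
  have hinj : Function.Injective (fun m : ↥N' => (⟨⁅(m : S), x⁆, hNV m m.2⟩ : ↥V)) := by
    intro m m' h
    have h1 : ⁅(m : S), x⁆ = ⁅(m' : S), x⁆ := congrArg Subtype.val h
    exact Subtype.ext (comm_map_inj x N' hinf m.2 m'.2 h1)
  have hbij := hinj.bijective_of_nat_card_le hcard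
  intro v hv
  obtain ⟨a, ha⟩ := hbij.2 ⟨v, hv⟩
  refine ⟨a, a.2, x * (a : S)⁻¹ * x⁻¹, hconj _ (N'.inv_mem a.2), ?_⟩
  have h1 : ⁅(a : S), x⁆ = v := congrArg Subtype.val ha
  rw [← h1, commutatorElement_def]; group

theorem claimA {S : Type*} [Group S] [Finite S] (M : Subgroup S) [M.Normal]
    (hMc : ∀ a ∈ M, ∀ b ∈ M, a * b = b * a) (hM2 : ∀ a ∈ M, a ^ 2 = 1)
    (x : S) (hx3 : x ^ 3 ∈ Subgroup.centralizer (M : Set S))
    (V : Subgroup S) (hVM : V ≤ M) (hV4 : Nat.card V = 4)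
    (hxV : x ∈ Subgroup.normalizer (V : Set S))
    (F : Subgroup S) (hFc : ∀ a ∈ F, ∀ b ∈ F, a * b = b * a) (hF3 : ∀ a ∈ F, a ^ 3 = 1)
    (hF27 : Nat.card F = 27) (hxF : x ∈ Subgroup.normalizer (F : Set S))
    (N : Subgroup S) (hNM : N ≤ M) (hFN : F ≤ Subgroup.normalizer (N : Set S))
    (hxN : x ∈ Subgroup.normalizer (N : Set S))
    (hNF : N ⊓ Subgroup.centralizer (F : Set S) = ⊥)
    (hNV : ∀ m ∈ N, ⁅m, x⁆ ∈ V)
    (D : Subgroup S) (hDF : D ≤ F) (hD9 : Nat.card D = 9) (hDx : PL.cj x D ≠ D) :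
    N ⊓ Subgroup.centralizer (D : Set S) = ⊥ := by
  have : Fact (Nat.Prime 2) := ⟨Nat.prime_two⟩
  by_contra hne
  -- notation
  obtain ⟨D1, hD1⟩ : ∃ D1 : Subgroup S, D1 = PL.cj x D := ⟨_, rfl⟩
  obtain ⟨N0, hN0⟩ : ∃ N0 : Subgroup S, N0 = N ⊓ Subgroup.centralizer (D : Set S) := ⟨_, rfl⟩
  obtain ⟨N1, hN1⟩ : ∃ N1 : Subgroup S, N1 = PL.cj x N0 := ⟨_, rfl⟩
  obtain ⟨N2, hN2⟩ : ∃ N2 : Subgroup S, N2 = PL.cj x N1 := ⟨_, rfl⟩
  rw [← hN0] at hne
  have hN1' : N1 = N ⊓ Subgroup.centralizer (D1 : Set S) := by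
    rw [hN1, hN0, PL.cj_inf_centralizer D hxN, hD1]
  have hD1F : D1 ≤ F := by
    rw [hD1, ← PL.cj_of_mem_normalizer hxF]; exact PL.cj_mono hDF
  have hN0N : N0 ≤ N := hN0 ▸ inf_le_left
  have hN1N : N1 ≤ N := hN1' ▸ inf_le_left
  have hN0M : N0 ≤ M := hN0N.trans hNM
  have hN1M : N1 ≤ M := hN1N.trans hNM
  -- `x ^ 3` normalizes `N0`
  have hx3N0 : PL.cj x N2 = N0 := by
    rw [hN2, hN1, ← PL.cj_mul, ← PL.cj_mul]
    have hx3e : PL.cj (x * x * x) N0 = PL.cj (x ^ 3) N0 := by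
      congr 1; rw [pow_succ, pow_two]
    rw [hx3e]
    apply PL.cj_of_mem_normalizer
    exact Subgroup.centralizer_le_normalizer (N0 : Set S) ((Subgroup.centralizer_le hN0M) hx3)
  -- `D ⊔ D1 = F`
  have hrel : ∀ D' : Subgroup S, D' ≤ F → Nat.card D' = 9 → PL.IsHyp 3 F D' := by
    intro D' hD'F hD'9
    refine ⟨hD'F, ?_⟩
    have h := relIndex_mul_card_inf D' F
    rw [inf_eq_left.mpr hD'F, hD'9, hF27] at h
    omega
  have hD1card : Nat.card D1 = 9 := by rw [hD1, PL.card_cj, hD9]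
  have hsup : D ⊔ D1 = F :=
    PL.hyp_sup_eq Nat.prime_three (hrel D hDF hD9) (hrel D1 hD1F hD1card) (hD1 ▸ hDx.symm)
  -- pairwise trivial intersections
  have h01 : N0 ⊓ N1 = ⊥ := by
    rw [eq_bot_iff, ← hNF]
    rintro m ⟨hm0, hm1⟩
    rw [hN0] at hm0
    rw [hN1'] at hm1
    exact ⟨hm0.1, hsup ▸ mem_centralizer_sup hm0.2 hm1.2⟩
  have h12 : N1 ⊓ N2 = ⊥ := by
    rw [hN2, hN1, ← PL.cj_inf, ← hN1, h01, PL.cj_bot]
  have h20 : N2 ⊓ N0 = ⊥ := by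
    rw [← hx3N0, hN2, ← PL.cj_inf, ← hN2, h12, PL.cj_bot]
  -- cardinalities
  have hNV0 : ∀ m ∈ N0, ⁅m, x⁆ ∈ V := fun m hm => hNV m (hN0N hm)
  have hNV1 : ∀ m ∈ N1, ⁅m, x⁆ ∈ V := fun m hm => hNV m (hN1N hm)
  have hN0p : IsPGroup 2 ↥N0 := by
    intro m
    refine ⟨1, Subtype.ext ?_⟩
    rw [Subgroup.coe_pow, Subgroup.coe_one, pow_one]
    exact hM2 m (hN0M m.2)
  obtain ⟨k, hk⟩ := IsPGroup.iff_card.mp hN0p
  have hN0le : Nat.card ↥N0 ≤ 4 := by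
    rw [← hV4]
    apply Nat.card_le_card_of_injective (fun m : ↥N0 => (⟨⁅(m : S), x⁆, hNV0 m m.2⟩ : ↥V))
    intro m m' h
    have h1 : ⁅(m : S), x⁆ = ⁅(m' : S), x⁆ := congrArg Subtype.val h
    exact Subtype.ext (comm_map_inj x N0 (hN1 ▸ h01) m.2 m'.2 h1)
  have hN0card : Nat.card ↥N0 = 4 := by
    have hk2 : k ≤ 2 := by
      by_contra hcon
      push Not at hcon
      have : 2 ^ 3 ≤ 2 ^ k := Nat.pow_le_pow_right (by norm_num) hcon
      omega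
    interval_cases k
    · exfalso
      apply hne
      rw [pow_zero] at hk
      exact Subgroup.card_eq_one.mp hk
    · exfalso
      rw [pow_one] at hk
      have hFN0 : F ≤ Subgroup.normalizer (N0 : Set S) :=
        hN0 ▸ le_normalizer_inf_centralizer hFc hDF hFN
      have h := Cfsg.Agent.Lib.Helper5.NA8.commutator_eq_bot_of_card_two hk hFN0
      rw [Subgroup.commutator_eq_bot_iff_le_centralizer] at h
      apply hne
      rw [eq_bot_iff, ← hNF]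
      exact fun m hm => ⟨hN0N hm, h hm⟩
    · rw [hk]; norm_num
  have hN1card : Nat.card ↥N1 = 4 := by rw [hN1, PL.card_cj, hN0card]
  -- decompositions
  have hdec0 := exists_mul_of_comm_map x V N0 hNV0 (hN1 ▸ h01)
    (by rw [hV4, hN0card])
  have hdec1 := exists_mul_of_comm_map x V N1 hNV1 (hN2 ▸ h12)
    (by rw [hV4, hN1card])
  rw [← hN1] at hdec0
  rw [← hN2] at hdec1
  -- `V ≤ N1`
  have hN2' : N2 = N ⊓ Subgroup.centralizer ((PL.cj x D1 : Subgroup S) : Set S) := by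
    rw [hN2, hN1', PL.cj_inf_centralizer D1 hxN]
  have hD2F : PL.cj x D1 ≤ F := by
    rw [← PL.cj_of_mem_normalizer hxF]; exact PL.cj_mono hD1F
  have hFN1 : F ≤ Subgroup.normalizer (N1 : Set S) :=
    hN1' ▸ le_normalizer_inf_centralizer hFc hD1F hFN
  have hFN2 : F ≤ Subgroup.normalizer (N2 : Set S) :=
    hN2' ▸ le_normalizer_inf_centralizer hFc hD2F hFN
  have hN2M : N2 ≤ M := by rw [hN2']; exact inf_le_left.trans hNM
  have hVN1 : V ≤ N1 := by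
    intro v hv
    obtain ⟨a, ha, b, hb, hvab⟩ := hdec0 v hv
    obtain ⟨b', hb', c', hc', hvbc⟩ := hdec1 v hv
    -- `a = b'' * c'` with `b'' = b' * b⁻¹`
    have haM := hN0M ha
    have hbM := hN1M hb
    have hb'M := hN1M hb'
    have hc'M := hN2M hc'
    have hab'' : a = (b' * b⁻¹) * c' := by
      have h1 : a * b = b' * c' := hvab ▸ hvbc
      have h2 : a = b' * c' * b⁻¹ := by rw [← h1]; group
      rw [h2, mul_assoc, hMc c' hc'M b⁻¹ (M.inv_mem hbM), ← mul_assoc]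
    have hb''N1 : b' * b⁻¹ ∈ N1 := N1.mul_mem hb' (N1.inv_mem hb)
    -- every `l ∈ D` centralizes `b''`
    have hDb : ∀ l ∈ D, l * (b' * b⁻¹) = (b' * b⁻¹) * l := by
      intro l hl
      have hlF : l ∈ F := hDF hl
      have hla : l * a = a * l := by
        have : a ∈ Subgroup.centralizer (D : Set S) := by rw [hN0] at ha; exact ha.2
        exact Subgroup.mem_centralizer_iff.mp this l hl
      have hlb : l * (b' * b⁻¹) * l⁻¹ ∈ N1 :=
        (Subgroup.mem_normalizer_iff.mp (hFN1 hlF) _).mp hb''N1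
      have hlc : l * c' * l⁻¹ ∈ N2 := (Subgroup.mem_normalizer_iff.mp (hFN2 hlF) _).mp hc'
      -- `(l b'' l⁻¹)⁻¹ b'' = (l c' l⁻¹) c'⁻¹`
      have hkey : (l * (b' * b⁻¹) * l⁻¹)⁻¹ * (b' * b⁻¹) = (l * c' * l⁻¹) * c'⁻¹ := by
        have e1 : l * a * l⁻¹ = a := by rw [hla, mul_inv_cancel_right]
        have e2 : l * a * l⁻¹ = (l * (b' * b⁻¹) * l⁻¹) * (l * c' * l⁻¹) := by
          rw [hab'']; group
        have e3 : (l * (b' * b⁻¹) * l⁻¹) * (l * c' * l⁻¹) = (b' * b⁻¹) * c' := by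
          rw [← e2, e1, ← hab'']
        calc (l * (b' * b⁻¹) * l⁻¹)⁻¹ * (b' * b⁻¹)
            = (l * (b' * b⁻¹) * l⁻¹)⁻¹ * ((b' * b⁻¹) * c') * c'⁻¹ := by group
          _ = (l * (b' * b⁻¹) * l⁻¹)⁻¹ * ((l * (b' * b⁻¹) * l⁻¹) * (l * c' * l⁻¹)) * c'⁻¹ := by
              rw [e3]
          _ = (l * c' * l⁻¹) * c'⁻¹ := by group
      have hmem : (l * (b' * b⁻¹) * l⁻¹)⁻¹ * (b' * b⁻¹) ∈ N1 ⊓ N2 :=
        ⟨N1.mul_mem (N1.inv_mem hlb) hb''N1, hkey ▸ N2.mul_mem hlc (N2.inv_mem hc')⟩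
      rw [h12, Subgroup.mem_bot] at hmem
      have : l * (b' * b⁻¹) * l⁻¹ = b' * b⁻¹ := inv_mul_eq_one.mp hmem
      calc l * (b' * b⁻¹) = (l * (b' * b⁻¹) * l⁻¹) * l := by group
        _ = (b' * b⁻¹) * l := by rw [this]
    have hb''D : b' * b⁻¹ ∈ Subgroup.centralizer (D : Set S) := by
      rw [Subgroup.mem_centralizer_iff]; exact hDb
    have hb''D1 : b' * b⁻¹ ∈ Subgroup.centralizer (D1 : Set S) := by
      rw [hN1'] at hb''N1; exact hb''N1.2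
    have hb''1 : b' * b⁻¹ = 1 := by
      have : b' * b⁻¹ ∈ N ⊓ Subgroup.centralizer (F : Set S) :=
        ⟨hN1N hb''N1, hsup ▸ mem_centralizer_sup hb''D hb''D1⟩
      rw [hNF, Subgroup.mem_bot] at this
      exact this
    have hac : a = c' := by rw [hab'', hb''1, one_mul]
    have ha1 : a = 1 := by
      have : a ∈ N2 ⊓ N0 := ⟨hac ▸ hc', ha⟩
      rw [h20, Subgroup.mem_bot] at this
      exact this
    rw [hvab, ha1, one_mul]; exact hb
  have hVeq : V = N1 := Subgroup.eq_of_le_of_card_ge hVN1 (by rw [hN1card, hV4])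
  have hN21 : N2 = N1 := by
    rw [hN2, ← hVeq, PL.cj_of_mem_normalizer hxV]
  have : N1 = ⊥ := by
    have h := h12
    rw [hN21, inf_idem] at h
    exact h
  rw [this] at hN1card
  simp at hN1card

end Cfsg.Agent.Lib.Helper6.RK3
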