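import Mathlib
import Cfsg.Agent.Lib.Helper9.RK3HDefs
import Cfsg.Agent.Lib.Helper1.Coprime
import Cfsg.Agent.Lib.Helper1.SubnormalSylow
import Cfsg.Agent.Lib.Helper1.PL1
set_option autoImplicit false
open scoped commutatorElement
open Pointwise
/-! FARM RK3 (S4404), LEMMA HHc, unit HX: `hhcX` from `coreX` (faithful setting). -/
namespace Cfsg.Agent.Lib.Helper6.RK3
open Cfsg.Agent.Lib.Helper9.RK3 Cfsg.Agent.Lib.Helper1

universe u

variable {G : Type u} [Group G]

/-- An `r`-group, `r ≥ 5`, normalizing a subgroup of order at most `4` centralizes it. -/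
theorem centralizes_of_card_le_four' [Finite G] {r : ℕ} (hr : r.Prime) (hr5 : 5 ≤ r)
    {A N : Subgroup G} (hA : IsPGroup r A) (hAN : A ≤ Subgroup.normalizer (N : Set G))
    (hN : Nat.card N ≤ 4) : A ≤ Subgroup.centralizer (N : Set G) := by
  intro a ha
  have hconj : ∀ n ∈ N, a * n * a⁻¹ ∈ N :=
    fun n hn => (Subgroup.mem_normalizer_iff.mp (hAN ha) n).mp hn
  have hconj' : ∀ n ∈ N, a⁻¹ * n * a ∈ N := by
    intro n hn
    apply (Subgroup.mem_normalizer_iff.mp (hAN ha) (a⁻¹ * n * a)).mpr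
    have : a * (a⁻¹ * n * a) * a⁻¹ = n := by group
    rw [this]; exact hn
  let σ : Equiv.Perm ↥N :=
    { toFun := fun n => ⟨a * n * a⁻¹, hconj n n.2⟩
      invFun := fun n => ⟨a⁻¹ * n * a, hconj' n n.2⟩
      left_inv := by
        intro n; apply Subtype.ext
        show a⁻¹ * (a * (n : G) * a⁻¹) * a = n
        group
      right_inv := by
        intro n; apply Subtype.ext
        show a * (a⁻¹ * (n : G) * a) * a⁻¹ = n
        group }
  have hσ : ∀ n : ↥N, ((σ n : ↥N) : G) = a * n * a⁻¹ := fun n => rfl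
  have hpow : ∀ k : ℕ, ∀ n : ↥N, (((σ ^ k) n : ↥N) : G) = a ^ k * n * (a ^ k)⁻¹ := by
    intro k
    induction k with
    | zero => intro n; simp
    | succ k ih =>
      intro n
      rw [pow_succ', Equiv.Perm.mul_apply, hσ, ih, pow_succ']
      group
  obtain ⟨k, hk⟩ := hA ⟨a, ha⟩
  have hak : a ^ r ^ k = 1 := by
    have := congrArg Subtype.val hk
    simpa using this
  have h1 : σ ^ (r ^ k) = 1 := by
    ext n
    rw [hpow, hak]; simp
  have h2 : σ ^ (Nat.card ↥N).factorial = 1 := by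
    rw [← Nat.card_perm]; exact pow_card_eq_one'
  have h3 : σ ^ 24 = 1 := by
    have hd : (Nat.card ↥N).factorial ∣ 24 := by
      have : (Nat.card ↥N).factorial ∣ (4 : ℕ).factorial := Nat.factorial_dvd_factorial hN
      simpa [Nat.factorial] using this
    obtain ⟨c, hc⟩ := hd
    rw [hc, pow_mul, h2, one_pow]
  have hcop : Nat.Coprime (r ^ k) 24 := by
    apply Nat.Coprime.pow_left
    rw [Nat.Prime.coprime_iff_not_dvd hr]
    intro hdvd
    have hle : r ≤ 24 := Nat.le_of_dvd (by norm_num) hdvd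
    interval_cases r <;> first | (norm_num at hr; done) | (norm_num at hdvd; done)
  have hσ1 : σ = 1 := by
    have ho1 : orderOf σ ∣ r ^ k := orderOf_dvd_of_pow_eq_one h1
    have ho2 : orderOf σ ∣ 24 := orderOf_dvd_of_pow_eq_one h3
    have : orderOf σ = 1 := Nat.eq_one_of_dvd_coprimes hcop ho1 ho2
    exact orderOf_eq_one_iff.mp this
  rw [Subgroup.mem_centralizer_iff]
  intro n hn
  have h4 : a * n * a⁻¹ = n := by
    have := hσ ⟨n, hn⟩
    rw [hσ1] at this
    simpa using this.symm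
  calc n * a = (a * n * a⁻¹) * a := by rw [h4]
    _ = a * n := by group

/-- `|H ⊔ K| ≤ |H| |K|` when `H` normalizes `K`. -/
theorem card_sup_le_of_le_normalizer [Finite G] (H K : Subgroup G)
    (h : H ≤ Subgroup.normalizer (K : Set G)) :
    Nat.card ↥(H ⊔ K) ≤ Nat.card ↥H * Nat.card ↥K := by
  have h1 : ((H ⊔ K : Subgroup G) : Set G) = (H : Set G) * (K : Set G) :=
    Subgroup.coe_mul_of_left_le_normalizer_right H K h
  have h2 : Nat.card ↥(H ⊔ K) = Nat.card ((H : Set G) * (K : Set G) : Set G) := by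
    rw [← h1]; rfl
  rw [h2]
  exact Set.natCard_mul_le

/-- Unit HX: `hhcX` from `coreX`. -/
theorem hhcX_of_coreX [Finite G]
    (hcore : ∀ {M R : Subgroup G} {x : G} {r : ℕ}, Cfg M R x r →
      ⁅R, Subgroup.zpowers x⁆ = R → Nat.card R ≤ r)
    {M P : Subgroup G} {x : G} {r : ℕ} (c : Cfg M P x r) :
    (P ⊓ Subgroup.centralizer ((⁅M, Subgroup.zpowers x⁆ : Subgroup G) : Set G)).relIndex P
      ≤ r := by
  have hr := c.hr
  haveI : Fact r.Prime := ⟨hr⟩
  obtain ⟨X, hX⟩ : ∃ X : Subgroup G, X = Subgroup.zpowers x := ⟨_, rfl⟩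
  rw [← hX]
  have hxX : x ∈ X := hX ▸ Subgroup.mem_zpowers x
  have hXP : X ≤ Subgroup.normalizer (P : Set G) := by
    rw [hX, Subgroup.zpowers_le]; exact c.hxR
  have hXM : X ≤ Subgroup.normalizer (M : Set G) := by
    rw [hX, Subgroup.zpowers_le]; exact c.hxM
  have hXcard : Nat.card ↥X ∣ 3 := by
    rw [hX, Nat.card_zpowers]; exact orderOf_dvd_of_pow_eq_one c.hx3
  obtain ⟨n, hn⟩ := IsPGroup.iff_card.mp c.hR
  have hcop : (Nat.card ↥X).Coprime (Nat.card ↥P) := by
    rw [hn]
    apply Nat.Coprime.pow_right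
    apply Nat.Coprime.coprime_dvd_left hXcard
    rw [Nat.coprime_primes Nat.prime_three hr]
    have := c.hr5
    omega
  have hsolv : Group.IsSolvable ↥X ∨ Group.IsSolvable ↥P := by
    right
    haveI : Group.IsNilpotent ↥P := c.hR.isNilpotent
    infer_instance
  obtain ⟨R, hR⟩ : ∃ R : Subgroup G, R = ⁅P, X⁆ := ⟨_, rfl⟩
  have h1 : R ⊔ (P ⊓ Subgroup.centralizer (X : Set G)) = P := by
    rw [hR]; exact coprime_commutator_sup_centralizer X P hXP hcop hsolv
  have h2 : ⁅R, X⁆ = R := by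
    rw [hR]; exact coprime_commutator_commutator X P hXP hcop hsolv
  have hRP : R ≤ P := by
    rw [hR]; exact Subgroup.le_normalizer_iff_commutator_le_left.mp hXP
  have hXR : X ≤ Subgroup.normalizer (R : Set G) := by
    rw [hR]; exact Subgroup.normalizer_commutator_ge_right P X
  have hPR : P ≤ Subgroup.normalizer (R : Set G) := by
    rw [hR]; exact Subgroup.normalizer_commutator_ge_left P X
  have cR : Cfg M R x r :=
    { hr := c.hr
      hr5 := c.hr5
      hM := c.hM
      hR := c.hR.to_le hRP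
      hRM := hRP.trans c.hRM
      hxM := c.hxM
      hxR := hXR hxX
      hx3 := c.hx3
      hV := c.hV
      faith := by
        rw [eq_bot_iff, ← c.faith]
        exact inf_le_inf_right _ hRP }
  have hRcard : Nat.card ↥R ≤ r := hcore cR (hX ▸ h2)
  -- `P0 = C_P(x)` centralizes `V`
  obtain ⟨P0, hP0⟩ : ∃ P0 : Subgroup G, P0 = P ⊓ Subgroup.centralizer (X : Set G) := ⟨_, rfl⟩
  have hP0P : P0 ≤ P := hP0 ▸ inf_le_left
  have hP0V : P0 ≤ Subgroup.normalizer ((⁅M, X⁆ : Subgroup G) : Set G) := by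
    intro g hg
    have hgM : g ∈ Subgroup.normalizer (M : Set G) := c.hRM (hP0P hg)
    have hgX : g ∈ Subgroup.normalizer (X : Set G) := by
      rw [hP0] at hg
      exact Subgroup.centralizer_le_normalizer (X : Set G) hg.2
    exact PL.mem_normalizer_commutator hgM hgX
  have hP0c : P0 ≤ Subgroup.centralizer ((⁅M, X⁆ : Subgroup G) : Set G) :=
    centralizes_of_card_le_four' hr c.hr5 (c.hR.to_le hP0P) hP0V (hX ▸ c.hV)
  -- index computation
  have hle : P0 ≤ P ⊓ Subgroup.centralizer ((⁅M, X⁆ : Subgroup G) : Set G) :=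
    le_inf hP0P hP0c
  have hdvd := Subgroup.relIndex_dvd_of_le_left P hle
  have hcardP : Nat.card ↥P ≤ Nat.card ↥R * Nat.card ↥P0 := by
    have h3 : Nat.card ↥(P0 ⊔ R) ≤ Nat.card ↥P0 * Nat.card ↥R :=
      card_sup_le_of_le_normalizer P0 R (hP0P.trans hPR)
    rw [← hP0] at h1
    rw [sup_comm, h1] at h3
    rw [mul_comm]; exact h3
  have hidx : P0.relIndex P * Nat.card ↥P0 = Nat.card ↥P := by
    have := relIndex_mul_card_inf P0 P
    rw [inf_eq_left.mpr hP0P] at this
    exact this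
  have hP0pos : 0 < Nat.card ↥P0 := Nat.card_pos
  have hpos : 0 < P0.relIndex P := by
    rcases Nat.eq_zero_or_pos (P0.relIndex P) with h0 | h0
    · rw [h0, zero_mul] at hidx
      have : 0 < Nat.card ↥P := Nat.card_pos
      omega
    · exact h0
  have hle2 : (P ⊓ Subgroup.centralizer ((⁅M, X⁆ : Subgroup G) : Set G)).relIndex P
      ≤ P0.relIndex P := Nat.le_of_dvd hpos hdvd
  have hle3 : P0.relIndex P ≤ Nat.card ↥R := by
    rw [← hidx] at hcardP
    exact Nat.le_of_mul_le_mul_right hcardP hP0pos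
  exact hle2.trans (hle3.trans hRcard)

end Cfsg.Agent.Lib.Helper6.RK3
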