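import Mathlib
import Cfsg.Agent.Lib.Lead.RVDefs
import Cfsg.Agent.Lib.Helper1.FrattiniP

/-!
# Farm RV (S3175), unit B1: from the S3174 conclusions to `Intrinsic ↥W`.
-/

set_option autoImplicit false

namespace Cfsg.Agent.Lib.Helper6.RVB1

open Cfsg.Agent.Lib.Lead.RVD

/-- UNIT B1 (from the S3174 conclusions to `Intrinsic ↥W`). -/
theorem intrinsic_of_conclusions {P : Type*} [Group P] [Finite P] (hcard : Nat.card P = 2 ^ 14)
    (W Z : Subgroup P) (hidx : W.index = 8)
    (hcomm : (commutator ↥W).map W.subtype = Z) (hfrat : (frattini ↥W).map W.subtype = Z)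
    (hcen : Nat.card ↥(Subgroup.center ↥W) = 8) (hZ : Nat.card ↥Z = 8)
    (hWZ : ∀ w ∈ W, ∀ z ∈ Z, w * z = z * w)
    (hd : ∀ U : Subgroup ↥W, U.index ≤ 16 → frattini ↥W ≤ U) :
    Intrinsic ↥W ∧ (Subgroup.center ↥W).map W.subtype = Z := by
  -- order of `W`
  have hWcard : Nat.card ↥W = 2 ^ 11 := by
    have h := W.card_mul_index
    rw [hidx, hcard] at h
    omega
  -- `frattini W ≤ center W`
  have hle : frattini ↥W ≤ Subgroup.center ↥W := by
    intro z hz
    rw [Subgroup.mem_center_iff]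
    intro w
    have hzZ : (z : P) ∈ Z := by
      rw [← hfrat]
      exact Subgroup.mem_map_of_mem _ hz
    apply Subtype.ext
    simp only [Subgroup.coe_mul]
    exact hWZ w w.2 z hzZ
  have hcardF : Nat.card ↥(frattini ↥W) = 8 := by
    have h1 : Nat.card ↥((frattini ↥W).map W.subtype) = Nat.card ↥(frattini ↥W) :=
      Subgroup.card_map_of_injective W.subtype_injective
    rw [hfrat, hZ] at h1
    exact h1.symm
  have hFC : frattini ↥W = Subgroup.center ↥W := by
    apply Subgroup.eq_of_le_of_card_ge hle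
    rw [hcardF, hcen]
  have hCF : commutator ↥W = frattini ↥W := by
    apply Subgroup.map_injective W.subtype_injective
    rw [hcomm, hfrat]
  have hP2 : IsPGroup 2 ↥W := IsPGroup.of_card hWcard
  have : Fact (Nat.Prime 2) := ⟨Nat.prime_two⟩
  refine ⟨⟨hWcard, hcen, ?_, ?_, ?_⟩, ?_⟩
  · intro a b
    rw [← hFC, ← hCF]
    have h := Subgroup.commutator_mem_commutator (Subgroup.mem_top a) (Subgroup.mem_top b)
    rw [commutatorElement_def] at h
    exact h
  · intro a
    rw [← hFC]
    exact Cfsg.Agent.Lib.Helper1.pow_prime_mem_frattini_of_isPGroup 2 hP2 a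
  · intro U hU
    rw [← hFC]
    exact hd U hU
  · rw [← hFC]
    exact hfrat

end Cfsg.Agent.Lib.Helper6.RVB1
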