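import Mathlib
import Cfsg.Agent.Lib.Lead.RVDefs

/-!
# Farm RV (S3175), units B2 + B3: `Intrinsic` transports along an isomorphism, and gives `Shape`.
-/

set_option autoImplicit false

namespace Cfsg.Agent.Lib.Helper6.RVB23

open Cfsg.Agent.Lib.Lead.RVD

/-- An isomorphism maps the centre into the centre. -/
theorem map_mem_center {V V' : Type*} [Group V] [Group V'] (e : V ≃* V') {x : V}
    (hx : x ∈ Subgroup.center V) : e x ∈ Subgroup.center V' := by
  rw [Subgroup.mem_center_iff] at hx ⊢
  intro g
  obtain ⟨g', rfl⟩ := e.surjective g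
  rw [← map_mul, ← map_mul, hx g']

/-- UNIT B2 (`Intrinsic` transports along an isomorphism). -/
theorem intrinsic_of_equiv {V V' : Type*} [Group V] [Group V'] (e : V ≃* V') (h : Intrinsic V) :
    Intrinsic V' := by
  refine ⟨?_, ?_, ?_, ?_, ?_⟩
  · rw [← Nat.card_congr e.toEquiv]
    exact h.cardV
  · rw [← h.cardC]
    symm
    refine Nat.card_congr ⟨fun z => ⟨e z.1, map_mem_center e z.2⟩,
      fun z => ⟨e.symm z.1, map_mem_center e.symm z.2⟩, ?_, ?_⟩
    · intro z
      apply Subtype.ext
      simp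
    · intro z
      apply Subtype.ext
      simp
  · intro a b
    obtain ⟨a', rfl⟩ := e.surjective a
    obtain ⟨b', rfl⟩ := e.surjective b
    have := map_mem_center e (h.comm a' b')
    simpa using this
  · intro a
    obtain ⟨a', rfl⟩ := e.surjective a
    have := map_mem_center e (h.sq a')
    simpa using this
  · intro U hU z hz
    have hidx : (U.comap e.toMonoidHom).index = U.index :=
      Subgroup.index_comap_of_surjective U e.surjective
    have h1 := h.hd (U.comap e.toMonoidHom) (by rw [hidx]; exact hU)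
    have h2 := h1 (map_mem_center e.symm hz)
    rw [Subgroup.mem_comap] at h2
    simpa using h2

/-- UNIT B3 (`Intrinsic ↥V` gives `Shape V (Z(V))`). -/
theorem shape_of_intrinsic {P : Type*} [Group P] (V : Subgroup P) (h : Intrinsic ↥V) :
    Shape V ((Subgroup.center ↥V).map V.subtype) := by
  refine ⟨?_, h.cardV, ?_, ?_, ?_, ?_, ?_, ?_⟩
  · exact Subgroup.map_subtype_le _
  · rw [Subgroup.card_map_of_injective V.subtype_injective]
    exact h.cardC
  · rintro c ⟨z, hz, rfl⟩ v hv
    have hz' := (Subgroup.mem_center_iff.mp hz) ⟨v, hv⟩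
    have := congrArg Subtype.val hz'
    simpa using this.symm
  · intro x hx hcomm
    refine ⟨⟨x, hx⟩, ?_, rfl⟩
    rw [SetLike.mem_coe, Subgroup.mem_center_iff]
    intro g
    apply Subtype.ext
    simp only [Subgroup.coe_mul]
    exact (hcomm g.1 g.2).symm
  · intro a ha b hb
    exact ⟨_, h.comm ⟨a, ha⟩ ⟨b, hb⟩, by simp⟩
  · intro a ha
    exact ⟨_, h.sq ⟨a, ha⟩, by simp⟩
  · intro U hUV hU
    rintro c ⟨z, hz, rfl⟩
    have h1 := h.hd (U.subgroupOf V) hU
    have h2 := h1 hz
    rw [Subgroup.mem_subgroupOf] at h2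
    exact h2

end Cfsg.Agent.Lib.Helper6.RVB23
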