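import Mathlib
import Cfsg.Prelude.Def_Transfer

/-!
# Farm RV (S3175), unit B5: from the abstract uniqueness to `IsWeaklyClosed`.
-/

set_option autoImplicit false

namespace Cfsg.Agent.Lib.Helper6.RVB5

/-- UNIT B5 (from the abstract uniqueness to `IsWeaklyClosed`). -/
theorem wc_of_unique {G : Type*} [Group G] (P : Subgroup G) (W : Subgroup ↥P)
    (h : ∀ X : Subgroup ↥P, Nonempty (↥W ≃* ↥X) → X = W) :
    Cfsg.IsWeaklyClosed (W.map P.subtype) P := by
  refine ⟨Subgroup.map_subtype_le _, ?_⟩
  intro g hle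
  have e1 : ↥W ≃* ↥(W.map P.subtype) := Subgroup.equivMapOfInjective W P.subtype P.subtype_injective
  have e2 : ↥(W.map P.subtype) ≃* ↥((W.map P.subtype).map (MulAut.conj g).toMonoidHom) :=
    Subgroup.equivMapOfInjective _ _ (MulAut.conj g).injective
  have e3 : ↥(((W.map P.subtype).map (MulAut.conj g).toMonoidHom).subgroupOf P) ≃*
      ↥((W.map P.subtype).map (MulAut.conj g).toMonoidHom) := Subgroup.subgroupOfEquivOfLe hle
  have hX := h _ ⟨(e1.trans e2).trans e3.symm⟩
  have h2 : (((W.map P.subtype).map (MulAut.conj g).toMonoidHom).subgroupOf P).map P.subtype =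
      (W.map P.subtype).map (MulAut.conj g).toMonoidHom := by
    rw [Subgroup.map_subgroupOf_eq_of_le hle]
  rw [← h2, hX]

end Cfsg.Agent.Lib.Helper6.RVB5
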