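import Mathlib
import Cfsg.Agent.Lib.Helper8.GlauE2
import Cfsg.Agent.Lib.Helper8.RealOrb3
import Cfsg.Agent.Lib.Helper6.Ramified
import Cfsg.Agent.Lib.Helper6.CliffordCorr
import Cfsg.Agent.Lib.Helper6.QuotChar
import Cfsg.Agent.Lib.Helper3.CharQuot
import Cfsg.Agent.Lib.Helper6.Linear
import Cfsg.Agent.Lib.Helper6.Orthogonality

/-! Real characters of `p'`-degree: kernels, real classes of quotients by odd normal subgroups. -/
set_option autoImplicit false

namespace Cfsg.Agent.Lib.Helper6.RealDeg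

open Cfsg.Agent.Lib.Helper6 Cfsg.Agent.Lib.Helper8.GlauP
open scoped ComplexConjugate

/-- a character of `p'`-degree of a `p`-group has a linear constituent -/
theorem exists_linear_constituent {P : Type*} [Group P] [Fintype P] {p : ℕ} [hp : Fact p.Prime]
    (hP : IsPGroup p P) {ψ : P → ℂ}
    (hψ : Cfsg.IsCharacter P ψ) (hdeg : ¬ p ∣ Cfsg.charDegree ψ) :
    ∃ μ : Cfsg.IrrCharacter P, (μ : P → ℂ) 1 = 1 ∧ Cfsg.classInner ψ (μ : P → ℂ) ≠ 0 := by
  classical
  haveI : Fintype (Cfsg.IrrCharacter P) := Fintype.ofFinite _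
  obtain ⟨m, hm, hmi⟩ := IsCharacter.exists_mult hψ
  by_contra hcon
  push Not at hcon
  apply hdeg
  have h1 : (Cfsg.charDegree ψ : ℂ)
      = ∑ θ : Cfsg.IrrCharacter P, (m θ : ℂ) * (Cfsg.charDegree (θ : P → ℂ) : ℂ) := by
    rw [← IsCharacter.apply_one_eq_charDegree hψ, apply_eq_sum_mult hm 1]
    refine Finset.sum_congr rfl fun θ _ => ?_
    rw [IsCharacter.apply_one_eq_charDegree (IsIrrCharacter.isCharacter θ.2)]
  have h2 : Cfsg.charDegree ψ
      = ∑ θ : Cfsg.IrrCharacter P, m θ * Cfsg.charDegree (θ : P → ℂ) := by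
    exact_mod_cast h1
  rw [h2]
  apply Finset.dvd_sum
  intro θ _
  by_cases hmθ : m θ = 0
  · rw [hmθ, zero_mul]; exact dvd_zero _
  · apply Dvd.dvd.mul_left
    have hdvd : Cfsg.charDegree (θ : P → ℂ) ∣ Nat.card P :=
      IsIrrCharacter.charDegree_dvd_card θ.2
    obtain ⟨n, hn⟩ := IsPGroup.iff_card.1 hP
    rw [hn] at hdvd
    obtain ⟨i, _, hi⟩ := (Nat.dvd_prime_pow hp.out).mp hdvd
    rcases Nat.eq_zero_or_pos i with h0 | h0
    · exfalso
      apply hmθ
      have h3 := hcon θ (by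
        rw [IsCharacter.apply_one_eq_charDegree (IsIrrCharacter.isCharacter θ.2), hi, h0,
          pow_zero, Nat.cast_one])
      rw [hmi θ] at h3
      exact_mod_cast h3
    · rw [hi]; exact dvd_pow_self p h0.ne'

/-- a linear character is trivial on the commutator subgroup -/
theorem apply_eq_one_of_mem_commutator {P : Type*} [Group P] {μ : P → ℂ}
    (hμ : Cfsg.IsCharacter P μ) (h1 : μ 1 = 1) {x : P} (hx : x ∈ commutator P) : μ x = 1 := by
  have h := Abelianization.commutator_subset_ker (linearCharHom hμ h1) hx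
  rw [MonoidHom.mem_ker] at h
  have h2 := linearCharHom_apply hμ h1 x
  rw [h] at h2
  rw [← h2]
  rfl

/-- if the trivial character of a normal subgroup is a constituent of the restriction of an
irreducible character, the subgroup lies in the kernel -/
theorem apply_eq_of_trivial_constituent {G : Type*} [Group G] [Fintype G] (N : Subgroup G)
    [Fintype N] (hN : N.Normal) {χ : G → ℂ} (hχ : Cfsg.IsIrrCharacter G χ)
    (hcon : Cfsg.classInner (fun n : N => χ n) (fun _ : N => (1 : ℂ)) ≠ 0) :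
    ∀ x ∈ N, χ x = χ 1 := by
  intro x hx
  have h := restrict_eq_smul_of_invariant N hN hχ (isIrrCharacter_one (G := N))
    (fun g => rfl) hcon
  have hx' := congrFun h ⟨x, hx⟩
  have h1' := congrFun h ⟨1, N.one_mem⟩
  simp only [Pi.smul_apply, smul_eq_mul, mul_one] at hx' h1'
  rw [hx', h1']

/-- a normal subgroup inside the derived subgroup of a Sylow `p`-subgroup lies in the kernel of
every irreducible character of `p'`-degree -/
theorem apply_eq_of_le_commutator_sylow {G : Type*} [Group G] [Fintype G] {p : ℕ}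
    [hp : Fact p.Prime] (P : Sylow p G) (M : Subgroup G) (hM : M.Normal)
    (hMP : M ≤ ⁅(P : Subgroup G), (P : Subgroup G)⁆) {χ : G → ℂ}
    (hχ : Cfsg.IsIrrCharacter G χ) (hdeg : ¬ p ∣ Cfsg.charDegree χ) :
    ∀ x ∈ M, χ x = χ 1 := by
  classical
  haveI : Fintype (P : Subgroup G) := Fintype.ofFinite _
  haveI : Fintype M := Fintype.ofFinite _
  have hPP : ⁅(P : Subgroup G), (P : Subgroup G)⁆ ≤ (P : Subgroup G) := by
    rw [← Subgroup.map_subtype_commutator]
    exact Subgroup.map_subtype_le _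
  have hMP' : M ≤ (P : Subgroup G) := hMP.trans hPP
  have hψ : Cfsg.IsCharacter (P : Subgroup G) (fun y : (P : Subgroup G) => χ y) :=
    IsCharacter.restrict _ (IsIrrCharacter.isCharacter hχ)
  have hdeg' : ¬ p ∣ Cfsg.charDegree (fun y : (P : Subgroup G) => χ y) := by
    have : Cfsg.charDegree (fun y : (P : Subgroup G) => χ y) = Cfsg.charDegree χ := by
      unfold Cfsg.charDegree
      simp
    rw [this]; exact hdeg
  obtain ⟨μ, hμ1, hμc⟩ := exists_linear_constituent (P := (P : Subgroup G)) P.2 hψ hdeg'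
  have hμM : ∀ (x : G) (hx : x ∈ M), (μ : ↥(P : Subgroup G) → ℂ) ⟨x, hMP' hx⟩ = 1 := by
    intro x hx
    apply apply_eq_one_of_mem_commutator (IsIrrCharacter.isCharacter μ.2) hμ1
    have h2 := hMP hx
    rw [← Subgroup.map_subtype_commutator, Subgroup.mem_map] at h2
    obtain ⟨y, hy, hyx⟩ := h2
    have : y = ⟨x, hMP' hx⟩ := Subtype.ext hyx
    rw [← this]; exact hy
  obtain ⟨k, hk⟩ := IsCharacter.classInner_comp_ge (Subgroup.inclusion hMP') hψ μ.2 hμc
    (isIrrCharacter_one (G := M))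
  have e1 : (fun x : M => (μ : ↥(P : Subgroup G) → ℂ) (Subgroup.inclusion hMP' x))
      = fun _ : M => (1 : ℂ) := by
    funext x
    exact hμM x.1 x.2
  rw [e1, classInner_isIrrCharacter (isIrrCharacter_one (G := M)) (isIrrCharacter_one (G := M)),
    if_pos rfl] at hk
  apply apply_eq_of_trivial_constituent M hM hχ
  have e2 : (fun n : M => χ n)
      = fun x : M => (fun y : (P : Subgroup G) => χ y) (Subgroup.inclusion hMP' x) := by
    funext x
    rfl
  rw [e2, hk]
  have : ((1 + k : ℕ) : ℂ) ≠ 0 := by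
    exact_mod_cast Nat.succ_ne_zero k ∘ (by intro h; omega)
  exact_mod_cast this

/-- if all real irreducible characters contain `N` in their kernel, then `G` and `G ⧸ N` have
the same number of real classes -/
theorem card_realCls_quotient {G : Type*} [Group G] [Finite G] (N : Subgroup G) [hN : N.Normal]
    (hker : ∀ χ : Cfsg.IrrCharacter G, RealFun (χ : G → ℂ) →
      ∀ x ∈ N, (χ : G → ℂ) x = (χ : G → ℂ) 1) :
    Nat.card {L : ConjClasses G // RealCls L}
      = Nat.card {L : ConjClasses (G ⧸ N) // RealCls L} := by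
  classical
  haveI : Fintype G := Fintype.ofFinite G
  haveI : Fintype (G ⧸ N) := Fintype.ofFinite _
  rw [card_realCls_eq_card_realIrr G, card_realCls_eq_card_realIrr (G ⧸ N)]
  symm
  let Φ : {β : Cfsg.IrrCharacter (G ⧸ N) // RealFun (β : G ⧸ N → ℂ)} →
      {χ : Cfsg.IrrCharacter G // RealFun (χ : G → ℂ)} :=
    fun β => ⟨⟨fun g => (β.1 : G ⧸ N → ℂ) (QuotientGroup.mk g),
      IsIrrCharacter.comp_mk N β.1.2⟩, fun g => β.2 _⟩
  apply Nat.card_eq_of_bijective Φ
  constructor
  · intro β β' h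
    apply Subtype.ext
    apply Subtype.ext
    funext q
    obtain ⟨g, rfl⟩ := QuotientGroup.mk_surjective q
    have := congrArg (fun z => (z.1 : G → ℂ) g) h
    exact this
  · intro χ
    obtain ⟨β, hβ, hχβ⟩ :=
      Cfsg.Agent.Lib.Helper3.CharQuot.exists_irr_quot N χ.1.2 (hker χ.1 χ.2)
    refine ⟨⟨⟨β, hβ⟩, ?_⟩, ?_⟩
    · intro q
      obtain ⟨g, rfl⟩ := QuotientGroup.mk_surjective q
      have h3 : ((fun g => β (QuotientGroup.mk g)) g).im = 0 := by
        rw [← hχβ]; exact χ.2 g
      exact h3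
    · apply Subtype.ext
      apply Subtype.ext
      exact hχβ.symm

theorem end_pow_apply {X : Type*} (f : Function.End X) (n : ℕ) (y : X) :
    (f ^ n) y = f^[n] y := by
  induction n generalizing y with
  | zero => rfl
  | succ n ih =>
    have h1 : (f ^ (n + 1)) y = (f ^ n) (f y) := by
      rw [pow_succ]; rfl
    have h2 : f^[n + 1] y = f^[n] (f y) := Function.iterate_succ_apply f n y
    exact h1.trans ((ih (f y)).trans h2.symm)

/-- a real coset of an odd normal subgroup contains a real element -/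
theorem exists_real_lift {G : Type*} [Group G] [Finite G] (N : Subgroup G) [hN : N.Normal]
    (hodd : Odd (Nat.card N)) (x : G)
    (hx : IsConj (QuotientGroup.mk x : G ⧸ N) (QuotientGroup.mk x : G ⧸ N)⁻¹) :
    ∃ y : G, (QuotientGroup.mk y : G ⧸ N) = QuotientGroup.mk x ∧ IsConj y y⁻¹ := by
  classical
  haveI : Fintype G := Fintype.ofFinite G
  obtain ⟨c, hc⟩ := isConj_iff.mp hx
  obtain ⟨g0, rfl⟩ := QuotientGroup.mk_surjective c
  have hord : orderOf g0 ≠ 0 := (orderOf_pos g0).ne'
  obtain ⟨a, b, hb, hab⟩ := Nat.exists_eq_two_pow_mul_odd hord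
  obtain ⟨j, hj⟩ := hb
  set g := g0 ^ b with hg
  have hg2 : g ^ (2 ^ a) = 1 := by
    rw [hg, ← pow_mul, mul_comm, ← hab]; exact pow_orderOf_eq_one g0
  have hinv : (QuotientGroup.mk g : G ⧸ N) * QuotientGroup.mk x * (QuotientGroup.mk g : G ⧸ N)⁻¹
      = (QuotientGroup.mk x : G ⧸ N)⁻¹ := by
    have := Cfsg.Agent.Lib.Helper8.RealOrb.conj_pow_of_inverts hc j
    rw [hg, hj, QuotientGroup.mk_pow]; exact this
  let X : Type _ := {y : G // (QuotientGroup.mk y : G ⧸ N) = QuotientGroup.mk x}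
  haveI : Fintype X := Fintype.ofFinite _
  have hcardX : Nat.card X = Nat.card N := by
    apply Nat.card_congr
    exact
      { toFun := fun y => ⟨x⁻¹ * y.1, QuotientGroup.eq.mp y.2.symm⟩
        invFun := fun n => ⟨x * n.1, QuotientGroup.mk_mul_of_mem x n.2⟩
        left_inv := fun y => Subtype.ext (by simp)
        right_inv := fun n => Subtype.ext (by simp) }
  let f : Function.End X := fun y => ⟨g * y.1⁻¹ * g⁻¹, by
    rw [QuotientGroup.mk_mul, QuotientGroup.mk_mul, QuotientGroup.mk_inv, QuotientGroup.mk_inv,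
      y.2]
    have h1 : (QuotientGroup.mk g : G ⧸ N) * (QuotientGroup.mk x : G ⧸ N)⁻¹
        * (QuotientGroup.mk g : G ⧸ N)⁻¹
        = ((QuotientGroup.mk g : G ⧸ N) * QuotientGroup.mk x
          * (QuotientGroup.mk g : G ⧸ N)⁻¹)⁻¹ := by group
    rw [h1, hinv, inv_inv]⟩
  have hiter : ∀ (n : ℕ) (y : X), ((f^[2 * n] y : X) : G) = g ^ (2 * n) * y.1 * (g ^ (2 * n))⁻¹ := by
    intro n
    induction n with
    | zero =>
      intro y
      rw [Nat.mul_zero, Function.iterate_zero, pow_zero]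
      simp
    | succ n ih =>
      intro y
      have e : 2 * (n + 1) = (2 * n + 1) + 1 := by ring
      rw [e, Function.iterate_succ_apply', Function.iterate_succ_apply']
      show g * (g * ((f^[2 * n] y : X) : G)⁻¹ * g⁻¹)⁻¹ * g⁻¹ = _
      rw [ih y, pow_succ, pow_succ]
      group
  have hf : f ^ 2 ^ (a + 1) = 1 := by
    funext y
    rw [end_pow_apply]
    apply Subtype.ext
    show ((f^[2 ^ (a + 1)] y : X) : G) = (y : G)
    have e : 2 ^ (a + 1) = 2 * 2 ^ a := by ring
    rw [e, hiter, mul_comm 2 (2 ^ a), pow_mul, hg2]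
    simp
  have hmod := Equiv.Perm.card_fixedPoints_modEq (f := f) (p := 2) (n := a + 1) hf
  rw [Fintype.card_eq_nat_card, Fintype.card_eq_nat_card, hcardX] at hmod
  obtain ⟨y, hy⟩ : ∃ y : X, f y = y := by
    by_contra hno
    push Not at hno
    have hempty : IsEmpty (Function.fixedPoints f) := ⟨fun y => hno y.1 y.2⟩
    have h0 : Nat.card (Function.fixedPoints f) = 0 := Nat.card_of_isEmpty
    rw [h0] at hmod
    have h2 : Nat.card N % 2 = 0 % 2 := hmod
    rcases hodd with ⟨r, hr⟩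
    omega
  refine ⟨y.1, y.2, ?_⟩
  rw [isConj_iff]
  refine ⟨g, ?_⟩
  have h1 : g * y.1⁻¹ * g⁻¹ = y.1 := congrArg Subtype.val hy
  calc g * y.1 * g⁻¹ = (g * y.1⁻¹ * g⁻¹)⁻¹ := by group
    _ = y.1⁻¹ := by rw [h1]

/-- if all real irreducible characters contain the odd normal subgroup `N` in their kernel, no
nontrivial element of `N` is real -/
theorem eq_one_of_real_of_mem {G : Type*} [Group G] [Finite G] (N : Subgroup G) [hN : N.Normal]
    (hker : ∀ χ : Cfsg.IrrCharacter G, RealFun (χ : G → ℂ) →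
      ∀ x ∈ N, (χ : G → ℂ) x = (χ : G → ℂ) 1)
    (hodd : Odd (Nat.card N)) (m : G) (hm : m ∈ N) (hreal : IsConj m m⁻¹) : m = 1 := by
  classical
  let Ψ : {L : ConjClasses G // RealCls L} → {L : ConjClasses (G ⧸ N) // RealCls L} :=
    fun L => ⟨ConjClasses.map (QuotientGroup.mk' N) L.1, by
      obtain ⟨L, hL⟩ := L
      obtain ⟨h, rfl⟩ := ConjClasses.mk_surjective L
      show RealCls (ConjClasses.mk (QuotientGroup.mk' N h))
      rw [realCls_mk_iff] at hL ⊢
      have := MonoidHom.map_isConj (QuotientGroup.mk' N) hL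
      rw [map_inv] at this
      exact this⟩
  have hsurj : Function.Surjective Ψ := by
    rintro ⟨L, hL⟩
    obtain ⟨q, rfl⟩ := ConjClasses.mk_surjective L
    obtain ⟨x, rfl⟩ := QuotientGroup.mk_surjective q
    rw [realCls_mk_iff] at hL
    obtain ⟨y, hy, hyr⟩ := exists_real_lift N hodd x hL
    refine ⟨⟨ConjClasses.mk y, (realCls_mk_iff y).mpr hyr⟩, ?_⟩
    apply Subtype.ext
    show ConjClasses.mk (QuotientGroup.mk' N y) = ConjClasses.mk (QuotientGroup.mk x)
    rw [← hy]
    rfl
  have hbij := hsurj.bijective_of_nat_card_le (le_of_eq (card_realCls_quotient N hker))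
  have h1 : IsConj (1 : G) (1 : G)⁻¹ := by rw [inv_one]
  have heq : Ψ ⟨ConjClasses.mk m, (realCls_mk_iff m).mpr hreal⟩
      = Ψ ⟨ConjClasses.mk 1, (realCls_mk_iff 1).mpr h1⟩ := by
    apply Subtype.ext
    show ConjClasses.mk (QuotientGroup.mk' N m) = ConjClasses.mk (QuotientGroup.mk' N 1)
    rw [map_one]
    have : QuotientGroup.mk' N m = 1 := (QuotientGroup.eq_one_iff m).mpr hm
    rw [this]
  have h2 := hbij.1 heq
  have h3 : ConjClasses.mk m = ConjClasses.mk (1 : G) := congrArg Subtype.val h2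
  rw [ConjClasses.mk_eq_mk_iff_isConj, isConj_one_left] at h3
  exact h3

/-- if no nontrivial element of the normal subgroup `N` is real, every `2`-element
centralizes `N` -/
theorem closure_two_le_centralizer {G : Type*} [Group G] (N : Subgroup G) [hN : N.Normal]
    (hreal : ∀ m ∈ N, IsConj m m⁻¹ → m = 1) :
    Subgroup.closure {g : G | ∃ k : ℕ, orderOf g = 2 ^ k}
      ≤ Subgroup.centralizer (N : Set G) := by
  have key : ∀ (k : ℕ) (t : G), t ^ (2 ^ k) = 1 → t ∈ Subgroup.centralizer (N : Set G) := by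
    intro k
    induction k with
    | zero =>
      intro t ht
      rw [pow_zero, pow_one] at ht
      rw [ht]; exact Subgroup.one_mem _
    | succ k ih =>
      intro t ht
      have h2 : t ^ 2 ∈ Subgroup.centralizer (N : Set G) := by
        apply ih
        rw [← pow_mul, ← pow_succ']; exact ht
      rw [Subgroup.mem_centralizer_iff]
      intro n hn
      by_contra hne
      have hm : n⁻¹ * (t * n * t⁻¹) ∈ N := N.mul_mem (N.inv_mem hn) (hN.conj_mem n hn t)
      have h3 : n * t ^ 2 = t ^ 2 * n := (Subgroup.mem_centralizer_iff.mp h2) n hn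
      have h4 : t * t * n = n * t * t := by
        rw [pow_two] at h3
        rw [mul_assoc n t t, h3]
      have e : t * n * t⁻¹ * t⁻¹ = t⁻¹ * n := by
        calc t * n * t⁻¹ * t⁻¹ = t⁻¹ * (t * t * n) * t⁻¹ * t⁻¹ := by group
          _ = t⁻¹ * (n * t * t) * t⁻¹ * t⁻¹ := by rw [h4]
          _ = t⁻¹ * n := by group
      have hinv : t * (n⁻¹ * (t * n * t⁻¹)) * t⁻¹ = (n⁻¹ * (t * n * t⁻¹))⁻¹ := by
        calc t * (n⁻¹ * (t * n * t⁻¹)) * t⁻¹ = t * n⁻¹ * (t * n * t⁻¹ * t⁻¹) := by group
          _ = t * n⁻¹ * (t⁻¹ * n) := by rw [e]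
          _ = (n⁻¹ * (t * n * t⁻¹))⁻¹ := by group
      have h5 := hreal _ hm (isConj_iff.mpr ⟨t, hinv⟩)
      apply hne
      have h6 : t * n * t⁻¹ = n := by
        have := congrArg (fun z => n * z) h5
        simpa [mul_assoc] using this
      calc n * t = (t * n * t⁻¹) * t := by rw [h6]
        _ = t * n := by group
  rw [Subgroup.closure_le]
  rintro t ⟨k, hk⟩
  apply key k
  rw [← hk]; exact pow_orderOf_eq_one t

end Cfsg.Agent.Lib.Helper6.RealDeg
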