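import Mathlib
import Cfsg.Agent.Lib.Helper6.RealDeg1
import Cfsg.Agent.Lib.Helper8.RealOrb4
import Cfsg.Agent.Lib.Helper6.CliffordDeg
import Cfsg.Agent.Lib.Helper6.BlkCover
import Cfsg.Agent.Lib.Helper3.ItoConv
import Cfsg.Agent.Lib.Helper3.CD1
import Cfsg.Agent.S0187

/-! Real characters of `p'`-degree: tools for the normal Sylow theorem. -/
set_option autoImplicit false

namespace Cfsg.Agent.Lib.Helper6.RealDeg

open Cfsg.Agent.Lib.Helper6 Cfsg.Agent.Lib.Helper8.GlauP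
open scoped ComplexConjugate

/-- the subgroup generated by the `q`-elements -/
abbrev powRes (q : ℕ) (G : Type*) [Group G] : Subgroup G :=
  Subgroup.closure {g : G | ∃ k : ℕ, orderOf g = q ^ k}

theorem powRes_normal (q : ℕ) (G : Type*) [Group G] : (powRes q G).Normal := by
  constructor
  intro n hn g
  have h : powRes q G ≤ (powRes q G).comap (MulAut.conj g).toMonoidHom := by
    refine (Subgroup.closure_le _).mpr ?_
    rintro x ⟨k, hk⟩
    rw [SetLike.mem_coe, Subgroup.mem_comap]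
    apply Subgroup.subset_closure
    refine ⟨k, ?_⟩
    rw [← hk]
    exact (MulAut.conj g).orderOf_eq x
  have h2 := h hn
  rw [Subgroup.mem_comap] at h2
  simpa using h2

theorem sylow_le_powRes {G : Type*} [Group G] (q : ℕ) [Fact q.Prime] (S : Sylow q G) :
    (S : Subgroup G) ≤ powRes q G := by
  intro x hx
  apply Subgroup.subset_closure
  obtain ⟨k, hk⟩ := (IsPGroup.iff_orderOf.mp S.2) ⟨x, hx⟩
  refine ⟨k, ?_⟩
  rw [← hk]
  exact Subgroup.orderOf_coe (⟨x, hx⟩ : (S : Subgroup G))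

theorem not_dvd_index_of_powRes_le {G : Type*} [Group G] [Finite G] (q : ℕ) [Fact q.Prime]
    {U : Subgroup G} (h : powRes q G ≤ U) : ¬ q ∣ U.index := by
  obtain ⟨S⟩ : Nonempty (Sylow q G) := inferInstance
  have h1 : U.index ∣ (S : Subgroup G).index :=
    Subgroup.index_dvd_of_le ((sylow_le_powRes q S).trans h)
  exact fun h2 => S.not_dvd_index (dvd_trans h2 h1)

theorem powRes_subgroupOf {G : Type*} [Group G] (q : ℕ) {U : Subgroup G}
    (h : powRes q G ≤ U) : powRes q U = (powRes q G).subgroupOf U := by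
  apply le_antisymm
  · refine (Subgroup.closure_le _).mpr ?_
    rintro x ⟨k, hk⟩
    rw [SetLike.mem_coe, Subgroup.mem_subgroupOf]
    apply Subgroup.subset_closure
    exact ⟨k, by rw [Subgroup.orderOf_coe]; exact hk⟩
  · intro x hx
    rw [Subgroup.mem_subgroupOf] at hx
    have himg : (U.subtype '' {g : U | ∃ k : ℕ, orderOf g = q ^ k})
        = {g : G | ∃ k : ℕ, orderOf g = q ^ k} := by
      ext g
      constructor
      · rintro ⟨y, ⟨k, hk⟩, rfl⟩
        exact ⟨k, by rw [Subgroup.coe_subtype, Subgroup.orderOf_coe]; exact hk⟩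
      · rintro ⟨k, hk⟩
        have hgU : g ∈ U := h (Subgroup.subset_closure ⟨k, hk⟩)
        exact ⟨⟨g, hgU⟩, ⟨k, by rw [← hk]; exact (Subgroup.orderOf_coe ⟨g, hgU⟩).symm⟩, rfl⟩
    have h2 : (powRes q U).map U.subtype = powRes q G := by
      show (Subgroup.closure _).map _ = Subgroup.closure _
      rw [MonoidHom.map_closure, himg]
    rw [← h2, Subgroup.mem_map] at hx
    obtain ⟨y, hy, hyx⟩ := hx
    have : y = x := Subtype.ext hyx
    rw [← this]; exact hy

/-- the hypothesis on real characters passes to normal subgroups of odd index -/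
theorem real_degree_of_odd_index {G : Type*} [Group G] [Finite G] {p : ℕ} (U : Subgroup G)
    [hU : U.Normal] (hodd : Odd U.index)
    (hreal : ∀ χ : Cfsg.IrrCharacter G, RealFun (χ : G → ℂ) →
      ¬ p ∣ Cfsg.charDegree (χ : G → ℂ))
    (θ : Cfsg.IrrCharacter U) (hθ : RealFun (θ : U → ℂ)) :
    ¬ p ∣ Cfsg.charDegree (θ : U → ℂ) := by
  classical
  haveI : Fintype G := Fintype.ofFinite G
  haveI : Fintype U := Fintype.ofFinite U
  have h1 : Cfsg.Agent.Lib.Helper8.FS.fsInd (θ : U → ℂ) ≠ 0 := by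
    rcases Cfsg.Agent.Lib.Helper8.FS.fsInd_irr_of_real θ
      (fun g => Complex.conj_eq_iff_im.mpr (hθ g)) with h | h <;> rw [h] <;> norm_num
  obtain ⟨χ, hχ1, hχ2⟩ := Cfsg.Agent.Lib.Helper8.RealOrb.exists_real_over U hodd θ h1
  have hχr : RealFun (χ : G → ℂ) := fun g =>
    Complex.conj_eq_iff_im.mp (Cfsg.Agent.Lib.Helper8.FS.real_of_fsInd_ne_zero χ hχ1 g)
  intro hdvd
  exact hreal χ hχr (dvd_trans hdvd (charDegree_dvd_of_constituent U hU χ θ hχ2))

/-- a minimal normal subgroup inside a nontrivial normal subgroup -/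
theorem exists_min_normal {G : Type*} [Group G] [Finite G] (L : Subgroup G) (hLn : L.Normal)
    (hL : L ≠ ⊥) :
    ∃ V : Subgroup G, V.Normal ∧ V ≠ ⊥ ∧ V ≤ L ∧
      ∀ W : Subgroup G, W.Normal → W ≤ V → W = ⊥ ∨ W = V := by
  classical
  let S : Set (Subgroup G) := {W | W.Normal ∧ W ≠ ⊥ ∧ W ≤ L}
  have hne : S.Nonempty := ⟨L, hLn, hL, le_rfl⟩
  obtain ⟨V, hVS, hmin⟩ :=
    WellFounded.has_min (measure (fun W : Subgroup G => Nat.card W)).wf S hne
  refine ⟨V, hVS.1, hVS.2.1, hVS.2.2, ?_⟩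
  intro W hWn hWV
  by_cases hW : W = ⊥
  · exact Or.inl hW
  · right
    have h1 : ¬ Nat.card W < Nat.card V := hmin W ⟨hWn, hW, hWV.trans hVS.2.2⟩
    exact Subgroup.eq_of_le_of_card_ge hWV (not_lt.mp h1)

/-- a solvable minimal normal subgroup is abelian -/
theorem comm_of_min_normal {G : Type*} [Group G] [Finite G] (V : Subgroup G) (hVn : V.Normal)
    (hV1 : V ≠ ⊥) (hmin : ∀ W : Subgroup G, W.Normal → W ≤ V → W = ⊥ ∨ W = V)
    (hsolv : Group.IsSolvable V) : ∀ a ∈ V, ∀ b ∈ V, a * b = b * a := by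
  haveI := hVn
  have hW : (⁅V, V⁆ : Subgroup G).Normal := Subgroup.commutator_normal V V
  rcases hmin _ hW (Subgroup.commutator_le_left V V) with h | h
  · rw [Subgroup.commutator_eq_bot_iff_le_centralizer] at h
    intro a ha b hb
    exact ((Subgroup.mem_centralizer_iff.mp (h ha)) b hb).symm
  · exfalso
    haveI : Nontrivial V := (Subgroup.nontrivial_iff_ne_bot V).mpr hV1
    have h1 := Group.IsSolvable.commutator_lt_top_of_nontrivial V
    have h2 : (commutator V).map V.subtype = (⊤ : Subgroup V).map V.subtype := by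
      rw [Subgroup.map_subtype_commutator, h, ← MonoidHom.range_eq_map, Subgroup.range_subtype]
    have h3 := Subgroup.map_injective V.subtype_injective h2
    exact h1.ne h3

/-- constituents on `M` of an irreducible character of `p'`-degree are invariant in `P M` -/
theorem sup_le_inertia {G : Type*} [Group G] [Fintype G] {p : ℕ} [hp : Fact p.Prime]
    (P : Sylow p G) (M : Subgroup G) [Fintype M] (hMn : M.Normal)
    (hK : ((P : Subgroup G) ⊔ M).Normal) (χ : Cfsg.IrrCharacter G)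
    (hχ : ¬ p ∣ Cfsg.charDegree (χ : G → ℂ)) (θ : Cfsg.IrrCharacter M)
    (hc : Cfsg.classInner (fun n : M => (χ : G → ℂ) n) (θ : M → ℂ) ≠ 0) :
    (P : Subgroup G) ⊔ M ≤ inertia M hMn (θ : M → ℂ) := by
  classical
  haveI := hK
  haveI := hMn
  have hMT : M ≤ inertia M hMn (θ : M → ℂ) :=
    le_inertia M hMn (IsIrrCharacter.isClassFunction θ.2)
  have h1 : (inertia M hMn (θ : M → ℂ)).index ∣ Cfsg.charDegree (χ : G → ℂ) :=
    Cfsg.Agent.Lib.Helper3.ItoConv.inertia_index_dvd_charDegree M hMn χ θ hc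
  have h1' : ¬ p ∣ (inertia M hMn (θ : M → ℂ)).index := fun h => hχ (dvd_trans h h1)
  have h2 : (inertia M hMn (θ : M → ℂ)).relIndex ((P : Subgroup G) ⊔ M)
      ∣ (inertia M hMn (θ : M → ℂ)).index :=
    Cfsg.Agent.Lib.Helper3.ItoConv.relIndex_dvd_index_of_normal_right _ _
  have h3 : (inertia M hMn (θ : M → ℂ)).relIndex ((P : Subgroup G) ⊔ M)
      ∣ M.relIndex ((P : Subgroup G) ⊔ M) := Subgroup.relIndex_dvd_of_le_left _ hMT
  have h4 : M.relIndex ((P : Subgroup G) ⊔ M) = M.relIndex (P : Subgroup G) :=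
    Subgroup.relIndex_sup_right _ M
  have h5 : M.relIndex (P : Subgroup G) ∣ Nat.card (P : Subgroup G) :=
    Subgroup.relIndex_dvd_card _ _
  obtain ⟨k, hk⟩ := IsPGroup.iff_card.mp P.2
  rw [h4] at h3
  have h6 : (inertia M hMn (θ : M → ℂ)).relIndex ((P : Subgroup G) ⊔ M) ∣ p ^ k :=
    hk ▸ dvd_trans h3 h5
  obtain ⟨j, -, hj⟩ := (Nat.dvd_prime_pow hp.out).mp h6
  rcases Nat.eq_zero_or_pos j with rfl | hjpos
  · rw [pow_zero] at hj
    exact Subgroup.relIndex_eq_one.mp hj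
  · exfalso
    apply h1'
    refine dvd_trans ?_ h2
    rw [hj]
    exact dvd_pow_self p hjpos.ne'

/-- if `V` is an abelian normal subgroup with `[V, P V] = V` and `P V` normal, every irreducible
character of `p'`-degree contains `V` in its kernel -/
theorem apply_eq_of_commutator_eq {G : Type*} [Group G] [Fintype G] {p : ℕ} [hp : Fact p.Prime]
    (P : Sylow p G) (V : Subgroup G) (hVn : V.Normal)
    (hN : ((P : Subgroup G) ⊔ V).Normal) (hcomm : ∀ a ∈ V, ∀ b ∈ V, a * b = b * a)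
    (hW : ⁅V, (P : Subgroup G) ⊔ V⁆ = V) (χ : Cfsg.IrrCharacter G)
    (hχ : ¬ p ∣ Cfsg.charDegree (χ : G → ℂ)) :
    ∀ x ∈ V, (χ : G → ℂ) x = (χ : G → ℂ) 1 := by
  classical
  haveI : Fintype V := Fintype.ofFinite V
  obtain ⟨θ, hθ⟩ := exists_constituent_restrict V χ.2
  have hinert := sup_le_inertia P V hVn hN χ hχ θ hθ
  have hθ1 : (θ : V → ℂ) 1 = 1 :=
    (Cfsg.Agent.S0187.result (G := V)).mp (fun a b => Subtype.ext (hcomm a a.2 b b.2)) θ
  have hθc := IsIrrCharacter.isCharacter θ.2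
  have hinv : ∀ (n : G) (_ : n ∈ (P : Subgroup G) ⊔ V) (a : V),
      (θ : V → ℂ) ⟨n * a * n⁻¹, hVn.conj_mem a a.2 n⟩ = (θ : V → ℂ) a := by
    intro n hn a
    have h2 : conjFun V hVn (θ : V → ℂ) n = (θ : V → ℂ) := hinert hn
    have h3 := congrFun h2 a
    rw [conjFun_apply] at h3
    exact h3
  have hle : ⁅V, (P : Subgroup G) ⊔ V⁆ ≤ (linearCharHom hθc hθ1).ker.map V.subtype := by
    rw [Subgroup.commutator_le]
    intro a ha b hb
    have hmem : b * a⁻¹ * b⁻¹ ∈ V := hVn.conj_mem _ (V.inv_mem ha) b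
    refine ⟨⟨a, ha⟩ * ⟨b * a⁻¹ * b⁻¹, hmem⟩, ?_, ?_⟩
    · rw [SetLike.mem_coe, MonoidHom.mem_ker, map_mul]
      have e1 : (linearCharHom hθc hθ1) ⟨b * a⁻¹ * b⁻¹, hmem⟩
          = (linearCharHom hθc hθ1) (⟨a, ha⟩ : V)⁻¹ := by
        apply Units.ext
        rw [linearCharHom_apply, linearCharHom_apply]
        exact hinv b hb (⟨a, ha⟩ : V)⁻¹
      rw [e1, map_inv, mul_inv_cancel]
    · simp [commutatorElement_def, mul_assoc]
  rw [hW] at hle
  have hθtriv : (θ : V → ℂ) = fun _ => (1 : ℂ) := by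
    funext a
    obtain ⟨y, hy, hya⟩ := hle a.2
    have hya' : y = a := Subtype.ext hya
    rw [hya'] at hy
    have h5 : (linearCharHom hθc hθ1) a = 1 := hy
    have h6 := linearCharHom_apply hθc hθ1 a
    rw [h5] at h6
    rw [← h6]
    rfl
  rw [hθtriv] at hθ
  exact apply_eq_of_trivial_constituent V hVn χ.2 hθ

/-- real classes of a quotient lift to real classes when the normal subgroup has a complement -/
theorem exists_real_lift_of_compl {G : Type*} [Group G] (V : Subgroup G) [hV : V.Normal]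
    (H : Subgroup G) (hsup : H ⊔ V = ⊤) (hinf : H ⊓ V = ⊥) (x : G)
    (hx : IsConj (QuotientGroup.mk x : G ⧸ V) (QuotientGroup.mk x : G ⧸ V)⁻¹) :
    ∃ y : G, (QuotientGroup.mk y : G ⧸ V) = QuotientGroup.mk x ∧ IsConj y y⁻¹ := by
  have hdec : ∀ g : G, ∃ h ∈ H, (QuotientGroup.mk h : G ⧸ V) = QuotientGroup.mk g := by
    intro g
    have hg : g ∈ H ⊔ V := by rw [hsup]; exact Subgroup.mem_top g
    obtain ⟨h, hh, v, hv, rfl⟩ := Subgroup.mem_sup_of_normal_right.mp hg
    exact ⟨h, hh, (QuotientGroup.mk_mul_of_mem h hv).symm⟩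
  obtain ⟨h, hh, hhx⟩ := hdec x
  obtain ⟨c, hc⟩ := isConj_iff.mp hx
  obtain ⟨g, rfl⟩ := QuotientGroup.mk_surjective c
  obtain ⟨h', hh', hh'g⟩ := hdec g
  rw [← hhx, ← hh'g] at hc
  have h1 : (QuotientGroup.mk (h' * h * h'⁻¹) : G ⧸ V) = QuotientGroup.mk (h⁻¹) := by
    rw [QuotientGroup.mk_mul, QuotientGroup.mk_mul, QuotientGroup.mk_inv, QuotientGroup.mk_inv]
    exact hc
  have h2 : (h' * h * h'⁻¹)⁻¹ * h⁻¹ ∈ V := QuotientGroup.eq.mp h1
  have h3 : (h' * h * h'⁻¹)⁻¹ * h⁻¹ ∈ H :=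
    H.mul_mem (H.inv_mem (H.mul_mem (H.mul_mem hh' hh) (H.inv_mem hh'))) (H.inv_mem hh)
  have h4 : (h' * h * h'⁻¹)⁻¹ * h⁻¹ ∈ H ⊓ V := ⟨h3, h2⟩
  rw [hinf, Subgroup.mem_bot] at h4
  exact ⟨h, hhx, isConj_iff.mpr ⟨h', inv_mul_eq_one.mp h4⟩⟩

/-- if all real irreducible characters contain `N` in their kernel and real classes lift, no
nontrivial element of `N` is real -/
theorem eq_one_of_real_of_mem' {G : Type*} [Group G] [Finite G] (N : Subgroup G) [hN : N.Normal]
    (hker : ∀ χ : Cfsg.IrrCharacter G, RealFun (χ : G → ℂ) →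
      ∀ x ∈ N, (χ : G → ℂ) x = (χ : G → ℂ) 1)
    (hlift : ∀ x : G, IsConj (QuotientGroup.mk x : G ⧸ N) (QuotientGroup.mk x : G ⧸ N)⁻¹ →
      ∃ y : G, (QuotientGroup.mk y : G ⧸ N) = QuotientGroup.mk x ∧ IsConj y y⁻¹)
    (m : G) (hm : m ∈ N) (hreal : IsConj m m⁻¹) : m = 1 := by
  classical
  let Ψ : {L : ConjClasses G // RealCls L} → {L : ConjClasses (G ⧸ N) // RealCls L} :=
    fun L => ⟨ConjClasses.map (QuotientGroup.mk' N) L.1, by
      obtain ⟨L, hL⟩ := L
      obtain ⟨h, rfl⟩ := ConjClasses.mk_surjective L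
      show RealCls (ConjClasses.mk (QuotientGroup.mk' N h))
      rw [realCls_mk_iff] at hL ⊢
      have := MonoidHom.map_isConj (QuotientGroup.mk' N) hL
      rw [map_inv] at this
      exact this⟩
  have hsurj : Function.Surjective Ψ := by
    rintro ⟨L, hL⟩
    obtain ⟨q, rfl⟩ := ConjClasses.mk_surjective L
    obtain ⟨x, rfl⟩ := QuotientGroup.mk_surjective q
    rw [realCls_mk_iff] at hL
    obtain ⟨y, hy, hyr⟩ := hlift x hL
    refine ⟨⟨ConjClasses.mk y, (realCls_mk_iff y).mpr hyr⟩, ?_⟩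
    apply Subtype.ext
    show ConjClasses.mk (QuotientGroup.mk' N y) = ConjClasses.mk (QuotientGroup.mk x)
    rw [← hy]
    rfl
  have hbij := hsurj.bijective_of_nat_card_le (le_of_eq (card_realCls_quotient N hker))
  have h1 : IsConj (1 : G) (1 : G)⁻¹ := by rw [inv_one]
  have heq : Ψ ⟨ConjClasses.mk m, (realCls_mk_iff m).mpr hreal⟩
      = Ψ ⟨ConjClasses.mk 1, (realCls_mk_iff 1).mpr h1⟩ := by
    apply Subtype.ext
    show ConjClasses.mk (QuotientGroup.mk' N m) = ConjClasses.mk (QuotientGroup.mk' N 1)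
    rw [map_one]
    have : QuotientGroup.mk' N m = 1 := (QuotientGroup.eq_one_iff m).mpr hm
    rw [this]
  have h2 := hbij.1 heq
  have h3 : ConjClasses.mk m = ConjClasses.mk (1 : G) := congrArg Subtype.val h2
  rw [ConjClasses.mk_eq_mk_iff_isConj, isConj_one_left] at h3
  exact h3

/-- a `2`-element centralizing an odd normal subgroup `V` lies in every supplement of `V` -/
theorem mem_of_two_pow_of_compl {G : Type*} [Group G] [Finite G] (V H : Subgroup G) [V.Normal]
    (hsup : H ⊔ V = ⊤) (hodd : Odd (Nat.card V)) (t : G)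
    (ht : ∃ k : ℕ, orderOf t = 2 ^ k) (hcent : t ∈ Subgroup.centralizer (V : Set G)) :
    t ∈ H := by
  obtain ⟨k, hk⟩ := ht
  have hg : t ∈ H ⊔ V := by rw [hsup]; exact Subgroup.mem_top t
  obtain ⟨h, hh, v, hv, rfl⟩ := Subgroup.mem_sup_of_normal_right.mp hg
  have hc1 : v * (h * v) = (h * v) * v := (Subgroup.mem_centralizer_iff.mp hcent) v hv
  have hc2 : Commute h v := by
    have h1 : v * h = h * v := by
      have := congrArg (fun z => z * v⁻¹) hc1
      simpa [mul_assoc] using this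
    exact h1.symm
  have hvm : v ^ Nat.card V = 1 := by
    have h1 : ((⟨v, hv⟩ : V) ^ Nat.card V : V) = 1 := pow_card_eq_one'
    have h2 : (((⟨v, hv⟩ : V) ^ Nat.card V : V) : G) = ((1 : V) : G) := congrArg Subtype.val h1
    rw [Subgroup.coe_pow, Subgroup.coe_one] at h2
    exact h2
  have htm : (h * v) ^ Nat.card V = h ^ Nat.card V := by rw [hc2.mul_pow, hvm, mul_one]
  have hcop : (Nat.card V).Coprime (orderOf (h * v)) := by
    rw [hk]; exact Nat.Coprime.pow_right k (Nat.coprime_two_right.mpr hodd)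
  obtain ⟨j, hj⟩ := exists_pow_eq_self_of_coprime hcop
  rw [← hj, htm]
  exact H.pow_mem (H.pow_mem hh _) j

end Cfsg.Agent.Lib.Helper6.RealDeg
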