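import Mathlib
import Cfsg.Agent.Lib.Helper6.RealDeg2

/-! Isaacs-Navarro: real characters of `p'`-degree and normal Sylow subgroups. -/
set_option autoImplicit false

namespace Cfsg.Agent.Lib.Helper6.RealDeg

open Cfsg.Agent.Lib.Helper6 Cfsg.Agent.Lib.Helper8.GlauP
open scoped ComplexConjugate

universe u

/-- main induction: `G / O^{2'}(G)` a `p`-group, a solvable normal subgroup of `p'`-index, all
real irreducible characters of `p'`-degree: the Sylow `p`-subgroups are normal -/
theorem sylow_normal_aux (p : ℕ) [hp : Fact p.Prime] :
    ∀ (n : ℕ) (G : Type u) [Group G] [Finite G], Nat.card G = n →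
    (∃ a : ℕ, (powRes 2 G).index = p ^ a) →
    (∃ L : Subgroup G, L.Normal ∧ Group.IsSolvable L ∧ ¬ p ∣ L.index) →
    (∀ χ : Cfsg.IrrCharacter G, RealFun (χ : G → ℂ) → ¬ p ∣ Cfsg.charDegree (χ : G → ℂ)) →
    ∀ P : Sylow p G, (P : Subgroup G).Normal := by
  intro n
  induction n using Nat.strong_induction_on with
  | _ n ih =>
    intro G _ _ hn hK hL hreal P
    classical
    haveI : Fintype G := Fintype.ofFinite G
    obtain ⟨L, hLn, hLs, hLi⟩ := hL
    by_cases hL1 : L = ⊥
    · have h1 : ¬ p ∣ Nat.card G := by
        rw [hL1, Subgroup.index_bot] at hLi; exact hLi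
      have h2 : (P : Subgroup G) = ⊥ := by
        obtain ⟨k, hk⟩ := IsPGroup.iff_card.mp P.2
        rcases Nat.eq_zero_or_pos k with rfl | hkpos
        · rw [pow_zero] at hk; exact Subgroup.card_eq_one.mp hk
        · exfalso
          apply h1
          have := Subgroup.card_subgroup_dvd_card (P : Subgroup G)
          rw [hk] at this
          exact dvd_trans (dvd_pow_self p hkpos.ne') this
      rw [h2]; exact Subgroup.normal_bot
    · obtain ⟨V, hVn, hV1, hVL, hVmin⟩ := exists_min_normal L hLn hL1
      haveI := hVn
      have hVs : Group.IsSolvable V := by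
        haveI := hLs
        exact Group.isSolvable_of_isSolvable_injective (Subgroup.inclusion_injective hVL)
      have hcomm := comm_of_min_normal V hVn hV1 hVmin hVs
      -- quotient step
      have hN : ((P : Subgroup G) ⊔ V).Normal := by
        have hlt : Nat.card (G ⧸ V) < Nat.card G := by
          have h1 := Subgroup.card_eq_card_quotient_mul_card_subgroup V
          have h2 : 1 < Nat.card ↥V := (Subgroup.one_lt_card_iff_ne_bot V).2 hV1
          have h3 : 0 < Nat.card (G ⧸ V) := Nat.card_pos
          rw [h1]
          nlinarith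
        have hsurj : Function.Surjective (QuotientGroup.mk' V) := QuotientGroup.mk'_surjective V
        have hKq : ∃ a, (powRes 2 (G ⧸ V)).index = p ^ a := by
          obtain ⟨a, ha⟩ := hK
          have h1 : (powRes 2 G).map (QuotientGroup.mk' V) ≤ powRes 2 (G ⧸ V) := by
            show (Subgroup.closure _).map _ ≤ Subgroup.closure _
            rw [MonoidHom.map_closure]
            apply Subgroup.closure_mono
            rintro _ ⟨g, ⟨k, hk⟩, rfl⟩
            have hd := orderOf_map_dvd (QuotientGroup.mk' V) g
            rw [hk] at hd
            obtain ⟨j, -, hj⟩ := (Nat.dvd_prime_pow Nat.prime_two).mp hd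
            exact ⟨j, hj⟩
          have h2 : (powRes 2 (G ⧸ V)).index ∣ p ^ a := by
            rw [← ha]
            exact dvd_trans (Subgroup.index_dvd_of_le h1) (Subgroup.index_map_dvd _ hsurj)
          obtain ⟨b, -, hb⟩ := (Nat.dvd_prime_pow hp.out).mp h2
          exact ⟨b, hb⟩
        have hLq : ∃ L' : Subgroup (G ⧸ V), L'.Normal ∧ Group.IsSolvable L' ∧ ¬ p ∣ L'.index := by
          refine ⟨L.map (QuotientGroup.mk' V), hLn.map _ hsurj, ?_, ?_⟩
          · haveI := hLs
            exact Group.isSolvable_of_surjective
              (MonoidHom.subgroupMap_surjective (QuotientGroup.mk' V) L)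
          · exact fun h => hLi (dvd_trans h (Subgroup.index_map_dvd _ hsurj))
        have hrq : ∀ β : Cfsg.IrrCharacter (G ⧸ V), RealFun (β : G ⧸ V → ℂ) →
            ¬ p ∣ Cfsg.charDegree (β : G ⧸ V → ℂ) := by
          intro β hβ
          obtain ⟨χ, hχ, hdeg⟩ := Cfsg.Agent.Lib.Helper3.CD.exists_inflation V β
          rw [← hdeg]
          apply hreal χ
          intro g
          rw [hχ]
          exact hβ _
        have hQ := ih (Nat.card (G ⧸ V)) (hn ▸ hlt) (G ⧸ V) rfl hKq hLq hrq
          (P.mapSurjective hsurj)
        rw [Sylow.coe_mapSurjective] at hQ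
        have h1 := hQ.comap (QuotientGroup.mk' V)
        rw [Subgroup.comap_map_eq, QuotientGroup.ker_mk'] at h1
        exact h1
      -- Frattini
      obtain ⟨H, hHdef⟩ : ∃ H : Subgroup G, H = Subgroup.normalizer ((P : Subgroup G) : Set G) :=
        ⟨_, rfl⟩
      have hPH : (P : Subgroup G) ≤ H := by rw [hHdef]; exact Subgroup.le_normalizer
      have hHV : H ⊔ V = ⊤ := by
        haveI := hN
        have hPN : (P : Subgroup G) ≤ (P : Subgroup G) ⊔ V := le_sup_left
        have h1 := Sylow.normalizer_sup_eq_top (P.subtype hPN)
        rw [Sylow.coe_subtype, Subgroup.map_subgroupOf_eq_of_le hPN, ← hHdef] at h1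
        rw [eq_top_iff, ← h1]
        exact sup_le le_sup_left (sup_le (hPH.trans le_sup_left) le_sup_right)
      have hCn : (V ⊓ H).Normal := by
        constructor
        intro c hc g
        have hg : g ∈ H ⊔ V := by rw [hHV]; exact Subgroup.mem_top g
        obtain ⟨h, hh, v, hv, rfl⟩ := Subgroup.mem_sup_of_normal_right.mp hg
        have e : h * v * c * (h * v)⁻¹ = h * c * h⁻¹ := by
          have hvc : v * c = c * v := hcomm v hv c hc.1
          calc h * v * c * (h * v)⁻¹ = h * (v * c) * v⁻¹ * h⁻¹ := by group
            _ = h * (c * v) * v⁻¹ * h⁻¹ := by rw [hvc]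
            _ = h * c * h⁻¹ := by group
        rw [e]
        exact ⟨hVn.conj_mem c hc.1 h, H.mul_mem (H.mul_mem hh hc.2) (H.inv_mem hh)⟩
      rcases hVmin _ hCn inf_le_left with hC | hC
      swap
      · have hVH : V ≤ H := by rw [← hC]; exact inf_le_right
        haveI := hN
        refine Cfsg.Agent.Lib.Helper3.ItoConv.sylow_normal_of_le_normalizer p P
          ((P : Subgroup G) ⊔ V) le_sup_left ?_
        rw [← hHdef]
        exact sup_le hPH hVH
      · haveI := hN
        have hWn : (⁅V, (P : Subgroup G) ⊔ V⁆).Normal := Subgroup.commutator_normal _ _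
        rcases hVmin _ hWn (Subgroup.commutator_le_left _ _) with hW | hW
        · exfalso
          rw [Subgroup.commutator_eq_bot_iff_le_centralizer] at hW
          have hVH : V ≤ H := by
            intro v hv
            have h1 : v ∈ Subgroup.centralizer
                ((((P : Subgroup G) ⊔ V : Subgroup G)) : Set G) := hW hv
            have hsub : ((P : Subgroup G) : Set G) ⊆ (((P : Subgroup G) ⊔ V : Subgroup G) : Set G) :=
              fun x hx => (le_sup_left : (P : Subgroup G) ≤ (P : Subgroup G) ⊔ V) hx
            have h2 : v ∈ Subgroup.centralizer ((P : Subgroup G) : Set G) :=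
              Subgroup.centralizer_le hsub h1
            rw [hHdef]
            exact Subgroup.centralizer_le_normalizer _ h2
          apply hV1
          rw [eq_bot_iff, ← hC]
          exact le_inf le_rfl hVH
        · have hker : ∀ χ : Cfsg.IrrCharacter G, RealFun (χ : G → ℂ) →
              ∀ x ∈ V, (χ : G → ℂ) x = (χ : G → ℂ) 1 :=
            fun χ hr => apply_eq_of_commutator_eq P V hVn hN hcomm hW χ (hreal χ hr)
          have hinf : H ⊓ V = ⊥ := by rw [inf_comm]; exact hC
          have hnoreal : ∀ m ∈ V, IsConj m m⁻¹ → m = 1 :=
            eq_one_of_real_of_mem' V hker (exists_real_lift_of_compl V H hHV hinf)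
          have hKcent := closure_two_le_centralizer V hnoreal
          have hodd : Odd (Nat.card V) := by
            by_contra hev
            rw [Nat.not_odd_iff_even, even_iff_two_dvd] at hev
            obtain ⟨v, hv⟩ := exists_prime_orderOf_dvd_card' (G := V) 2 hev
            have h1 : (v : G) = 1 := by
              apply hnoreal v v.2
              have h2 : (v : G) * (v : G) = 1 := by
                have h3 := pow_orderOf_eq_one v
                rw [hv, pow_two] at h3
                have h4 := congrArg Subtype.val h3
                rw [Subgroup.coe_mul, Subgroup.coe_one] at h4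
                exact h4
              rw [inv_eq_of_mul_eq_one_right h2]
            have h5 : v = 1 := Subtype.ext h1
            rw [h5, orderOf_one] at hv
            omega
          have hKH : powRes 2 G ≤ H := by
            refine (Subgroup.closure_le _).mpr ?_
            intro t ht
            exact mem_of_two_pow_of_compl V H hHV hodd t ht
              (hKcent (Subgroup.subset_closure ht))
          have htop : powRes 2 G ⊔ (P : Subgroup G) = ⊤ := by
            obtain ⟨a, ha⟩ := hK
            rw [← Subgroup.index_eq_one]
            have h1 : (powRes 2 G ⊔ (P : Subgroup G)).index ∣ p ^ a :=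
              ha ▸ Subgroup.index_dvd_of_le le_sup_left
            have h2 : (powRes 2 G ⊔ (P : Subgroup G)).index ∣ (P : Subgroup G).index :=
              Subgroup.index_dvd_of_le le_sup_right
            obtain ⟨b, -, hb⟩ := (Nat.dvd_prime_pow hp.out).mp h1
            rcases Nat.eq_zero_or_pos b with rfl | hbpos
            · rw [hb, pow_zero]
            · exfalso
              apply P.not_dvd_index
              refine dvd_trans ?_ h2
              rw [hb]; exact dvd_pow_self p hbpos.ne'
          have hHtop : H = ⊤ := by
            rw [eq_top_iff, ← htop]; exact sup_le hKH hPH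
          rw [hHdef] at hHtop
          exact Subgroup.normalizer_eq_top_iff.mp hHtop

/-- Isaacs-Navarro: if `O^{p'}(G)` is solvable and all real irreducible characters of `G` have
`p'`-degree, then every normal subgroup `U ≥ O^{2'}(G)` with `U / O^{2'}(G)` a `p`-group has
normal Sylow `p`-subgroups -/
theorem sylow_normal_of_relIndex {G : Type u} [Group G] [Finite G] (p : ℕ) [Fact p.Prime]
    (hsolv : Group.IsSolvable (powRes p G))
    (hreal : ∀ χ : Cfsg.IrrCharacter G, (∀ g : G, ((χ : G → ℂ) g).im = 0) →
      ¬ p ∣ Cfsg.charDegree (χ : G → ℂ))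
    (U : Subgroup G) (hU : U.Normal) (hKU : powRes 2 G ≤ U)
    (hUp : ∃ a : ℕ, (powRes 2 G).relIndex U = p ^ a)
    (Q : Sylow p U) : (Q : Subgroup U).Normal := by
  haveI := hU
  have hodd : Odd U.index := by
    have := not_dvd_index_of_powRes_le 2 hKU
    rwa [← even_iff_two_dvd, Nat.not_even_iff_odd] at this
  apply sylow_normal_aux p (Nat.card U) U rfl
  · obtain ⟨a, ha⟩ := hUp
    refine ⟨a, ?_⟩
    rw [powRes_subgroupOf 2 hKU]; exact ha
  · haveI := powRes_normal p G
    refine ⟨(powRes p G).subgroupOf U, (powRes_normal p G).subgroupOf U, ?_, ?_⟩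
    · haveI := hsolv
      let f : ↥((powRes p G).subgroupOf U) →* ↥(powRes p G) :=
        (U.subtype.comp ((powRes p G).subgroupOf U).subtype).codRestrict (powRes p G)
          (fun x => x.2)
      have hf : Function.Injective f := by
        intro x y hxy
        have h1 : ((f x : powRes p G) : G) = ((f y : powRes p G) : G) := congrArg Subtype.val hxy
        exact Subtype.ext (Subtype.ext h1)
      exact Group.isSolvable_of_isSolvable_injective hf
    · intro h
      have h1 : ((powRes p G).subgroupOf U).index ∣ (powRes p G).index :=
        Subgroup.relIndex_dvd_index_of_normal (powRes p G) U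
      exact not_dvd_index_of_powRes_le p (le_refl (powRes p G)) (dvd_trans h h1)
  · intro θ hθ
    exact real_degree_of_odd_index U hodd hreal θ hθ

end Cfsg.Agent.Lib.Helper6.RealDeg
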