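import Mathlib

/-! Orbits of a group on two finite sets and fixed points of a Sylow subgroup. -/
set_option autoImplicit false

namespace Cfsg.Agent.Lib.Helper6.RealNorm

open MulAction
open scoped Pointwise

section sylowconj

variable {G : Type*} [Group G] [Finite G] {p : ℕ} [Fact p.Prime]

/-- Sylow subgroups of `G` inside a subgroup `H` are `H`-conjugate -/
theorem exists_conj_eq_of_le (P Q : Sylow p G) (H : Subgroup G) (hP : (P : Subgroup G) ≤ H)
    (hQ : (Q : Subgroup G) ≤ H) :
    ∃ h ∈ H, ∀ x : G, x ∈ (P : Subgroup G) ↔ h⁻¹ * x * h ∈ (Q : Subgroup G) := by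
  obtain ⟨h, hh⟩ := MulAction.exists_smul_eq H (Q.subtype hQ) (P.subtype hP)
  refine ⟨h, h.2, ?_⟩
  intro x
  have h1 : ((h • Q.subtype hQ : Sylow p H) : Subgroup H)
      = ((P.subtype hP : Sylow p H) : Subgroup H) := by rw [hh]
  rw [Sylow.coe_subgroup_smul, Sylow.coe_subtype, Sylow.coe_subtype] at h1
  constructor
  · intro hx
    have hxH : x ∈ H := hP hx
    have h2 : (⟨x, hxH⟩ : H) ∈ (P : Subgroup G).subgroupOf H := by
      rw [Subgroup.mem_subgroupOf]; exact hx
    rw [← h1, Subgroup.mem_pointwise_smul_iff_inv_smul_mem, Subgroup.mem_subgroupOf] at h2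
    exact h2
  · intro hx
    have hxH : x ∈ H := by
      have h3 : (h : G)⁻¹ * x * (h : G) ∈ H := hQ hx
      have h4 := H.mul_mem (H.mul_mem h.2 h3) (H.inv_mem h.2)
      have e : (h : G) * ((h : G)⁻¹ * x * h) * (h : G)⁻¹ = x := by group
      rwa [e] at h4
    have h2 : (⟨x, hxH⟩ : H) ∈ MulAut.conj h • (Q : Subgroup G).subgroupOf H := by
      rw [Subgroup.mem_pointwise_smul_iff_inv_smul_mem, Subgroup.mem_subgroupOf]
      exact hx
    rw [h1, Subgroup.mem_subgroupOf] at h2
    exact h2

end sylowconj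

section orbits

variable {G : Type*} [Group G] (P : Subgroup G) (Z : Type*) [MulAction G Z]

/-- the points fixed by `P` -/
abbrev FixP : Type _ := {z : Z // ∀ s ∈ P, s • z = z}

/-- the normalizer acts on the fixed points -/
@[reducible] def fixAct : MulAction (Subgroup.normalizer (P : Set G)) (FixP P Z) where
  smul n z := ⟨(n : G) • z.1, by
    intro s hs
    have h1 : (n : G)⁻¹ * s * (n : G) ∈ P := by
      have hn := (Subgroup.normalizer (P : Set G)).inv_mem n.2
      have := (Subgroup.mem_normalizer_iff.mp hn s).mp hs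
      simpa using this
    have h2 := z.2 _ h1
    calc s • ((n : G) • z.1) = (n : G) • (((n : G)⁻¹ * s * (n : G)) • z.1) := by
          rw [← mul_smul, ← mul_smul]; congr 1; group
      _ = (n : G) • z.1 := by rw [h2]⟩
  one_smul z := Subtype.ext (one_smul G z.1)
  mul_smul a b z := Subtype.ext (mul_smul (a : G) (b : G) z.1)

theorem fixAct_coe (n : Subgroup.normalizer (P : Set G)) (z : FixP P Z) :
    ((letI := fixAct P Z; n • z : FixP P Z) : Z) = (n : G) • z.1 := rfl

/-- the map from normalizer orbits on fixed points to orbits -/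
def orbMap : Quotient (letI := fixAct P Z; orbitRel (Subgroup.normalizer (P : Set G)) (FixP P Z)) →
    Quotient (orbitRel G Z) :=
  letI := fixAct P Z
  Quotient.map' (fun z : FixP P Z => z.1) (by
    intro a b hab
    rw [orbitRel_apply, mem_orbit_iff] at hab ⊢
    obtain ⟨n, hn⟩ := hab
    exact ⟨(n : G), congrArg Subtype.val hn⟩)

theorem orbMap_mk (z : FixP P Z) :
    orbMap P Z (letI := fixAct P Z; Quotient.mk'' z) = Quotient.mk'' z.1 := rfl

end orbits

section main

variable {G : Type*} [Group G] [Finite G] {p : ℕ} [Fact p.Prime] (P : Sylow p G)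

theorem orbMap_injective (Z : Type*) [MulAction G Z] :
    Function.Injective (orbMap (P : Subgroup G) Z) := by
  letI := fixAct (P : Subgroup G) Z
  intro a b hab
  induction a using Quotient.inductionOn' with
  | _ z₁ =>
  induction b using Quotient.inductionOn' with
  | _ z₂ =>
  rw [orbMap_mk, orbMap_mk] at hab
  have h1 : (orbitRel G Z) z₁.1 z₂.1 := Quotient.exact' hab
  rw [orbitRel_apply, mem_orbit_iff] at h1
  obtain ⟨g, hg⟩ := h1
  -- `P` and `g P g⁻¹` fix `z₁`
  have hQ : ((g • P : Sylow p G) : Subgroup G) ≤ stabilizer G z₁.1 := by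
    intro x hx
    rw [Sylow.coe_subgroup_smul, Subgroup.mem_pointwise_smul_iff_inv_smul_mem] at hx
    have hx' : g⁻¹ * x * g ∈ (P : Subgroup G) := by
      have e : (MulAut.conj g)⁻¹ • x = g⁻¹ * x * g := rfl
      rwa [e] at hx
    rw [mem_stabilizer_iff, ← hg]
    have h2 := z₂.2 _ hx'
    calc x • (g • z₂.1) = g • ((g⁻¹ * x * g) • z₂.1) := by
          rw [← mul_smul, ← mul_smul]; congr 1; group
      _ = g • z₂.1 := by rw [h2]
  have hP : (P : Subgroup G) ≤ stabilizer G z₁.1 := by
    intro x hx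
    rw [mem_stabilizer_iff]
    exact z₁.2 x hx
  obtain ⟨h, hh, hconj⟩ := exists_conj_eq_of_le P (g • P) (stabilizer G z₁.1) hP hQ
  -- `n = h * g` normalizes `P`
  have hn : h * g ∈ Subgroup.normalizer ((P : Subgroup G) : Set G) := by
    rw [Subgroup.mem_normalizer_iff]
    intro x
    have e1 : x ∈ (P : Subgroup G) ↔ g * x * g⁻¹ ∈ ((g • P : Sylow p G) : Subgroup G) := by
      rw [Sylow.coe_subgroup_smul, Subgroup.mem_pointwise_smul_iff_inv_smul_mem]
      have e : (MulAut.conj g)⁻¹ • (g * x * g⁻¹) = x := by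
        show g⁻¹ * (g * x * g⁻¹) * g = x
        group
      rw [e]
    rw [e1, hconj (h * g * x * (h * g)⁻¹)]
    have e2 : h⁻¹ * (h * g * x * (h * g)⁻¹) * h = g * x * g⁻¹ := by group
    rw [e2]
  apply Quotient.sound'
  rw [orbitRel_apply, mem_orbit_iff]
  refine ⟨⟨h * g, hn⟩, ?_⟩
  apply Subtype.ext
  rw [fixAct_coe]
  show (h * g) • z₂.1 = z₁.1
  rw [mul_smul, hg]
  exact mem_stabilizer_iff.mp hh

/-- Burnside's lemma on the fixed points of `P` -/
theorem card_orbits_fix_mul (Z : Type*) [Finite Z] [MulAction G Z] :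
    ∃ r : ℕ → ℕ, True ∧
    Nat.card (Quotient (letI := fixAct (P : Subgroup G) Z;
      orbitRel (Subgroup.normalizer ((P : Subgroup G) : Set G)) (FixP (P : Subgroup G) Z)))
        * Nat.card (Subgroup.normalizer ((P : Subgroup G) : Set G))
      = ∑ᶠ n : Subgroup.normalizer ((P : Subgroup G) : Set G),
          Nat.card {z : Z // (∀ s ∈ (P : Subgroup G), s • z = z) ∧ (n : G) • z = z} := by
  classical
  refine ⟨fun _ => 0, trivial, ?_⟩
  letI := fixAct (P : Subgroup G) Z
  haveI : Fintype (Subgroup.normalizer ((P : Subgroup G) : Set G)) := Fintype.ofFinite _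
  haveI : Fintype (FixP (P : Subgroup G) Z) := Fintype.ofFinite _
  have hB := MulAction.sum_card_fixedBy_eq_card_orbits_mul_card_group
    (Subgroup.normalizer ((P : Subgroup G) : Set G)) (FixP (P : Subgroup G) Z)
  rw [finsum_eq_sum_of_fintype, Nat.card_eq_fintype_card, Nat.card_eq_fintype_card, ← hB]
  refine Finset.sum_congr rfl fun n _ => ?_
  rw [← Nat.card_eq_fintype_card]
  apply Nat.card_congr
  exact
    { toFun := fun x => ⟨x.1.1, x.1.2, congrArg Subtype.val x.2⟩
      invFun := fun y => ⟨⟨y.1, y.2.1⟩, Subtype.ext y.2.2⟩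
      left_inv := fun x => rfl
      right_inv := fun y => rfl }

/-- if two `G`-sets have equally many orbits, every orbit of the first meets the fixed points of
the Sylow subgroup `P`, and the fixed-point counts of `P ⟨n⟩` agree for `n ∈ N_G(P)`, then every
orbit of the second meets the fixed points of `P` -/
theorem exists_fixed_in_orbit {X Y : Type*} [Finite X] [Finite Y] [MulAction G X] [MulAction G Y]
    (hcard : Nat.card (Quotient (orbitRel G X)) = Nat.card (Quotient (orbitRel G Y)))
    (hX : ∀ x : X, ∃ g : G, ∀ s ∈ (P : Subgroup G), s • (g • x) = g • x)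
    (hfix : ∀ n ∈ Subgroup.normalizer ((P : Subgroup G) : Set G),
      Nat.card {x : X // (∀ s ∈ (P : Subgroup G), s • x = x) ∧ n • x = x}
        = Nat.card {y : Y // (∀ s ∈ (P : Subgroup G), s • y = y) ∧ n • y = y})
    (y : Y) : ∃ g : G, ∀ s ∈ (P : Subgroup G), s • (g • y) = g • y := by
  classical
  obtain ⟨-, -, hBX⟩ := card_orbits_fix_mul P X
  obtain ⟨-, -, hBY⟩ := card_orbits_fix_mul P Y
  have hsum : (∑ᶠ n : Subgroup.normalizer ((P : Subgroup G) : Set G),
      Nat.card {z : X // (∀ s ∈ (P : Subgroup G), s • z = z) ∧ (n : G) • z = z})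
      = ∑ᶠ n : Subgroup.normalizer ((P : Subgroup G) : Set G),
      Nat.card {z : Y // (∀ s ∈ (P : Subgroup G), s • z = z) ∧ (n : G) • z = z} :=
    finsum_congr fun n => hfix n n.2
  rw [hsum, ← hBY] at hBX
  have hpos : 0 < Nat.card (Subgroup.normalizer ((P : Subgroup G) : Set G)) := Nat.card_pos
  have hr := Nat.eq_of_mul_eq_mul_right hpos hBX
  -- surjectivity for `X`
  have hsurjX : Function.Surjective (orbMap (P : Subgroup G) X) := by
    intro ω
    induction ω using Quotient.inductionOn' with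
    | _ x =>
    obtain ⟨g, hg⟩ := hX x
    refine ⟨(letI := fixAct (P : Subgroup G) X; Quotient.mk'' ⟨g • x, hg⟩), ?_⟩
    rw [orbMap_mk]
    apply Quotient.sound'
    rw [orbitRel_apply, mem_orbit_iff]
    exact ⟨g, rfl⟩
  have h1 : Nat.card (Quotient (orbitRel G X)) ≤ _ :=
    Nat.card_le_card_of_surjective _ hsurjX
  have hinjY := orbMap_injective P Y
  have hbij := hinjY.bijective_of_nat_card_le (by rw [← hcard, ← hr]; exact h1)
  obtain ⟨ω, hω⟩ := hbij.2 (Quotient.mk'' y)
  induction ω using Quotient.inductionOn' with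
  | _ z =>
  rw [orbMap_mk] at hω
  have h2 : (orbitRel G Y) z.1 y := Quotient.exact' hω
  rw [orbitRel_apply, mem_orbit_iff] at h2
  obtain ⟨g, hg⟩ := h2
  refine ⟨g, ?_⟩
  rw [hg]
  exact z.2

end main

end Cfsg.Agent.Lib.Helper6.RealNorm
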