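import Mathlib
import Cfsg.Agent.Lib.Helper8.GlauE2
import Cfsg.Agent.Lib.Helper6.PermCount

/-! A twisted version of the Glauberman count: invariant characters fixed by a twisted
inversion versus invariant classes fixed by it. -/
set_option autoImplicit false

namespace Cfsg.Agent.Lib.Helper6.RealNorm

open Cfsg.Agent.Lib.Helper6 Cfsg.Agent.Lib.Helper8.GlauP
open scoped ComplexConjugate

section

variable {H : Type*} [Group H] [Fintype H]

/-- composition of an irreducible character with an automorphism -/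
noncomputable def compIrr (a : H ≃* H) (χ : Cfsg.IrrCharacter H) : Cfsg.IrrCharacter H :=
  ⟨fun g => (χ : H → ℂ) (a g), IsIrrCharacter.comp_mulEquiv a χ.2⟩

theorem compIrr_apply (a : H ≃* H) (χ : Cfsg.IrrCharacter H) (g : H) :
    (compIrr a χ : H → ℂ) g = (χ : H → ℂ) (a g) := rfl

/-- the twist `g ↦ χ (a g⁻¹)` -/
noncomputable def twIrr (a : H ≃* H) (χ : Cfsg.IrrCharacter H) : Cfsg.IrrCharacter H :=
  PAct.conjIrr (compIrr a χ)

theorem twIrr_apply (a : H ≃* H) (χ : Cfsg.IrrCharacter H) (g : H) :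
    (twIrr a χ : H → ℂ) g = (χ : H → ℂ) (a g⁻¹) := by
  show conj ((χ : H → ℂ) (a g)) = _
  rw [map_inv, IsCharacter.apply_inv (IsIrrCharacter.isCharacter χ.2)]

theorem twIrr_eq_iff (a : H ≃* H) (χ : Cfsg.IrrCharacter H) :
    twIrr a χ = χ ↔ ∀ g : H, (χ : H → ℂ) (a g⁻¹) = (χ : H → ℂ) g := by
  constructor
  · intro h g
    rw [← twIrr_apply, h]
  · intro h
    apply Subtype.ext
    funext g
    rw [twIrr_apply, h]

end

variable {p : ℕ} {M : Ideal Cfsg.AlgInt}
variable {G C T : Type*} [Group G] [Group C] [Group T]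
variable (A : PAct p G C T)

theorem inv_compIrr [Fintype G] (a : G ≃* G)
    (hn : ∀ t : T, ∃ t' : T, ∀ g : G, a (A.φ t g) = A.φ t' (a g))
    {χ : Cfsg.IrrCharacter G} (hχ : A.Inv (χ : G → ℂ)) : A.Inv (compIrr a χ : G → ℂ) := by
  intro t g
  obtain ⟨t', ht'⟩ := hn t
  show (χ : G → ℂ) (a (A.φ t g)) = (χ : G → ℂ) (a g)
  rw [ht' g]
  exact hχ t' (a g)

theorem inv_twIrr [Fintype G] (a : G ≃* G)
    (hn : ∀ t : T, ∃ t' : T, ∀ g : G, a (A.φ t g) = A.φ t' (a g))
    {χ : Cfsg.IrrCharacter G} (hχ : A.Inv (χ : G → ℂ)) : A.Inv (twIrr a χ : G → ℂ) :=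
  A.inv_conjIrr (inv_compIrr A a hn hχ)

theorem glau_compIrr [Fintype G] [Fintype C] [Finite T] (hM : Cfsg.IsPModular p M)
    (a : G ≃* G) (b : C ≃* C) (hab : ∀ c, a (A.ι c) = A.ι (b c))
    (hn : ∀ t : T, ∃ t' : T, ∀ g : G, a (A.φ t g) = A.φ t' (a g))
    (χ : Cfsg.IrrCharacter G) (hχ : A.Inv (χ : G → ℂ)) :
    A.glau (compIrr a χ) = compIrr b (A.glau χ) := by
  rw [A.glau_eq_iff hM (compIrr a χ) (inv_compIrr A a hn hχ)]
  have h2 : A.mult (compIrr a χ : G → ℂ) (compIrr b (A.glau χ) : C → ℂ)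
      = A.mult (χ : G → ℂ) (A.glau χ : C → ℂ) :=
    A.mult_comp a b hab (χ : G → ℂ) (A.glau χ : C → ℂ)
  rw [h2]
  exact A.glau_spec χ

theorem glau_twIrr [Fintype G] [Fintype C] [Finite T] (hM : Cfsg.IsPModular p M)
    (a : G ≃* G) (b : C ≃* C) (hab : ∀ c, a (A.ι c) = A.ι (b c))
    (hn : ∀ t : T, ∃ t' : T, ∀ g : G, a (A.φ t g) = A.φ t' (a g))
    (χ : Cfsg.IrrCharacter G) (hχ : A.Inv (χ : G → ℂ)) :
    A.glau (twIrr a χ) = twIrr b (A.glau χ) := by
  unfold twIrr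
  rw [A.glau_conjIrr hM (compIrr a χ) (inv_compIrr A a hn hχ),
    glau_compIrr A hM a b hab hn χ hχ]

/-- character side: the Glauberman map matches the twisted-fixed invariant characters with the
twisted-fixed characters of the fixed-point subgroup -/
theorem card_inv_tw_irr [Fintype G] [Fintype C] [Finite T] (hM : Cfsg.IsPModular p M)
    (a : G ≃* G) (b : C ≃* C) (hab : ∀ c, a (A.ι c) = A.ι (b c))
    (hn : ∀ t : T, ∃ t' : T, ∀ g : G, a (A.φ t g) = A.φ t' (a g)) :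
    Nat.card {χ : Cfsg.IrrCharacter G // A.Inv (χ : G → ℂ) ∧ twIrr a χ = χ}
      = Nat.card {β : Cfsg.IrrCharacter C // twIrr b β = β} := by
  apply Nat.card_congr
  refine Equiv.ofBijective (fun χ => ⟨A.glau χ.1, ?_⟩) ⟨?_, ?_⟩
  · rw [← glau_twIrr A hM a b hab hn χ.1 χ.2.1, χ.2.2]
  · intro χ χ' h
    apply Subtype.ext
    exact A.glau_inj hM χ.1 χ'.1 χ.2.1 χ'.2.1 (congrArg Subtype.val h)
  · intro β
    obtain ⟨χ, hχ, hg⟩ := A.glau_surj hM β.1
    refine ⟨⟨χ, hχ, ?_⟩, Subtype.ext hg⟩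
    apply A.glau_inj hM _ _ (inv_twIrr A a hn hχ) hχ
    rw [glau_twIrr A hM a b hab hn χ hχ, hg, β.2]

/-- class side: the inclusion matches the twisted-fixed classes of the fixed-point subgroup with
the twisted-fixed invariant classes -/
theorem card_tw_cls [Fintype G] [Fintype C] [Finite T] [Fact p.Prime]
    (a : G ≃* G) (b : C ≃* C) (hab : ∀ c, a (A.ι c) = A.ι (b c)) :
    Nat.card {L : ConjClasses C // ∀ c : C, ConjClasses.mk c = L → IsConj c (b c⁻¹)}
      = Nat.card {K : ConjClasses G // A.InvCls K ∧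
          ∀ g : G, ConjClasses.mk g = K → IsConj g (a g⁻¹)} := by
  apply Nat.card_congr
  refine Equiv.ofBijective
    (fun L => ⟨ConjClasses.map A.ι L.1, A.invCls_map L.1, ?_⟩) ⟨?_, ?_⟩
  · intro g hg
    obtain ⟨c, hc⟩ := ConjClasses.exists_rep L.1
    have h1 : IsConj g (A.ι c) := by
      rw [← ConjClasses.mk_eq_mk_iff_isConj, hg, ← hc]
      rfl
    have h2 : IsConj c (b c⁻¹) := L.2 c hc
    have h3 : IsConj (a g⁻¹) (a (A.ι c)⁻¹) := by
      obtain ⟨u, hu⟩ := isConj_iff.mp h1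
      rw [isConj_iff]
      refine ⟨a u, ?_⟩
      rw [← hu, ← map_inv a u, ← map_mul, ← map_mul]
      congr 1
      group
    have h4 : a (A.ι c)⁻¹ = A.ι (b c⁻¹) := by
      rw [← map_inv A.ι c, hab]
    have h5 : IsConj (A.ι c) (A.ι (b c⁻¹)) := A.ι.map_isConj h2
    rw [h4] at h3
    exact (h1.trans h5).trans h3.symm
  · intro L L' h
    apply Subtype.ext
    exact A.map_injective (congrArg Subtype.val h)
  · intro K
    obtain ⟨L, hL⟩ := A.exists_map_eq K.1 K.2.1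
    refine ⟨⟨L, ?_⟩, Subtype.ext hL⟩
    intro c hc
    apply A.fusion
    have h1 : ConjClasses.mk (A.ι c) = K.1 := by
      rw [← hL, ← hc]
      rfl
    have h := K.2.2 (A.ι c) h1
    rw [← map_inv A.ι c, hab] at h
    exact h

/-- the twisted count -/
theorem card_inv_tw_eq [Fintype G] [Fintype C] [Finite T] [Fact p.Prime]
    (hM : Cfsg.IsPModular p M)
    (a : G ≃* G) (b : C ≃* C) (hab : ∀ c, a (A.ι c) = A.ι (b c))
    (hn : ∀ t : T, ∃ t' : T, ∀ g : G, a (A.φ t g) = A.φ t' (a g)) :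
    Nat.card {χ : Cfsg.IrrCharacter G // A.Inv (χ : G → ℂ) ∧
        ∀ g : G, (χ : G → ℂ) (a g⁻¹) = (χ : G → ℂ) g}
      = Nat.card {K : ConjClasses G // A.InvCls K ∧
          ∀ g : G, ConjClasses.mk g = K → IsConj g (a g⁻¹)} := by
  have e1 : Nat.card {χ : Cfsg.IrrCharacter G // A.Inv (χ : G → ℂ) ∧
        ∀ g : G, (χ : G → ℂ) (a g⁻¹) = (χ : G → ℂ) g}
      = Nat.card {χ : Cfsg.IrrCharacter G // A.Inv (χ : G → ℂ) ∧ twIrr a χ = χ} := by
    apply Nat.card_congr
    apply Equiv.subtypeEquivRight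
    intro χ
    rw [twIrr_eq_iff]
  have e2 : Nat.card {β : Cfsg.IrrCharacter C // twIrr b β = β}
      = Nat.card {β : Cfsg.IrrCharacter C //
          (β : C → ℂ) ∘ (fun c => b c⁻¹) = (β : C → ℂ)} := by
    apply Nat.card_congr
    apply Equiv.subtypeEquivRight
    intro β
    rw [twIrr_eq_iff]
    constructor
    · intro h
      funext c
      exact h c
    · intro h c
      exact congrFun h c
  have hconj : ∀ x y : C, IsConj x y → IsConj ((fun c => b c⁻¹) x) ((fun c => b c⁻¹) y) := by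
    intro x y hxy
    obtain ⟨u, hu⟩ := isConj_iff.mp hxy
    show IsConj (b x⁻¹) (b y⁻¹)
    rw [isConj_iff]
    refine ⟨b u, ?_⟩
    rw [← hu, ← map_inv b u, ← map_mul, ← map_mul]
    congr 1
    group
  have hirr : ∀ β : Cfsg.IrrCharacter C,
      Cfsg.IsIrrCharacter C ((β : C → ℂ) ∘ (fun c => b c⁻¹)) := by
    intro β
    have h : (β : C → ℂ) ∘ (fun c => b c⁻¹) = (twIrr b β : C → ℂ) := by
      funext c
      exact (twIrr_apply b β c).symm
    rw [h]
    exact (twIrr b β).2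
  have e3 := card_fixed_classes_eq_card_fixed_irr (G := C) (fun c => b c⁻¹) hconj hirr
  rw [e1, card_inv_tw_irr A hM a b hab hn, e2, ← e3]
  exact card_tw_cls A a b hab

end Cfsg.Agent.Lib.Helper6.RealNorm
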