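import Mathlib
import Cfsg.Agent.Lib.Helper8.RealOrb4
import Cfsg.Agent.Lib.Helper8.GlauP10
import Cfsg.Agent.Lib.Helper6.RealNorm1
import Cfsg.Agent.Lib.Helper6.RealNorm2
import Cfsg.Agent.Lib.Helper6.BlkVanish
import Cfsg.Agent.Lib.Helper3.ItoConv

/-! Real classes and the normalizer of a Sylow subgroup: the case of a normal `p'`-subgroup of odd
index. -/
set_option autoImplicit false

namespace Cfsg.Agent.Lib.Helper6.RealNorm

open Cfsg.Agent.Lib.Helper6 Cfsg.Agent.Lib.Helper8.GlauP Cfsg.Agent.Lib.Helper8.GlauL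
  Cfsg.Agent.Lib.Helper8.RealOrb Cfsg.Agent.Lib.Helper8 Cfsg.Agent.Lib.Helper3
open scoped ComplexConjugate

/-- counting a subtype of a subtype -/
theorem card_subtype_subtype {X : Type*} (R : X → Prop) (S : {x : X // R x} → Prop)
    (Q : X → Prop) (h : ∀ x : X, Q x ↔ ∃ hr : R x, S ⟨x, hr⟩) :
    Nat.card {x' : {x : X // R x} // S x'} = Nat.card {x : X // Q x} := by
  apply Nat.card_congr
  exact ⟨fun x' => ⟨x'.1.1, (h x'.1.1).mpr ⟨x'.1.2, x'.2⟩⟩,
    fun x => ⟨⟨x.1, ((h x.1).mp x.2).choose⟩, ((h x.1).mp x.2).choose_spec⟩,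
    fun _ => rfl, fun _ => rfl⟩

section

variable {G : Type*} [Group G] [Finite G] {p : ℕ} [hp : Fact p.Prime]

/-- a subgroup of index prime to `p` contains a conjugate of a Sylow `p`-subgroup -/
theorem exists_conj_le_of_not_dvd_index (P : Sylow p G) (I : Subgroup G)
    (h : ¬ p ∣ I.index) : ∃ g : G, ∀ s ∈ (P : Subgroup G), g⁻¹ * s * g ∈ I := by
  have hfp := P.isPGroup'.nonempty_fixed_point_of_prime_not_dvd_card (G ⧸ I)
    (by rwa [← Subgroup.index_eq_card])
  obtain ⟨q, hq⟩ := hfp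
  induction q using QuotientGroup.induction_on with
  | H g =>
    refine ⟨g, fun s hs => ?_⟩
    have h1 := hq ⟨s, hs⟩
    have h2 : ((s * g : G) : G ⧸ I) = (g : G ⧸ I) := h1
    rw [QuotientGroup.eq] at h2
    have h3 := I.inv_mem h2
    have e : ((s * g)⁻¹ * g)⁻¹ = g⁻¹ * s * g := by group
    rwa [e] at h3

variable (K : Subgroup G) [hK : K.Normal] (P : Sylow p G)

/-- the fixed points of `P` in `K` -/
abbrev cfix : Subgroup G := K ⊓ Subgroup.centralizer ((P : Subgroup G) : Set G)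

/-- the action of `P` on `K` -/
noncomputable def pact (hpK : ¬ p ∣ Nat.card K) :
    PAct p ↥K ↥(cfix K P) ↥(P : Subgroup G) :=
  PAct.ofSubgroups K (P : Subgroup G) (cfix K P) (fun s _ g hg => hK.conj_mem g hg s) rfl
    inf_le_left P.isPGroup' hpK

theorem pact_φ_coe (hpK : ¬ p ∣ Nat.card K) (s : (P : Subgroup G)) (k : K) :
    (((pact K P hpK).φ s k : K) : G) = (s : G) * k * (s : G)⁻¹ := rfl

theorem pact_φ_eq (hpK : ¬ p ∣ Nat.card K) (s : (P : Subgroup G)) (k : K) :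
    (pact K P hpK).φ s k = conjN K (s : G) k := Subtype.ext rfl

theorem pact_ι_coe (hpK : ¬ p ∣ Nat.card K) (c : cfix K P) :
    (((pact K P hpK).ι c : K) : G) = (c : G) := rfl

theorem pact_inv_iff (hpK : ¬ p ∣ Nat.card K) (χ : K → ℂ) :
    (pact K P hpK).Inv χ ↔
      ∀ s ∈ (P : Subgroup G), ∀ g g' : K, (g' : G) = s * g * s⁻¹ → χ g' = χ g :=
  PAct.ofSubgroups_inv_iff K (P : Subgroup G) (cfix K P) (fun s _ g hg => hK.conj_mem g hg s) rfl
    inf_le_left P.isPGroup' hpK χ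

/-- conjugation by a normalizing element preserves the fixed points -/
theorem conj_mem_cfix {n : G} (hn : n ∈ Subgroup.normalizer ((P : Subgroup G) : Set G))
    (c : G) (hc : c ∈ cfix K P) : n * c * n⁻¹ ∈ cfix K P := by
  rw [Subgroup.mem_inf] at hc ⊢
  refine ⟨hK.conj_mem c hc.1 n, ?_⟩
  rw [Subgroup.mem_centralizer_iff]
  intro s hs
  have hs' : n⁻¹ * s * n ∈ (P : Subgroup G) := by
    have hn' := (Subgroup.normalizer ((P : Subgroup G) : Set G)).inv_mem hn
    have := (Subgroup.mem_normalizer_iff.mp hn' s).mp hs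
    rwa [inv_inv] at this
  have h1 := (Subgroup.mem_centralizer_iff.mp hc.2) (n⁻¹ * s * n) hs'
  calc s * (n * c * n⁻¹) = n * ((n⁻¹ * s * n) * c) * n⁻¹ := by group
    _ = n * (c * (n⁻¹ * s * n)) * n⁻¹ := by rw [h1]
    _ = n * c * n⁻¹ * s := by group

/-- conjugation by a normalizing element, on the fixed points -/
def cfixAut {n : G} (hn : n ∈ Subgroup.normalizer ((P : Subgroup G) : Set G)) :
    ↥(cfix K P) ≃* ↥(cfix K P) :=
  conjAut (cfix K P) n (fun c hc => conj_mem_cfix K P hn c hc) (fun c hc => by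
    have := conj_mem_cfix K P
      ((Subgroup.normalizer ((P : Subgroup G) : Set G)).inv_mem hn) c hc
    rwa [inv_inv] at this)

theorem cfixAut_coe {n : G} (hn : n ∈ Subgroup.normalizer ((P : Subgroup G) : Set G))
    (c : cfix K P) : ((cfixAut K P hn c : cfix K P) : G) = n * c * n⁻¹ := rfl

/-! ### translation of the fixed-point conditions -/

theorem inv_iff_smul (hpK : ¬ p ∣ Nat.card K) (θ : RealIrr K) :
    (∀ s ∈ (P : Subgroup G), (letI := actRealIrr K; s • θ) = θ) ↔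
      (pact K P hpK).Inv (θ.1 : K → ℂ) := by
  rw [pact_inv_iff]
  constructor
  · intro h s hs g g' hg'
    have h1 := h s⁻¹ ((P : Subgroup G).inv_mem hs)
    have h2 : (((letI := actRealIrr K; s⁻¹ • θ) : RealIrr K).1 : K → ℂ) g
        = (θ.1 : K → ℂ) g := by rw [h1]
    rw [actRealIrr_apply] at h2
    have e : (conjN K s⁻¹)⁻¹ g = g' := by
      apply Subtype.ext
      rw [conjN_inv_coe, inv_inv, hg']
    rw [e] at h2
    exact h2
  · intro h s hs
    apply Subtype.ext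
    apply Subtype.ext
    funext k
    show (θ.1 : K → ℂ) ((conjN K s)⁻¹ k) = (θ.1 : K → ℂ) k
    apply h s⁻¹ ((P : Subgroup G).inv_mem hs) k
    rw [conjN_inv_coe, inv_inv]

theorem smul_eq_iff (θ : RealIrr K) (n : G) :
    (letI := actRealIrr K; n • θ) = θ ↔
      ∀ k : K, (θ.1 : K → ℂ) (conjN K n k) = (θ.1 : K → ℂ) k := by
  constructor
  · intro h k
    have h2 : (((letI := actRealIrr K; n • θ) : RealIrr K).1 : K → ℂ) (conjN K n k)
        = (θ.1 : K → ℂ) (conjN K n k) := by rw [h]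
    rw [actRealIrr_apply, MulAut.inv_apply_self] at h2
    exact h2.symm
  · intro h
    apply Subtype.ext
    apply Subtype.ext
    funext k
    show (θ.1 : K → ℂ) ((conjN K n)⁻¹ k) = (θ.1 : K → ℂ) k
    have := h ((conjN K n)⁻¹ k)
    rw [MulAut.apply_inv_self] at this
    exact this.symm

theorem invCls_iff_smul (hpK : ¬ p ∣ Nat.card K) (c : RealClasses K) :
    (∀ s ∈ (P : Subgroup G), (letI := actRealClasses K; s • c) = c) ↔
      (pact K P hpK).InvCls c.1 := by
  constructor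
  · intro h s g hg
    have h1 := h s s.2
    have h2 : clsMap K (s : G) c.1 = c.1 := congrArg Subtype.val h1
    rw [← hg, clsMap_mk] at h2
    rw [pact_φ_eq, ← hg]
    exact h2
  · intro h s hs
    apply Subtype.ext
    show clsMap K s c.1 = c.1
    obtain ⟨k, hk⟩ := ConjClasses.exists_rep c.1
    have h1 := h ⟨s, hs⟩ k hk
    rw [pact_φ_eq] at h1
    rw [← hk, clsMap_mk]
    rw [← hk] at h1
    exact h1

theorem smul_cls_eq_iff (c : RealClasses K) (n : G) :
    (letI := actRealClasses K; n • c) = c ↔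
      ∀ k : K, ConjClasses.mk k = c.1 → ConjClasses.mk (conjN K n k) = c.1 := by
  constructor
  · intro h k hk
    have h2 : clsMap K n c.1 = c.1 := congrArg Subtype.val h
    rw [← hk, clsMap_mk] at h2
    rw [← hk]
    exact h2
  · intro h
    apply Subtype.ext
    show clsMap K n c.1 = c.1
    obtain ⟨k, hk⟩ := ConjClasses.exists_rep c.1
    have h1 := h k hk
    rw [← hk, clsMap_mk]
    rw [← hk] at h1
    exact h1

/-- the fixed-point counts agree -/
theorem card_fix_eq (hodd : Odd K.index) (hpK : ¬ p ∣ Nat.card K) {n : G}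
    (hn : n ∈ Subgroup.normalizer ((P : Subgroup G) : Set G)) :
    Nat.card {θ : RealIrr K // (∀ s ∈ (P : Subgroup G), (letI := actRealIrr K; s • θ) = θ) ∧
        (letI := actRealIrr K; n • θ) = θ}
      = Nat.card {c : RealClasses K //
          (∀ s ∈ (P : Subgroup G), (letI := actRealClasses K; s • c) = c) ∧
          (letI := actRealClasses K; n • c) = c} := by
  classical
  haveI : Fintype K := Fintype.ofFinite K
  haveI : Fintype (cfix K P) := Fintype.ofFinite _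
  obtain ⟨M, hM⟩ := exists_isPModular p
  have e1 := card_subtype_subtype (X := Cfsg.IrrCharacter K)
    (fun θ => RealFun (θ : K → ℂ))
    (fun θ => (∀ s ∈ (P : Subgroup G), (letI := actRealIrr K; s • θ) = θ) ∧
        (letI := actRealIrr K; n • θ) = θ)
    (fun χ => (pact K P hpK).Inv (χ : K → ℂ) ∧
      ∀ k : K, (χ : K → ℂ) (conjN K n k⁻¹) = (χ : K → ℂ) k)
    (by
      intro χ
      constructor
      · intro hQ
        have h1 : (χ : K → ℂ) ∘ tw K n = (χ : K → ℂ) := funext fun k => hQ.2 k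
        obtain ⟨hr, h2⟩ := (comp_tw_eq_iff K hodd n χ).mp h1
        exact ⟨hr, (inv_iff_smul K P hpK ⟨χ, hr⟩).mpr hQ.1, (smul_eq_iff K ⟨χ, hr⟩ n).mpr h2⟩
      · rintro ⟨hr, hS⟩
        refine ⟨(inv_iff_smul K P hpK ⟨χ, hr⟩).mp hS.1, fun k => ?_⟩
        exact congrFun ((comp_tw_eq_iff K hodd n χ).mpr
          ⟨hr, (smul_eq_iff K ⟨χ, hr⟩ n).mp hS.2⟩) k)
  have e2 := card_subtype_subtype (X := ConjClasses K)
    (fun c => RealCls c)
    (fun c => (∀ s ∈ (P : Subgroup G), (letI := actRealClasses K; s • c) = c) ∧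
        (letI := actRealClasses K; n • c) = c)
    (fun L => (pact K P hpK).InvCls L ∧
      ∀ k : K, ConjClasses.mk k = L → IsConj k (conjN K n k⁻¹))
    (by
      intro L
      constructor
      · intro hQ
        obtain ⟨hr, h2⟩ := (class_tw_iff K hodd n L).mp hQ.2
        exact ⟨hr, (invCls_iff_smul K P hpK ⟨L, hr⟩).mpr hQ.1,
          (smul_cls_eq_iff K ⟨L, hr⟩ n).mpr h2⟩
      · rintro ⟨hr, hS⟩
        exact ⟨(invCls_iff_smul K P hpK ⟨L, hr⟩).mp hS.1,
          (class_tw_iff K hodd n L).mpr ⟨hr, (smul_cls_eq_iff K ⟨L, hr⟩ n).mp hS.2⟩⟩)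
  rw [e1, e2]
  apply card_inv_tw_eq (pact K P hpK) hM (conjN K n) (cfixAut K P hn)
  · intro c
    apply Subtype.ext
    rfl
  · intro t
    refine ⟨⟨n * t * n⁻¹, (Subgroup.mem_normalizer_iff.mp hn t).mp t.2⟩, fun k => ?_⟩
    apply Subtype.ext
    show n * ((t : G) * (k : G) * (t : G)⁻¹) * n⁻¹
      = (n * (t : G) * n⁻¹) * (n * (k : G) * n⁻¹) * (n * (t : G) * n⁻¹)⁻¹
    group

/-- elements of the inertia group fix the character -/
theorem smul_eq_of_mem_inertia (θ : RealIrr K) {h : G}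
    (hh : h ∈ inertia K hK (θ.1 : K → ℂ)) : (letI := actRealIrr K; h • θ) = θ := by
  have h1 := (inertia K hK (θ.1 : K → ℂ)).inv_mem hh
  rw [mem_inertia] at h1
  apply Subtype.ext
  apply Subtype.ext
  funext k
  show (θ.1 : K → ℂ) ((conjN K h)⁻¹ k) = (θ.1 : K → ℂ) k
  have h2 := congrFun h1 k
  rw [conjFun_apply] at h2
  have e : (conjN K h)⁻¹ k = ⟨h⁻¹ * k * h⁻¹⁻¹, hK.conj_mem k k.2 h⁻¹⟩ := by
    apply Subtype.ext
    show (((conjN K h)⁻¹ k : K) : G) = h⁻¹ * k * h⁻¹⁻¹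
    rw [conjN_inv_coe, inv_inv]
  rw [e]
  exact h2

/-- every orbit on the real characters of `K` contains a `P`-fixed point -/
theorem exists_fixed_irr (hodd : Odd K.index)
    (hreal : ∀ χ : Cfsg.IrrCharacter G, (∀ g : G, ((χ : G → ℂ) g).im = 0) →
      ¬ p ∣ Cfsg.charDegree (χ : G → ℂ))
    (θ : RealIrr K) :
    letI := actRealIrr K
    ∃ g : G, ∀ s ∈ (P : Subgroup G), s • g • θ = g • θ := by
  classical
  haveI : Fintype G := Fintype.ofFinite G
  haveI : Fintype K := Fintype.ofFinite K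
  letI := actRealIrr K
  have hθr : ∀ k : K, conj ((θ.1 : K → ℂ) k) = (θ.1 : K → ℂ) k :=
    fun k => Complex.conj_eq_iff_im.mpr (θ.2 k)
  have hfs : FS.fsInd (θ.1 : K → ℂ) ≠ 0 := by
    rcases FS.fsInd_irr_of_real θ.1 hθr with h | h <;> rw [h] <;> norm_num
  obtain ⟨χ, hχ1, hχ2⟩ := exists_real_over K hodd θ.1 hfs
  have hχr : ∀ g : G, ((χ : G → ℂ) g).im = 0 :=
    fun g => Complex.conj_eq_iff_im.mp (FS.real_of_fsInd_ne_zero χ hχ1 g)
  have hdeg := hreal χ hχr
  have hidx := ItoConv.inertia_index_dvd_charDegree K hK χ θ.1 hχ2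
  have hpI : ¬ p ∣ (inertia K hK (θ.1 : K → ℂ)).index := fun h => hdeg (h.trans hidx)
  obtain ⟨g, hg⟩ := exists_conj_le_of_not_dvd_index P _ hpI
  refine ⟨g, fun s hs => ?_⟩
  have h1 : (g⁻¹ * s * g) • θ = θ := smul_eq_of_mem_inertia K θ (hg s hs)
  have e : s * g = g * (g⁻¹ * s * g) := by group
  rw [← mul_smul, e, mul_smul, h1]

/-- the main lemma: a real element is conjugate into the centralizer of `P` -/
theorem exists_conj_mem_centralizer (hodd : Odd K.index) (hpK : ¬ p ∣ Nat.card K)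
    (hreal : ∀ χ : Cfsg.IrrCharacter G, (∀ g : G, ((χ : G → ℂ) g).im = 0) →
      ¬ p ∣ Cfsg.charDegree (χ : G → ℂ))
    (x : G) (hx : IsConj x x⁻¹) :
    ∃ y ∈ Subgroup.centralizer ((P : Subgroup G) : Set G), IsConj x y := by
  classical
  haveI : Fintype K := Fintype.ofFinite K
  haveI : Fintype (cfix K P) := Fintype.ofFinite _
  have hxK : x ∈ K := mem_of_real K hodd hx
  have hk : IsConj (⟨x, hxK⟩ : K) (⟨x, hxK⟩ : K)⁻¹ := real_in_of_real K hodd ⟨x, hxK⟩ hx
  let c : RealClasses K := ⟨ConjClasses.mk ⟨x, hxK⟩, (realCls_mk_iff _).mpr hk⟩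
  letI i1 := actRealIrr K
  letI i2 := actRealClasses K
  obtain ⟨g, hg⟩ := exists_fixed_in_orbit P (card_orbits_eq K hodd)
    (exists_fixed_irr K P hodd hreal) (fun n hn => card_fix_eq K P hodd hpK hn) c
  have hinv : (pact K P hpK).InvCls (g • c).1 := (invCls_iff_smul K P hpK (g • c)).mp hg
  have hgc : (g • c).1 = ConjClasses.mk (conjN K g ⟨x, hxK⟩) := rfl
  rw [hgc] at hinv
  obtain ⟨L', hL'⟩ := (pact K P hpK).exists_map_eq _ hinv
  obtain ⟨c₀, hc₀⟩ := ConjClasses.exists_rep L'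
  rw [← hc₀] at hL'
  have h1 : IsConj ((pact K P hpK).ι c₀) (conjN K g ⟨x, hxK⟩) :=
    ConjClasses.mk_eq_mk_iff_isConj.mp hL'
  have h2 : IsConj (c₀ : G) (g * x * g⁻¹) := K.subtype.map_isConj h1
  have h3 : IsConj x (g * x * g⁻¹) := isConj_iff.mpr ⟨g, rfl⟩
  exact ⟨(c₀ : G), (Subgroup.mem_inf.mp c₀.2).2, h3.trans h2.symm⟩

end

end Cfsg.Agent.Lib.Helper6.RealNorm
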