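import Mathlib
import Cfsg.Agent.Lib.Helper6.RealNorm3
import Cfsg.Agent.Lib.Helper6.RealDeg3
import Cfsg.Agent.Lib.Helper6.QuotChar

/-! Real classes meet the normalizer of a Sylow `p`-subgroup. -/
set_option autoImplicit false

universe u

namespace Cfsg.Agent.Lib.Helper6.RealNorm

open Cfsg.Agent.Lib.Helper6 Cfsg.Agent.Lib.Helper6.RealDeg

/-- cardinality of a subgroup via its image and the part of the kernel inside it -/
theorem card_map_mul_card_inf_ker_rn {G : Type*} [Group G] [Finite G] {H : Type*} [Group H]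
    (f : G →* H) (K : Subgroup G) :
    Nat.card K = Nat.card (K.map f) * Nat.card (K ⊓ f.ker : Subgroup G) := by
  have h1 := Subgroup.index_mul_card (f.subgroupMap K).ker
  rw [Subgroup.index_ker, MonoidHom.range_eq_top.mpr (f.subgroupMap_surjective K)] at h1
  rw [← h1]
  congr 1
  · simp
  · have h2 : (f.subgroupMap K).ker = (K ⊓ f.ker).subgroupOf K := by
      ext x
      rw [MonoidHom.mem_ker, Subgroup.mem_subgroupOf, Subgroup.mem_inf, MonoidHom.mem_ker]
      constructor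
      · intro h
        refine ⟨x.2, ?_⟩
        have := congrArg Subtype.val h
        simpa using this
      · rintro ⟨_, h⟩
        apply Subtype.ext
        simpa using h
    rw [h2]
    exact Nat.card_congr (Subgroup.subgroupOfEquivOfLe inf_le_left).toEquiv

/-- the normalizer of a Sylow `p`-subgroup meets every real class -/
theorem exists_conj_mem_normalizer {G : Type u} [Group G] [Finite G] (p : ℕ) [hp : Fact p.Prime]
    (hsolv : Group.IsSolvable (powRes p G))
    (hreal : ∀ χ : Cfsg.IrrCharacter G, (∀ g : G, ((χ : G → ℂ) g).im = 0) →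
      ¬ p ∣ Cfsg.charDegree (χ : G → ℂ))
    (P : Sylow p G) (x : G) (hx : IsConj x x⁻¹) :
    ∃ y ∈ Subgroup.normalizer ((P : Subgroup G) : Set G), IsConj x y := by
  classical
  have hKn : (powRes 2 G).Normal := powRes_normal 2 G
  have hodd : Odd (powRes 2 G).index := by
    have := not_dvd_index_of_powRes_le (G := G) 2 (le_refl (powRes 2 G))
    exact Nat.odd_iff.mpr (Nat.two_dvd_ne_zero.mp this)
  obtain ⟨Q⟩ : Nonempty (Sylow p (powRes 2 G)) := inferInstance
  have hQn : (Q : Subgroup (powRes 2 G)).Normal :=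
    sylow_normal_of_relIndex p hsolv hreal (powRes 2 G) hKn le_rfl
      ⟨0, by rw [Subgroup.relIndex_self, pow_zero]⟩ Q
  haveI hQc : (Q : Subgroup (powRes 2 G)).Characteristic := Sylow.characteristic_of_normal Q hQn
  have hQ₀n : ((Q : Subgroup (powRes 2 G)).map (powRes 2 G).subtype).Normal :=
    ConjAct.normal_of_characteristic_of_normal
  have hQ₀p : IsPGroup p ((Q : Subgroup (powRes 2 G)).map (powRes 2 G).subtype) :=
    Q.isPGroup'.map (powRes 2 G).subtype
  have hQ₀K : (Q : Subgroup (powRes 2 G)).map (powRes 2 G).subtype ≤ powRes 2 G :=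
    Subgroup.map_subtype_le _
  have hQ₀card : Nat.card ((Q : Subgroup (powRes 2 G)).map (powRes 2 G).subtype)
      = p ^ (Nat.card (powRes 2 G)).factorization p := by
    rw [Subgroup.card_map_of_injective (powRes 2 G).subtype_injective]
    exact Q.card_eq_multiplicity
  -- generalize
  generalize (Q : Subgroup (powRes 2 G)).map (powRes 2 G).subtype = Q₀ at hQ₀n hQ₀p hQ₀K hQ₀card
  generalize powRes 2 G = K at hKn hodd hQ₀K hQ₀card
  haveI := hKn
  haveI := hQ₀n
  have hπs : Function.Surjective (QuotientGroup.mk' Q₀) := QuotientGroup.mk'_surjective Q₀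
  have hker : (QuotientGroup.mk' Q₀).ker = Q₀ := QuotientGroup.ker_mk' Q₀
  obtain ⟨Pb, hPb⟩ := Sylow.exists_comap_eq_of_ker_isPGroup P (f := QuotientGroup.mk' Q₀)
    (by rw [hker]; exact hQ₀p)
  haveI hKbn : (K.map (QuotientGroup.mk' Q₀)).Normal := hKn.map _ hπs
  have hKbodd : Odd (K.map (QuotientGroup.mk' Q₀)).index := by
    rw [Subgroup.index_map_eq K hπs (by rw [hker]; exact hQ₀K)]
    exact hodd
  have hpKb : ¬ p ∣ Nat.card (K.map (QuotientGroup.mk' Q₀)) := by
    intro hdvd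
    have h1 := card_map_mul_card_inf_ker_rn (QuotientGroup.mk' Q₀) K
    have h2 : K ⊓ (QuotientGroup.mk' Q₀).ker = Q₀ := by
      rw [hker]
      exact inf_eq_right.mpr hQ₀K
    rw [h2] at h1
    have h4 : p ^ ((Nat.card K).factorization p + 1) ∣ Nat.card K := by
      obtain ⟨m, hm⟩ := hdvd
      refine ⟨m, ?_⟩
      calc Nat.card K = Nat.card (K.map (QuotientGroup.mk' Q₀)) * Nat.card Q₀ := h1
        _ = p ^ ((Nat.card K).factorization p + 1) * m := by
          rw [hm, hQ₀card, pow_succ]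
          ring
    exact Nat.pow_succ_factorization_not_dvd Nat.card_pos.ne' hp.out h4
  have hrealb : ∀ χ : Cfsg.IrrCharacter (G ⧸ Q₀), (∀ g, ((χ : G ⧸ Q₀ → ℂ) g).im = 0) →
      ¬ p ∣ Cfsg.charDegree (χ : G ⧸ Q₀ → ℂ) := by
    intro χ hχ
    haveI : Fintype G := Fintype.ofFinite G
    have hirr := IsIrrCharacter.comp_mk Q₀ χ.2
    have h1 := hreal ⟨_, hirr⟩ (fun g => hχ _)
    have e : Cfsg.charDegree (fun g : G => (χ : G ⧸ Q₀ → ℂ) (QuotientGroup.mk g))
        = Cfsg.charDegree (χ : G ⧸ Q₀ → ℂ) := by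
      unfold Cfsg.charDegree
      show ⌊((χ : G ⧸ Q₀ → ℂ) ((1 : G) : G ⧸ Q₀)).re⌋₊ = _
      rw [QuotientGroup.mk_one]
    rw [← e]
    exact h1
  have hxb : IsConj (QuotientGroup.mk' Q₀ x) (QuotientGroup.mk' Q₀ x)⁻¹ := by
    rw [← map_inv]
    exact (QuotientGroup.mk' Q₀).map_isConj hx
  obtain ⟨yb, hyb, hconj⟩ := exists_conj_mem_centralizer (K.map (QuotientGroup.mk' Q₀)) Pb
    hKbodd hpKb hrealb (QuotientGroup.mk' Q₀ x) hxb
  obtain ⟨gb, hgb⟩ := isConj_iff.mp hconj
  obtain ⟨g, rfl⟩ := hπs gb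
  refine ⟨g * x * g⁻¹, ?_, isConj_iff.mpr ⟨g, rfl⟩⟩
  have hy : QuotientGroup.mk' Q₀ (g * x * g⁻¹) = yb := by
    rw [map_mul, map_mul, map_inv]
    exact hgb
  have hyN : yb ∈ Subgroup.normalizer ((Pb : Subgroup (G ⧸ Q₀)) : Set (G ⧸ Q₀)) :=
    Subgroup.centralizer_le_normalizer _ hyb
  rw [Subgroup.mem_normalizer_iff]
  intro h
  have hmem : ∀ z : G, z ∈ (P : Subgroup G) ↔
      QuotientGroup.mk' Q₀ z ∈ (Pb : Subgroup (G ⧸ Q₀)) := by
    intro z
    rw [← hPb]
    exact Subgroup.mem_comap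
  rw [hmem, hmem, map_mul, map_mul (QuotientGroup.mk' Q₀) (g * x * g⁻¹) h, map_inv, hy]
  exact Subgroup.mem_normalizer_iff.mp hyN (QuotientGroup.mk' Q₀ h)

end Cfsg.Agent.Lib.Helper6.RealNorm
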