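import Mathlib
import Cfsg.Agent.Lib.Helper4.QuatSyl3
import Cfsg.Agent.Lib.Helper4.SL2CT
import Cfsg.Agent.Lib.Helper6.RedSylow

/-!
# Redundant Sylow subgroups of `SL₂(q)`
-/

set_option autoImplicit false

namespace Cfsg.Agent.Lib.Helper6.RedSylow

open Matrix Cfsg.Agent.Lib.Helper4 Cfsg.Agent.Lib.Helper4.SL2Tr Cfsg.Agent.Lib.Helper4.SL2Ord
  Cfsg.Agent.Lib.Helper4.SL2Cov Cfsg.Agent.Lib.Helper4.SL2Syl Cfsg.Agent.Lib.Helper4.QuatSyl
  Cfsg.Agent.Lib.Helper4.SL2CT

section arith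

lemma m_eq_one_of_pow (a m k : ℕ) (h : 2 ^ a * m = 2 ^ k) (hm : ¬ 2 ∣ m) : m = 1 := by
  have h1 : m ∣ 2 ^ k := ⟨2 ^ a, by rw [← h, mul_comm]⟩
  obtain ⟨j, -, hj⟩ := (Nat.dvd_prime_pow Nat.prime_two).1 h1
  rcases Nat.eq_zero_or_pos j with h0 | h0
  · rw [hj, h0, pow_zero]
  · exfalso
    apply hm
    rw [hj]
    exact dvd_pow_self 2 h0.ne'

lemma pow_mod_four (k : ℕ) (h : 2 ^ k % 4 = 2) : k = 1 := by
  rcases k with _ | _ | k
  · norm_num at h
  · rfl
  · exfalso
    have : 2 ^ (k + 1 + 1) = 4 * 2 ^ k := by ring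
    rw [this] at h
    omega

lemma four_dvd (a m : ℕ) (ha : 2 ≤ a) : 4 ∣ 2 ^ a * m := by
  obtain ⟨b, rfl⟩ : ∃ b, a = b + 2 := ⟨a - 2, by omega⟩
  exact ⟨2 ^ b * m, by ring⟩

lemma arith_main (q a m : ℕ) (hq : q % 2 = 1) (hq2 : 2 ≤ q) (hm : ¬ 2 ∣ m) (ha : 2 ≤ a)
    (hN : 2 ^ a * m = q - 1 ∨ 2 ^ a * m = q + 1) :
    1 < m ↔ ((2 : ℕ) = 2 ∧ (¬ ∃ k : ℕ, q + 1 = 2 ^ k) ∧ (¬ ∃ k : ℕ, q = 2 ^ k) ∧
      ¬ ∃ k : ℕ, q = 2 ^ k + 1) := by
  have h4 := four_dvd a m ha
  have hm0 : m ≠ 0 := by rintro rfl; exact hm (dvd_zero 2)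
  constructor
  · intro h1m
    refine ⟨rfl, ?_, ?_, ?_⟩
    · rintro ⟨k, hk⟩
      rcases hN with h | h
      · have hk4 : 2 ^ k % 4 = 2 := by
          rw [← hk]
          obtain ⟨t, ht⟩ := h4
          omega
        have := pow_mod_four k hk4
        subst this
        omega
      · have := m_eq_one_of_pow a m k (by rw [h, hk]) hm
        omega
    · rintro ⟨k, hk⟩
      rcases k with _ | k
      · omega
      · rw [pow_succ] at hk
        omega
    · rintro ⟨k, hk⟩
      rcases hN with h | h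
      · have := m_eq_one_of_pow a m k (by rw [h, hk]; omega) hm
        omega
      · have hk4 : 2 ^ k % 4 = 2 := by
          obtain ⟨t, ht⟩ := h4
          omega
        have := pow_mod_four k hk4
        subst this
        have hq3 : q = 3 := by omega
        subst hq3
        have h5 : 2 ^ a * m = 2 ^ 2 := by rw [h]; norm_num
        have := m_eq_one_of_pow a m 2 h5 hm
        omega
  · rintro ⟨-, h1, -, h3⟩
    by_contra hlt
    have hm1 : m = 1 := by omega
    subst hm1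
    rw [mul_one] at hN
    rcases hN with h | h
    · exact h3 ⟨a, by omega⟩
    · exact h1 ⟨a, h.symm⟩

end arith

section sl2

variable {F : Type*} [Field F] [Fintype F]

local notation "SL2" => Matrix.SpecialLinearGroup (Fin 2) F

/-- the torus of `SL₂(q)` carrying a Sylow 2-subgroup, with its order -/
theorem exists_torusHyp' (hodd : Odd (Fintype.card F)) :
    ∃ (c : Matrix.SpecialLinearGroup (Fin 2) F) (a m : ℕ), TorusHyp c (negOneSL F) a m ∧
      (2 ^ a * m = Fintype.card F - 1 ∨ 2 ^ a * m = Fintype.card F + 1) := by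
  classical
  obtain ⟨q, hq⟩ : ∃ q, q = Fintype.card F := ⟨_, rfl⟩
  have hq2 : 2 ≤ Fintype.card F := Fintype.one_lt_card
  have hqodd : q % 2 = 1 := by rw [hq]; exact Nat.odd_iff.1 hodd
  rw [← hq]
  have key : ∀ N : ℕ, (N = q - 1 ∨ N = q + 1) → 4 ∣ N →
      (∃ T' : Subgroup SL2, IsCyclic T' ∧ Nat.card T' = N ∧
      (∀ g ∈ T', g * g ≠ 1 → Subgroup.centralizer ({g} : Set SL2) = T') ∧
      (∀ g ∈ Subgroup.normalizer (T' : Set SL2), g ∉ T' → g * g = negOneSL F)) →
      ∃ (c : Matrix.SpecialLinearGroup (Fin 2) F) (a m : ℕ), TorusHyp c (negOneSL F) a m ∧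
        (2 ^ a * m = q - 1 ∨ 2 ^ a * m = q + 1) := by
    intro N hNq h4 ⟨T', hcyc, hcard, hcent, hsq⟩
    have hN0 : N ≠ 0 := by rcases hNq with h | h <;> omega
    obtain ⟨a, ha⟩ : ∃ a, a = N.factorization 2 := ⟨_, rfl⟩
    obtain ⟨m, hm⟩ : ∃ m, m = N / 2 ^ a := ⟨_, rfl⟩
    have hN : N = 2 ^ a * m := by
      rw [hm, ha]; exact (Nat.ordProj_mul_ordCompl_eq_self N 2).symm
    have hmodd : ¬ 2 ∣ m := by
      rw [hm, ha]; exact Nat.not_dvd_ordCompl Nat.prime_two hN0
    have ha2 : 2 ≤ a := by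
      rw [ha]
      exact (Nat.Prime.pow_dvd_iff_le_factorization Nat.prime_two hN0).1 (by norm_num; exact h4)
    have hval : (Nat.card SL2).factorization 2 = a + 1 := by
      rw [card_SL2_eq hq2, ← hq]
      apply val_arith q a m hqodd hmodd ha2
      rcases hNq with h | h
      · left; rw [← h, hN]
      · right; rw [← h, hN]
    obtain ⟨c, Hc⟩ := torusHyp_of_cyclic T' (negOneSL F) N a m hcyc hcard hN hmodd ha2 hcent hsq
      (invol_SL2 hodd) negOneSL_mem_center hval (fus_SL2 hodd)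
    refine ⟨c, a, m, Hc, ?_⟩
    rw [← hN]
    exact hNq
  by_cases hq4 : q % 4 = 1
  · have hq5 : 5 ≤ Fintype.card F := by rw [← hq]; omega
    have hT := split_torus hodd hq5
    rw [← hq] at hT
    exact key (q - 1) (Or.inl rfl) (by omega) hT
  · obtain ⟨T', h1, h2, -, h4, -, -, -, h8⟩ := Cfsg.Agent.S2429.result hodd (F := F)
    rw [← hq] at h2
    have hT : ∃ T' : Subgroup SL2, IsCyclic T' ∧ Nat.card T' = q + 1 ∧
        (∀ g ∈ T', g * g ≠ 1 → Subgroup.centralizer ({g} : Set SL2) = T') ∧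
        (∀ g ∈ Subgroup.normalizer (T' : Set SL2), g ∉ T' → g * g = negOneSL F) := by
      refine ⟨T', h1, h2, ?_, ?_⟩
      · intro g hg hgg
        apply h4 g hg
        · intro h
          apply hgg
          have : g = 1 := Subtype.ext h
          rw [this, mul_one]
        · intro h
          apply hgg
          rw [eq_negOne_of_coe g h]
          exact negOneSL_mul_self
      · intro g hg hgT
        exact eq_negOne_of_coe _ (h8 g hg hgT)
    exact key (q + 1) (Or.inr rfl) (by omega) hT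

/-- the centraliser of a non-scalar element of `SL₂` is abelian -/
theorem comm_of_centralizer [DecidableEq F] (x a b : Matrix.SpecialLinearGroup (Fin 2) F)
    (hx : ¬ IsScalar2 (x : Matrix (Fin 2) (Fin 2) F))
    (ha : a * x = x * a) (hb : b * x = x * b) : a * b = b * a := by
  by_cases has : IsScalar2 (a : Matrix (Fin 2) (Fin 2) F)
  · have := mem_center_of_isScalar2 a has
    exact (Subgroup.mem_center_iff.1 this b).symm
  · have h1 := centralizer_eq_of_commute a x has hx ha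
    have h2 : b ∈ Subgroup.centralizer ({x} : Set SL2) := by
      rw [Subgroup.mem_centralizer_singleton_iff]; exact hb
    rw [← h1, Subgroup.mem_centralizer_singleton_iff] at h2
    exact h2.symm

/-- non-identity elements of odd prime power order are not scalar -/
theorem not_scalar_of_odd_prime [DecidableEq F] {p : ℕ} [Fact p.Prime] (hp : p ≠ 2)
    (x : Matrix.SpecialLinearGroup (Fin 2) F) (hx1 : x ≠ 1) (hx : ∃ k : ℕ, orderOf x = p ^ k) :
    ¬ IsScalar2 (x : Matrix (Fin 2) (Fin 2) F) := by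
  intro hs
  rcases eq_one_or_neg_of_isScalar2 x hs with h | h
  · exact hx1 h
  · obtain ⟨k, hk⟩ := hx
    have h2 : orderOf x ∣ 2 := by
      apply orderOf_dvd_of_pow_eq_one
      rw [pow_two, h]
      exact negOneSL_mul_self
    rw [hk] at h2
    rcases Nat.eq_zero_or_pos k with h0 | h0
    · apply hx1
      rw [← orderOf_eq_one_iff, hk, h0, pow_zero]
    · apply hp
      have h3 : p ∣ 2 := (dvd_pow_self p h0.ne').trans h2
      exact (Nat.prime_dvd_prime_iff_eq Fact.out Nat.prime_two).1 h3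

lemma charP_two_of_not_odd (h : ¬ Odd (Fintype.card F)) : CharP F 2 := by
  apply ringChar.of_eq
  rw [FiniteField.even_card_iff_char_two]
  rcases Nat.even_or_odd (Fintype.card F) with he | ho
  · exact Nat.even_iff.1 he
  · exact absurd ho h

theorem sl2_main (p : ℕ) [Fact p.Prime] :
    (∃ Q : Sylow p (Matrix.SpecialLinearGroup (Fin 2) F), Redundant Q) ↔
      (p = 2 ∧ (¬ ∃ k : ℕ, Fintype.card F + 1 = 2 ^ k) ∧ (¬ ∃ k : ℕ, Fintype.card F = 2 ^ k) ∧
        ¬ ∃ k : ℕ, Fintype.card F = 2 ^ k + 1) := by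
  classical
  by_cases hcase : p = 2 ∧ Odd (Fintype.card F)
  · obtain ⟨rfl, hodd⟩ := hcase
    obtain ⟨c, a, m, H, hN⟩ := exists_torusHyp' hodd
    rw [exists_redundant_iff H (fus_SL2 hodd)]
    exact arith_main (Fintype.card F) a m (Nat.odd_iff.1 hodd) Fintype.one_lt_card H.odd
      H.two_le hN
  · have hL : ¬ ∃ Q : Sylow p SL2, Redundant Q := by
      rintro ⟨Q, hQ⟩
      refine not_redundant_of_comm ?_ Q hQ
      intro x hx1 hxord a b ha hb
      apply comm_of_centralizer x a b ?_ ha hb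
      by_cases hp : p = 2
      · have hodd : ¬ Odd (Fintype.card F) := fun h => hcase ⟨hp, h⟩
        have := charP_two_of_not_odd hodd
        exact not_isScalar2_of_ne_one x hx1
      · exact not_scalar_of_odd_prime hp x hx1 hxord
    have hR : ¬ (p = 2 ∧ (¬ ∃ k : ℕ, Fintype.card F + 1 = 2 ^ k) ∧
        (¬ ∃ k : ℕ, Fintype.card F = 2 ^ k) ∧ ¬ ∃ k : ℕ, Fintype.card F = 2 ^ k + 1) := by
      rintro ⟨hp, -, h2, -⟩
      apply h2
      have hodd : ¬ Odd (Fintype.card F) := fun h => hcase ⟨hp, h⟩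
      have := charP_two_of_not_odd hodd
      obtain ⟨n, -, hn⟩ := FiniteField.card F 2
      exact ⟨n, hn⟩
    exact iff_of_false hL hR

end sl2

end Cfsg.Agent.Lib.Helper6.RedSylow
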