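import Mathlib
import Cfsg.Agent.Lib.Helper6.RedSylowSL2

/-!
# Redundant Sylow subgroups of `PSL₂(q)`
-/

set_option autoImplicit false

namespace Cfsg.Agent.Lib.Helper6.RedSylow

open Matrix Cfsg.Agent.Lib.Helper4 Cfsg.Agent.Lib.Helper4.SL2Tr Cfsg.Agent.Lib.Helper4.SL2Ord
  Cfsg.Agent.Lib.Helper4.SL2Cov Cfsg.Agent.Lib.Helper4.SL2Syl Cfsg.Agent.Lib.Helper4.QuatSyl
  Cfsg.Agent.Lib.Helper4.SL2CT

section transfer

variable {G H : Type*} [Group G] [Group H] {p : ℕ} [Fact p.Prime]

lemma pgroup_elt_of_map (f : G →* H) (hker : IsPGroup p f.ker) (x : G)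
    (hx : ∃ k : ℕ, orderOf (f x) = p ^ k) : ∃ k : ℕ, orderOf x = p ^ k := by
  obtain ⟨k, hk⟩ := hx
  have h1 : x ^ p ^ k ∈ f.ker := by
    rw [MonoidHom.mem_ker, map_pow, ← hk, pow_orderOf_eq_one]
  obtain ⟨j, hj⟩ := hker ⟨_, h1⟩
  have h2 : x ^ p ^ (k + j) = 1 := by
    have h3 : (x ^ p ^ k) ^ p ^ j = 1 := by
      have := congrArg Subtype.val hj
      simpa using this
    rw [pow_add, pow_mul]; exact h3
  obtain ⟨i, -, hi⟩ := (Nat.dvd_prime_pow Fact.out).1 (orderOf_dvd_of_pow_eq_one h2)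
  exact ⟨i, hi⟩

lemma pgroup_elt_map (f : G →* H) (x : G) (hx : ∃ k : ℕ, orderOf x = p ^ k) :
    ∃ k : ℕ, orderOf (f x) = p ^ k := by
  obtain ⟨k, hk⟩ := hx
  have h1 : orderOf (f x) ∣ p ^ k := hk ▸ orderOf_map_dvd f x
  obtain ⟨i, -, hi⟩ := (Nat.dvd_prime_pow Fact.out).1 h1
  exact ⟨i, hi⟩

/-- redundancy passes through a surjection with `p`-group kernel -/
theorem exists_redundant_iff_of_ker [Finite G] (f : G →* H) (hf : Function.Surjective f)
    (hker : IsPGroup p f.ker) :
    (∃ Q : Sylow p H, Redundant Q) ↔ (∃ Q : Sylow p G, Redundant Q) := by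
  constructor
  · rintro ⟨Q, hQ⟩
    have hrange : ∀ P : Sylow p H, (P : Subgroup H) ≤ f.range := fun P => by
      rw [MonoidHom.range_eq_top.2 hf]; exact le_top
    refine ⟨Q.comapOfKerIsPGroup f hker (hrange Q), ?_⟩
    intro x hx
    obtain ⟨P, hPQ, hxP⟩ := hQ (f x) (pgroup_elt_map f x hx)
    refine ⟨P.comapOfKerIsPGroup f hker (hrange P), ?_, ?_⟩
    · intro h
      apply hPQ
      apply Sylow.ext
      have h2 := congrArg (fun S : Sylow p G => (S : Subgroup G)) h
      simp only [Sylow.coe_comapOfKerIsPGroup] at h2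
      exact Subgroup.comap_injective hf h2
    · change x ∈ ((P.comapOfKerIsPGroup f hker (hrange P) : Sylow p G) : Subgroup G)
      rw [Sylow.coe_comapOfKerIsPGroup, Subgroup.mem_comap]
      exact hxP
  · rintro ⟨Q, hQ⟩
    refine ⟨Q.mapSurjective hf, ?_⟩
    intro y hy
    obtain ⟨x, rfl⟩ := hf y
    obtain ⟨P, hPQ, hxP⟩ := hQ x (pgroup_elt_of_map f hker x hy)
    refine ⟨P.mapSurjective hf, ?_, ?_⟩
    · intro h
      apply hPQ
      apply Sylow.ext
      have h2 := congrArg (fun S : Sylow p H => (S : Subgroup H)) h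
      simp only [Sylow.coe_mapSurjective] at h2
      have hkP : f.ker ≤ (P : Subgroup G) := hker.le_sylow_of_normal P
      have hkQ : f.ker ≤ (Q : Subgroup G) := hker.le_sylow_of_normal Q
      have := congrArg (Subgroup.comap f) h2
      rwa [Subgroup.comap_map_eq_self hkP, Subgroup.comap_map_eq_self hkQ] at this
    · change f x ∈ ((P.mapSurjective hf : Sylow p H) : Subgroup H)
      rw [Sylow.coe_mapSurjective]
      exact Subgroup.mem_map_of_mem f hxP

end transfer

section psl2

variable {F : Type*} [Field F] [Fintype F]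

local notation "SL2" => Matrix.SpecialLinearGroup (Fin 2) F
local notation "PSL2" => Matrix.ProjectiveSpecialLinearGroup (Fin 2) F

lemma center_sq (ζ : Matrix.SpecialLinearGroup (Fin 2) F)
    (hζ : ζ ∈ Subgroup.center (Matrix.SpecialLinearGroup (Fin 2) F)) : ζ * ζ = 1 := by
  obtain ⟨r, hr, hrζ⟩ := Matrix.SpecialLinearGroup.mem_center_iff.1 hζ
  apply Subtype.ext
  rw [Matrix.SpecialLinearGroup.coe_mul, ← hrζ, ← map_mul, ← pow_two]
  rw [Fintype.card_fin] at hr
  rw [hr, map_one]
  rfl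

theorem psl2_main (p : ℕ) [Fact p.Prime] :
    (∃ Q : Sylow p (Matrix.ProjectiveSpecialLinearGroup (Fin 2) F), Redundant Q) ↔
      (p = 2 ∧ (¬ ∃ k : ℕ, Fintype.card F + 1 = 2 ^ k) ∧ (¬ ∃ k : ℕ, Fintype.card F = 2 ^ k) ∧
        ¬ ∃ k : ℕ, Fintype.card F = 2 ^ k + 1) := by
  classical
  by_cases hp : p = 2
  · subst hp
    have hker : IsPGroup 2 (QuotientGroup.mk' (Subgroup.center SL2)).ker := by
      rw [QuotientGroup.ker_mk']
      intro ζ
      refine ⟨1, ?_⟩
      apply Subtype.ext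
      rw [pow_one, pow_two]
      exact center_sq ζ.1 ζ.2
    have h1 := exists_redundant_iff_of_ker (QuotientGroup.mk' (Subgroup.center SL2))
      (QuotientGroup.mk'_surjective _) hker
    exact h1.trans (sl2_main 2)
  · have hL : ¬ ∃ Q : Sylow p PSL2, Redundant Q := by
      rintro ⟨Q, hQ⟩
      refine not_redundant_of_comm ?_ Q hQ
      intro x hx1 hxord a b ha hb
      obtain ⟨x, rfl⟩ := QuotientGroup.mk_surjective x
      obtain ⟨a, rfl⟩ := QuotientGroup.mk_surjective a
      obtain ⟨b, rfl⟩ := QuotientGroup.mk_surjective b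
      have hxx : ¬ IsScalar2 ((x * x : SL2) : Matrix (Fin 2) (Fin 2) F) := by
        intro hs
        have h1 := mem_center_of_isScalar2 _ hs
        have h2 : ((QuotientGroup.mk x : PSL2)) ^ 2 = 1 := by
          rw [← QuotientGroup.mk_pow, pow_two]
          exact (QuotientGroup.eq_one_iff _).2 h1
        obtain ⟨k, hk⟩ := hxord
        have h3 := orderOf_dvd_of_pow_eq_one h2
        rw [hk] at h3
        rcases Nat.eq_zero_or_pos k with h0 | h0
        · apply hx1
          rw [← orderOf_eq_one_iff, hk, h0, pow_zero]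
        · apply hp
          have h4 : p ∣ 2 := (dvd_pow_self p h0.ne').trans h3
          exact (Nat.prime_dvd_prime_iff_eq Fact.out Nat.prime_two).1 h4
      have key : ∀ g : SL2, (QuotientGroup.mk g : PSL2) * QuotientGroup.mk x
          = QuotientGroup.mk x * QuotientGroup.mk g → g * (x * x) = (x * x) * g := by
        intro g hg
        have h1 : (g * x)⁻¹ * (x * g) ∈ Subgroup.center SL2 := QuotientGroup.eq.1 hg
        obtain ⟨ζ, hζ⟩ : ∃ ζ, ζ = (g * x)⁻¹ * (x * g) := ⟨_, rfl⟩
        rw [← hζ] at h1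
        have e1 : x * g = g * x * ζ := by rw [hζ]; group
        have hζc := Subgroup.mem_center_iff.1 h1
        have hζ2 := center_sq ζ h1
        symm
        calc (x * x) * g = x * (x * g) := mul_assoc _ _ _
          _ = x * (g * x * ζ) := by rw [e1]
          _ = (x * g) * x * ζ := by group
          _ = (g * x * ζ) * x * ζ := by rw [e1]
          _ = g * x * (ζ * x) * ζ := by group
          _ = g * x * (x * ζ) * ζ := by rw [hζc x]
          _ = g * (x * x) * (ζ * ζ) := by group
          _ = g * (x * x) := by rw [hζ2, mul_one]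
      have := comm_of_centralizer (x * x) a b hxx (key a ha) (key b hb)
      change (QuotientGroup.mk a : PSL2) * QuotientGroup.mk b
        = QuotientGroup.mk b * QuotientGroup.mk a
      rw [← QuotientGroup.mk_mul, ← QuotientGroup.mk_mul, this]
    exact iff_of_false hL (fun h => hp h.1)

end psl2

end Cfsg.Agent.Lib.Helper6.RedSylow
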