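import Mathlib
import Cfsg.Agent.Lib.Helper6.RegUni8

set_option autoImplicit false
set_option linter.unusedSectionVars false
set_option linter.unusedVariables false
set_option linter.unusedSimpArgs false

/-! An explicit regular nilpotent skew matrix. -/

namespace Cfsg.Agent.Lib.Helper6.RegUni

open Matrix Module

variable (F : Type*) [Field F] (m : ℕ)

/-- the `k`-th coordinate vector (zero when `k ≥ m`) -/
def eN (k : ℕ) : Fin m → F := fun i => if (i : ℕ) = k then 1 else 0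

/-- the shift matrix -/
def Sm : Matrix (Fin m) (Fin m) F := Matrix.of fun i j => if (i : ℕ) = (j : ℕ) + 1 then 1 else 0

/-- the corner matrix unit -/
def Em : Matrix (Fin m) (Fin m) F :=
  Matrix.of fun i j => if (i : ℕ) + 1 = m ∧ (j : ℕ) + 1 = m then 1 else 0

/-- the explicit regular nilpotent skew matrix -/
def Y0 : Matrix (Fin m ⊕ Fin m) (Fin m ⊕ Fin m) F := Matrix.fromBlocks (Sm F m) 0 (Em F m) (-(Sm F m)ᵀ)

variable {F m}

theorem eN_ge (k : ℕ) (hk : m ≤ k) : eN F m k = 0 := by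
  funext i
  unfold eN
  rw [if_neg]
  · rfl
  · have := i.isLt; omega

theorem Sm_eN (k : ℕ) : Sm F m *ᵥ eN F m k = eN F m (k + 1) := by
  funext i
  unfold Matrix.mulVec dotProduct
  by_cases h : (i : ℕ) = k + 1
  · have hk : k < m := by have := i.isLt; omega
    rw [Finset.sum_eq_single (⟨k, hk⟩ : Fin m)]
    · simp [Sm, eN, h]
    · intro j _ hj
      have : (j : ℕ) ≠ k := fun hh => hj (Fin.ext hh)
      simp [eN, this]
    · intro hh; exact absurd (Finset.mem_univ _) hh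
  · rw [Finset.sum_eq_zero]
    · simp [eN, h]
    · intro j _
      by_cases hj : (j : ℕ) = k
      · have : ¬ (i : ℕ) = (j : ℕ) + 1 := by rw [hj]; exact h
        simp [Sm, this]
      · simp [eN, hj]

theorem SmT_eN (j : ℕ) (hj : j + 1 < m) : (Sm F m)ᵀ *ᵥ eN F m (j + 1) = eN F m j := by
  funext i
  unfold Matrix.mulVec dotProduct
  by_cases h : (i : ℕ) = j
  · rw [Finset.sum_eq_single (⟨j + 1, hj⟩ : Fin m)]
    · simp [Sm, eN, h]
    · intro l _ hl
      have : (l : ℕ) ≠ j + 1 := fun hh => hl (Fin.ext hh)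
      simp [eN, this]
    · intro hh; exact absurd (Finset.mem_univ _) hh
  · rw [Finset.sum_eq_zero]
    · simp [eN, h]
    · intro l _
      by_cases hl : (l : ℕ) = j + 1
      · have : ¬ (l : ℕ) = (i : ℕ) + 1 := by rw [hl]; omega
        simp [Sm, this]
      · simp [eN, hl]

theorem SmT_eN_zero : (Sm F m)ᵀ *ᵥ eN F m 0 = 0 := by
  funext i
  unfold Matrix.mulVec dotProduct
  rw [Finset.sum_eq_zero]
  · rfl
  · intro l _
    by_cases hl : (l : ℕ) = 0
    · have : ¬ (l : ℕ) = (i : ℕ) + 1 := by rw [hl]; omega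
      simp [Sm, this]
    · simp [eN, hl]

theorem Em_eN (k : ℕ) : Em F m *ᵥ eN F m k = if k + 1 = m then eN F m k else 0 := by
  funext i
  unfold Matrix.mulVec dotProduct
  by_cases hk : k + 1 = m
  · rw [if_pos hk]
    have hkm : k < m := by omega
    rw [Finset.sum_eq_single (⟨k, hkm⟩ : Fin m)]
    · by_cases hi : (i : ℕ) = k
      · simp [Em, eN, hi, hk]
      · have : ¬ ((i : ℕ) + 1 = m) := by omega
        simp [Em, eN, hi, this]
    · intro j _ hj
      have : (j : ℕ) ≠ k := fun hh => hj (Fin.ext hh)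
      simp [eN, this]
    · intro hh; exact absurd (Finset.mem_univ _) hh
  · rw [if_neg hk, Finset.sum_eq_zero]
    · rfl
    · intro j _
      by_cases hj : (j : ℕ) = k
      · have : ¬ ((j : ℕ) + 1 = m) := by rw [hj]; exact hk
        simp [Em, this]
      · simp [eN, hj]

theorem Em_symm : (Em F m)ᵀ = Em F m := by
  ext i j
  simp [Em, Matrix.transpose_apply, and_comm]

theorem Y0_skew : (Y0 F m)ᵀ * Matrix.J (Fin m) F = -(Matrix.J (Fin m) F * Y0 F m) := by
  unfold Y0 Matrix.J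
  rw [Matrix.fromBlocks_transpose, Matrix.fromBlocks_multiply, Matrix.fromBlocks_multiply,
    Matrix.fromBlocks_neg, Em_symm]
  simp

theorem Y0_e (k : ℕ) : Y0 F m *ᵥ Sum.elim (eN F m k) (0 : Fin m → F) =
    Sum.elim (eN F m (k + 1)) (if k + 1 = m then eN F m k else 0) := by
  unfold Y0
  rw [Matrix.fromBlocks_mulVec]
  simp only [Sum.elim_comp_inl, Sum.elim_comp_inr]
  rw [Sm_eN, Em_eN]
  simp

theorem Y0_f (j : ℕ) (hj : j + 1 < m) : Y0 F m *ᵥ Sum.elim (0 : Fin m → F) (eN F m (j + 1)) =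
    Sum.elim (0 : Fin m → F) (-eN F m j) := by
  unfold Y0
  rw [Matrix.fromBlocks_mulVec]
  simp only [Sum.elim_comp_inl, Sum.elim_comp_inr]
  rw [Matrix.neg_mulVec, SmT_eN j hj]
  simp

theorem Y0_f0 : Y0 F m *ᵥ Sum.elim (0 : Fin m → F) (eN F m 0) = 0 := by
  unfold Y0
  rw [Matrix.fromBlocks_mulVec]
  simp only [Sum.elim_comp_inl, Sum.elim_comp_inr]
  rw [Matrix.neg_mulVec, SmT_eN_zero]
  simp

theorem Y0_pow_e (k : ℕ) (hk : k < m) :
    Y0 F m ^ k *ᵥ Sum.elim (eN F m 0) (0 : Fin m → F) = Sum.elim (eN F m k) (0 : Fin m → F) := by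
  induction k with
  | zero => simp
  | succ k ih =>
    rw [pow_succ', ← Matrix.mulVec_mulVec, ih (by omega), Y0_e, if_neg (by omega)]

theorem Y0_pow_f (hm : 1 ≤ m) (a : ℕ) (ha : a < m) :
    Y0 F m ^ (m + a) *ᵥ Sum.elim (eN F m 0) (0 : Fin m → F) =
      (-1 : F) ^ a • Sum.elim (0 : Fin m → F) (eN F m (m - 1 - a)) := by
  induction a with
  | zero =>
    obtain ⟨k, rfl⟩ : ∃ k, m = k + 1 := ⟨m - 1, by omega⟩
    rw [add_zero, pow_succ', ← Matrix.mulVec_mulVec, Y0_pow_e k (by omega), Y0_e, if_pos rfl,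
      eN_ge (k + 1) (le_refl _), pow_zero, one_smul]
    simp
  | succ a ih =>
    rw [← add_assoc, pow_succ', ← Matrix.mulVec_mulVec, ih (by omega), Matrix.mulVec_smul]
    have e1 : m - 1 - a = (m - 1 - (a + 1)) + 1 := by omega
    rw [e1, Y0_f _ (by omega), pow_succ, mul_neg_one, neg_smul]
    congr 1
    funext r
    rcases r with i | i <;> simp

theorem Y0_top (hm : 1 ≤ m) :
    Y0 F m ^ (2 * m - 1) *ᵥ Sum.elim (eN F m 0) (0 : Fin m → F) = (-1 : F) ^ (m - 1) • Sum.elim (0 : Fin m → F) (eN F m 0) := by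
  have h1 := Y0_pow_f (F := F) hm (m - 1) (by omega)
  have e1 : m + (m - 1) = 2 * m - 1 := by omega
  have e2 : m - 1 - (m - 1) = 0 := by omega
  rw [e1, e2] at h1
  exact h1

theorem Y0_cyc (hm : 1 ≤ m) : Y0 F m ^ (2 * m - 1) *ᵥ Sum.elim (eN F m 0) (0 : Fin m → F) ≠ 0 := by
  rw [Y0_top hm]
  intro h
  have h1 := congrFun h (Sum.inr ⟨0, by omega⟩)
  simp [eN] at h1

theorem Y0_full (hm : 1 ≤ m) : Y0 F m ^ (2 * m) *ᵥ Sum.elim (eN F m 0) (0 : Fin m → F) = 0 := by
  have e1 : 2 * m = (2 * m - 1) + 1 := by omega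
  rw [e1, pow_succ', ← Matrix.mulVec_mulVec, Y0_top hm, Matrix.mulVec_smul, Y0_f0, smul_zero]

theorem single_inl (k : Fin m) :
    (Pi.single (Sum.inl k) 1 : Fin m ⊕ Fin m → F) = Sum.elim (eN F m k) (0 : Fin m → F) := by
  funext r
  rcases r with i | i
  · simp [eN, Pi.single_apply, Fin.ext_iff]
  · simp [Pi.single_apply]

theorem single_inr (k : Fin m) :
    (Pi.single (Sum.inr k) 1 : Fin m ⊕ Fin m → F) = Sum.elim (0 : Fin m → F) (eN F m k) := by
  funext r
  rcases r with i | i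
  · simp [Pi.single_apply]
  · simp [eN, Pi.single_apply, Fin.ext_iff]

theorem Y0_nil (hm : 1 ≤ m) : Y0 F m ^ (2 * m) = 0 := by
  have hcomm : ∀ k : ℕ, Y0 F m ^ (2 * m) *ᵥ (Y0 F m ^ k *ᵥ Sum.elim (eN F m 0) (0 : Fin m → F)) = 0 := by
    intro k
    rw [Matrix.mulVec_mulVec, ← pow_add, add_comm, pow_add, ← Matrix.mulVec_mulVec, Y0_full hm,
      Matrix.mulVec_zero]
  ext r c
  have hcol : Y0 F m ^ (2 * m) *ᵥ Pi.single c 1 = 0 := by
    rcases c with k | k
    · rw [single_inl, ← Y0_pow_e (k : ℕ) k.isLt]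
      exact hcomm _
    · rw [single_inr]
      have h1 := Y0_pow_f (F := F) hm (m - 1 - (k : ℕ)) (by omega)
      have e2 : m - 1 - (m - 1 - (k : ℕ)) = (k : ℕ) := by have := k.isLt; omega
      rw [e2] at h1
      have h3 : (Sum.elim (0 : Fin m → F) (eN F m (k : ℕ)) : Fin m ⊕ Fin m → F) =
          (-1 : F) ^ (m - 1 - (k : ℕ)) • (Y0 F m ^ (m + (m - 1 - (k : ℕ))) *ᵥ
            Sum.elim (eN F m 0) (0 : Fin m → F)) := by
        rw [h1, smul_smul, ← pow_add, ← two_mul, pow_mul]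
        simp
      rw [h3, Matrix.mulVec_smul, hcomm, smul_zero]
  have := congrFun hcol r
  rw [Matrix.mulVec_single_one] at this
  simpa using this

end Cfsg.Agent.Lib.Helper6.RegUni
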