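import Mathlib
import Cfsg.Agent.Lib.Helper6.RegUni9

set_option autoImplicit false
set_option linter.unusedSectionVars false
set_option linter.unusedVariables false
set_option linter.unusedSimpArgs false

/-! The two classes of regular unipotent elements of the symplectic group in odd characteristic. -/

namespace Cfsg.Agent.Lib.Helper6.RegUni

open Matrix Module Cfsg.Agent.Lib.Helper5

variable {F : Type*} [Field F] {m : ℕ}

/-- regular nilpotent skew matrices -/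
def RegSkew (y : Matrix (Fin m ⊕ Fin m) (Fin m ⊕ Fin m) F) : Prop :=
  y ^ (2 * m) = 0 ∧ (∃ v : Fin m ⊕ Fin m → F, y ^ (2 * m - 1) *ᵥ v ≠ 0) ∧
    yᵀ * Matrix.J (Fin m) F = -(Matrix.J (Fin m) F * y)

theorem regSkew_Y0 (hm : 1 ≤ m) : RegSkew (Y0 F m) :=
  ⟨Y0_nil hm, ⟨_, Y0_cyc hm⟩, Y0_skew⟩

/-- the diagonal similitude -/
def dmat (F : Type*) [Field F] (m : ℕ) (a : F) : Matrix (Fin m ⊕ Fin m) (Fin m ⊕ Fin m) F :=
  Matrix.fromBlocks (a • (1 : Matrix (Fin m) (Fin m) F)) 0 0 1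

theorem dmat_mul (a b : F) : dmat F m a * dmat F m b = dmat F m (a * b) := by
  unfold dmat
  rw [Matrix.fromBlocks_multiply]
  simp [smul_smul, mul_comm]

theorem dmat_one : dmat F m 1 = 1 := by
  unfold dmat
  rw [one_smul, Matrix.fromBlocks_one]

theorem dmat_J (a : F) : (dmat F m a)ᵀ * Matrix.J (Fin m) F * dmat F m a = a • Matrix.J (Fin m) F := by
  unfold dmat Matrix.J
  rw [Matrix.fromBlocks_transpose, Matrix.fromBlocks_multiply, Matrix.fromBlocks_multiply,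
    Matrix.fromBlocks_smul]
  simp

/-- conjugating a regular nilpotent skew matrix by a similitude -/
theorem regSkew_conj {y : Matrix (Fin m ⊕ Fin m) (Fin m ⊕ Fin m) F} (hy : RegSkew y)
    {d di : Matrix (Fin m ⊕ Fin m) (Fin m ⊕ Fin m) F} {μ : F} (hμ : μ ≠ 0) (h1 : d * di = 1)
    (h2 : di * d = 1) (hd : dᵀ * Matrix.J (Fin m) F * d = μ • Matrix.J (Fin m) F) :
    RegSkew (d * y * di) := by
  obtain ⟨hnil, ⟨v, hv⟩, hJ⟩ := hy
  have hpw : ∀ k : ℕ, (d * y * di) ^ k = d * y ^ k * di := by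
    intro k
    have := conj_pow (y := y) h2 k
    calc (d * y * di) ^ k = (d * y * di) ^ k * (d * di) := by rw [h1, Matrix.mul_one]
      _ = d * y ^ k * di := by rw [← Matrix.mul_assoc, this]
  have hdT : diᵀ * dᵀ = 1 := by rw [← Matrix.transpose_mul, h1, Matrix.transpose_one]
  have e1 : dᵀ * Matrix.J (Fin m) F = μ • (Matrix.J (Fin m) F * di) := by
    calc dᵀ * Matrix.J (Fin m) F = dᵀ * Matrix.J (Fin m) F * (d * di) := by
          rw [h1, Matrix.mul_one]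
      _ = (dᵀ * Matrix.J (Fin m) F * d) * di := by simp only [Matrix.mul_assoc]
      _ = μ • (Matrix.J (Fin m) F * di) := by rw [hd, Matrix.smul_mul]
  have e2 : Matrix.J (Fin m) F * d = μ • (diᵀ * Matrix.J (Fin m) F) := by
    calc Matrix.J (Fin m) F * d = (diᵀ * dᵀ) * Matrix.J (Fin m) F * d := by
          rw [hdT, Matrix.one_mul]
      _ = diᵀ * (dᵀ * Matrix.J (Fin m) F * d) := by simp only [Matrix.mul_assoc]
      _ = μ • (diᵀ * Matrix.J (Fin m) F) := by rw [hd, Matrix.mul_smul]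
  have e3 : diᵀ * Matrix.J (Fin m) F = μ⁻¹ • (Matrix.J (Fin m) F * d) := by
    rw [e2, smul_smul, inv_mul_cancel₀ hμ, one_smul]
  refine ⟨?_, ⟨d *ᵥ v, ?_⟩, ?_⟩
  · rw [hpw, hnil, Matrix.mul_zero, Matrix.zero_mul]
  · rw [hpw, Matrix.mulVec_mulVec, Matrix.mul_assoc, h2, Matrix.mul_one, ← Matrix.mulVec_mulVec]
    intro h0
    apply hv
    have := congrArg (fun w => di *ᵥ w) h0
    simp only [Matrix.mulVec_mulVec, Matrix.mulVec_zero] at this
    rw [← Matrix.mul_assoc, h2, Matrix.one_mul] at this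
    exact this
  · calc (d * y * di)ᵀ * Matrix.J (Fin m) F
        = diᵀ * yᵀ * (dᵀ * Matrix.J (Fin m) F) := by
          rw [Matrix.transpose_mul, Matrix.transpose_mul]
          simp only [Matrix.mul_assoc]
      _ = μ • (diᵀ * (yᵀ * Matrix.J (Fin m) F) * di) := by
          rw [e1, Matrix.mul_smul]
          simp only [Matrix.mul_assoc]
      _ = -(μ • ((diᵀ * Matrix.J (Fin m) F) * y * di)) := by
          rw [hJ]
          simp only [Matrix.mul_neg, Matrix.neg_mul, smul_neg, Matrix.mul_assoc]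
      _ = -(Matrix.J (Fin m) F * (d * y * di)) := by
          rw [e3]
          simp only [Matrix.smul_mul, smul_smul, mul_inv_cancel₀ hμ, one_smul, Matrix.mul_assoc]

section sp

variable (h2 : (2 : F) ≠ 0)
include h2

theorem cay_mem {y : Matrix (Fin m ⊕ Fin m) (Fin m ⊕ Fin m) F} (hy : RegSkew y) :
    cay y ∈ Matrix.symplecticGroup (Fin m) F := by
  obtain ⟨hnil, ⟨v, hv⟩, hJ⟩ := hy
  exact SymplecticGroup.mem_iff'.mpr (unipotent_of_reg h2 hnil hv hJ).1

/-- conjugacy of the attached unipotent elements -/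
theorem isConj_cay_iff {y y' : Matrix (Fin m ⊕ Fin m) (Fin m ⊕ Fin m) F} (hy : RegSkew y)
    (hy' : RegSkew y') :
    IsConj (⟨cay y, cay_mem h2 hy⟩ : Matrix.symplecticGroup (Fin m) F) ⟨cay y', cay_mem h2 hy'⟩ ↔
      ∃ k : Matrix (Fin m ⊕ Fin m) (Fin m ⊕ Fin m) F,
        kᵀ * Matrix.J (Fin m) F * k = Matrix.J (Fin m) F ∧ k * y = y' * k := by
  obtain ⟨hnil, ⟨v, hv⟩, hJ⟩ := hy
  obtain ⟨hnil', ⟨v', hv'⟩, hJ'⟩ := hy'
  obtain ⟨-, -, -, hcc, hU⟩ := unipotent_of_reg h2 hnil hv hJ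
  obtain ⟨-, -, -, hcc', hU'⟩ := unipotent_of_reg h2 hnil' hv' hJ'
  rw [isConj_iff]
  constructor
  · rintro ⟨c, hc⟩
    refine ⟨(c : Matrix (Fin m ⊕ Fin m) (Fin m ⊕ Fin m) F),
      SymplecticGroup.mem_iff'.mp c.2, ?_⟩
    have h1 : c * (⟨cay y, cay_mem h2 ⟨hnil, ⟨v, hv⟩, hJ⟩⟩ : Matrix.symplecticGroup (Fin m) F) =
        ⟨cay y', cay_mem h2 ⟨hnil', ⟨v', hv'⟩, hJ'⟩⟩ * c := by
      rw [← hc]; group
    have h3 : (c : Matrix (Fin m ⊕ Fin m) (Fin m ⊕ Fin m) F) * cay y = cay y' * c :=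
      congrArg Subtype.val h1
    have h4 := cay_intertwine hU hU' h3
    rw [hcc, hcc'] at h4
    exact h4
  · rintro ⟨k, hk, hky⟩
    refine ⟨⟨k, SymplecticGroup.mem_iff'.mpr hk⟩, ?_⟩
    rw [mul_inv_eq_iff_eq_mul]
    apply Subtype.ext
    show k * cay y = cay y' * k
    exact cay_intertwine (reg_unit h2 hnil hv hJ) (reg_unit h2 hnil' hv' hJ') hky

end sp

theorem P_const {I : Type*} [Fintype I] [DecidableEq I] (y : Matrix I I F) (n : ℕ) (hn : 1 ≤ n)
    (a : F) : P y n (fun i => if i = 0 then a else 0) = a • (1 : Matrix I I F) := by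
  unfold P
  rw [Finset.sum_eq_single 0]
  · simp
  · intro i _ hi
    simp [hi]
  · intro h
    exact absurd (Finset.mem_range.mpr (by omega)) h

/-- the second standard regular nilpotent skew matrix -/
def Y1 (F : Type*) [Field F] (m : ℕ) (lam : F) : Matrix (Fin m ⊕ Fin m) (Fin m ⊕ Fin m) F :=
  dmat F m lam * Y0 F m * dmat F m lam⁻¹

theorem regSkew_Y1 (hm : 1 ≤ m) {lam : F} (hlam : lam ≠ 0) : RegSkew (Y1 F m lam) :=
  regSkew_conj (regSkew_Y0 hm) hlam (by rw [dmat_mul, mul_inv_cancel₀ hlam, dmat_one])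
    (by rw [dmat_mul, inv_mul_cancel₀ hlam, dmat_one]) (dmat_J lam)

theorem prod_nonsquare [Fintype F] (h2 : (2 : F) ≠ 0) {a b : F} (ha : ¬ IsSquare a)
    (hb : ¬ IsSquare b) : IsSquare (a * b⁻¹) := by
  have hF : ringChar F ≠ 2 := by
    intro h
    have := ringChar.eq_iff.mp h
    exact h2 (by exact_mod_cast CharP.cast_eq_zero F 2)
  have ha0 : a ≠ 0 := by rintro rfl; exact ha ⟨0, by simp⟩
  have hb0 : b ≠ 0 := by rintro rfl; exact hb ⟨0, by simp⟩
  rw [FiniteField.isSquare_iff hF ha0] at ha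
  rw [FiniteField.isSquare_iff hF hb0] at hb
  have ha1 := (FiniteField.pow_dichotomy hF ha0).resolve_left ha
  have hb1 := (FiniteField.pow_dichotomy hF hb0).resolve_left hb
  rw [FiniteField.isSquare_iff hF (mul_ne_zero ha0 (inv_ne_zero hb0)), mul_pow, inv_pow, ha1, hb1]
  simp

section classify

variable (h2 : (2 : F) ≠ 0) (hm : 1 ≤ m) {lam : F} (hlam : ¬ IsSquare lam)
include h2 hm hlam

theorem lam_ne_zero : lam ≠ 0 := by
  rintro rfl; exact hlam ⟨0, by simp⟩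

theorem not_conj_std : ¬ ∃ k : Matrix (Fin m ⊕ Fin m) (Fin m ⊕ Fin m) F,
    kᵀ * Matrix.J (Fin m) F * k = Matrix.J (Fin m) F ∧ k * Y0 F m = Y1 F m lam * k := by
  rintro ⟨k, hk, hky⟩
  have hl0 := lam_ne_zero h2 hm hlam
  have hdd : dmat F m lam * dmat F m lam⁻¹ = 1 := by
    rw [dmat_mul, mul_inv_cancel₀ hl0, dmat_one]
  have hdd' : dmat F m lam⁻¹ * dmat F m lam = 1 := by
    rw [dmat_mul, inv_mul_cancel₀ hl0, dmat_one]
  have hh : IsUnit (dmat F m lam).det := by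
    rw [← Matrix.isUnit_iff_isUnit_det]
    exact isUnit_iff_exists.mpr ⟨_, hdd, hdd'⟩
  have hhy : dmat F m lam * Y0 F m = Y1 F m lam * dmat F m lam := by
    unfold Y1
    rw [Matrix.mul_assoc, hdd', Matrix.mul_one]
  have hc : -(Matrix.J (Fin m) F * (dmat F m lam)ᵀ * Matrix.J (Fin m) F * dmat F m lam) =
      P (Y0 F m) (2 * m) (fun i => if i = 0 then lam else 0) := by
    rw [P_const _ _ (by omega)]
    have : Matrix.J (Fin m) F * (dmat F m lam)ᵀ * Matrix.J (Fin m) F * dmat F m lam =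
        Matrix.J (Fin m) F * ((dmat F m lam)ᵀ * Matrix.J (Fin m) F * dmat F m lam) := by
      simp only [Matrix.mul_assoc]
    rw [this, dmat_J, Matrix.mul_smul, Matrix.J_squared, smul_neg, neg_neg]
  have hkU : IsUnit k.det :=
    SymplecticGroup.symplectic_det (SymplecticGroup.mem_iff'.mpr hk)
  have := isSquare_of_simil h2 (Y0_nil hm) (Y0_cyc hm) Y0_skew (regSkew_Y1 hm hl0).2.2 hh hhy hc
    (μ := 1) one_ne_zero hkU (by rw [hk, one_smul]) hky
  simp only [if_true, inv_one, mul_one] at this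
  exact hlam this

theorem exists_conj_std [Finite F] {y' : Matrix (Fin m ⊕ Fin m) (Fin m ⊕ Fin m) F}
    (hy' : RegSkew y') :
    (∃ k : Matrix (Fin m ⊕ Fin m) (Fin m ⊕ Fin m) F,
      kᵀ * Matrix.J (Fin m) F * k = Matrix.J (Fin m) F ∧ k * Y0 F m = y' * k) ∨
    (∃ k : Matrix (Fin m ⊕ Fin m) (Fin m ⊕ Fin m) F,
      kᵀ * Matrix.J (Fin m) F * k = Matrix.J (Fin m) F ∧ k * Y1 F m lam = y' * k) := by
  have := Fintype.ofFinite F
  obtain ⟨hnil', ⟨v', hv'⟩, hJ'⟩ := hy'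
  have hl0 := lam_ne_zero h2 hm hlam
  have hdd : dmat F m lam * dmat F m lam⁻¹ = 1 := by
    rw [dmat_mul, mul_inv_cancel₀ hl0, dmat_one]
  have hdd' : dmat F m lam⁻¹ * dmat F m lam = 1 := by
    rw [dmat_mul, inv_mul_cancel₀ hl0, dmat_one]
  obtain ⟨h, hh, hhy⟩ := exists_conj card_idx (Y0_nil hm) hnil' (Y0_cyc hm) hv'
  obtain ⟨c, hc, hc0, -⟩ := exists_s_coeff h2 (Y0_nil hm) (Y0_cyc hm) Y0_skew hJ' hh hhy
  by_cases hsq : IsSquare (c 0)
  · left
    obtain ⟨k, -, hk, hky⟩ := exists_simil h2 (Y0_nil hm) (Y0_cyc hm) Y0_skew hJ' hh hhy hc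
      (μ := 1) one_ne_zero (by rw [inv_one, mul_one]; exact hsq)
    exact ⟨k, by rw [hk, one_smul], hky⟩
  · right
    obtain ⟨k, -, hk, hky⟩ := exists_simil h2 (Y0_nil hm) (Y0_cyc hm) Y0_skew hJ' hh hhy hc
      (μ := lam) hl0 (prod_nonsquare h2 hsq hlam)
    refine ⟨k * dmat F m lam⁻¹, ?_, ?_⟩
    · have e1 : (k * dmat F m lam⁻¹)ᵀ * Matrix.J (Fin m) F * (k * dmat F m lam⁻¹) =
          (dmat F m lam⁻¹)ᵀ * (kᵀ * Matrix.J (Fin m) F * k) * dmat F m lam⁻¹ := by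
        rw [Matrix.transpose_mul]
        simp only [Matrix.mul_assoc]
      rw [e1, hk, Matrix.mul_smul, Matrix.smul_mul, dmat_J, smul_smul, mul_inv_cancel₀ hl0,
        one_smul]
    · unfold Y1
      calc k * dmat F m lam⁻¹ * (dmat F m lam * Y0 F m * dmat F m lam⁻¹)
          = k * (dmat F m lam⁻¹ * dmat F m lam) * Y0 F m * dmat F m lam⁻¹ := by
            simp only [Matrix.mul_assoc]
        _ = y' * (k * dmat F m lam⁻¹) := by
            rw [hdd', Matrix.mul_one, hky, Matrix.mul_assoc]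

end classify

/-- the regular unipotent elements of `Sp_{2m}(q)`, `q` odd, form exactly two classes -/
theorem card_regular_unipotent_classes [Fintype F] {q : ℕ} (hF : Fintype.card F = q) (hq : Odd q)
    (hm : 1 ≤ m) :
    Nat.card {C : ConjClasses ↥(Matrix.symplecticGroup (Fin m) F) //
      ∃ u : Matrix.symplecticGroup (Fin m) F, ConjClasses.mk u = C ∧
        ((u : Matrix (Fin m ⊕ Fin m) (Fin m ⊕ Fin m) F) - 1) ^ (2 * m) = 0 ∧
        ((u : Matrix (Fin m ⊕ Fin m) (Fin m ⊕ Fin m) F) - 1).rank = 2 * m - 1} = 2 := by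
  have h2 : (2 : F) ≠ 0 := two_ne_zero_of_odd_card hF hq
  have hF2 : ringChar F ≠ 2 := by
    intro h
    have := ringChar.eq_iff.mp h
    exact h2 (by exact_mod_cast CharP.cast_eq_zero F 2)
  obtain ⟨lam, hlam⟩ := FiniteField.exists_nonsquare hF2
  have hl0 := lam_ne_zero h2 hm hlam
  have hy0 : RegSkew (Y0 F m) := regSkew_Y0 hm
  have hy1 : RegSkew (Y1 F m lam) := regSkew_Y1 hm hl0
  have hu0 := unipotent_of_reg h2 hy0.1 (Y0_cyc hm) hy0.2.2
  obtain ⟨v1, hv1⟩ := hy1.2.1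
  have hu1 := unipotent_of_reg h2 hy1.1 hv1 hy1.2.2
  rw [Nat.card_eq_two_iff]
  refine ⟨⟨ConjClasses.mk ⟨cay (Y0 F m), cay_mem h2 hy0⟩, ⟨cay (Y0 F m), cay_mem h2 hy0⟩, rfl,
    hu0.2.1, hu0.2.2.1⟩,
    ⟨ConjClasses.mk ⟨cay (Y1 F m lam), cay_mem h2 hy1⟩, ⟨cay (Y1 F m lam), cay_mem h2 hy1⟩, rfl,
    hu1.2.1, hu1.2.2.1⟩, ?_, ?_⟩
  · intro h
    have h' := congrArg Subtype.val h
    simp only at h'
    rw [ConjClasses.mk_eq_mk_iff_isConj] at h'
    exact not_conj_std h2 hm hlam ((isConj_cay_iff h2 hy0 hy1).mp h')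
  · ext ⟨C, u, rfl, hn, hr⟩
    simp only [Set.mem_insert_iff, Set.mem_singleton_iff, Set.mem_univ, iff_true]
    obtain ⟨hB, hU, hcc, hnil, hvv, hJ⟩ :=
      reg_of_unipotent h2 hm (SymplecticGroup.mem_iff'.mp u.2) hn hr
    have hy' : RegSkew (cay (u : Matrix (Fin m ⊕ Fin m) (Fin m ⊕ Fin m) F)) := ⟨hnil, hvv, hJ⟩
    have hu : u = ⟨cay (cay (u : Matrix (Fin m ⊕ Fin m) (Fin m ⊕ Fin m) F)), cay_mem h2 hy'⟩ :=
      Subtype.ext hcc.symm
    rcases exists_conj_std h2 hm hlam hy' with hk | hk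
    · left
      apply Subtype.ext
      show ConjClasses.mk u = ConjClasses.mk _
      rw [ConjClasses.mk_eq_mk_iff_isConj]
      have := ((isConj_cay_iff h2 hy0 hy').mpr hk).symm
      rw [← hu] at this
      exact this
    · right
      apply Subtype.ext
      show ConjClasses.mk u = ConjClasses.mk _
      rw [ConjClasses.mk_eq_mk_iff_isConj]
      have := ((isConj_cay_iff h2 hy1 hy').mpr hk).symm
      rw [← hu] at this
      exact this

end Cfsg.Agent.Lib.Helper6.RegUni
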