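import Mathlib
import Cfsg.Prelude.Def_Characters
import Cfsg.Agent.Lib.Helper6.Schur
import Cfsg.Agent.Lib.Helper6.RepBasic
import Cfsg.Agent.Lib.Helper3.GlauCyc2

/-! # Relative central characters: the algebra of `N`-invariant integral group ring elements -/

set_option autoImplicit false
set_option linter.unusedSectionVars false
open Cfsg

namespace Cfsg.Agent.Lib.Helper6.RelC

open Cfsg.Agent.Lib.Helper6 Module

section

variable {G : Type*} [Group G] [Fintype G]

/-- invariance of an integer valued function under conjugation by `N` -/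
def NInv (N : Subgroup G) (a : G → ℤ) : Prop := ∀ n ∈ N, ∀ g : G, a (n * g * n⁻¹) = a g

/-- convolution of integer valued functions -/
def conv (a b : G → ℤ) : G → ℤ := fun g => ∑ x : G, a x * b (x⁻¹ * g)

theorem conv_apply (a b : G → ℤ) (g : G) : conv a b g = ∑ x : G, a x * b (x⁻¹ * g) := rfl

theorem NInv.conv {N : Subgroup G} {a b : G → ℤ} (ha : NInv N a) (hb : NInv N b) :
    NInv N (RelC.conv a b) := by
  intro n hn g
  rw [conv_apply, conv_apply]
  rw [← Equiv.sum_comp (MulAut.conj n).toEquiv]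
  apply Finset.sum_congr rfl
  intro x _
  have h1 : (MulAut.conj n).toEquiv x = n * x * n⁻¹ := rfl
  rw [h1, ha n hn x]
  have h2 : (n * x * n⁻¹)⁻¹ * (n * g * n⁻¹) = n * (x⁻¹ * g) * n⁻¹ := by group
  rw [h2, hb n hn]

theorem sum_conv (a b : G → ℤ) : ∑ g, conv a b g = (∑ g, a g) * (∑ g, b g) := by
  simp only [conv_apply]
  rw [Finset.sum_comm, Finset.sum_mul]
  apply Finset.sum_congr rfl
  intro x _
  rw [← Finset.mul_sum]
  congr 1
  exact Equiv.sum_comp (Equiv.mulLeft x⁻¹) b

variable {V : Type*} [AddCommGroup V] [Module ℂ V] [FiniteDimensional ℂ V]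

/-- restriction of a representation to a subgroup -/
abbrev resRep (ρ : Representation ℂ G V) (N : Subgroup G) : Representation ℂ N V :=
  ρ.comp N.subtype

/-- the operator of an integral group ring element -/
noncomputable def zOp (ρ : Representation ℂ G V) (a : G → ℤ) : Module.End ℂ V :=
  ∑ g : G, (a g : ℂ) • ρ g

theorem zOp_mul (ρ : Representation ℂ G V) (a b : G → ℤ) :
    zOp ρ a * zOp ρ b = zOp ρ (conv a b) := by
  unfold zOp
  rw [Finset.sum_mul]
  have h1 : ∀ x : G, ((a x : ℂ) • ρ x) * ∑ y : G, (b y : ℂ) • ρ y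
      = ∑ g : G, ((a x : ℂ) * (b (x⁻¹ * g) : ℂ)) • ρ g := by
    intro x
    rw [Finset.mul_sum]
    rw [← Equiv.sum_comp (Equiv.mulLeft x⁻¹) (fun y => ((a x : ℂ) • ρ x) * ((b y : ℂ) • ρ y))]
    apply Finset.sum_congr rfl
    intro g _
    rw [Equiv.coe_mulLeft, smul_mul_smul_comm, ← map_mul, mul_inv_cancel_left]
  rw [Finset.sum_congr rfl (fun x _ => h1 x), Finset.sum_comm]
  apply Finset.sum_congr rfl
  intro g _
  rw [← Finset.sum_smul, conv_apply]
  congr 1
  push_cast
  rfl

theorem zOp_comm {N : Subgroup G} (ρ : Representation ℂ G V) {a : G → ℤ} (ha : NInv N a)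
    {n : G} (hn : n ∈ N) : zOp ρ a * ρ n = ρ n * zOp ρ a := by
  unfold zOp
  rw [Finset.sum_mul, Finset.mul_sum]
  rw [← Equiv.sum_comp (MulAut.conj n).toEquiv (fun g => (a g : ℂ) • ρ g * ρ n)]
  apply Finset.sum_congr rfl
  intro g _
  have h1 : (MulAut.conj n).toEquiv g = n * g * n⁻¹ := rfl
  simp only [h1]
  rw [ha n hn g, smul_mul_assoc, mul_smul_comm, ← map_mul, ← map_mul]
  congr 2
  group

theorem isIntegral_zOp (ρ : Representation ℂ G V) (a : G → ℤ) : IsIntegral ℤ (zOp ρ a) := by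
  classical
  let L : MonoidAlgebra ℤ G →ₐ[ℤ] Module.End ℂ V := MonoidAlgebra.lift ℤ (Module.End ℂ V) G ρ
  let z : MonoidAlgebra ℤ G := ∑ g : G, a g • MonoidAlgebra.of ℤ G g
  have hz : L z = zOp ρ a := by
    simp only [z, L, map_sum, map_zsmul, MonoidAlgebra.lift_of, zOp]
    apply Finset.sum_congr rfl
    intro g _
    rw [Int.cast_smul_eq_zsmul]
  rw [← hz]
  exact IsIntegral.map L (IsIntegral.of_finite ℤ z)

theorem trace_zOp (ρ : Representation ℂ G V) (a : G → ℤ) :
    LinearMap.trace ℂ V (zOp ρ a) = ∑ g : G, (a g : ℂ) * ρ.character g := by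
  unfold zOp
  rw [map_sum]
  apply Finset.sum_congr rfl
  intro g _
  rw [map_smul, smul_eq_mul]
  rfl

theorem zOp_eq_smul {N : Subgroup G} (ρ : Representation ℂ G V)
    [(resRep ρ N).IsIrreducible] {a : G → ℤ} (ha : NInv N a) :
    zOp ρ a = ((∑ g : G, (a g : ℂ) * ρ.character g) / (finrank ℂ V : ℂ)) •
      (LinearMap.id : V →ₗ[ℂ] V) := by
  have h1 := eq_trace_div_smul_id_of_comm (resRep ρ N) (zOp ρ a)
    (fun n => zOp_comm ρ ha n.2)
  rw [trace_zOp] at h1
  exact h1

theorem finrank_ne_zero_of_comp {N : Subgroup G} (ρ : Representation ℂ G V)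
    [(resRep ρ N).IsIrreducible] : (finrank ℂ V : ℂ) ≠ 0 := by
  have := finrank_pos_of_isIrreducible (resRep ρ N)
  exact_mod_cast this.ne'

theorem isIntegral_scalar {N : Subgroup G} (ρ : Representation ℂ G V)
    [(resRep ρ N).IsIrreducible] {a : G → ℤ} (ha : NInv N a) :
    IsIntegral ℤ ((∑ g : G, (a g : ℂ) * ρ.character g) / (finrank ℂ V : ℂ)) := by
  have hint := isIntegral_zOp ρ a
  rw [zOp_eq_smul (N := N) ρ ha] at hint
  set c := (∑ g : G, (a g : ℂ) * ρ.character g) / (finrank ℂ V : ℂ)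
  have halg : c • (LinearMap.id : V →ₗ[ℂ] V) = algebraMap ℂ (Module.End ℂ V) c := by
    rw [Algebra.algebraMap_eq_smul_one]
    rfl
  rw [halg] at hint
  have hnt : Nontrivial V := by
    have := finrank_pos_of_isIrreducible (resRep ρ N)
    exact Module.nontrivial_of_finrank_pos this
  exact (isIntegral_algebraMap_iff (FaithfulSMul.algebraMap_injective ℂ (Module.End ℂ V))).mp hint

theorem scalar_mul {N : Subgroup G} (ρ : Representation ℂ G V)
    [(resRep ρ N).IsIrreducible] {a b : G → ℤ} (ha : NInv N a) (hb : NInv N b) :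
    (∑ g : G, (conv a b g : ℂ) * ρ.character g) / (finrank ℂ V : ℂ)
      = ((∑ g : G, (a g : ℂ) * ρ.character g) / (finrank ℂ V : ℂ)) *
        ((∑ g : G, (b g : ℂ) * ρ.character g) / (finrank ℂ V : ℂ)) := by
  have h1 := zOp_mul ρ a b
  rw [zOp_eq_smul (N := N) ρ ha, zOp_eq_smul (N := N) ρ hb,
    zOp_eq_smul (N := N) ρ (NInv.conv ha hb)] at h1
  have h2 := congrArg (LinearMap.trace ℂ V) h1
  rw [smul_mul_smul_comm, map_smul, map_smul] at h2
  have h3 : LinearMap.trace ℂ V ((LinearMap.id : V →ₗ[ℂ] V) * LinearMap.id)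
      = (finrank ℂ V : ℂ) := by
    rw [show ((LinearMap.id : V →ₗ[ℂ] V) * LinearMap.id) = LinearMap.id from rfl,
      LinearMap.trace_id]
  rw [h3, LinearMap.trace_id, smul_eq_mul, smul_eq_mul] at h2
  exact (mul_right_cancel₀ (finrank_ne_zero_of_comp (N := N) ρ) h2).symm

end

section char

variable {G : Type*} [Group G] [Fintype G]

/-- the relative central character evaluated at an integral group ring element -/
noncomputable def relOmega (ψ : G → ℂ) (a : G → ℤ) : ℂ := (∑ g : G, (a g : ℂ) * ψ g) / ψ 1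

theorem exists_rep_of_restrict_irr {N : Subgroup G} {ψ : G → ℂ} (hψ : Cfsg.IsIrrCharacter G ψ)
    (hres : Cfsg.IsIrrCharacter N (fun n : N => ψ n)) :
    ∃ (d : ℕ) (ρ : Representation ℂ G (Fin d → ℂ)), ρ.character = ψ ∧
      (resRep ρ N).IsIrreducible := by
  classical
  have : Fintype N := Fintype.ofFinite _
  obtain ⟨d, ρ, _, rfl⟩ := hψ
  refine ⟨d, ρ, rfl, ?_⟩
  exact Cfsg.Agent.Lib.Helper3.GlauCyc.isIrreducible_of_isIrrCharacter (resRep ρ N) hres

theorem relOmega_isIntegral {N : Subgroup G} {ψ : G → ℂ} (hψ : Cfsg.IsIrrCharacter G ψ)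
    (hres : Cfsg.IsIrrCharacter N (fun n : N => ψ n)) {a : G → ℤ} (ha : NInv N a) :
    IsIntegral ℤ (relOmega ψ a) := by
  obtain ⟨d, ρ, rfl, hirr⟩ := exists_rep_of_restrict_irr hψ hres
  unfold relOmega
  rw [Representation.char_one]
  exact isIntegral_scalar (N := N) ρ ha

theorem relOmega_conv {N : Subgroup G} {ψ : G → ℂ} (hψ : Cfsg.IsIrrCharacter G ψ)
    (hres : Cfsg.IsIrrCharacter N (fun n : N => ψ n)) {a b : G → ℤ} (ha : NInv N a)
    (hb : NInv N b) : relOmega ψ (conv a b) = relOmega ψ a * relOmega ψ b := by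
  obtain ⟨d, ρ, rfl, hirr⟩ := exists_rep_of_restrict_irr hψ hres
  unfold relOmega
  rw [Representation.char_one]
  exact scalar_mul (N := N) ρ ha hb

end char

end Cfsg.Agent.Lib.Helper6.RelC
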