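import Mathlib
import Cfsg.Prelude.Def_Blocks
import Cfsg.Agent.Lib.Helper6.RelC1
import Cfsg.Agent.Lib.Helper6.BlkLocal
import Cfsg.Agent.Lib.Helper6.DegreeDvd
import Cfsg.Agent.Lib.Helper6.ClassFun

/-! # Relative central characters of extensions of principal block characters -/

set_option autoImplicit false
set_option linter.unusedSectionVars false
set_option linter.style.haveILetI false
open Cfsg

namespace Cfsg.Agent.Lib.Helper6.RelC

open Cfsg.Agent.Lib.Helper6 Module

section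

variable {G : Type*} [Group G] [Fintype G] {p : ℕ} [Fact p.Prime] {M : Ideal Cfsg.AlgInt}

/-- `ψ` is an irreducible character of `G` restricting to a principal block character of `N` -/
structure Ext (M : Ideal Cfsg.AlgInt) (N : Subgroup G) (ψ : G → ℂ) : Prop where
  irr : Cfsg.IsIrrCharacter G ψ
  resIrr : Cfsg.IsIrrCharacter N (fun n : N => ψ n)
  prin : Cfsg.SameBlock M (fun _ : N => (1 : ℂ)) (fun n : N => ψ n)

theorem sum_eq_sum_subgroup (N : Subgroup G) [Fintype N] (F : G → ℂ)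
    (hF : ∀ g, F g ≠ 0 → g ∈ N) : ∑ g : G, F g = ∑ n : N, F n := by
  classical
  rw [← Finset.sum_filter_of_ne (s := Finset.univ) (p := fun g => g ∈ N) (f := F)]
  · exact Finset.sum_subtype (Finset.univ.filter (fun g => g ∈ N)) (fun x => by simp) F
  · intro x _ hx
    exact hF x hx

/-- an `N`-invariant element supported on `N` is evaluated like the trivial character -/
theorem Ext.sub_of_supp {N : Subgroup G} {ψ : G → ℂ} (h : Ext M N ψ) (hM : Cfsg.IsPModular p M)
    {a : G → ℤ} (ha : NInv N a) (hs : ∀ g, a g ≠ 0 → g ∈ N) :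
    Cfsg.MemLocalIdeal M (relOmega ψ a - ((∑ g : G, a g : ℤ) : ℂ)) := by
  classical
  haveI : Fintype N := Fintype.ofFinite _
  haveI : Fintype (ConjClasses N) := Fintype.ofFinite _
  set θ : N → ℂ := fun n => ψ n with hθ
  have h1 : ψ 1 = θ 1 := rfl
  have hsum : ∑ g : G, (a g : ℂ) * ψ g = ∑ n : N, (a n : ℂ) * θ n := by
    apply sum_eq_sum_subgroup N (fun g => (a g : ℂ) * ψ g)
    intro g hg
    apply hs
    intro h0
    apply hg
    rw [h0]
    simp
  have hsumz : ((∑ g : G, a g : ℤ) : ℂ) = ∑ n : N, (a n : ℂ) := by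
    push_cast
    apply sum_eq_sum_subgroup N (fun g => (a g : ℂ))
    intro g hg
    apply hs
    intro h0
    apply hg
    rw [h0]
    simp
  have key : relOmega ψ a - ((∑ g : G, a g : ℤ) : ℂ)
      = ∑ n : N, (a n : ℂ) * (θ n / θ 1 - 1) := by
    unfold relOmega
    rw [hsum, hsumz, h1, Finset.sum_div, ← Finset.sum_sub_distrib]
    apply Finset.sum_congr rfl
    intro n _
    ring
  have hcf : Cfsg.IsClassFunction N (fun n : N => (a n : ℂ) * (θ n / θ 1 - 1)) := by
    intro g x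
    have h2 : a ((x * g * x⁻¹ : N) : G) = a (g : G) := by
      have := ha (x : G) x.2 (g : G)
      simpa using this
    have h3 : θ (x * g * x⁻¹) = θ g := IsIrrCharacter.isClassFunction h.resIrr g x
    simp only [h2, h3]
  rw [key, sum_eq_sum_conjClasses _ hcf]
  apply MemLocalIdeal.sum hM
  intro c _
  have h2 := h.prin (Quotient.out c)
  unfold Cfsg.centralChar at h2
  have h3 : ((Subgroup.centralizer ({Quotient.out c} : Set N)).index : ℂ) *
      ((a (Quotient.out c : N) : ℂ) * (θ (Quotient.out c) / θ 1 - 1))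
      = (-(a (Quotient.out c : N) : ℂ)) *
        (((Subgroup.centralizer ({Quotient.out c} : Set N)).index : ℂ) * 1 / 1 -
          ((Subgroup.centralizer ({Quotient.out c} : Set N)).index : ℂ) * θ (Quotient.out c)
            / θ 1) := by
    ring
  rw [h3]
  exact MemLocalIdeal.mul_left hM (MemLocalRing.neg (memLocalRing_intCast hM _)) h2

theorem Ext.relOmega_memLocalRing {N : Subgroup G} {ψ : G → ℂ} (h : Ext M N ψ)
    (hM : Cfsg.IsPModular p M) {a : G → ℤ} (ha : NInv N a) :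
    Cfsg.MemLocalRing M (relOmega ψ a) :=
  memLocalRing_of_isIntegral hM (relOmega_isIntegral h.irr h.resIrr ha)

/-- support of a convolution -/
theorem supp_conv (N : Subgroup G) [hN : N.Normal] {a b : G → ℤ} {c d : G}
    (ha : ∀ g, a g ≠ 0 → c⁻¹ * g ∈ N) (hb : ∀ g, b g ≠ 0 → d⁻¹ * g ∈ N) :
    ∀ g, conv a b g ≠ 0 → (c * d)⁻¹ * g ∈ N := by
  intro g hg
  rw [conv_apply] at hg
  obtain ⟨x, -, hx⟩ := Finset.exists_ne_zero_of_sum_ne_zero hg
  have hax : a x ≠ 0 := left_ne_zero_of_mul hx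
  have hbx : b (x⁻¹ * g) ≠ 0 := right_ne_zero_of_mul hx
  have h1 := ha x hax
  have h2 := hb _ hbx
  have h3 : d⁻¹ * (c⁻¹ * x) * d⁻¹⁻¹ ∈ N := hN.conj_mem _ h1 d⁻¹
  have h4 : (c * d)⁻¹ * g = (d⁻¹ * (c⁻¹ * x) * d⁻¹⁻¹) * (d⁻¹ * (x⁻¹ * g)) := by group
  rw [h4]
  exact N.mul_mem h3 h2

end

section units

variable {G : Type*} [Group G] [Fintype G] {p : ℕ} [Fact p.Prime] {M : Ideal Cfsg.AlgInt}
variable (N : Subgroup G) [hN : N.Normal] (P : Sylow p N)

/-- the centralizer in `G` of the Sylow subgroup `P` of `N` -/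
abbrev cP : Subgroup G :=
  Subgroup.centralizer (((P : Subgroup N).map N.subtype : Subgroup G) : Set G)

theorem comm_of_mem_cP {c : G} (hc : c ∈ cP N P) (t : N) (ht : t ∈ (P : Subgroup N)) :
    (t : G) * c = c * (t : G) :=
  Subgroup.mem_centralizer_iff.mp hc (t : G) ⟨t, ht, rfl⟩

/-- conjugates of `c` indexed by the cosets of `P` in `N` -/
noncomputable def fconj (c : G) (hc : c ∈ cP N P) : (N ⧸ (P : Subgroup N)) → G :=
  fun q => Quotient.liftOn' q (fun n : N => (n : G) * c * (n : G)⁻¹) (by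
    intro a b hab
    rw [QuotientGroup.leftRel_apply] at hab
    have h1 := comm_of_mem_cP N P hc (a⁻¹ * b) hab
    show (a : G) * c * (a : G)⁻¹ = (b : G) * c * (b : G)⁻¹
    have h2 : (b : G) = (a : G) * ((a⁻¹ * b : N) : G) := by
      push_cast
      group
    rw [h2]
    calc (a : G) * c * (a : G)⁻¹
        = (a : G) * (c * ((a⁻¹ * b : N) : G)) * ((a⁻¹ * b : N) : G)⁻¹ * (a : G)⁻¹ := by group
      _ = (a : G) * (((a⁻¹ * b : N) : G) * c) * ((a⁻¹ * b : N) : G)⁻¹ * (a : G)⁻¹ := by rw [h1]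
      _ = (a : G) * ((a⁻¹ * b : N) : G) * c * ((a : G) * ((a⁻¹ * b : N) : G))⁻¹ := by group)

theorem fconj_mk (c : G) (hc : c ∈ cP N P) (n : N) :
    fconj N P c hc (QuotientGroup.mk n) = (n : G) * c * (n : G)⁻¹ := rfl

theorem fconj_smul (c : G) (hc : c ∈ cP N P) (m : N) (q : N ⧸ (P : Subgroup N)) :
    fconj N P c hc (m • q) = (m : G) * fconj N P c hc q * (m : G)⁻¹ := by
  induction q using Quotient.inductionOn' with
  | h n =>
    show fconj N P c hc (m • (QuotientGroup.mk n : N ⧸ (P : Subgroup N))) = _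
    rw [MulAction.Quotient.smul_mk, fconj_mk]
    show _ = (m : G) * fconj N P c hc (QuotientGroup.mk n) * (m : G)⁻¹
    rw [fconj_mk]
    push_cast [smul_eq_mul]
    group

/-- the unit element in the coset of `c`: number of cosets `nP` with `ncn⁻¹ = g` -/
noncomputable def uFun (c : G) : G → ℤ := by
  classical
  exact if hc : c ∈ cP N P then
    fun g => (Nat.card {q : N ⧸ (P : Subgroup N) // fconj N P c hc q = g} : ℤ) else 0

theorem uFun_apply {c : G} (hc : c ∈ cP N P) (g : G) :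
    uFun N P c g = (Nat.card {q : N ⧸ (P : Subgroup N) // fconj N P c hc q = g} : ℤ) := by
  unfold uFun
  rw [dif_pos hc]

theorem uFun_ninv (c : G) : NInv N (uFun N P c) := by
  by_cases hc : c ∈ cP N P
  · intro m hm g
    rw [uFun_apply N P hc, uFun_apply N P hc]
    congr 1
    apply Nat.card_congr
    refine Equiv.subtypeEquiv (MulAction.toPerm (⟨m, hm⟩ : N)⁻¹) ?_
    intro q
    rw [MulAction.toPerm_apply, fconj_smul]
    push_cast
    constructor
    · intro h
      rw [h]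
      group
    · intro h
      rw [← h]
      group
  · intro m hm g
    unfold uFun
    rw [dif_neg hc]
    rfl

theorem uFun_supp {c : G} (hc : c ∈ cP N P) : ∀ g, uFun N P c g ≠ 0 → c⁻¹ * g ∈ N := by
  intro g hg
  rw [uFun_apply N P hc] at hg
  have h1 : Nat.card {q : N ⧸ (P : Subgroup N) // fconj N P c hc q = g} ≠ 0 := by
    intro h0
    apply hg
    rw [h0]
    rfl
  have h2 : Nonempty {q : N ⧸ (P : Subgroup N) // fconj N P c hc q = g} := by
    by_contra hne
    rw [not_nonempty_iff] at hne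
    exact h1 Nat.card_of_isEmpty
  obtain ⟨q, hq⟩ := h2
  induction q using Quotient.inductionOn' with
  | h n =>
    have h3 : (n : G) * c * (n : G)⁻¹ = g := hq
    rw [← h3]
    have h4 : c⁻¹ * (n : G) * c⁻¹⁻¹ ∈ N := hN.conj_mem _ n.2 c⁻¹
    have h5 : c⁻¹ * ((n : G) * c * (n : G)⁻¹) = (c⁻¹ * (n : G) * c⁻¹⁻¹) * (n : G)⁻¹ := by group
    rw [h5]
    exact N.mul_mem h4 (N.inv_mem n.2)

theorem sum_uFun {c : G} (hc : c ∈ cP N P) :
    ∑ g : G, uFun N P c g = ((P : Subgroup N).index : ℤ) := by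
  classical
  simp only [uFun_apply N P hc]
  rw [← Nat.cast_sum]
  congr 1
  rw [Subgroup.index_eq_card, ← Nat.card_congr (Equiv.sigmaFiberEquiv (fconj N P c hc)),
    Nat.card_sigma]

theorem not_dvd_index : ¬ p ∣ (P : Subgroup N).index := P.not_dvd_index

end units

section rr

variable {G : Type*} [Group G] [Fintype G] {p : ℕ} [Fact p.Prime] {M : Ideal Cfsg.AlgInt}
variable (N : Subgroup G) [hN : N.Normal] (P : Sylow p N)

/-- the normalized value of the relative central character on the unit of the coset of `c` -/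
noncomputable def rr (ψ : G → ℂ) (c : G) : ℂ :=
  relOmega ψ (uFun N P c) / ((P : Subgroup N).index : ℂ)

theorem index_ne_zero : (((P : Subgroup N).index : ℕ) : ℂ) ≠ 0 := by
  have : (P : Subgroup N).index ≠ 0 := Subgroup.index_ne_zero_of_finite
  exact_mod_cast this

theorem cancel_index (hM : Cfsg.IsPModular p M) {x : ℂ}
    (hx : Cfsg.MemLocalIdeal M (((P : Subgroup N).index : ℂ) * x)) : Cfsg.MemLocalIdeal M x := by
  have h1 := MemLocalIdeal.mul_left hM (memLocalRing_inv_natCast hM (not_dvd_index N P)) hx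
  rwa [← mul_assoc, inv_mul_cancel₀ (index_ne_zero N P), one_mul] at h1

variable {ψ : G → ℂ}

theorem rr_memLocalRing (h : Ext M N ψ) (hM : Cfsg.IsPModular p M) (c : G) :
    Cfsg.MemLocalRing M (rr N P ψ c) := by
  unfold rr
  rw [div_eq_mul_inv]
  exact MemLocalRing.mul hM (h.relOmega_memLocalRing hM (uFun_ninv N P c))
    (memLocalRing_inv_natCast hM (not_dvd_index N P))

theorem relOmega_uFun (c : G) :
    relOmega ψ (uFun N P c) = ((P : Subgroup N).index : ℂ) * rr N P ψ c := by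
  unfold rr
  field_simp [index_ne_zero N P]

/-- the basic congruence -/
theorem key_mul (h : Ext M N ψ) (hM : Cfsg.IsPModular p M) {c : G} (hc : c ∈ cP N P)
    {a : G → ℤ} (ha : NInv N a) (hs : ∀ g, a g ≠ 0 → c⁻¹ * g ∈ N) :
    Cfsg.MemLocalIdeal M (relOmega ψ a * relOmega ψ (uFun N P c⁻¹) -
      ((∑ g : G, a g : ℤ) : ℂ) * ((P : Subgroup N).index : ℂ)) := by
  have hc' : c⁻¹ ∈ cP N P := (cP N P).inv_mem hc
  have h1 : NInv N (conv a (uFun N P c⁻¹)) := NInv.conv ha (uFun_ninv N P c⁻¹)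
  have h2 : ∀ g, conv a (uFun N P c⁻¹) g ≠ 0 → g ∈ N := by
    intro g hg
    have := supp_conv N hs (uFun_supp N P hc') g hg
    simpa using this
  have h3 := h.sub_of_supp hM h1 h2
  rw [relOmega_conv h.irr h.resIrr ha (uFun_ninv N P c⁻¹), sum_conv, sum_uFun N P hc'] at h3
  push_cast at h3 ⊢
  exact h3

theorem rr_mul_inv (h : Ext M N ψ) (hM : Cfsg.IsPModular p M) {c : G} (hc : c ∈ cP N P) :
    Cfsg.MemLocalIdeal M (rr N P ψ c * rr N P ψ c⁻¹ - 1) := by
  have h1 := key_mul N P h hM hc (uFun_ninv N P c) (uFun_supp N P hc)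
  rw [sum_uFun N P hc, relOmega_uFun, relOmega_uFun] at h1
  apply cancel_index N P hM
  apply cancel_index N P hM
  have h2 : ((P : Subgroup N).index : ℂ) * (((P : Subgroup N).index : ℂ) *
      (rr N P ψ c * rr N P ψ c⁻¹ - 1))
      = ((P : Subgroup N).index : ℂ) * rr N P ψ c * (((P : Subgroup N).index : ℂ) * rr N P ψ c⁻¹)
        - (((P : Subgroup N).index : ℤ) : ℂ) * ((P : Subgroup N).index : ℂ) := by
    push_cast
    ring
  rw [h2]
  exact h1

/-- evaluation on a single coset -/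
theorem key (h : Ext M N ψ) (hM : Cfsg.IsPModular p M) {c : G} (hc : c ∈ cP N P)
    {a : G → ℤ} (ha : NInv N a) (hs : ∀ g, a g ≠ 0 → c⁻¹ * g ∈ N) :
    Cfsg.MemLocalIdeal M (relOmega ψ a - ((∑ g : G, a g : ℤ) : ℂ) * rr N P ψ c) := by
  have h1 := key_mul N P h hM hc ha hs
  have h2 := rr_mul_inv N P h hM hc
  rw [relOmega_uFun] at h1
  have hk := index_ne_zero N P
  have h3 : relOmega ψ a - ((∑ g : G, a g : ℤ) : ℂ) * rr N P ψ c
      = relOmega ψ a * (-(rr N P ψ c * rr N P ψ c⁻¹ - 1))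
        + (rr N P ψ c * (((P : Subgroup N).index : ℂ))⁻¹) *
          (relOmega ψ a * (((P : Subgroup N).index : ℂ) * rr N P ψ c⁻¹) -
            ((∑ g : G, a g : ℤ) : ℂ) * ((P : Subgroup N).index : ℂ)) := by
    field_simp
    ring
  rw [h3]
  apply MemLocalIdeal.add hM
  · exact MemLocalIdeal.mul_left hM (h.relOmega_memLocalRing hM ha) (MemLocalIdeal.neg h2)
  · exact MemLocalIdeal.mul_left hM
      (MemLocalRing.mul hM (rr_memLocalRing N P h hM c)
        (memLocalRing_inv_natCast hM (not_dvd_index N P))) h1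

theorem rr_mul (h : Ext M N ψ) (hM : Cfsg.IsPModular p M) {c d : G} (hc : c ∈ cP N P)
    (hd : d ∈ cP N P) :
    Cfsg.MemLocalIdeal M (rr N P ψ c * rr N P ψ d - rr N P ψ (c * d)) := by
  have hcd : c * d ∈ cP N P := (cP N P).mul_mem hc hd
  have h1 := key N P h hM hcd (NInv.conv (uFun_ninv N P c) (uFun_ninv N P d))
    (supp_conv N (uFun_supp N P hc) (uFun_supp N P hd))
  rw [relOmega_conv h.irr h.resIrr (uFun_ninv N P c) (uFun_ninv N P d), sum_conv,
    sum_uFun N P hc, sum_uFun N P hd, relOmega_uFun, relOmega_uFun] at h1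
  apply cancel_index N P hM
  apply cancel_index N P hM
  have h2 : ((P : Subgroup N).index : ℂ) * (((P : Subgroup N).index : ℂ) *
      (rr N P ψ c * rr N P ψ d - rr N P ψ (c * d)))
      = ((P : Subgroup N).index : ℂ) * rr N P ψ c * (((P : Subgroup N).index : ℂ) * rr N P ψ d)
        - (((((P : Subgroup N).index : ℤ)) * (((P : Subgroup N).index : ℤ)) : ℤ) : ℂ) *
          rr N P ψ (c * d) := by
    push_cast
    ring
  rw [h2]
  exact h1

theorem rr_congr (h : Ext M N ψ) (hM : Cfsg.IsPModular p M) {c c' : G} (hc : c ∈ cP N P)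
    (hc' : c' ∈ cP N P) (hcc : c⁻¹ * c' ∈ N) :
    Cfsg.MemLocalIdeal M (rr N P ψ c' - rr N P ψ c) := by
  have hs : ∀ g, uFun N P c' g ≠ 0 → c⁻¹ * g ∈ N := by
    intro g hg
    have h1 := uFun_supp N P hc' g hg
    have h2 : c⁻¹ * g = (c⁻¹ * c') * (c'⁻¹ * g) := by group
    rw [h2]
    exact N.mul_mem hcc h1
  have h1 := key N P h hM hc (uFun_ninv N P c') hs
  rw [sum_uFun N P hc', relOmega_uFun] at h1
  apply cancel_index N P hM
  have h2 : ((P : Subgroup N).index : ℂ) * (rr N P ψ c' - rr N P ψ c)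
      = ((P : Subgroup N).index : ℂ) * rr N P ψ c' -
        ((((P : Subgroup N).index : ℤ)) : ℂ) * rr N P ψ c := by
    push_cast
    ring
  rw [h2]
  exact h1

theorem rr_of_mem (h : Ext M N ψ) (hM : Cfsg.IsPModular p M) {c : G} (hc : c ∈ cP N P)
    (hcN : c ∈ N) : Cfsg.MemLocalIdeal M (rr N P ψ c - 1) := by
  have hs : ∀ g, uFun N P c g ≠ 0 → g ∈ N := by
    intro g hg
    have h1 := uFun_supp N P hc g hg
    have h2 : g = c * (c⁻¹ * g) := by group
    rw [h2]
    exact N.mul_mem hcN h1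
  have h1 := h.sub_of_supp hM (uFun_ninv N P c) hs
  rw [sum_uFun N P hc, relOmega_uFun] at h1
  apply cancel_index N P hM
  have h2 : ((P : Subgroup N).index : ℂ) * (rr N P ψ c - 1)
      = ((P : Subgroup N).index : ℂ) * rr N P ψ c - ((((P : Subgroup N).index : ℤ)) : ℂ) := by
    push_cast
    ring
  rw [h2]
  exact h1

end rr

end Cfsg.Agent.Lib.Helper6.RelC
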