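import Mathlib
import Cfsg.Prelude.Def_Blocks
import Cfsg.Agent.Lib.Helper6.RelC2
import Cfsg.Agent.Lib.Helper6.BlkRigid
import Cfsg.Agent.Lib.Helper6.BlkDefect
import Cfsg.Agent.Lib.Helper6.Mult
import Cfsg.Agent.Lib.Helper3.AlpDade2
import Cfsg.Agent.Lib.Helper3.DetChar

/-! # Lifting multiplicative functions modulo the local ideal to linear characters; the twist -/

set_option autoImplicit false
set_option linter.unusedSectionVars false
set_option linter.style.haveILetI false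
open Cfsg

namespace Cfsg.Agent.Lib.Helper6.RelC

open Cfsg.Agent.Lib.Helper6 Module

section roots

variable {p : ℕ} {M : Ideal Cfsg.AlgInt}

theorem isIntegral_of_pow_eq_one {ω : ℂ} {n : ℕ} (hn : 0 < n) (h : ω ^ n = 1) :
    IsIntegral ℤ ω :=
  ⟨Polynomial.X ^ n - 1, Polynomial.monic_X_pow_sub_C (1 : ℤ) hn.ne', by simp [h]⟩

theorem exists_root_congr (hM : Cfsg.IsPModular p M) {n : ℕ} (hn : 0 < n) {x : ℂ}
    (hx : Cfsg.MemLocalRing M x) (h : Cfsg.MemLocalIdeal M (x ^ n - 1)) :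
    ∃ ω : ℂ, ω ^ n = 1 ∧ Cfsg.MemLocalIdeal M (x - ω) := by
  by_contra hcon
  push Not at hcon
  have h1 := congrArg (Polynomial.eval x)
    (Polynomial.X_pow_sub_one_eq_prod hn (Complex.isPrimitiveRoot_exp n hn.ne'))
  rw [Polynomial.eval_prod] at h1
  simp only [Polynomial.eval_sub, Polynomial.eval_pow, Polynomial.eval_X, Polynomial.eval_one,
    Polynomial.eval_C] at h1
  rw [h1] at h
  refine not_memLocalIdeal_prod hM _ _ ?_ ?_ h
  · intro ω hω
    rw [Polynomial.mem_nthRootsFinset hn] at hω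
    exact MemLocalRing.sub hM hx
      (memLocalRing_of_isIntegral hM (isIntegral_of_pow_eq_one hn hω))
  · intro ω hω
    rw [Polynomial.mem_nthRootsFinset hn] at hω
    exact hcon ω hω

theorem sub_one_of_pow_p_pow (hM : Cfsg.IsPModular p M) {y : ℂ} (hy : Cfsg.MemLocalRing M y)
    {k : ℕ} (h : Cfsg.MemLocalIdeal M (y ^ (p ^ k) - 1)) : Cfsg.MemLocalIdeal M (y - 1) := by
  have hp : p.Prime := hM.1
  obtain ⟨ω, hω, h1⟩ := exists_root_congr hM (pow_pos hp.pos k) hy h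
  have h2 := memLocalIdeal_sub_one_of_pow_eq_one hM hω
  have h3 : y - 1 = (y - ω) + (ω - 1) := by ring
  rw [h3]
  exact MemLocalIdeal.add hM h1 h2

theorem root_unique (hM : Cfsg.IsPModular p M) {m : ℕ} (hm : ¬ p ∣ m) {ω₁ ω₂ : ℂ}
    (h1 : ω₁ ^ m = 1) (h2 : ω₂ ^ m = 1) (h : Cfsg.MemLocalIdeal M (ω₁ - ω₂)) : ω₁ = ω₂ := by
  have hm0 : 0 < m := by
    rcases Nat.eq_zero_or_pos m with h0 | h0
    · exact absurd (h0 ▸ dvd_zero p) hm
    · exact h0
  have hne : ω₂ ≠ 0 := by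
    intro h0
    rw [h0, zero_pow hm0.ne'] at h2
    exact zero_ne_one h2
  have h3 : (ω₁ * ω₂⁻¹) ^ m = 1 := by rw [mul_pow, inv_pow, h1, h2, inv_one, mul_one]
  have h4 : (ω₂⁻¹) ^ m = 1 := by rw [inv_pow, h2, inv_one]
  have h5 : ω₁ * ω₂⁻¹ - 1 = (ω₁ - ω₂) * ω₂⁻¹ := by field_simp
  have h6 : Cfsg.MemLocalIdeal M (ω₁ * ω₂⁻¹ - 1) := by
    rw [h5]
    exact MemLocalIdeal.mul_right hM h
      (memLocalRing_of_isIntegral hM (isIntegral_of_pow_eq_one hm0 h4))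
  have h7 := Cfsg.Agent.Lib.Helper3.AlpDade.eq_one_of_memLocalIdeal_sub_one hM _ m hm h3 h6
  field_simp at h7
  exact h7

/-- a function into the local ring which is multiplicative modulo the local ideal lifts to a
linear character -/
theorem exists_hom_lift {G : Type*} [Group G] [Finite G] (hM : Cfsg.IsPModular p M) (R : G → ℂ)
    (hR : ∀ g, Cfsg.MemLocalRing M (R g)) (h1 : Cfsg.MemLocalIdeal M (R 1 - 1))
    (hmul : ∀ g h, Cfsg.MemLocalIdeal M (R (g * h) - R g * R h)) :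
    ∃ μ : G →* ℂˣ, (∀ g, Cfsg.MemLocalIdeal M (((μ g : ℂˣ) : ℂ) - R g)) ∧
      ∀ g, Cfsg.MemLocalIdeal M (R g - 1) → μ g = 1 := by
  have hp : p.Prime := hM.1
  obtain ⟨k, m, hm, hkm⟩ := Nat.exists_eq_pow_mul_and_not_dvd
    (Nat.card_pos (α := G)).ne' p hp.ne_one
  have hm0 : 0 < m := by
    rcases Nat.eq_zero_or_pos m with h0 | h0
    · exact absurd (h0 ▸ dvd_zero p) hm
    · exact h0
  -- powers
  have hA : ∀ (g : G) (j : ℕ), Cfsg.MemLocalIdeal M (R (g ^ j) - (R g) ^ j) := by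
    intro g j
    induction j with
    | zero => simpa using h1
    | succ j ih =>
      have h2 : R (g ^ (j + 1)) - (R g) ^ (j + 1)
          = (R (g ^ j * g) - R (g ^ j) * R g) + (R (g ^ j) - (R g) ^ j) * R g := by
        rw [pow_succ, pow_succ]
        ring
      rw [h2]
      exact MemLocalIdeal.add hM (hmul _ _) (MemLocalIdeal.mul_right hM ih (hR g))
  have hB : ∀ g : G, Cfsg.MemLocalIdeal M ((R g) ^ (Nat.card G) - 1) := by
    intro g
    have h2 := hA g (Nat.card G)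
    rw [pow_card_eq_one'] at h2
    have h3 : (R g) ^ (Nat.card G) - 1 = -(R 1 - (R g) ^ (Nat.card G)) + (R 1 - 1) := by ring
    rw [h3]
    exact MemLocalIdeal.add hM (MemLocalIdeal.neg h2) h1
  have hC : ∀ g : G, Cfsg.MemLocalIdeal M ((R g) ^ m - 1) := by
    intro g
    apply sub_one_of_pow_p_pow hM (MemLocalRing.pow hM (hR g) m) (k := k)
    rw [← pow_mul, mul_comm m, ← hkm]
    exact hB g
  have hD : ∀ g : G, ∃ ω : ℂ, ω ^ m = 1 ∧ Cfsg.MemLocalIdeal M (R g - ω) :=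
    fun g => exists_root_congr hM hm0 (hR g) (hC g)
  choose ω hω1 hω2 using hD
  have hωR : ∀ g, Cfsg.MemLocalRing M (ω g) := fun g =>
    memLocalRing_of_isIntegral hM (isIntegral_of_pow_eq_one hm0 (hω1 g))
  have hωmul : ∀ g h, ω (g * h) = ω g * ω h := by
    intro g h
    apply root_unique hM hm (hω1 _)
    · rw [mul_pow, hω1, hω1, one_mul]
    · have h2 : ω (g * h) - ω g * ω h
          = -(R (g * h) - ω (g * h)) + (R (g * h) - R g * R h)
            + ((R g - ω g) * R h + ω g * (R h - ω h)) := by ring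
      rw [h2]
      exact MemLocalIdeal.add hM
        (MemLocalIdeal.add hM (MemLocalIdeal.neg (hω2 _)) (hmul g h))
        (MemLocalIdeal.add hM (MemLocalIdeal.mul_right hM (hω2 g) (hR h))
          (MemLocalIdeal.mul_left hM (hωR g) (hω2 h)))
  have hωne : ∀ g, ω g ≠ 0 := by
    intro g h0
    have := hω1 g
    rw [h0, zero_pow hm0.ne'] at this
    exact zero_ne_one this
  have hone : ∀ g, Cfsg.MemLocalIdeal M (R g - 1) → ω g = 1 := by
    intro g hg
    apply root_unique hM hm (hω1 g) (one_pow m)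
    have h2 : ω g - 1 = -(R g - ω g) + (R g - 1) := by ring
    rw [h2]
    exact MemLocalIdeal.add hM (MemLocalIdeal.neg (hω2 g)) hg
  let μ : G →* ℂˣ := MonoidHom.mk' (fun g => Units.mk0 (ω g) (hωne g)) (by
    intro a b
    apply Units.ext
    simp only [Units.val_mk0, Units.val_mul]
    exact hωmul a b)
  refine ⟨μ, ?_, ?_⟩
  · intro g
    have h2 : ((μ g : ℂˣ) : ℂ) = ω g := rfl
    rw [h2]
    have h3 : ω g - R g = -(R g - ω g) := by ring
    rw [h3]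
    exact MemLocalIdeal.neg (hω2 g)
  · intro g hg
    apply Units.ext
    have h2 : ((μ g : ℂˣ) : ℂ) = ω g := rfl
    rw [h2, hone g hg]
    rfl

theorem memLocalRing_hom (hM : Cfsg.IsPModular p M) {A : Type*} [Group A] [Finite A]
    (μ : A →* ℂˣ) (a : A) : Cfsg.MemLocalRing M ((μ a : ℂˣ) : ℂ) :=
  memLocalRing_of_isIntegral hM
    (IsCharacter.isIntegral_apply (IsIrrCharacter.isCharacter (isIrrCharacter_of_hom μ)) a)

end roots

section twist

variable {G : Type*} [Group G] [Fintype G] {p : ℕ} [Fact p.Prime] {M : Ideal Cfsg.AlgInt}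
variable (N : Subgroup G) [hN : N.Normal] (P : Sylow p N)

theorem exists_rep (hcov : N ⊔ cP N P = ⊤) (g : G) : ∃ c, c ∈ cP N P ∧ c⁻¹ * g ∈ N := by
  have hg : g ∈ ((N ⊔ cP N P : Subgroup G) : Set G) := by
    rw [hcov]
    trivial
  rw [Subgroup.normal_mul] at hg
  obtain ⟨n, hn, c, hc, rfl⟩ := Set.mem_mul.mp hg
  refine ⟨c, hc, ?_⟩
  have h1 : c⁻¹ * n * c⁻¹⁻¹ ∈ N := hN.conj_mem n hn c⁻¹
  have h2 : c⁻¹ * (n * c) = c⁻¹ * n * c⁻¹⁻¹ := by group
  rw [h2]
  exact h1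

/-- a chosen representative in `C_G(P)` of the coset of `g` -/
noncomputable def cg (hcov : N ⊔ cP N P = ⊤) (g : G) : G := Classical.choose (exists_rep N P hcov g)

theorem cg_mem (hcov : N ⊔ cP N P = ⊤) (g : G) : cg N P hcov g ∈ cP N P :=
  (Classical.choose_spec (exists_rep N P hcov g)).1

theorem cg_spec (hcov : N ⊔ cP N P = ⊤) (g : G) : (cg N P hcov g)⁻¹ * g ∈ N :=
  (Classical.choose_spec (exists_rep N P hcov g)).2

variable {ψ : G → ℂ}

/-- there is a linear character of `G/N` congruent to the normalized relative central character -/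
theorem exists_twist (hM : Cfsg.IsPModular p M) (hcov : N ⊔ cP N P = ⊤) (h : Ext M N ψ) :
    ∃ μ : G →* ℂˣ, (∀ n ∈ N, μ n = 1) ∧
      ∀ c ∈ cP N P, Cfsg.MemLocalIdeal M (((μ c : ℂˣ) : ℂ) - rr N P ψ c) := by
  have hRN : ∀ g ∈ N, Cfsg.MemLocalIdeal M (rr N P ψ (cg N P hcov g) - 1) := by
    intro g hg
    apply rr_of_mem N P h hM (cg_mem N P hcov g)
    have h1 := cg_spec N P hcov g
    have h2 : cg N P hcov g = g * ((cg N P hcov g)⁻¹ * g)⁻¹ := by group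
    rw [h2]
    exact N.mul_mem hg (N.inv_mem h1)
  obtain ⟨μ, hμ1, hμ2⟩ := exists_hom_lift hM (fun g => rr N P ψ (cg N P hcov g))
    (fun g => rr_memLocalRing N P h hM _) (hRN 1 N.one_mem) (by
      intro g k
      have h1 := rr_mul N P h hM (cg_mem N P hcov g) (cg_mem N P hcov k)
      have hmem : (cg N P hcov g * cg N P hcov k)⁻¹ * cg N P hcov (g * k) ∈ N := by
        have h2 := cg_spec N P hcov g
        have h3 := cg_spec N P hcov k
        have h4 := cg_spec N P hcov (g * k)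
        have h5 : (cg N P hcov k)⁻¹ * ((cg N P hcov g)⁻¹ * g) * (cg N P hcov k)⁻¹⁻¹ ∈ N :=
          hN.conj_mem _ h2 _
        have h6 : (cg N P hcov g * cg N P hcov k)⁻¹ * cg N P hcov (g * k)
            = ((cg N P hcov k)⁻¹ * ((cg N P hcov g)⁻¹ * g) * (cg N P hcov k)⁻¹⁻¹) *
              ((cg N P hcov k)⁻¹ * k) * ((cg N P hcov (g * k))⁻¹ * (g * k))⁻¹ := by group
        rw [h6]
        exact N.mul_mem (N.mul_mem h5 h3) (N.inv_mem h4)
      have h2 := rr_congr N P h hM ((cP N P).mul_mem (cg_mem N P hcov g) (cg_mem N P hcov k))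
        (cg_mem N P hcov (g * k)) hmem
      have h3 : rr N P ψ (cg N P hcov (g * k)) -
          rr N P ψ (cg N P hcov g) * rr N P ψ (cg N P hcov k)
          = (rr N P ψ (cg N P hcov (g * k)) - rr N P ψ (cg N P hcov g * cg N P hcov k))
            + -(rr N P ψ (cg N P hcov g) * rr N P ψ (cg N P hcov k)
              - rr N P ψ (cg N P hcov g * cg N P hcov k)) := by ring
      show Cfsg.MemLocalIdeal M (rr N P ψ (cg N P hcov (g * k)) -
          rr N P ψ (cg N P hcov g) * rr N P ψ (cg N P hcov k))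
      rw [h3]
      exact MemLocalIdeal.add hM h2 (MemLocalIdeal.neg h1))
  refine ⟨μ, fun n hn => hμ2 n (hRN n hn), ?_⟩
  intro c hc
  have h1 := hμ1 c
  have h2 := rr_congr N P h hM (cg_mem N P hcov c) hc (cg_spec N P hcov c)
  have h3 : ((μ c : ℂˣ) : ℂ) - rr N P ψ c
      = (((μ c : ℂˣ) : ℂ) - rr N P ψ (cg N P hcov c)) + -(rr N P ψ c - rr N P ψ (cg N P hcov c)) := by
    ring
  rw [h3]
  exact MemLocalIdeal.add hM h1 (MemLocalIdeal.neg h2)

/-- the twisted character -/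
theorem twist_ext (h : Ext M N ψ) (μ : G →* ℂˣ) (hμ : ∀ n ∈ N, μ n = 1) :
    Ext M N (fun g => ((μ⁻¹ g : ℂˣ) : ℂ) * ψ g) := by
  have hres : (fun n : N => ((μ⁻¹ (n : G) : ℂˣ) : ℂ) * ψ n) = fun n : N => ψ n := by
    funext n
    rw [MonoidHom.inv_apply, hμ n n.2, inv_one, Units.val_one, one_mul]
  refine ⟨Cfsg.Agent.Lib.Helper3.DetChar.isIrrCharacter_hom_mul μ⁻¹ h.irr, ?_, ?_⟩
  · rw [hres]
    exact h.resIrr
  · rw [hres]
    exact h.prin

theorem rr_twist (hM : Cfsg.IsPModular p M) (h : Ext M N ψ) (μ : G →* ℂˣ)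
    (hμ : ∀ n ∈ N, μ n = 1) {c : G} (hc : c ∈ cP N P) :
    rr N P (fun g => ((μ⁻¹ g : ℂˣ) : ℂ) * ψ g) c = ((μ⁻¹ c : ℂˣ) : ℂ) * rr N P ψ c := by
  unfold rr relOmega
  beta_reduce
  have h1 : ((μ⁻¹ (1 : G) : ℂˣ) : ℂ) * ψ 1 = ψ 1 := by
    rw [map_one, Units.val_one, one_mul]
  rw [h1]
  have h2 : ∑ g : G, (uFun N P c g : ℂ) * (((μ⁻¹ g : ℂˣ) : ℂ) * ψ g)
      = ((μ⁻¹ c : ℂˣ) : ℂ) * ∑ g : G, (uFun N P c g : ℂ) * ψ g := by
    rw [Finset.mul_sum]
    apply Finset.sum_congr rfl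
    intro g _
    by_cases hg : uFun N P c g = 0
    · rw [hg]
      simp
    · have h3 := uFun_supp N P hc g hg
      have h4 : μ⁻¹ g = μ⁻¹ c := by
        have h5 : g = c * (c⁻¹ * g) := by group
        rw [h5, map_mul, MonoidHom.inv_apply μ (c⁻¹ * g), hμ _ h3, inv_one, mul_one]
      rw [h4]
      ring
  rw [h2]
  ring

/-- for the twisted character, single-coset elements are evaluated like the trivial character -/
theorem twist_key (hM : Cfsg.IsPModular p M) (h : Ext M N ψ) (μ : G →* ℂˣ)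
    (hμ : ∀ n ∈ N, μ n = 1)
    (hμ2 : ∀ c ∈ cP N P, Cfsg.MemLocalIdeal M (((μ c : ℂˣ) : ℂ) - rr N P ψ c))
    {c : G} (hc : c ∈ cP N P) {a : G → ℤ} (ha : NInv N a) (hs : ∀ g, a g ≠ 0 → c⁻¹ * g ∈ N) :
    Cfsg.MemLocalIdeal M (relOmega (fun g => ((μ⁻¹ g : ℂˣ) : ℂ) * ψ g) a -
      ((∑ g : G, a g : ℤ) : ℂ)) := by
  have hχ := twist_ext N h μ hμ
  have h1 := key N P hχ hM hc ha hs
  rw [rr_twist N P hM h μ hμ hc] at h1
  have h2 : Cfsg.MemLocalIdeal M (((μ⁻¹ c : ℂˣ) : ℂ) * rr N P ψ c - 1) := by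
    have h3 : ((μ⁻¹ c : ℂˣ) : ℂ) * rr N P ψ c - 1
        = ((μ⁻¹ c : ℂˣ) : ℂ) * (-(((μ c : ℂˣ) : ℂ) - rr N P ψ c)) := by
      rw [MonoidHom.inv_apply, Units.val_inv_eq_inv_val]
      have hne : ((μ c : ℂˣ) : ℂ) ≠ 0 := Units.ne_zero _
      field_simp
      ring
    rw [h3]
    exact MemLocalIdeal.mul_left hM (memLocalRing_hom hM μ⁻¹ c) (MemLocalIdeal.neg (hμ2 c hc))
  have h4 : relOmega (fun g => ((μ⁻¹ g : ℂˣ) : ℂ) * ψ g) a - ((∑ g : G, a g : ℤ) : ℂ)
      = (relOmega (fun g => ((μ⁻¹ g : ℂˣ) : ℂ) * ψ g) a -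
          ((∑ g : G, a g : ℤ) : ℂ) * (((μ⁻¹ c : ℂˣ) : ℂ) * rr N P ψ c))
        + ((∑ g : G, a g : ℤ) : ℂ) * (((μ⁻¹ c : ℂˣ) : ℂ) * rr N P ψ c - 1) := by ring
  rw [h4]
  exact MemLocalIdeal.add hM h1 (MemLocalIdeal.mul_left hM (memLocalRing_intCast hM _) h2)

/-- the main congruence: all `N`-invariant elements are evaluated like the trivial character -/
theorem twist_main (hM : Cfsg.IsPModular p M) (hcov : N ⊔ cP N P = ⊤) (h : Ext M N ψ)
    (μ : G →* ℂˣ) (hμ : ∀ n ∈ N, μ n = 1)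
    (hμ2 : ∀ c ∈ cP N P, Cfsg.MemLocalIdeal M (((μ c : ℂˣ) : ℂ) - rr N P ψ c))
    {a : G → ℤ} (ha : NInv N a) :
    Cfsg.MemLocalIdeal M (relOmega (fun g => ((μ⁻¹ g : ℂˣ) : ℂ) * ψ g) a -
      ((∑ g : G, a g : ℤ) : ℂ)) := by
  classical
  haveI : Fintype (G ⧸ N) := Fintype.ofFinite _
  set χ : G → ℂ := fun g => ((μ⁻¹ g : ℂˣ) : ℂ) * ψ g with hχdef
  let aκ : (G ⧸ N) → G → ℤ := fun κ g => if (g : G ⧸ N) = κ then a g else 0
  have hdec : ∀ g, a g = ∑ κ : G ⧸ N, aκ κ g := by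
    intro g
    simp only [aκ]
    rw [Finset.sum_ite_eq]
    simp
  have hκinv : ∀ κ, NInv N (aκ κ) := by
    intro κ n hn g
    simp only [aκ]
    have h1 : ((n * g * n⁻¹ : G) : G ⧸ N) = (g : G ⧸ N) := by
      have h2 : ((n : G) : G ⧸ N) = 1 := (QuotientGroup.eq_one_iff n).mpr hn
      rw [QuotientGroup.mk_mul, QuotientGroup.mk_mul, QuotientGroup.mk_inv, h2]
      simp
    rw [h1, ha n hn g]
  have hκ : ∀ κ, Cfsg.MemLocalIdeal M (relOmega χ (aκ κ) - ((∑ g : G, aκ κ g : ℤ) : ℂ)) := by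
    intro κ
    obtain ⟨g₀, hg₀⟩ := QuotientGroup.mk_surjective κ
    apply twist_key N P hM h μ hμ hμ2 (cg_mem N P hcov g₀) (hκinv κ)
    intro g hg
    simp only [aκ] at hg
    have h1 : (g : G ⧸ N) = κ := by
      by_contra hne
      rw [if_neg hne] at hg
      exact hg rfl
    rw [← hg₀] at h1
    have h2 : g₀⁻¹ * g ∈ N := QuotientGroup.eq.mp h1.symm
    have h3 := cg_spec N P hcov g₀
    have h4 : (cg N P hcov g₀)⁻¹ * g = ((cg N P hcov g₀)⁻¹ * g₀) * (g₀⁻¹ * g) := by group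
    rw [h4]
    exact N.mul_mem h3 h2
  have h1 : relOmega χ a = ∑ κ : G ⧸ N, relOmega χ (aκ κ) := by
    unfold relOmega
    rw [← Finset.sum_div]
    congr 1
    rw [Finset.sum_comm]
    apply Finset.sum_congr rfl
    intro g _
    rw [hdec g]
    push_cast
    rw [Finset.sum_mul]
  have h2 : ((∑ g : G, a g : ℤ) : ℂ) = ∑ κ : G ⧸ N, ((∑ g : G, aκ κ g : ℤ) : ℂ) := by
    push_cast
    rw [Finset.sum_comm]
    apply Finset.sum_congr rfl
    intro g _
    rw [hdec g]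
    push_cast
    rfl
  rw [h1, h2, ← Finset.sum_sub_distrib]
  exact MemLocalIdeal.sum hM _ _ (fun κ _ => hκ κ)

end twist

end Cfsg.Agent.Lib.Helper6.RelC
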