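import Mathlib
import Cfsg.Prelude.Def_Blocks
import Cfsg.Agent.Lib.Helper6.RelC3
import Cfsg.Agent.Lib.Helper6.ClassSum

/-! # Principal block characters extend inside principal blocks when `G = N C_G(P)` -/

set_option autoImplicit false
set_option linter.unusedSectionVars false
set_option linter.style.haveILetI false
open Cfsg

namespace Cfsg.Agent.Lib.Helper6.RelC

open Cfsg.Agent.Lib.Helper6 Module

section irr

variable {G : Type*} [Group G] [Fintype G]

/-- a character restricting irreducibly to `N` restricts irreducibly to every `J ≥ N` -/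
theorem isIrrCharacter_restrict_of_le {N J : Subgroup G} (hNJ : N ≤ J) {χ : G → ℂ}
    (hχ : Cfsg.IsIrrCharacter G χ) (hres : Cfsg.IsIrrCharacter N (fun n : N => χ n)) :
    Cfsg.IsIrrCharacter J (fun y : J => χ y) := by
  obtain ⟨d, ρ, rfl, hirr⟩ := exists_rep_of_restrict_irr hχ hres
  refine ⟨d, resRep ρ J, ?_, rfl⟩
  have hnt : Nontrivial (Fin d → ℂ) := nontrivial_of_isIrreducible (resRep ρ N)
  refine { exists_pair_ne := ⟨⊥, ⊤, ?_⟩, eq_bot_or_eq_top := ?_ }
  · intro heq
    have h1 : (⊥ : Submodule ℂ (Fin d → ℂ)) = ⊤ := congrArg Subrepresentation.toSubmodule heq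
    exact bot_ne_top h1
  · intro W
    let W' : Subrepresentation (resRep ρ N) :=
      ⟨W.toSubmodule, fun n v hv => W.apply_mem_toSubmodule (Subgroup.inclusion hNJ n) hv⟩
    rcases hirr.eq_bot_or_eq_top W' with h | h
    · left
      apply Subrepresentation.toSubmodule_injective
      have h1 : W'.toSubmodule = (⊥ : Subrepresentation (resRep ρ N)).toSubmodule :=
        congrArg Subrepresentation.toSubmodule h
      exact h1
    · right
      apply Subrepresentation.toSubmodule_injective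
      have h1 : W'.toSubmodule = (⊤ : Subrepresentation (resRep ρ N)).toSubmodule :=
        congrArg Subrepresentation.toSubmodule h
      exact h1

/-- sums against the indicator of a conjugacy class -/
theorem sum_classInd [DecidableEq G] (g : G) {χ : G → ℂ} (hχ : Cfsg.IsClassFunction G χ) :
    ∑ x : G, ((if IsConj g x then (1 : ℤ) else 0 : ℤ) : ℂ) * χ x
      = ((Subgroup.centralizer ({g} : Set G)).index : ℂ) * χ g := by
  have h1 : ∀ x : G, ((if IsConj g x then (1 : ℤ) else 0 : ℤ) : ℂ) * χ x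
      = if IsConj g x then χ g else 0 := by
    intro x
    by_cases hx : IsConj g x
    · rw [if_pos hx, if_pos hx]
      obtain ⟨c, rfl⟩ := isConj_iff.mp hx
      rw [hχ g c]
      simp
    · rw [if_neg hx, if_neg hx]
      simp
  rw [Finset.sum_congr rfl (fun x _ => h1 x), ← Finset.sum_filter, Finset.sum_const,
    card_conj_eq_index, nsmul_eq_mul]

theorem sum_classInd_one [DecidableEq G] (g : G) :
    ((∑ x : G, (if IsConj g x then (1 : ℤ) else 0) : ℤ) : ℂ)
      = ((Subgroup.centralizer ({g} : Set G)).index : ℂ) := by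
  rw [← Finset.sum_filter, Finset.sum_const, card_conj_eq_index]
  simp

end irr

section main

variable {G : Type*} [Group G] [Fintype G] {p : ℕ} [Fact p.Prime] {M : Ideal Cfsg.AlgInt}

/-- if all `N`-invariant elements are evaluated like the trivial character, then the restriction
to every `J ≥ N` lies in the principal block -/
theorem mem_principalBlock_of_main {N J : Subgroup G} (hNJ : N ≤ J) {χ : G → ℂ}
    (hχ : Cfsg.IsIrrCharacter G χ)
    (hmain : ∀ a : G → ℤ, NInv N a →
      Cfsg.MemLocalIdeal M (relOmega χ a - ((∑ g : G, a g : ℤ) : ℂ)))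
    (ξ : Cfsg.IrrCharacter J) (hξ : ∀ y : J, (ξ : J → ℂ) y = χ y) :
    ξ ∈ Cfsg.principalBlock M J := by
  classical
  haveI : Fintype J := Fintype.ofFinite _
  show Cfsg.SameBlock M (fun _ : J => (1 : ℂ)) (ξ : J → ℂ)
  intro j
  let a : G → ℤ := fun x => if h : x ∈ J then (if IsConj j ⟨x, h⟩ then 1 else 0) else 0
  have haJ : ∀ y : J, a (y : G) = if IsConj j y then 1 else 0 := by
    intro y
    simp only [a]
    rw [dif_pos y.2]
  have ha0 : ∀ x : G, a x ≠ 0 → x ∈ J := by
    intro x hx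
    by_contra hxJ
    apply hx
    simp only [a]
    rw [dif_neg hxJ]
  have ha : NInv N a := by
    intro n hn x
    have hnJ : n ∈ J := hNJ hn
    by_cases hx : x ∈ J
    · have hx' : n * x * n⁻¹ ∈ J := J.mul_mem (J.mul_mem hnJ hx) (J.inv_mem hnJ)
      have h1 := haJ ⟨x, hx⟩
      have h2 := haJ ⟨n * x * n⁻¹, hx'⟩
      simp only at h1 h2
      rw [h1, h2]
      have h3 : IsConj j (⟨n * x * n⁻¹, hx'⟩ : J) ↔ IsConj j (⟨x, hx⟩ : J) := by
        have h4 : IsConj (⟨x, hx⟩ : J) (⟨n * x * n⁻¹, hx'⟩ : J) :=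
          isConj_iff.mpr ⟨⟨n, hnJ⟩, by apply Subtype.ext; simp⟩
        exact ⟨fun h => h.trans h4.symm, fun h => h.trans h4⟩
      simp only [h3]
    · have hx' : n * x * n⁻¹ ∉ J := by
        intro h
        apply hx
        have h1 : x = n⁻¹ * (n * x * n⁻¹) * n := by group
        rw [h1]
        exact J.mul_mem (J.mul_mem (J.inv_mem hnJ) h) hnJ
      simp only [a]
      rw [dif_neg hx, dif_neg hx']
  have h1 := hmain a ha
  have hξcf : Cfsg.IsClassFunction J (ξ : J → ℂ) := IsIrrCharacter.isClassFunction ξ.2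
  have h2 : ∑ x : G, (a x : ℂ) * χ x
      = ((Subgroup.centralizer ({j} : Set J)).index : ℂ) * (ξ : J → ℂ) j := by
    rw [sum_eq_sum_subgroup J (fun x => (a x : ℂ) * χ x)]
    · rw [← sum_classInd j hξcf]
      apply Finset.sum_congr rfl
      intro y _
      rw [haJ y, hξ y]
    · intro x hx
      apply ha0
      intro h0
      apply hx
      rw [h0]
      simp
  have h3 : ((∑ x : G, a x : ℤ) : ℂ) = ((Subgroup.centralizer ({j} : Set J)).index : ℂ) := by
    rw [← sum_classInd_one j]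
    push_cast
    rw [sum_eq_sum_subgroup J (fun x => (a x : ℂ))]
    · apply Finset.sum_congr rfl
      intro y _
      rw [haJ y]
      split_ifs <;> simp
    · intro x hx
      apply ha0
      intro h0
      apply hx
      rw [h0]
      simp
  unfold relOmega at h1
  rw [h2, h3] at h1
  unfold Cfsg.centralChar
  have h4 : χ 1 = (ξ : J → ℂ) 1 := (hξ 1).symm
  rw [h4] at h1
  have h5 : ((Subgroup.centralizer ({j} : Set J)).index : ℂ) * 1 / 1 -
      ((Subgroup.centralizer ({j} : Set J)).index : ℂ) * (ξ : J → ℂ) j / (ξ : J → ℂ) 1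
      = -(((Subgroup.centralizer ({j} : Set J)).index : ℂ) * (ξ : J → ℂ) j / (ξ : J → ℂ) 1 -
        ((Subgroup.centralizer ({j} : Set J)).index : ℂ)) := by ring
  rw [h5]
  exact MemLocalIdeal.neg h1

theorem mem_principalBlock_top {N : Subgroup G} (χ : Cfsg.IrrCharacter G)
    (hmain : ∀ a : G → ℤ, NInv N a →
      Cfsg.MemLocalIdeal M (relOmega (χ : G → ℂ) a - ((∑ g : G, a g : ℤ) : ℂ))) :
    χ ∈ Cfsg.principalBlock M G := by
  classical
  show Cfsg.SameBlock M (fun _ : G => (1 : ℂ)) (χ : G → ℂ)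
  intro g
  let a : G → ℤ := fun x => if IsConj g x then 1 else 0
  have ha : NInv N a := by
    intro n _ x
    simp only [a]
    have h3 : IsConj g (n * x * n⁻¹) ↔ IsConj g x := by
      have h4 : IsConj x (n * x * n⁻¹) := isConj_iff.mpr ⟨n, rfl⟩
      exact ⟨fun h => h.trans h4.symm, fun h => h.trans h4⟩
    simp only [h3]
  have h1 := hmain a ha
  unfold relOmega at h1
  rw [sum_classInd g (IsIrrCharacter.isClassFunction χ.2), sum_classInd_one g] at h1
  unfold Cfsg.centralChar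
  have h5 : ((Subgroup.centralizer ({g} : Set G)).index : ℂ) * 1 / 1 -
      ((Subgroup.centralizer ({g} : Set G)).index : ℂ) * (χ : G → ℂ) g / (χ : G → ℂ) 1
      = -(((Subgroup.centralizer ({g} : Set G)).index : ℂ) * (χ : G → ℂ) g / (χ : G → ℂ) 1 -
        ((Subgroup.centralizer ({g} : Set G)).index : ℂ)) := by ring
  rw [h5]
  exact MemLocalIdeal.neg h1

/-- Alperin–Dade for extendible characters. -/
theorem extend_principal (hM : Cfsg.IsPModular p M) (N : Subgroup G) [hN : N.Normal]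
    (P : Sylow p N) (hcov : N ⊔ cP N P = ⊤) (θ : Cfsg.IrrCharacter N)
    (hθ : θ ∈ Cfsg.principalBlock M N)
    (hext : ∃ ψ : Cfsg.IrrCharacter G, ∀ x : N, (ψ : G → ℂ) x = (θ : N → ℂ) x) :
    ∃ χ : Cfsg.IrrCharacter G, χ ∈ Cfsg.principalBlock M G ∧
      (∀ x : N, (χ : G → ℂ) x = (θ : N → ℂ) x) ∧
      ∀ J : Subgroup G, N ≤ J → ∃ ξ : Cfsg.IrrCharacter J, ξ ∈ Cfsg.principalBlock M J ∧
        ∀ y : J, (ξ : J → ℂ) y = (χ : G → ℂ) y := by
  classical
  obtain ⟨ψ, hψ⟩ := hext
  have hfun : (fun n : N => (ψ : G → ℂ) n) = (θ : N → ℂ) := funext hψ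
  have hE : Ext M N (ψ : G → ℂ) := ⟨ψ.2, by rw [hfun]; exact θ.2, by rw [hfun]; exact hθ⟩
  obtain ⟨μ, hμ1, hμ2⟩ := exists_twist N P hM hcov hE
  have hEχ := twist_ext N hE μ hμ1
  have hmain : ∀ a : G → ℤ, NInv N a → Cfsg.MemLocalIdeal M
      (relOmega (fun g => ((μ⁻¹ g : ℂˣ) : ℂ) * (ψ : G → ℂ) g) a - ((∑ g : G, a g : ℤ) : ℂ)) :=
    fun a ha => twist_main N P hM hcov hE μ hμ1 hμ2 ha
  have hχN : ∀ x : N, ((μ⁻¹ (x : G) : ℂˣ) : ℂ) * (ψ : G → ℂ) x = (θ : N → ℂ) x := by
    intro x
    rw [MonoidHom.inv_apply, hμ1 x x.2, inv_one, Units.val_one, one_mul, hψ]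
  refine ⟨⟨fun g => ((μ⁻¹ g : ℂˣ) : ℂ) * (ψ : G → ℂ) g, hEχ.irr⟩, ?_, hχN, ?_⟩
  · exact mem_principalBlock_top (N := N) _ hmain
  · intro J hNJ
    have hirrJ := isIrrCharacter_restrict_of_le hNJ hEχ.irr hEχ.resIrr
    refine ⟨⟨_, hirrJ⟩, ?_, fun y => rfl⟩
    exact mem_principalBlock_of_main hNJ hEχ.irr hmain _ (fun y => rfl)

end main

end Cfsg.Agent.Lib.Helper6.RelC
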