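import Mathlib
import Cfsg.Prelude.Def_Blocks
import Cfsg.Agent.Lib.Helper6.BlkLocal
import Cfsg.Agent.Lib.Helper6.SubContribPoly

/-! # Sums over the primitive `2 ^ n`-th roots of unity and congruences modulo `2` -/

set_option autoImplicit false
set_option linter.unusedSectionVars false
open Cfsg

namespace Cfsg.Agent.Lib.Helper6

open scoped ComplexConjugate

/-- a symmetric double sum is congruent to its diagonal modulo `2` -/
theorem sum_sum_symm_mod_two {ι : Type*} [DecidableEq ι] (S : Finset ι) (s : ι → ι → ℤ)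
    (hs : ∀ i j, s i j = s j i) :
    (∑ i ∈ S, ∑ j ∈ S, s i j) ≡ ∑ i ∈ S, s i i [ZMOD 2] := by
  induction S using Finset.induction_on with
  | empty => simp
  | insert a S ha ih =>
    rw [Finset.sum_insert ha, Finset.sum_insert ha, Finset.sum_insert ha]
    have h1 : ∑ i ∈ S, ∑ j ∈ insert a S, s i j
        = ∑ i ∈ S, s i a + ∑ i ∈ S, ∑ j ∈ S, s i j := by
      rw [← Finset.sum_add_distrib]
      apply Finset.sum_congr rfl
      intro i _
      rw [Finset.sum_insert ha]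
    rw [h1]
    have h2 : ∑ i ∈ S, s i a = ∑ j ∈ S, s a j := Finset.sum_congr rfl (fun i _ => hs i a)
    rw [h2]
    have h3 : s a a + ∑ j ∈ S, s a j + (∑ j ∈ S, s a j + ∑ i ∈ S, ∑ j ∈ S, s i j)
        = (s a a + ∑ i ∈ S, ∑ j ∈ S, s i j) + 2 * ∑ j ∈ S, s a j := by ring
    rw [h3]
    have h4 : (s a a + ∑ i ∈ S, ∑ j ∈ S, s i j) + 2 * ∑ j ∈ S, s a j
        ≡ s a a + ∑ i ∈ S, ∑ j ∈ S, s i j [ZMOD 2] := by
      rw [Int.modEq_iff_dvd]
      exact ⟨-∑ j ∈ S, s a j, by ring⟩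
    exact h4.trans (Int.ModEq.add_left _ ih)

/-- the sum of the `k`-th powers of all `m`-th roots of unity -/
theorem sum_nthRootsFinset_pow (m : ℕ) (hm : 0 < m) (k : ℕ) :
    ∑ η ∈ Polynomial.nthRootsFinset m (1 : ℂ), η ^ k = if m ∣ k then (m : ℂ) else 0 := by
  obtain ⟨ζ, hζ⟩ : ∃ ζ : ℂ, IsPrimitiveRoot ζ m := ⟨_, Complex.isPrimitiveRoot_exp m hm.ne'⟩
  have himg : Polynomial.nthRootsFinset m (1 : ℂ) = (Finset.range m).image (fun i => ζ ^ i) := by
    ext η
    rw [Polynomial.mem_nthRootsFinset hm, Finset.mem_image]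
    constructor
    · intro h
      haveI : NeZero m := ⟨hm.ne'⟩
      obtain ⟨i, hi, hi2⟩ := hζ.eq_pow_of_pow_eq_one h
      exact ⟨i, Finset.mem_range.mpr hi, hi2⟩
    · rintro ⟨i, _, rfl⟩
      rw [← pow_mul, mul_comm, pow_mul, hζ.pow_eq_one, one_pow]
  rw [himg, Finset.sum_image]
  · have h1 : ∀ i ∈ Finset.range m, (ζ ^ i) ^ k = (ζ ^ k) ^ i := by
      intro i _
      rw [← pow_mul, ← pow_mul, mul_comm]
    rw [Finset.sum_congr rfl h1]
    split_ifs with hd
    · have : ζ ^ k = 1 := (hζ.pow_eq_one_iff_dvd k).mpr hd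
      rw [this]
      simp
    · have hne : ζ ^ k ≠ 1 := fun h => hd ((hζ.pow_eq_one_iff_dvd k).mp h)
      have h2 := geom_sum_mul (ζ ^ k) m
      have h3 : (ζ ^ k) ^ m = 1 := by
        rw [← pow_mul, mul_comm, pow_mul, hζ.pow_eq_one, one_pow]
      rw [h3, sub_self] at h2
      rcases mul_eq_zero.mp h2 with h4 | h4
      · exact h4
      · exact absurd (sub_eq_zero.mp h4) hne
  · intro i hi j hj hij
    exact hζ.pow_inj (Finset.mem_range.mp hi) (Finset.mem_range.mp hj) hij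

theorem mem_primitiveRoots_two_pow_succ (n : ℕ) (η : ℂ) :
    η ∈ primitiveRoots (2 ^ (n + 1)) ℂ ↔ η ^ (2 ^ (n + 1)) = 1 ∧ η ^ (2 ^ n) ≠ 1 := by
  have hN : 0 < 2 ^ (n + 1) := by positivity
  rw [mem_primitiveRoots hN]
  constructor
  · intro h
    refine ⟨h.pow_eq_one, ?_⟩
    exact h.pow_ne_one_of_pos_of_lt (by positivity) (Nat.pow_lt_pow_right (by norm_num) (by omega))
  · rintro ⟨h1, h2⟩
    have hdvd : orderOf η ∣ 2 ^ (n + 1) := orderOf_dvd_of_pow_eq_one h1
    obtain ⟨j, hj, hjeq⟩ := (Nat.dvd_prime_pow Nat.prime_two).mp hdvd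
    have hjn : j = n + 1 := by
      by_contra hne
      have hjle : j ≤ n := by omega
      apply h2
      have : orderOf η ∣ 2 ^ n := by
        rw [hjeq]
        exact pow_dvd_pow 2 hjle
      exact orderOf_dvd_iff_pow_eq_one.mp this
    rw [hjn] at hjeq
    rw [← hjeq]
    exact IsPrimitiveRoot.orderOf η

/-- the Ramanujan sum for a power of two, divided by the totient -/
def eps2 (n k : ℕ) : ℤ := if 2 ^ n ∣ k then 1 else if 2 ^ n ∣ 2 * k then -1 else 0

theorem sum_primitiveRoots_two_pow_pow (n k : ℕ) :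
    ∑ η ∈ primitiveRoots (2 ^ n) ℂ, η ^ k = (Nat.totient (2 ^ n) : ℂ) * (eps2 n k : ℂ) := by
  cases n with
  | zero =>
    simp [eps2, IsPrimitiveRoot.primitiveRoots_one]
  | succ n =>
    have hN : 0 < 2 ^ (n + 1) := by positivity
    have hN' : 0 < 2 ^ n := by positivity
    have hsplit : primitiveRoots (2 ^ (n + 1)) ℂ
        = Polynomial.nthRootsFinset (2 ^ (n + 1)) (1 : ℂ)
          \ Polynomial.nthRootsFinset (2 ^ n) (1 : ℂ) := by
      ext η
      rw [mem_primitiveRoots_two_pow_succ, Finset.mem_sdiff, Polynomial.mem_nthRootsFinset hN,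
        Polynomial.mem_nthRootsFinset hN']
    have hsub : Polynomial.nthRootsFinset (2 ^ n) (1 : ℂ)
        ⊆ Polynomial.nthRootsFinset (2 ^ (n + 1)) (1 : ℂ) := by
      intro η hη
      rw [Polynomial.mem_nthRootsFinset hN'] at hη
      rw [Polynomial.mem_nthRootsFinset hN, pow_succ, pow_mul, hη, one_pow]
    have h1 := Finset.sum_sdiff hsub (f := fun η : ℂ => η ^ k)
    rw [← hsplit, sum_nthRootsFinset_pow _ hN', sum_nthRootsFinset_pow _ hN] at h1
    have htot : Nat.totient (2 ^ (n + 1)) = 2 ^ n := by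
      rw [Nat.totient_prime_pow_succ Nat.prime_two]
      simp
    rw [htot]
    unfold eps2
    have hdvd2 : 2 ^ (n + 1) ∣ 2 * k ↔ 2 ^ n ∣ k := by
      rw [pow_succ, mul_comm (2 ^ n) 2]
      exact Nat.mul_dvd_mul_iff_left (by norm_num)
    by_cases hd1 : 2 ^ (n + 1) ∣ k
    · have hd2 : 2 ^ n ∣ k := (pow_dvd_pow 2 (Nat.le_succ n)).trans hd1
      rw [if_pos hd2, if_pos hd1] at h1
      rw [if_pos hd1]
      push_cast at h1 ⊢
      linear_combination h1
    · rw [if_neg hd1] at h1 ⊢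
      by_cases hd2 : 2 ^ n ∣ k
      · rw [if_pos hd2] at h1
        rw [if_pos (hdvd2.mpr hd2)]
        push_cast at h1 ⊢
        linear_combination h1
      · rw [if_neg hd2] at h1
        rw [if_neg (fun h => hd2 (hdvd2.mp h))]
        push_cast at h1 ⊢
        linear_combination h1

/-- the pair form of the Ramanujan sum -/
def epsPair (n a b : ℕ) : ℤ := eps2 n (a + (2 ^ n - 1) * b)

theorem epsPair_symm (n a b : ℕ) : epsPair n a b = epsPair n b a := by
  unfold epsPair eps2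
  have hsum : (a + (2 ^ n - 1) * b) + (b + (2 ^ n - 1) * a) = 2 ^ n * (a + b) := by
    obtain ⟨c, hc⟩ : ∃ c, 2 ^ n = c + 1 := ⟨2 ^ n - 1, by have := Nat.one_le_two_pow (n := n); omega⟩
    rw [hc, Nat.add_sub_cancel]
    ring
  have key : ∀ x y : ℕ, x + y = 2 ^ n * (a + b) →
      ((2 ^ n ∣ x ↔ 2 ^ n ∣ y) ∧ (2 ^ n ∣ 2 * x ↔ 2 ^ n ∣ 2 * y)) := by
    intro x y hxy
    have hd : 2 ^ n ∣ x + y := ⟨a + b, hxy⟩
    have hd' : 2 ^ n ∣ y + x := by rw [add_comm]; exact hd
    have hd2 : 2 ^ n ∣ 2 * x + 2 * y := by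
      rw [← mul_add]
      exact Dvd.dvd.mul_left hd 2
    have hd2' : 2 ^ n ∣ 2 * y + 2 * x := by rw [add_comm]; exact hd2
    refine ⟨⟨fun h => (Nat.dvd_add_right h).mp hd, fun h => (Nat.dvd_add_right h).mp hd'⟩,
      ⟨fun h => (Nat.dvd_add_right h).mp hd2, fun h => (Nat.dvd_add_right h).mp hd2'⟩⟩
  obtain ⟨h1, h2⟩ := key _ _ hsum
  simp only [h1, h2]

theorem epsPair_self (n a : ℕ) : epsPair n a a = 1 := by
  unfold epsPair eps2
  rw [if_pos]
  obtain ⟨c, hc⟩ : ∃ c, 2 ^ n = c + 1 := ⟨2 ^ n - 1, by have := Nat.one_le_two_pow (n := n); omega⟩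
  rw [hc, Nat.add_sub_cancel]
  exact ⟨a, by ring⟩

theorem sum_primitiveRoots_two_pow_mul_conj (n a b : ℕ) :
    ∑ η ∈ primitiveRoots (2 ^ n) ℂ, η ^ a * conj (η ^ b)
      = (Nat.totient (2 ^ n) : ℂ) * (epsPair n a b : ℂ) := by
  have hN : 0 < 2 ^ n := by positivity
  unfold epsPair
  rw [← sum_primitiveRoots_two_pow_pow]
  apply Finset.sum_congr rfl
  intro η hη
  have h1 : η ^ (2 ^ n) = 1 := ((mem_primitiveRoots hN).mp hη).pow_eq_one
  rw [map_pow, conj_eq_pow_of_pow_eq_one hN h1, pow_add, ← pow_mul]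

/-- roots of unity of `2`-power order are congruent to `1` modulo a prime above `2` -/
theorem memLocalIdeal_sub_one_of_pow_two_pow {M : Ideal Cfsg.AlgInt} (hM : Cfsg.IsPModular 2 M)
    (n : ℕ) : ∀ ω : ℂ, ω ^ (2 ^ n) = 1 → Cfsg.MemLocalIdeal M (ω - 1) := by
  induction n with
  | zero =>
    intro ω h
    rw [pow_zero, pow_one] at h
    rw [h, sub_self]
    exact memLocalIdeal_zero hM
  | succ n ih =>
    intro ω h
    have h2 : (ω ^ 2) ^ (2 ^ n) = 1 := by
      rw [← pow_mul, ← pow_succ']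
      exact h
    have h3 := ih (ω ^ 2) h2
    have hint : IsIntegral ℤ ω := by
      apply IsIntegral.of_pow (n := 2 ^ (n + 1)) (by positivity)
      rw [h]
      exact isIntegral_one
    have hω := memLocalRing_of_isIntegral hM hint
    have h4 : ω ^ 2 - 1 = (ω - 1) * (ω + 1) := by ring
    rw [h4] at h3
    have h1r := memLocalRing_one hM
    rcases memLocalIdeal_or_of_mul hM (MemLocalRing.sub hM hω h1r) (MemLocalRing.add hM hω h1r) h3
      with h5 | h5
    · exact h5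
    · have h6 : ω - 1 = (ω + 1) - ((2 : ℕ) : ℂ) := by
        push_cast
        ring
      rw [h6]
      exact MemLocalIdeal.sub hM h5 (memLocalIdeal_prime hM)

end Cfsg.Agent.Lib.Helper6
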