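import Mathlib
import Cfsg.Prelude.Def_Blocks
import Cfsg.Prelude.Def_BlockRank
import Cfsg.Agent.Lib.Helper6.Robinson
import Cfsg.Agent.Lib.Helper6.TwoPowRoots

/-! # The refinement of Robinson's inequality for the prime `2` -/

set_option autoImplicit false
set_option linter.unusedSectionVars false
open Cfsg

namespace Cfsg.Agent.Lib.Helper6

open scoped ComplexConjugate

section form

variable {G : Type*} [Group G] [Fintype G] [DecidableEq G]
variable {p : ℕ} {M : Ideal Cfsg.AlgInt}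

/-- the normalised diagonal contributions of the subsections `(u ^ j, b)` as a symmetric form in
roots of unity -/
theorem exists_symm_form_subContrib (hM : Cfsg.IsPModular p M) [Fact p.Prime] (u : G) (N : ℕ)
    (hN : 0 < N) (H : Subgroup G) [Fintype H] (zH : H) (hzH : (zH : G) = u)
    (hzc : ∀ h : H, zH * h = h * zH) (hzN : zH ^ N = 1)
    (ξ₀ : Cfsg.IrrCharacter H) [Fintype (Cfsg.IrrCharacter H)]
    [DecidablePred (· ∈ Cfsg.blockOf M (ξ₀ : H → ℂ))] (χ : Cfsg.IrrCharacter G) (ζ₀ : ℂ)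
    (hζ₀ : IsPrimitiveRoot ζ₀ N) :
    ∃ (c : Cfsg.IrrCharacter H → Cfsg.IrrCharacter H → ℤ) (e : Cfsg.IrrCharacter H → ℕ),
      (∀ ξ ξ', c ξ ξ' = c ξ' ξ) ∧ ∀ j : ℕ,
      (p : ℂ) ^ Cfsg.blockDefect p (Cfsg.blockOf M (ξ₀ : H → ℂ))
        * subContrib p (u ^ j) H (Cfsg.blockOf M (ξ₀ : H → ℂ)) (χ : G → ℂ) (χ : G → ℂ)
      = ∑ ξ ∈ Finset.univ.filter (· ∈ Cfsg.blockOf M (ξ₀ : H → ℂ)),
          ∑ ξ' ∈ Finset.univ.filter (· ∈ Cfsg.blockOf M (ξ₀ : H → ℂ)),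
            (c ξ ξ' : ℂ) * ((ζ₀ ^ j) ^ e ξ * conj ((ζ₀ ^ j) ^ e ξ')) := by
  classical
  have hres : Cfsg.IsCharacter H (resFun H (χ : G → ℂ)) :=
    IsCharacter.restrict H (IsIrrCharacter.isCharacter χ.2)
  choose nχ hnχ using fun ξ : Cfsg.IrrCharacter H => IsCharacter.classInner_irr_nat hres ξ.2
  obtain ⟨lam, hlamdef⟩ : ∃ lam : Cfsg.IrrCharacter H → ℂ,
      lam = fun (ξ : Cfsg.IrrCharacter H) => (ξ : H → ℂ) zH / (ξ : H → ℂ) 1 := ⟨_, rfl⟩
  have hlam : ∀ ξ : Cfsg.IrrCharacter H, lam ξ ^ N = 1 := by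
    intro ξ
    rw [hlamdef]
    simp only
    rw [← IsIrrCharacter.apply_central_pow ξ.2 hzc, hzN,
      div_self (IsIrrCharacter.apply_one_ne_zero ξ.2)]
  have hex : ∀ ξ : Cfsg.IrrCharacter H, ∃ e : ℕ, ζ₀ ^ e = lam ξ := by
    intro ξ
    haveI : NeZero N := ⟨hN.ne'⟩
    obtain ⟨e, _, he⟩ := hζ₀.eq_pow_of_pow_eq_one (hlam ξ)
    exact ⟨e, he⟩
  choose e he using hex
  refine ⟨fun ξ ξ' => (nχ ξ : ℤ) * (nχ ξ' : ℤ) * mH p (Cfsg.blockOf M (ξ₀ : H → ℂ)) ξ ξ', e,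
    ?_, ?_⟩
  · intro ξ ξ'
    simp only
    rw [mH_symm hM _ ξ ξ']
    ring
  intro j
  have hzHj : ((zH ^ j : H) : G) = u ^ j := by rw [Subgroup.coe_pow, hzH]
  have hzcj : ∀ h : H, zH ^ j * h = h * zH ^ j := by
    intro h
    have : Commute zH h := hzc h
    exact (this.pow_left j).eq
  have hA : ∀ ξ : Cfsg.IrrCharacter H,
      Cfsg.classInner (fun c : H => (χ : G → ℂ) (u ^ j * (c : G))) (ξ : H → ℂ)
        = (ζ₀ ^ j) ^ e ξ * (nχ ξ : ℂ) := by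
    intro ξ
    rw [classInner_shift_eq (u ^ j) H (zH ^ j) hzHj hzcj, hnχ,
      IsIrrCharacter.apply_central_pow ξ.2 hzc]
    have : (ξ : H → ℂ) zH / (ξ : H → ℂ) 1 = lam ξ := by rw [hlamdef]
    rw [this, ← he ξ, ← pow_mul, ← pow_mul, mul_comm (e ξ) j]
  rw [subContrib_expand hM (u ^ j) H ξ₀ (χ : G → ℂ) (χ : G → ℂ)]
  apply Finset.sum_congr rfl
  intro ξ _
  apply Finset.sum_congr rfl
  intro ξ' _
  rw [hA ξ, hA ξ', map_mul, Complex.conj_natCast]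
  push_cast
  ring

end form

/-- the arithmetic behind the refinement -/
theorem robinson_two_arith {ι : Type*} (S : Finset ι) (X : ι → ℤ) (q l : ℕ)
    (hX : ∀ χ ∈ S, Odd (X χ) ∧ (S.card : ℤ) ≤ 2 ^ q * X χ)
    (hsum : ∑ χ ∈ S, X χ ≤ 2 ^ q * (l : ℤ)) :
    (Odd (Nat.sqrt l) → S.card ≤ Nat.sqrt l * 2 ^ q) ∧
    (¬ Odd (Nat.sqrt l) → (Nat.sqrt l + 1) * S.card ≤ l * 2 ^ q) := by
  obtain ⟨s, hs⟩ : ∃ s, s = Nat.sqrt l := ⟨_, rfl⟩
  rw [← hs]
  have hs1 : s * s ≤ l := by rw [hs]; exact Nat.sqrt_le l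
  have hs2 : l < (s + 1) * (s + 1) := by rw [hs]; exact Nat.lt_succ_sqrt l
  have hs1' : (s : ℤ) * s ≤ l := by exact_mod_cast hs1
  have hs2' : (l : ℤ) < ((s : ℤ) + 1) * ((s : ℤ) + 1) := by exact_mod_cast hs2
  have hQ : (0 : ℤ) < 2 ^ q := by positivity
  obtain ⟨k, hk⟩ : ∃ k : ℤ, k = (S.card : ℤ) := ⟨_, rfl⟩
  have hk0 : 0 ≤ k := by rw [hk]; positivity
  -- a uniform lower bound `t` for the `X χ` gives `k * t ≤ 2 ^ q * l`
  have hbound : ∀ t : ℤ, (∀ χ ∈ S, t ≤ X χ) → k * t ≤ 2 ^ q * (l : ℤ) := by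
    intro t ht
    calc k * t = ∑ χ ∈ S, t := by rw [Finset.sum_const, hk, nsmul_eq_mul]
      _ ≤ ∑ χ ∈ S, X χ := Finset.sum_le_sum ht
      _ ≤ _ := hsum
  constructor
  · intro hodd
    by_contra hcon
    push Not at hcon
    have hcon' : (s : ℤ) * 2 ^ q < k := by
      rw [hk]
      exact_mod_cast hcon
    have hXge : ∀ χ ∈ S, (s : ℤ) + 2 ≤ X χ := by
      intro χ hχ
      obtain ⟨ho, hle⟩ := hX χ hχ
      rw [← hk] at hle
      have h1 : (s : ℤ) * 2 ^ q < 2 ^ q * X χ := lt_of_lt_of_le hcon' hle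
      have h2 : (s : ℤ) < X χ := by
        by_contra h3
        push Not at h3
        have : 2 ^ q * X χ ≤ 2 ^ q * (s : ℤ) := mul_le_mul_of_nonneg_left h3 hQ.le
        linarith
      have hsodd : Odd (s : ℤ) := by exact_mod_cast hodd
      obtain ⟨a, ha⟩ := ho
      obtain ⟨b, hb⟩ := hsodd
      omega
    have h4 := hbound ((s : ℤ) + 2) hXge
    have h5 : (s : ℤ) * 2 ^ q * ((s : ℤ) + 2) ≤ k * ((s : ℤ) + 2) :=
      mul_le_mul_of_nonneg_right hcon'.le (by positivity)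
    have h6 : (s : ℤ) * 2 ^ q * ((s : ℤ) + 2) ≤ 2 ^ q * (l : ℤ) := le_trans h5 h4
    have h7 : (2 : ℤ) ^ q * ((s : ℤ) * ((s : ℤ) + 2)) ≤ 2 ^ q * (l : ℤ) := by
      calc (2 : ℤ) ^ q * ((s : ℤ) * ((s : ℤ) + 2)) = (s : ℤ) * 2 ^ q * ((s : ℤ) + 2) := by ring
        _ ≤ _ := h6
    have h8 : (s : ℤ) * ((s : ℤ) + 2) ≤ l := le_of_mul_le_mul_left h7 hQ
    -- now `k > s 2^q` and strictness
    have h9 : (s : ℤ) * 2 ^ q * ((s : ℤ) + 2) < k * ((s : ℤ) + 2) :=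
      mul_lt_mul_of_pos_right hcon' (by positivity)
    have h10 : (2 : ℤ) ^ q * ((s : ℤ) * ((s : ℤ) + 2)) < 2 ^ q * (l : ℤ) := by
      calc (2 : ℤ) ^ q * ((s : ℤ) * ((s : ℤ) + 2)) = (s : ℤ) * 2 ^ q * ((s : ℤ) + 2) := by ring
        _ < k * ((s : ℤ) + 2) := h9
        _ ≤ _ := h4
    have h11 : (s : ℤ) * ((s : ℤ) + 2) < l := lt_of_mul_lt_mul_left h10 hQ.le
    nlinarith
  · intro hnodd
    by_contra hcon
    push Not at hcon
    have hcon' : (l : ℤ) * 2 ^ q < ((s : ℤ) + 1) * k := by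
      rw [hk]
      exact_mod_cast hcon
    have hXge : ∀ χ ∈ S, (s : ℤ) + 1 ≤ X χ := by
      intro χ hχ
      obtain ⟨ho, hle⟩ := hX χ hχ
      rw [← hk] at hle
      -- (s+1) 2^q X ≥ (s+1) k > l 2^q ≥ s² 2^q
      have h1 : ((s : ℤ) + 1) * k ≤ ((s : ℤ) + 1) * (2 ^ q * X χ) :=
        mul_le_mul_of_nonneg_left hle (by positivity)
      have h2 : (s : ℤ) * s * 2 ^ q ≤ (l : ℤ) * 2 ^ q := mul_le_mul_of_nonneg_right hs1' hQ.le
      have h3 : (2 : ℤ) ^ q * ((s : ℤ) * s) < 2 ^ q * (((s : ℤ) + 1) * X χ) := by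
        calc (2 : ℤ) ^ q * ((s : ℤ) * s) = (s : ℤ) * s * 2 ^ q := by ring
          _ ≤ (l : ℤ) * 2 ^ q := h2
          _ < ((s : ℤ) + 1) * k := hcon'
          _ ≤ ((s : ℤ) + 1) * (2 ^ q * X χ) := h1
          _ = 2 ^ q * (((s : ℤ) + 1) * X χ) := by ring
      have h4 : (s : ℤ) * s < ((s : ℤ) + 1) * X χ := lt_of_mul_lt_mul_left h3 hQ.le
      have h5 : (s : ℤ) ≤ X χ := by
        by_contra h6
        push Not at h6
        have h7 : X χ ≤ (s : ℤ) - 1 := by omega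
        have h8 : ((s : ℤ) + 1) * X χ ≤ ((s : ℤ) + 1) * ((s : ℤ) - 1) :=
          mul_le_mul_of_nonneg_left h7 (by positivity)
        nlinarith
      have hseven : ¬ Odd (s : ℤ) := by exact_mod_cast hnodd
      rw [Int.not_odd_iff_even] at hseven
      obtain ⟨a, ha⟩ := ho
      obtain ⟨b, hb⟩ := hseven
      omega
    have h4 := hbound ((s : ℤ) + 1) hXge
    have h5 : ((s : ℤ) + 1) * k ≤ (l : ℤ) * 2 ^ q := by
      calc ((s : ℤ) + 1) * k = k * ((s : ℤ) + 1) := by ring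
        _ ≤ 2 ^ q * (l : ℤ) := h4
        _ = (l : ℤ) * 2 ^ q := by ring
    linarith

section robinson2

variable {G : Type*} [Group G] [Fintype G] [DecidableEq G]
variable {M : Ideal Cfsg.AlgInt}

set_option maxHeartbeats 1000000 in
/-- the refined form of Robinson's inequality for `p = 2`: odd integers `X χ` attached to the
characters of height zero -/
theorem card_height_zero_two_refined (hM : Cfsg.IsPModular 2 M)
    [Fintype (Cfsg.IrrCharacter G)] (u : G) (hu : ∃ k : ℕ, orderOf u = 2 ^ k)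
    (H : Subgroup G) [Fintype H] (hH : H = Subgroup.centralizer ({u} : Set G))
    {b : Set (Cfsg.IrrCharacter H)} {B : Set (Cfsg.IrrCharacter G)}
    (hind : Cfsg.IsInducedBlock M H b B) (S : Finset (Cfsg.IrrCharacter G))
    (hS : ∀ χ ∈ S, χ ∈ B ∧ Cfsg.blockHeight 2 B (χ : G → ℂ) = 0) :
    ∃ X : Cfsg.IrrCharacter G → ℤ,
      (∀ χ ∈ S, Odd (X χ) ∧ (S.card : ℤ) ≤ 2 ^ Cfsg.blockDefect 2 b * X χ) ∧
      ∑ χ ∈ S, X χ ≤ 2 ^ Cfsg.blockDefect 2 b * (Cfsg.blockRank 2 b : ℤ) := by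
  classical
  haveI : Fact (Nat.Prime 2) := ⟨Nat.prime_two⟩
  haveI : Fintype (Cfsg.IrrCharacter H) := Fintype.ofFinite _
  have hp : Nat.Prime 2 := Nat.prime_two
  obtain ⟨ξ₀, hb⟩ := hind.1
  subst hb
  obtain ⟨n, hn⟩ := hu
  obtain ⟨N, hNdef⟩ : ∃ N : ℕ, N = 2 ^ n := ⟨_, rfl⟩
  have hNord : N = orderOf u := by rw [hNdef, hn]
  have hN : 0 < N := by rw [hNdef]; positivity
  obtain ⟨ζ₀, hζ₀⟩ : ∃ ζ₀ : ℂ, IsPrimitiveRoot ζ₀ N :=
    ⟨_, Complex.isPrimitiveRoot_exp N hN.ne'⟩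
  -- the central element
  have hcomm : ∀ g : G, g ∈ H → u * g = g * u := by
    intro g hg
    rw [hH, mem_centralizer_singleton_iff] at hg
    exact hg
  have humem : u ∈ H := by
    rw [hH, mem_centralizer_singleton_iff]
  obtain ⟨zH, hzH⟩ : ∃ zH : H, (zH : G) = u := ⟨⟨u, humem⟩, rfl⟩
  have hzc : ∀ h : H, zH * h = h * zH := by
    intro h
    apply Subtype.ext
    rw [Subgroup.coe_mul, Subgroup.coe_mul, hzH]
    exact hcomm _ h.2
  have hzN : zH ^ N = 1 := by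
    apply Subtype.ext
    rw [Subgroup.coe_pow, hzH, hNord, pow_orderOf_eq_one]
    rfl
  -- the polynomials and the symmetric forms
  have hpoly := fun χ ψ : Cfsg.IrrCharacter G =>
    exists_poly_subContrib hM u N hN H zH hzH hzc hzN ξ₀ χ ψ ζ₀ hζ₀
  choose P hP using hpoly
  have hform := fun χ : Cfsg.IrrCharacter G =>
    exists_symm_form_subContrib hM u N hN H zH hzH hzc hzN ξ₀ χ ζ₀ hζ₀
  choose c e hcsymm hce using hform
  -- the exponents of the primitive roots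
  have hJ : ∀ η ∈ primitiveRoots N ℂ, ∃ j : ℕ, j.Coprime N ∧ ζ₀ ^ j = η := by
    intro η hη
    rw [mem_primitiveRoots hN] at hη
    haveI : NeZero N := ⟨hN.ne'⟩
    obtain ⟨j, _, hj1, hj2⟩ := (hζ₀.isPrimitiveRoot_iff).mp hη
    exact ⟨j, hj1, hj2⟩
  choose! J hJ1 hJ2 using hJ
  obtain ⟨d, hd⟩ : ∃ d : ℕ, d = Cfsg.blockDefect 2 (Cfsg.blockOf M (ξ₀ : H → ℂ)) := ⟨_, rfl⟩
  obtain ⟨l, hl⟩ : ∃ l : ℕ, l = Cfsg.blockRank 2 (Cfsg.blockOf M (ξ₀ : H → ℂ)) := ⟨_, rfl⟩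
  rw [← hd, ← hl]
  -- the subsections `(u ^ j, b)`
  have hsub : ∀ η ∈ primitiveRoots N ℂ, (∃ k : ℕ, orderOf (u ^ J η) = 2 ^ k) ∧
      H = Subgroup.centralizer ({u ^ J η} : Set G) := by
    intro η hη
    constructor
    · have h1 : orderOf (u ^ J η) ∣ 2 ^ n := by
        rw [← hn]
        exact orderOf_pow_dvd _
      obtain ⟨k', _, hk'⟩ := (Nat.dvd_prime_pow hp).mp h1
      exact ⟨k', hk'⟩
    · rw [hH]
      exact (centralizer_pow_eq_of_coprime u (J η) (by rw [← hNord]; exact hJ1 η hη)).symm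
  have hcard : (primitiveRoots N ℂ).card = Nat.totient N := Complex.card_primitiveRoots N
  have htpos : (0 : ℝ) < (Nat.totient N : ℝ) := by exact_mod_cast Nat.totient_pos.mpr hN
  -- the row sums
  obtain ⟨A, hAdef⟩ : ∃ A : Cfsg.IrrCharacter G → ℂ → ℝ, A = fun (χ : Cfsg.IrrCharacter G) (η : ℂ) =>
      ∑ ψ : Cfsg.IrrCharacter G, Complex.normSq
        (subContrib 2 (u ^ J η) H (Cfsg.blockOf M (ξ₀ : H → ℂ)) (χ : G → ℂ) (ψ : G → ℂ)) :=
    ⟨_, rfl⟩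
  have hA0 : ∀ χ η, 0 ≤ A χ η := by
    intro χ η
    rw [hAdef]
    exact Finset.sum_nonneg (fun ψ _ => Complex.normSq_nonneg _)
  have hAA : ∀ η ∈ primitiveRoots N ℂ, ∀ χ : Cfsg.IrrCharacter G,
      subContrib 2 (u ^ J η) H (Cfsg.blockOf M (ξ₀ : H → ℂ)) (χ : G → ℂ) (χ : G → ℂ)
        = ((A χ η : ℝ) : ℂ) := by
    intro η hη χ
    obtain ⟨hz', hH'⟩ := hsub η hη
    rw [← sum_subContrib_mul_conj hM (u ^ J η) hz' H hH' ξ₀ (χ : G → ℂ), hAdef]
    push_cast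
    apply Finset.sum_congr rfl
    intro ψ _
    rw [Complex.mul_conj]
  have hAsum : ∀ η ∈ primitiveRoots N ℂ, ∑ χ : Cfsg.IrrCharacter G, A χ η = (l : ℝ) := by
    intro η hη
    obtain ⟨hz', hH'⟩ := hsub η hη
    have := sum_normSq_subContrib hM (u ^ J η) hz' H hH' ξ₀
    rw [← hl] at this
    rw [hAdef]
    exact this
  -- the integers `X χ`
  obtain ⟨X, hXdef⟩ : ∃ X : Cfsg.IrrCharacter G → ℤ, X = fun χ =>
      ∑ ξ ∈ Finset.univ.filter (· ∈ Cfsg.blockOf M (ξ₀ : H → ℂ)),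
        ∑ ξ' ∈ Finset.univ.filter (· ∈ Cfsg.blockOf M (ξ₀ : H → ℂ)),
          c χ ξ ξ' * epsPair n (e χ ξ) (e χ ξ') := ⟨_, rfl⟩
  have hXsum : ∀ χ : Cfsg.IrrCharacter G,
      ∑ η ∈ primitiveRoots N ℂ, (2 : ℝ) ^ d * A χ η = (Nat.totient N : ℝ) * (X χ : ℝ) := by
    intro χ
    have h1 : ∑ η ∈ primitiveRoots N ℂ, (((2 : ℝ) ^ d * A χ η : ℝ) : ℂ)
        = ((Nat.totient N : ℝ) : ℂ) * ((X χ : ℝ) : ℂ) := by
      have h2 : ∀ η ∈ primitiveRoots N ℂ, (((2 : ℝ) ^ d * A χ η : ℝ) : ℂ)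
          = ∑ ξ ∈ Finset.univ.filter (· ∈ Cfsg.blockOf M (ξ₀ : H → ℂ)),
              ∑ ξ' ∈ Finset.univ.filter (· ∈ Cfsg.blockOf M (ξ₀ : H → ℂ)),
                (c χ ξ ξ' : ℂ) * (η ^ e χ ξ * conj (η ^ e χ ξ')) := by
        intro η hη
        have h3 := hce χ (J η)
        rw [hJ2 η hη, ← hd, hAA η hη χ] at h3
        rw [← h3]
        push_cast
        ring
      rw [Finset.sum_congr rfl h2, Finset.sum_comm]
      have h4 : ∀ ξ ∈ Finset.univ.filter (· ∈ Cfsg.blockOf M (ξ₀ : H → ℂ)),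
          ∑ η ∈ primitiveRoots N ℂ,
            ∑ ξ' ∈ Finset.univ.filter (· ∈ Cfsg.blockOf M (ξ₀ : H → ℂ)),
              (c χ ξ ξ' : ℂ) * (η ^ e χ ξ * conj (η ^ e χ ξ'))
          = ∑ ξ' ∈ Finset.univ.filter (· ∈ Cfsg.blockOf M (ξ₀ : H → ℂ)),
              (c χ ξ ξ' : ℂ) * ((Nat.totient N : ℂ) * (epsPair n (e χ ξ) (e χ ξ') : ℂ)) := by
        intro ξ _
        rw [Finset.sum_comm]
        apply Finset.sum_congr rfl
        intro ξ' _
        rw [← Finset.mul_sum, hNdef, sum_primitiveRoots_two_pow_mul_conj]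
      rw [Finset.sum_congr rfl h4, hXdef]
      push_cast
      rw [Finset.mul_sum]
      apply Finset.sum_congr rfl
      intro ξ _
      rw [Finset.mul_sum]
      apply Finset.sum_congr rfl
      intro ξ' _
      ring
    have h5 : ((∑ η ∈ primitiveRoots N ℂ, (2 : ℝ) ^ d * A χ η : ℝ) : ℂ)
        = (((Nat.totient N : ℝ) * (X χ : ℝ) : ℝ) : ℂ) := by
      push_cast
      push_cast at h1
      exact h1
    exact_mod_cast h5
  refine ⟨X, ?_, ?_⟩
  · intro χ hχ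
    constructor
    · -- oddness
      obtain ⟨κ, hκ⟩ : ∃ κ : ℤ, κ =
          ∑ ξ ∈ Finset.univ.filter (· ∈ Cfsg.blockOf M (ξ₀ : H → ℂ)),
            ∑ ξ' ∈ Finset.univ.filter (· ∈ Cfsg.blockOf M (ξ₀ : H → ℂ)), c χ ξ ξ' := ⟨_, rfl⟩
      have hmod1 : X χ ≡ ∑ ξ ∈ Finset.univ.filter (· ∈ Cfsg.blockOf M (ξ₀ : H → ℂ)),
          c χ ξ ξ [ZMOD 2] := by
        rw [hXdef]
        have := sum_sum_symm_mod_two (Finset.univ.filter (· ∈ Cfsg.blockOf M (ξ₀ : H → ℂ)))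
          (fun ξ ξ' => c χ ξ ξ' * epsPair n (e χ ξ) (e χ ξ'))
          (fun ξ ξ' => by
            rw [hcsymm χ ξ ξ', epsPair_symm])
        have hdiag : ∑ ξ ∈ Finset.univ.filter (· ∈ Cfsg.blockOf M (ξ₀ : H → ℂ)),
            c χ ξ ξ * epsPair n (e χ ξ) (e χ ξ)
            = ∑ ξ ∈ Finset.univ.filter (· ∈ Cfsg.blockOf M (ξ₀ : H → ℂ)), c χ ξ ξ := by
          apply Finset.sum_congr rfl
          intro ξ _
          rw [epsPair_self, mul_one]
        rw [hdiag] at this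
        exact this
      have hmod2 : κ ≡ ∑ ξ ∈ Finset.univ.filter (· ∈ Cfsg.blockOf M (ξ₀ : H → ℂ)),
          c χ ξ ξ [ZMOD 2] := by
        rw [hκ]
        exact sum_sum_symm_mod_two _ (fun ξ ξ' => c χ ξ ξ') (hcsymm χ)
      have hmod : X χ ≡ κ [ZMOD 2] := hmod1.trans hmod2.symm
      -- `κ` is odd
      have hζ₀R : ζ₀ ∈ primitiveRoots N ℂ := (mem_primitiveRoots hN).mpr hζ₀
      obtain ⟨hz', hH'⟩ := hsub ζ₀ hζ₀R
      have hnv := pow_defect_mul_subContrib_not_mem hM (u ^ J ζ₀) hz' H hH' hind χ χ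
        (hS χ hχ).1 (hS χ hχ).1 (hS χ hχ).2 (hS χ hχ).2
      have h3 := hce χ (J ζ₀)
      rw [hJ2 ζ₀ hζ₀R] at h3
      have hdiff : Cfsg.MemLocalIdeal M (((2 : ℕ) : ℂ) ^ Cfsg.blockDefect 2 (Cfsg.blockOf M (ξ₀ : H → ℂ))
          * subContrib 2 (u ^ J ζ₀) H (Cfsg.blockOf M (ξ₀ : H → ℂ)) (χ : G → ℂ) (χ : G → ℂ)
          - (κ : ℂ)) := by
        rw [h3, hκ]
        push_cast
        rw [← Finset.sum_sub_distrib]
        apply MemLocalIdeal.sum hM
        intro ξ _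
        rw [← Finset.sum_sub_distrib]
        apply MemLocalIdeal.sum hM
        intro ξ' _
        have h5 : (c χ ξ ξ' : ℂ) * (ζ₀ ^ e χ ξ * conj (ζ₀ ^ e χ ξ')) - (c χ ξ ξ' : ℂ)
            = (c χ ξ ξ' : ℂ) * (ζ₀ ^ e χ ξ * conj (ζ₀ ^ e χ ξ') - 1) := by ring
        rw [h5]
        apply MemLocalIdeal.mul_left hM (memLocalRing_intCast hM _)
        apply memLocalIdeal_sub_one_of_pow_two_pow hM n
        have h6 : ζ₀ ^ (2 ^ n) = 1 := by rw [← hNdef]; exact hζ₀.pow_eq_one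
        rw [mul_pow, ← map_pow, ← pow_mul, ← pow_mul, mul_comm (e χ ξ), mul_comm (e χ ξ'),
          pow_mul, pow_mul, h6, one_pow, one_pow, map_one, mul_one]
      have hκodd : ¬ (2 : ℤ) ∣ κ := by
        intro hdvd
        apply hnv
        have h7 : Cfsg.MemLocalIdeal M (κ : ℂ) :=
          (memLocalIdeal_intCast_iff hM κ).mpr (by exact_mod_cast hdvd)
        have h8 := MemLocalIdeal.add hM hdiff h7
        rw [sub_add_cancel] at h8
        exact h8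
      rw [Int.odd_iff]
      have h9 : κ % 2 = 1 := by omega
      rw [← h9]
      exact hmod
    · -- the lower bound
      have hlower : ∀ ψ ∈ S, (Nat.totient N : ℝ)
          ≤ ∑ η ∈ primitiveRoots N ℂ, Complex.normSq (Polynomial.aeval η (P χ ψ)) := by
        intro ψ hψ
        apply totient_le_sum_normSq_aeval_primitiveRoots N hN
        intro η hη
        obtain ⟨hz', hH'⟩ := hsub η hη
        have e1 := hP χ ψ (J η)
        rw [hJ2 η hη] at e1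
        rw [e1]
        have hnv := pow_defect_mul_subContrib_not_mem hM (u ^ J η) hz' H hH' hind χ ψ
          (hS χ hχ).1 (hS ψ hψ).1 (hS χ hχ).2 (hS ψ hψ).2
        exact ne_zero_of_not_memLocalIdeal hM hnv
      have hval : ∀ η ∈ primitiveRoots N ℂ, ∀ ψ : Cfsg.IrrCharacter G,
          Complex.normSq (Polynomial.aeval η (P χ ψ))
          = (2 : ℝ) ^ (2 * d) * Complex.normSq
            (subContrib 2 (u ^ J η) H (Cfsg.blockOf M (ξ₀ : H → ℂ)) (χ : G → ℂ) (ψ : G → ℂ)) := by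
        intro η hη ψ
        have e1 := hP χ ψ (J η)
        rw [hJ2 η hη] at e1
        rw [e1, ← hd, map_mul, map_pow]
        have : Complex.normSq ((2 : ℕ) : ℂ) = (2 : ℝ) * 2 := by
          rw [Complex.normSq_natCast]
          norm_num
        rw [this, ← pow_two, ← pow_mul]
      have hmain : (Nat.totient N : ℝ) * (S.card : ℝ)
          ≤ (Nat.totient N : ℝ) * ((2 : ℝ) ^ d * (X χ : ℝ)) := by
        calc (Nat.totient N : ℝ) * (S.card : ℝ) = ∑ ψ ∈ S, (Nat.totient N : ℝ) := by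
              rw [Finset.sum_const, nsmul_eq_mul]
              ring
          _ ≤ ∑ ψ ∈ S, ∑ η ∈ primitiveRoots N ℂ,
                Complex.normSq (Polynomial.aeval η (P χ ψ)) := Finset.sum_le_sum hlower
          _ = ∑ η ∈ primitiveRoots N ℂ, ∑ ψ ∈ S,
                Complex.normSq (Polynomial.aeval η (P χ ψ)) := Finset.sum_comm
          _ ≤ ∑ η ∈ primitiveRoots N ℂ, (2 : ℝ) ^ d * ((2 : ℝ) ^ d * A χ η) := by
              apply Finset.sum_le_sum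
              intro η hη
              have h1 : ∑ ψ ∈ S, Complex.normSq (Polynomial.aeval η (P χ ψ))
                  = (2 : ℝ) ^ (2 * d) * ∑ ψ ∈ S, Complex.normSq
                    (subContrib 2 (u ^ J η) H (Cfsg.blockOf M (ξ₀ : H → ℂ))
                      (χ : G → ℂ) (ψ : G → ℂ)) := by
                rw [Finset.mul_sum]
                exact Finset.sum_congr rfl (fun ψ _ => hval η hη ψ)
              rw [h1, ← mul_assoc, ← pow_add, ← two_mul]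
              apply mul_le_mul_of_nonneg_left _ (by positivity)
              rw [hAdef]
              exact Finset.sum_le_sum_of_subset_of_nonneg (Finset.subset_univ S)
                (fun ψ _ _ => Complex.normSq_nonneg _)
          _ = (2 : ℝ) ^ d * ∑ η ∈ primitiveRoots N ℂ, (2 : ℝ) ^ d * A χ η := by
              rw [Finset.mul_sum]
          _ = (Nat.totient N : ℝ) * ((2 : ℝ) ^ d * (X χ : ℝ)) := by
              rw [hXsum χ]
              ring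
      have hfin : (S.card : ℝ) ≤ (2 : ℝ) ^ d * (X χ : ℝ) := le_of_mul_le_mul_left hmain htpos
      exact_mod_cast hfin
  · -- the upper bound
    have hmain : (Nat.totient N : ℝ) * ((∑ χ ∈ S, X χ : ℤ) : ℝ)
        ≤ (Nat.totient N : ℝ) * ((2 : ℝ) ^ d * (l : ℝ)) := by
      calc (Nat.totient N : ℝ) * ((∑ χ ∈ S, X χ : ℤ) : ℝ)
          = ∑ χ ∈ S, (Nat.totient N : ℝ) * (X χ : ℝ) := by
            push_cast
            rw [Finset.mul_sum]
        _ = ∑ χ ∈ S, ∑ η ∈ primitiveRoots N ℂ, (2 : ℝ) ^ d * A χ η :=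
            Finset.sum_congr rfl (fun χ _ => (hXsum χ).symm)
        _ = ∑ η ∈ primitiveRoots N ℂ, ∑ χ ∈ S, (2 : ℝ) ^ d * A χ η := Finset.sum_comm
        _ ≤ ∑ η ∈ primitiveRoots N ℂ, (2 : ℝ) ^ d * (l : ℝ) := by
            apply Finset.sum_le_sum
            intro η hη
            rw [← Finset.mul_sum]
            apply mul_le_mul_of_nonneg_left _ (by positivity)
            rw [← hAsum η hη]
            exact Finset.sum_le_sum_of_subset_of_nonneg (Finset.subset_univ S)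
              (fun χ _ _ => hA0 χ η)
        _ = (Nat.totient N : ℝ) * ((2 : ℝ) ^ d * (l : ℝ)) := by
            rw [Finset.sum_const, hcard, nsmul_eq_mul]
    have hfin : ((∑ χ ∈ S, X χ : ℤ) : ℝ) ≤ (2 : ℝ) ^ d * (l : ℝ) :=
      le_of_mul_le_mul_left hmain htpos
    exact_mod_cast hfin

end robinson2

end Cfsg.Agent.Lib.Helper6
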