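import Mathlib
import Cfsg.Agent.Lib.Helper6.RvDefs
import Cfsg.Agent.Lib.Helper3.SelfDual5

/-! From the group configuration to modules: the normal subgroup as a module over the prime
field, the stabilizer acting by conjugation, invariant subgroups as submodules, pairings as
bilinear forms. -/

set_option autoImplicit false

namespace Cfsg.Agent.Lib.Helper6.Rv

open scoped ComplexConjugate

universe u

section Bridge

variable {X : Type u} [Group X] {p : ℕ} [Fact p.Prime]
  {V G H : Subgroup X} {v : X}

/-- the normal subgroup, written additively -/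
def NConfig.Mod (_c : NConfig p V G H v) : Type u := Additive V

namespace NConfig

variable (c : NConfig p V G H v)

instance instAddCommGroupMod : AddCommGroup c.Mod :=
  { (inferInstance : AddGroup (Additive V)) with
    add_comm := fun a b => by
      apply Additive.toMul.injective
      apply Subtype.ext
      exact c.hVab _ (Additive.toMul a).2 _ (Additive.toMul b).2 }

theorem mod_nsmul (x : c.Mod) : p • x = 0 := by
  have h1 : x = Additive.ofMul (Additive.toMul x) := rfl
  have h2 : (Additive.toMul x : V) ^ p = 1 := by
    apply Subtype.ext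
    rw [Subgroup.coe_pow, Subgroup.coe_one]
    exact c.hVexp _ (Additive.toMul x : V).2
  rw [h1]
  exact (ofMul_pow p (Additive.toMul x : V)).symm.trans (by rw [h2]; rfl)

instance instModuleMod : Module (ZMod p) c.Mod := AddCommGroup.zmodModule c.mod_nsmul

instance instFiniteMod [Finite X] : Finite c.Mod := (inferInstance : Finite (Additive V))

/-- the element of the group underlying an element of the module -/
def val (x : c.Mod) : X := ((Additive.toMul x : V) : X)

theorem val_mem (x : c.Mod) : c.val x ∈ V := (Additive.toMul x : V).2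

theorem val_add (x y : c.Mod) : c.val (x + y) = c.val x * c.val y := rfl

theorem val_zero : c.val (0 : c.Mod) = 1 := rfl

theorem val_neg (x : c.Mod) : c.val (-x) = (c.val x)⁻¹ := rfl

theorem val_injective : Function.Injective c.val := by
  intro x y h
  apply Additive.toMul.injective
  exact Subtype.ext h

theorem val_nsmul (n : ℕ) (x : c.Mod) : c.val (n • x) = c.val x ^ n := by
  induction n with
  | zero => rw [zero_smul, pow_zero]; rfl
  | succ n ih => rw [succ_nsmul, val_add, ih, pow_succ]

/-- the element of the module attached to an element of the normal subgroup -/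
def ofMem (w : X) (hw : w ∈ V) : c.Mod := Additive.ofMul (⟨w, hw⟩ : V)

theorem val_ofMem (w : X) (hw : w ∈ V) : c.val (c.ofMem w hw) = w := rfl

/-- conjugation as a linear map -/
def conjLin (g : X) : c.Mod →ₗ[ZMod p] c.Mod :=
  AddMonoidHom.toZModLinearMap p
    (show c.Mod →+ c.Mod from
      MonoidHom.toAdditive ((@MulAut.conjNormal X _ V c.normal g : MulAut V).toMonoidHom))

theorem val_conjLin (g : X) (w : c.Mod) : c.val (c.conjLin g w) = g * c.val w * g⁻¹ :=
  rfl

/-- the conjugation representation of the stabilizer -/
def rho : Representation (ZMod p) H c.Mod where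
  toFun h := c.conjLin (h : X)
  map_one' := by
    apply LinearMap.ext
    intro w
    apply c.val_injective
    rw [val_conjLin, Module.End.one_apply, Subgroup.coe_one]
    simp
  map_mul' := by
    intro a b
    apply LinearMap.ext
    intro w
    apply c.val_injective
    rw [val_conjLin, Module.End.mul_apply, val_conjLin, val_conjLin, Subgroup.coe_mul]
    group

theorem val_rho (h : H) (w : c.Mod) : c.val (c.rho h w) = (h : X) * c.val w * (h : X)⁻¹ :=
  rfl

/-- a subgroup of the normal subgroup as a submodule -/
def subMod (U : Subgroup X) : Submodule (ZMod p) c.Mod where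
  carrier := {x | c.val x ∈ U}
  add_mem' := fun {a b} ha hb => by
    show c.val (a + b) ∈ U
    rw [val_add]
    exact U.mul_mem ha hb
  zero_mem' := U.one_mem
  smul_mem' := fun a x hx => by
    show c.val (a • x) ∈ U
    have h1 : a • x = a.val • x := by
      conv_lhs => rw [← ZMod.natCast_zmod_val a]
      exact Nat.cast_smul_eq_nsmul (ZMod p) a.val x
    rw [h1, val_nsmul]
    exact U.pow_mem hx _

theorem mem_subMod (U : Subgroup X) (x : c.Mod) : x ∈ c.subMod U ↔ c.val x ∈ U := Iff.rfl

theorem inv_subMod (U : Subgroup X) (hUinv : ∀ h ∈ H, ∀ w ∈ U, h * w * h⁻¹ ∈ U) :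
    Cfsg.Agent.Lib.Helper3.SelfDual.Inv c.rho (c.subMod U) := by
  intro h x hx
  rw [mem_subMod, val_rho]
  exact hUinv h h.2 _ hx

/-- a bi-additive pairing on a subgroup as a bilinear form on the submodule -/
def formOf (U : Subgroup X) (β : X → X → ZMod p)
    (hβl : ∀ a ∈ U, ∀ a' ∈ U, ∀ w ∈ U, β (a * a') w = β a w + β a' w)
    (hβr : ∀ a ∈ U, ∀ w ∈ U, ∀ w' ∈ U, β a (w * w') = β a w + β a w') :
    LinearMap.BilinForm (ZMod p) (c.subMod U) :=
  AddMonoidHom.toZModLinearMap p
    (AddMonoidHom.mk' (fun x : c.subMod U =>
      AddMonoidHom.toZModLinearMap p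
        (AddMonoidHom.mk' (fun y : c.subMod U => β (c.val x) (c.val y))
          (fun y y' => hβr _ x.2 _ y.2 _ y'.2)))
      (fun x x' => by
        apply LinearMap.ext
        intro y
        exact hβl _ x.2 _ x'.2 _ y.2))

theorem formOf_apply (U : Subgroup X) (β : X → X → ZMod p)
    (hβl : ∀ a ∈ U, ∀ a' ∈ U, ∀ w ∈ U, β (a * a') w = β a w + β a' w)
    (hβr : ∀ a ∈ U, ∀ w ∈ U, ∀ w' ∈ U, β a (w * w') = β a w + β a w')
    (x y : c.subMod U) : c.formOf U β hβl hβr x y = β (c.val x) (c.val y) := rfl

end NConfig

end Bridge

end Cfsg.Agent.Lib.Helper6.Rv
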