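import Mathlib
import Cfsg.Agent.Lib.Helper6.RvDefs
import Cfsg.Agent.Lib.Helper6.KgvA
import Cfsg.Agent.Lib.Helper6.GenCharOps
import Cfsg.Agent.Lib.Helper6.CharOps
import Cfsg.Agent.Lib.Helper3.SelfDual5

/-! Formal operations on module data: trivial actions, direct sums, pullbacks. -/

set_option autoImplicit false

namespace Cfsg.Agent.Lib.Helper6.Rv

open scoped ComplexConjugate
open Cfsg.Agent.Lib.Helper6

universe u v

section Formal

variable {p : ℕ} [Fact p.Prime] {H : Type u} [Group H] {M : Type v} [AddCommGroup M]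
  [Module (ZMod p) M]

/-- trivial action -/
theorem mdata_of_trivial (ρ : Representation (ZMod p) H M) (h0 : ∀ h x, ρ h x = x) :
    MData p ρ := by
  refine ⟨PUnit, inferInstance, fun _ _ => 1, fun _ => 1, ?_, ?_, ?_, ?_, ?_⟩
  · intro s; simp
  · intro s
    exact IsCharacter.isGeneralizedCharacter isCharacter_one
  · intro h _; simp
  · intro h hh; exact absurd (h0 h) hh
  · intro k _ h
    have : Nat.card {x : M // ρ h x = x} = Nat.card M := by
      apply Nat.card_congr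
      exact Equiv.subtypeUnivEquiv (fun x => h0 h x)
    rw [this]
    simp

/-- the sum of the values of module data is an algebraic integer -/
theorem isIntegral_of_cases {a : ℂ} (h : a = 1 ∨ ∃ ε : ℂ, IsIntegral ℤ ε ∧ a = (p : ℂ) * ε) :
    IsIntegral ℤ a := by
  rcases h with h | ⟨ε, hε, h⟩
  · rw [h]; exact isIntegral_one
  · rw [h]
    exact IsIntegral.mul (isIntegral_algebraMap (R := ℤ) (A := ℂ) (x := (p : ℤ))) hε

/-- direct sums -/
theorem mdata_of_isCompl [Finite M] (ρ : Representation (ZMod p) H M)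
    (U₁ U₂ : Submodule (ZMod p) M)
    (hU₁ : Cfsg.Agent.Lib.Helper3.SelfDual.Inv ρ U₁)
    (hU₂ : Cfsg.Agent.Lib.Helper3.SelfDual.Inv ρ U₂) (hc : IsCompl U₁ U₂)
    (h₁ : MData p (Cfsg.Agent.Lib.Helper3.SelfDual.subRep ρ U₁ hU₁))
    (h₂ : MData p (Cfsg.Agent.Lib.Helper3.SelfDual.subRep ρ U₂ hU₂)) : MData p ρ := by
  obtain ⟨S₁, fS₁, θ₁, ω₁, hω₁, hθ₁, hs₁, hz₁, hn₁⟩ := h₁
  obtain ⟨S₂, fS₂, θ₂, ω₂, hω₂, hθ₂, hs₂, hz₂, hn₂⟩ := h₂
  have hd : Disjoint U₁ U₂ := hc.disjoint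
  have hsup : U₁ ⊔ U₂ = ⊤ := hc.sup_eq_top
  -- triviality on the pieces
  have hiff : ∀ h : H, (∀ x, ρ h x = x) ↔
      ((∀ x : U₁, Cfsg.Agent.Lib.Helper3.SelfDual.subRep ρ U₁ hU₁ h x = x) ∧
        (∀ x : U₂, Cfsg.Agent.Lib.Helper3.SelfDual.subRep ρ U₂ hU₂ h x = x)) := by
    intro h
    constructor
    · intro hh
      exact ⟨fun x => Subtype.ext (hh x), fun x => Subtype.ext (hh x)⟩
    · rintro ⟨ha, hb⟩ x
      have hx : x ∈ U₁ ⊔ U₂ := by rw [hsup]; exact Submodule.mem_top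
      obtain ⟨a, haU, b, hbU, rfl⟩ := Submodule.mem_sup.mp hx
      rw [map_add]
      have e1 := congrArg Subtype.val (ha ⟨a, haU⟩)
      have e2 := congrArg Subtype.val (hb ⟨b, hbU⟩)
      rw [Cfsg.Agent.Lib.Helper3.SelfDual.subRep_coe] at e1 e2
      simp only at e1 e2
      rw [e1, e2]
  have hprod : ∀ h : H, ∑ x : S₁ × S₂, (θ₁ x.1 * θ₂ x.2) h =
      (∑ x, θ₁ x h) * (∑ y, θ₂ y h) := by
    intro h
    rw [Fintype.sum_prod_type, Finset.sum_mul_sum]
    rfl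
  have hint₁ : ∀ h : H, IsIntegral ℤ (∑ x, θ₁ x h) := by
    intro h
    apply isIntegral_of_cases (p := p)
    by_cases hh : ∀ x : U₁, Cfsg.Agent.Lib.Helper3.SelfDual.subRep ρ U₁ hU₁ h x = x
    · exact Or.inl (hs₁ h hh)
    · exact Or.inr (hz₁ h hh)
  have hint₂ : ∀ h : H, IsIntegral ℤ (∑ x, θ₂ x h) := by
    intro h
    apply isIntegral_of_cases (p := p)
    by_cases hh : ∀ x : U₂, Cfsg.Agent.Lib.Helper3.SelfDual.subRep ρ U₂ hU₂ h x = x
    · exact Or.inl (hs₂ h hh)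
    · exact Or.inr (hz₂ h hh)
  -- cardinalities
  have hcardM : Nat.card M = Nat.card U₁ * Nat.card U₂ := by
    rw [← Kgv.card_sup_of_disjoint U₁ U₂ hd, hsup]
    exact (Nat.card_congr (Submodule.topEquiv (R := ZMod p) (M := M)).toEquiv).symm
  have hcardFix : ∀ h : H, Nat.card {x : M // ρ h x = x} =
      Nat.card {x : U₁ // Cfsg.Agent.Lib.Helper3.SelfDual.subRep ρ U₁ hU₁ h x = x} *
        Nat.card {x : U₂ // Cfsg.Agent.Lib.Helper3.SelfDual.subRep ρ U₂ hU₂ h x = x} := by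
    intro h
    have e0 : Nat.card {x : M // ρ h x = x} =
        Nat.card {u : ↥(U₁ ⊔ U₂) // ρ h (u : M) = u} := by
      apply Nat.card_congr
      refine ⟨fun x => ⟨⟨x.1, by rw [hsup]; exact Submodule.mem_top⟩, x.2⟩,
        fun u => ⟨u.1.1, u.2⟩, fun x => rfl, fun u => rfl⟩
    have e1 : Nat.card {x : U₁ // Cfsg.Agent.Lib.Helper3.SelfDual.subRep ρ U₁ hU₁ h x = x} =
        Nat.card {u : U₁ // ρ h (u : M) = u} := by
      apply Nat.card_congr
      exact Equiv.subtypeEquivRight (fun x => Subtype.ext_iff)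
    have e2 : Nat.card {x : U₂ // Cfsg.Agent.Lib.Helper3.SelfDual.subRep ρ U₂ hU₂ h x = x} =
        Nat.card {u : U₂ // ρ h (u : M) = u} := by
      apply Nat.card_congr
      exact Equiv.subtypeEquivRight (fun x => Subtype.ext_iff)
    rw [e0, e1, e2]
    exact Kgv.card_fix_sup U₁ U₂ hd (ρ h) (hU₁ h) (hU₂ h)
  refine ⟨S₁ × S₂, inferInstance, fun x => θ₁ x.1 * θ₂ x.2, fun x => ω₁ x.1 * ω₂ x.2,
    ?_, ?_, ?_, ?_, ?_⟩
  · intro x
    rw [mul_pow, hω₁, hω₂, one_mul]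
  · intro x
    exact IsGeneralizedCharacter.mul (hθ₁ x.1) (hθ₂ x.2)
  · intro h hh
    obtain ⟨ha, hb⟩ := (hiff h).mp hh
    rw [hprod, hs₁ h ha, hs₂ h hb, one_mul]
  · intro h hh
    rw [hprod]
    by_cases ha : ∀ x : U₁, Cfsg.Agent.Lib.Helper3.SelfDual.subRep ρ U₁ hU₁ h x = x
    · have hb : ¬ ∀ x : U₂, Cfsg.Agent.Lib.Helper3.SelfDual.subRep ρ U₂ hU₂ h x = x :=
        fun hb => hh ((hiff h).mpr ⟨ha, hb⟩)
      obtain ⟨ε, hε, he⟩ := hz₂ h hb
      refine ⟨(∑ x, θ₁ x h) * ε, IsIntegral.mul (hint₁ h) hε, ?_⟩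
      rw [he]; ring
    · obtain ⟨ε, hε, he⟩ := hz₁ h ha
      refine ⟨ε * (∑ y, θ₂ y h), IsIntegral.mul hε (hint₂ h), ?_⟩
      rw [he]; ring
  · intro k hk h
    have e1 : ∑ x : S₁ × S₂, (ω₁ x.1 * ω₂ x.2) ^ k * (θ₁ x.1 * θ₂ x.2) h =
        (∑ x, ω₁ x ^ k * θ₁ x h) * (∑ y, ω₂ y ^ k * θ₂ y h) := by
      rw [Fintype.sum_prod_type, Finset.sum_mul_sum]
      apply Finset.sum_congr rfl
      intro x _
      apply Finset.sum_congr rfl
      intro y _
      rw [Pi.mul_apply, mul_pow]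
      ring
    rw [e1, norm_mul, mul_pow, hcardFix h, hcardM]
    push_cast
    rw [← hn₁ k hk h, ← hn₂ k hk h]
    ring

/-- pullback along a group homomorphism (used to reduce to a faithful action) -/
theorem MData.comp {H' : Type u} [Group H'] (f : H →* H') (ρ' : Representation (ZMod p) H' M)
    (h : MData p ρ') : MData p (MonoidHom.comp ρ' f : Representation (ZMod p) H M) := by
  obtain ⟨S, fS, θ, ω, hω, hθ, hs, hz, hn⟩ := h
  refine ⟨S, fS, fun s h => θ s (f h), ω, hω, ?_, ?_, ?_, ?_⟩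
  · intro s
    exact IsGeneralizedCharacter.comp f (hθ s)
  · intro h hh
    exact hs (f h) hh
  · intro h hh
    exact hz (f h) hh
  · intro k hk h
    exact hn k hk (f h)

end Formal

end Cfsg.Agent.Lib.Helper6.Rv
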