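import Mathlib
import Cfsg.Agent.Lib.Helper6.RvKnorrB
import Cfsg.Agent.Lib.Helper6.Ito
import Cfsg.Agent.Lib.Helper6.ClassCount
import Cfsg.Agent.Lib.Helper6.IrrBasis
import Cfsg.Agent.Lib.Helper6.ClassFun

/-! The class number bound from generalized-character data on a (possibly nonabelian)
stabilizer. -/

set_option autoImplicit false

namespace Cfsg.Agent.Lib.Helper6.Rv

open scoped ComplexConjugate
open Cfsg.Agent.Lib.Helper6

universe u

section Main

variable {X : Type u} [Group X] [Finite X] {p : ℕ} [Fact p.Prime]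
  {V G H : Subgroup X} {v : X}

theorem NConfig.pow (c : NConfig p V G H v) {k : ℕ} (hk : ¬ p ∣ k) :
    NConfig p V G H (v ^ k) := by
  have hp : p.Prime := Fact.out
  have hcop : Nat.Coprime k (orderOf v) := by
    have h1 : orderOf v ∣ p := orderOf_dvd_of_pow_eq_one (c.hVexp v c.hu)
    have h2 : Nat.Coprime k p := ((Nat.Prime.coprime_iff_not_dvd hp).mpr hk).symm
    exact Nat.Coprime.coprime_dvd_right h1 h2
  obtain ⟨m, hm⟩ := exists_pow_eq_self_of_coprime hcop
  exact
    { normal := c.normal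
      hVab := c.hVab
      hVexp := c.hVexp
      hGp := c.hGp
      hGV := c.hGV
      hu := pow_mem c.hu k
      hHG := c.hHG
      hHu := fun h hh => ((show Commute h v from c.hHu h hh).pow_right k).eq
      hHmax := fun g hg hgv => by
        apply c.hHmax g hg
        have h1 : Commute g (v ^ k) := hgv
        have h2 := h1.pow_right m
        rw [hm] at h2
        exact h2.eq }

theorem NConfig.chi_bound (c : NConfig p V G H v) {S : Type} [Fintype S]
    {θ : S → (H → ℂ)} {ω : S → ℂ} (gd : NGD p V H θ ω) [Fintype H]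
    {χ : X → ℂ} (hχ : Cfsg.IsIrrCharacter X χ) :
    ((p : ℝ) - 1) * (Nat.card H : ℝ) ^ 2 ≤
      ∑ k ∈ Finset.Ico 1 p,
        ‖∑ h : H, χ (v ^ k * h) * conj (∑ s, ω s ^ k * θ s h)‖ ^ 2 := by
  classical
  have hp : p.Prime := Fact.out
  set K : Subgroup X := Subgroup.closure (insert v (H : Set X)) with hK
  have hvK : v ∈ K := Subgroup.subset_closure (Set.mem_insert _ _)
  have hHK : H ≤ K := fun h hh => Subgroup.subset_closure (Set.mem_insert_of_mem _ hh)
  -- `v` is central in `K`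
  have hvcomm : ∀ y ∈ K, v * y = y * v := by
    intro y hy
    have : y ∈ Subgroup.centralizer ({v} : Set X) := by
      have hle : K ≤ Subgroup.centralizer ({v} : Set X) := by
        rw [hK, Subgroup.closure_le]
        intro x hx
        rw [SetLike.mem_coe, Subgroup.mem_centralizer_singleton_iff]
        rcases hx with rfl | hx
        · rfl
        · exact (c.hHu x hx)
      exact hle hy
    exact (Subgroup.mem_centralizer_singleton_iff.mp this).symm
  haveI : Fintype K := Fintype.ofFinite _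
  haveI : Fintype (Cfsg.IrrCharacter K) := Fintype.ofFinite _
  set j : H →* K := Subgroup.inclusion hHK with hj
  set vK : K := ⟨v, hvK⟩ with hvKdef
  have hvKc : vK ∈ Subgroup.center K := by
    rw [Subgroup.mem_center_iff]
    intro y
    apply Subtype.ext
    simp only [Subgroup.coe_mul]
    exact (hvcomm y y.2).symm
  have hvKp : vK ^ p = 1 := by
    apply Subtype.ext
    rw [Subgroup.coe_pow, Subgroup.coe_one]
    exact c.hVexp v c.hu
  obtain ⟨m, hm, -⟩ := IsCharacter.exists_mult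
    (IsCharacter.restrict K (IsIrrCharacter.isCharacter hχ))
  -- the central scalars
  have hcen : ∀ ψ : Cfsg.IrrCharacter K, ∃ cψ : ℂ, cψ ^ p = 1 ∧
      ∀ (k : ℕ) (y : K), (ψ : K → ℂ) (vK ^ k * y) = cψ ^ k * (ψ : K → ℂ) y :=
    fun ψ => apply_central_pow_mul ψ.2 hvKc hvKp
  choose cc hccp hcc using hcen
  -- the integers
  have hzz : ∀ (ψ : Cfsg.IrrCharacter K) (s : S), ∃ z : ℤ,
      Cfsg.classInner (fun h : H => (ψ : K → ℂ) (j h)) (θ s) = z := by
    intro ψ s
    apply classInner_int_of_isGeneralizedCharacter _ (gd.hθ s)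
    exact IsGeneralizedCharacter.comp j
      (IsCharacter.isGeneralizedCharacter (IsIrrCharacter.isCharacter ψ.2))
  choose zz hzz using hzz
  set n : Cfsg.IrrCharacter K × S → ℤ := fun t => (m t.1 : ℤ) * zz t.1 t.2 with hn
  set ωT : Cfsg.IrrCharacter K × S → ℂ := fun t => cc t.1 * conj (ω t.2) with hωT
  have hωTp : ∀ t, ωT t ^ p = 1 := by
    intro t
    simp only [hωT, mul_pow]
    rw [hccp, ← map_pow, gd.hω, map_one, one_mul]
  have hHc : (Nat.card H : ℂ) ≠ 0 := by
    have : 0 < Nat.card H := Nat.card_pos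
    exact_mod_cast this.ne'
  have key : ∀ k : ℕ,
      ∑ h : H, χ (v ^ k * h) * conj (∑ s, ω s ^ k * θ s h) =
        (Nat.card H : ℂ) * ∑ t : Cfsg.IrrCharacter K × S, (n t : ℂ) * ωT t ^ k := by
    intro k
    have e1 : ∀ h : H, χ (v ^ k * h) * conj (∑ s, ω s ^ k * θ s h) =
        ∑ t : Cfsg.IrrCharacter K × S, ((m t.1 : ℂ) * ωT t ^ k) *
          ((t.1 : K → ℂ) (j h) * conj (θ t.2 h)) := by
      intro h
      have hx : χ (v ^ k * (h : X)) =
          ∑ ψ : Cfsg.IrrCharacter K, (m ψ : ℂ) * (ψ : K → ℂ) (vK ^ k * j h) :=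
        apply_eq_sum_mult hm (vK ^ k * j h)
      rw [hx, map_sum, Fintype.sum_prod_type, Finset.sum_mul_sum]
      apply Finset.sum_congr rfl
      intro ψ _
      apply Finset.sum_congr rfl
      intro s _
      simp only [hωT, map_mul, map_pow, mul_pow]
      rw [hcc ψ k (j h)]
      ring
    rw [Finset.sum_congr rfl (fun h _ => e1 h), Finset.sum_comm, Finset.mul_sum]
    apply Finset.sum_congr rfl
    intro t _
    rw [← Finset.mul_sum]
    have h2 : ∑ h : H, (t.1 : K → ℂ) (j h) * conj (θ t.2 h) = (Nat.card H : ℂ) * (zz t.1 t.2 : ℂ) := by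
      rw [← hzz t.1 t.2]
      unfold Cfsg.classInner
      rw [← mul_assoc, mul_inv_cancel₀ hHc, one_mul]
    rw [h2]
    simp only [hn]
    push_cast
    ring
  -- the multiplicity count
  obtain ⟨d, hd1, hd2⟩ := ito_aux (Nat.card X) X rfl V c.normal c.hVab χ hχ
  have hpd : ¬ p ∣ d := by
    intro h
    apply c.hGp
    rw [← c.hGV.symm.index_eq_card]
    exact dvd_trans h hd2
  -- the values `ε`
  have hε := gd.hp
  choose ε hεint hεeq using hε
  set E : ℂ := ∑ h : H, if hh : h = 1 then 0 else χ h * conj (ε h hh) with hE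
  have hEint : IsIntegral ℤ E := by
    apply IsIntegral.sum
    intro h _
    split_ifs with hh
    · exact isIntegral_zero
    · apply IsIntegral.mul (IsCharacter.isIntegral_apply (IsIrrCharacter.isCharacter hχ) _)
      exact (hεint h hh).map (starRingEnd ℂ).toIntAlgHom
  have hN : ¬ (p : ℤ) ∣ ∑ t, n t := by
    intro hdiv
    have h0 := key 0
    simp only [pow_zero, one_mul, mul_one] at h0
    have h3 : ∑ h : H, χ (h : X) * conj (∑ s, θ s h) = (d : ℂ) + (p : ℂ) * E := by
      rw [hE, Finset.mul_sum, ← Finset.add_sum_erase _ _ (Finset.mem_univ (1 : H))]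
      congr 1
      · rw [gd.h1, Subgroup.coe_one, hd1, map_one, mul_one]
      · rw [← Finset.add_sum_erase _ _ (Finset.mem_univ (1 : H)), dif_pos rfl, mul_zero, zero_add]
        apply Finset.sum_congr rfl
        intro h hh
        have hne : h ≠ 1 := (Finset.mem_erase.mp hh).1
        rw [dif_neg hne, hεeq h hne, map_mul, Complex.conj_natCast]
        ring
    rw [h3] at h0
    have h4 : (((Nat.card H : ℤ) * ∑ t, n t - (d : ℤ) : ℤ) : ℂ) = (p : ℂ) * E := by
      push_cast
      rw [← h0]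
      ring
    have h5 := int_dvd_of_eq_mul_isIntegral hp.ne_zero _ E hEint h4
    have h6 : (p : ℤ) ∣ (d : ℤ) := by
      have h7 : (p : ℤ) ∣ (Nat.card H : ℤ) * ∑ t, n t := Dvd.dvd.mul_left hdiv _
      have := dvd_sub h7 h5
      simpa using this
    exact hpd (Int.natCast_dvd_natCast.mp h6)
  have hru := ru_bound_int p n ωT hωTp hN
  have e2 : ∀ k ∈ Finset.Ico 1 p,
      ‖∑ h : H, χ (v ^ k * h) * conj (∑ s, ω s ^ k * θ s h)‖ ^ 2 =
        (Nat.card H : ℝ) ^ 2 * ‖∑ t : Cfsg.IrrCharacter K × S, (n t : ℂ) * ωT t ^ k‖ ^ 2 := by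
    intro k _
    rw [key k, norm_mul, mul_pow, Complex.norm_natCast]
  rw [Finset.sum_congr rfl e2, ← Finset.mul_sum, mul_comm]
  apply mul_le_mul_of_nonneg_left hru
  positivity

theorem NConfig.class_bound (c : NConfig p V G H v) {S : Type} [Fintype S]
    {θ : S → (H → ℂ)} {ω : S → ℂ} (gd : NGD p V H θ ω) :
    Nat.card (ConjClasses X) ≤ Nat.card V := by
  classical
  haveI : Fintype H := Fintype.ofFinite H
  haveI : Fintype (Cfsg.IrrCharacter X) := Fintype.ofFinite _
  rw [← card_irrCharacter]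
  have hp : p.Prime := Fact.out
  have hlow : (Nat.card (Cfsg.IrrCharacter X) : ℝ) * (((p : ℝ) - 1) * (Nat.card H : ℝ) ^ 2) ≤
      ∑ χ : Cfsg.IrrCharacter X, ∑ k ∈ Finset.Ico 1 p,
        ‖∑ h : H, (χ : X → ℂ) (v ^ k * h) * conj (∑ s, ω s ^ k * θ s h)‖ ^ 2 := by
    rw [Nat.card_eq_fintype_card, ← nsmul_eq_mul, ← Finset.card_univ, ← Finset.sum_const]
    apply Finset.sum_le_sum
    intro χ _
    exact c.chi_bound gd χ.2
  have hup : ∑ χ : Cfsg.IrrCharacter X, ∑ k ∈ Finset.Ico 1 p,
        ‖∑ h : H, (χ : X → ℂ) (v ^ k * h) * conj (∑ s, ω s ^ k * θ s h)‖ ^ 2 ≤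
      ((p : ℝ) - 1) * ((Nat.card H : ℝ) ^ 2 * Nat.card V) := by
    rw [Finset.sum_comm]
    have h1 : ∀ k ∈ Finset.Ico 1 p, ∑ χ : Cfsg.IrrCharacter X,
        ‖∑ h : H, (χ : X → ℂ) (v ^ k * h) * conj (∑ s, ω s ^ k * θ s h)‖ ^ 2 ≤
        (Nat.card H : ℝ) ^ 2 * Nat.card V := by
      intro k hk
      have hk' : ¬ p ∣ k := by
        rw [Finset.mem_Ico] at hk
        intro hd
        have := Nat.le_of_dvd (by omega) hd
        omega
      have hcf : Cfsg.IsClassFunction H (fun h => ∑ s, ω s ^ k * θ s h) := by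
        have : (fun h => ∑ s, ω s ^ k * θ s h) = ∑ s, (ω s ^ k) • θ s := by
          funext h
          simp [Finset.sum_apply]
        rw [this]
        apply isClassFunction_sum
        intro s _
        exact isClassFunction_smul _ (IsGeneralizedCharacter.isClassFunction (gd.hθ s))
      rw [(c.pow hk').sum_sq (fun h => ∑ s, ω s ^ k * θ s h) hcf]
      have h2 : ∀ h : H, (Nat.card {w : V // (w : X) * (h : X) = (h : X) * w} : ℝ) *
          ‖∑ s, ω s ^ k * θ s h‖ ^ 2 ≤ Nat.card V := fun h => by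
        rw [mul_comm]
        exact gd.hn k hk' h
      calc (Nat.card H : ℝ) * ∑ h : H,
            (Nat.card {w : V // (w : X) * (h : X) = (h : X) * w} : ℝ) *
              ‖∑ s, ω s ^ k * θ s h‖ ^ 2
          ≤ (Nat.card H : ℝ) * ∑ _h : H, (Nat.card V : ℝ) := by
            apply mul_le_mul_of_nonneg_left _ (Nat.cast_nonneg _)
            exact Finset.sum_le_sum (fun h _ => h2 h)
        _ = (Nat.card H : ℝ) ^ 2 * Nat.card V := by
            rw [Finset.sum_const, Finset.card_univ, nsmul_eq_mul, ← Nat.card_eq_fintype_card]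
            ring
    calc ∑ k ∈ Finset.Ico 1 p, ∑ χ : Cfsg.IrrCharacter X,
          ‖∑ h : H, (χ : X → ℂ) (v ^ k * h) * conj (∑ s, ω s ^ k * θ s h)‖ ^ 2
        ≤ ∑ _k ∈ Finset.Ico 1 p, (Nat.card H : ℝ) ^ 2 * Nat.card V := Finset.sum_le_sum h1
      _ = ((p : ℝ) - 1) * ((Nat.card H : ℝ) ^ 2 * Nat.card V) := by
          rw [Finset.sum_const, Nat.card_Ico, nsmul_eq_mul, Nat.cast_sub hp.one_le, Nat.cast_one]
  have hpos : 0 < ((p : ℝ) - 1) * (Nat.card H : ℝ) ^ 2 := by
    have h1 : (1 : ℝ) < p := by exact_mod_cast hp.one_lt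
    have h2 : (0 : ℝ) < Nat.card H := by exact_mod_cast Nat.card_pos
    apply mul_pos
    · linarith
    · positivity
  have hfin : (Nat.card (Cfsg.IrrCharacter X) : ℝ) * (((p : ℝ) - 1) * (Nat.card H : ℝ) ^ 2) ≤
      (Nat.card V : ℝ) * (((p : ℝ) - 1) * (Nat.card H : ℝ) ^ 2) := by
    calc _ ≤ _ := hlow
      _ ≤ _ := hup
      _ = _ := by ring
  have := le_of_mul_le_mul_right hfin hpos
  exact_mod_cast this

end Main

end Cfsg.Agent.Lib.Helper6.Rv
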