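import Mathlib
import Cfsg.Agent.Lib.Helper6.RvDefs
import Cfsg.Agent.Lib.Helper6.RvGen
import Cfsg.Agent.Lib.Helper6.RvIndexFix
import Cfsg.Agent.Lib.Helper9.RvC2
import Cfsg.Agent.Lib.Helper4.RvCanonExt
import Cfsg.Agent.Lib.Helper4.RvIntVal
import Cfsg.Agent.Lib.Helper8.RvC5

/-! The symplectic part of the real-vector criterion: generalized-character data from the
canonical extension of the Heisenberg character (the Weil character of a `p'`-group). -/

set_option autoImplicit false

namespace Cfsg.Agent.Lib.Helper6.Rv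

open scoped ComplexConjugate
open Cfsg.Agent.Lib.Helper6

universe u v

section Symp

variable {p : ℕ} [Fact p.Prime] {H : Type u} [Group H] [Finite H] {M : Type v} [AddCommGroup M]
  [Module (ZMod p) M] [Finite M]

/-- the symplectic part (faithful action) -/
theorem mdata_of_symplectic (hp2 : p ≠ 2) (hcop : ¬ p ∣ Nat.card H) (D : SympData p H M)
    (hfaith : ∀ h : H, (∀ x, D.ρ h x = x) → h = 1) : MData p D.ρ := by
  classical
  have hp : p.Prime := Fact.out
  obtain ⟨Φ, c, n, hΦ⟩ := exists_heisIrr hp2 D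
  obtain ⟨Ψ, hΨ⟩ := exists_canonExt hcop D hΦ
  have hint := fun h : H => hΨ.int_valued hp2 hcop D hΦ h
  choose z hz using hint
  -- the squares
  have hfixpos : ∀ h : H, 0 < Nat.card {x : M // D.ρ h x = x} := by
    intro h
    haveI : Nonempty {x : M // D.ρ h x = x} := ⟨⟨0, map_zero _⟩⟩
    exact Nat.card_pos
  have hsq : ∀ h : H, (z h) ^ 2 = (Nat.card {x : M // D.ρ h x = x} : ℤ) := by
    intro h
    have h1 := hΨ.norm_sq hp2 hcop D hΦ h
    rw [hz h, Complex.norm_intCast, sq_abs] at h1
    exact_mod_cast h1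
  have hz0 : ∀ h : H, z h ≠ 0 := by
    intro h h0
    have := hsq h
    rw [h0] at this
    have h2 := hfixpos h
    have h3 : (Nat.card {x : M // D.ρ h x = x} : ℤ) = 0 := by rw [← this]; ring
    have h4 : Nat.card {x : M // D.ρ h x = x} = 0 := by exact_mod_cast h3
    omega
  -- `z 1 = n`
  have hn0 : n ≠ 0 := by
    intro h0
    have := hΦ.deg
    rw [h0] at this
    have h2 : 0 < Nat.card M := Nat.card_pos
    have : Nat.card M = 0 := by rw [← this]; ring
    omega
  have hz1 : z 1 = n := by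
    have h1 : Ψ (SemidirectProduct.inr (1 : H)) = Φ ⟨0, 0⟩ := by
      rw [map_one, ← map_one (SemidirectProduct.inl : Heis D →* Gam D), hΨ.ext]
      rfl
    rw [hz 1, hΦ.cen 0] at h1
    simp only [ZMod.val_zero, pow_zero, mul_one] at h1
    exact_mod_cast h1
  -- divisibility
  have hdvd : ∀ h : H, z h ∣ (n : ℤ) := by
    intro h
    rw [← Int.pow_dvd_pow_iff two_ne_zero, hsq h]
    have h1 := card_range_mul_card_fix (D.ρ h)
    have h2 : ((n : ℤ)) ^ 2 = (Nat.card M : ℤ) := by exact_mod_cast hΦ.deg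
    rw [h2, ← h1]
    push_cast
    exact Dvd.intro_left _ rfl
  choose w hw using hdvd
  -- `w h ^ 2 = |range|`
  have hwsq : ∀ h : H, (w h) ^ 2 = (Nat.card (LinearMap.range (D.ρ h - LinearMap.id)) : ℤ) := by
    intro h
    have h1 := card_range_mul_card_fix (D.ρ h)
    have h2 : ((n : ℤ)) ^ 2 = (Nat.card M : ℤ) := by exact_mod_cast hΦ.deg
    have h3 : (z h) ^ 2 * (w h) ^ 2 = (z h) ^ 2 *
        (Nat.card (LinearMap.range (D.ρ h - LinearMap.id)) : ℤ) := by
      rw [← mul_pow, ← hw h, h2, ← h1, hsq h]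
      push_cast
      ring
    exact mul_left_cancel₀ (pow_ne_zero 2 (hz0 h)) h3
  set θ : H → ℂ := fun h => (w h : ℂ) with hθ
  -- the class function property
  have hΨcf := IsIrrCharacter.isClassFunction hΨ.irr
  have hzconj : ∀ g h : H, z (g * h * g⁻¹) = z h := by
    intro g h
    have h1 : Ψ (SemidirectProduct.inr (g * h * g⁻¹)) = Ψ (SemidirectProduct.inr h) := by
      rw [map_mul, map_mul, map_inv]
      exact hΨcf _ _
    rw [hz, hz] at h1
    exact_mod_cast h1
  have hθcf : Cfsg.IsClassFunction H θ := by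
    intro h g
    show (w (g * h * g⁻¹) : ℂ) = (w h : ℂ)
    have h1 := hw (g * h * g⁻¹)
    rw [hzconj g h] at h1
    have h2 := hw h
    rw [h2] at h1
    have := mul_left_cancel₀ (hz0 h) h1
    rw [this]
  -- the generalized character
  have hcopn : Nat.Coprime n (Nat.card H) := by
    obtain ⟨e, he⟩ := card_mod_eq_pow (p := p) (M := M)
    have h1 : Nat.Coprime (n ^ 2) (Nat.card H) := by
      rw [hΦ.deg, he]
      apply Nat.Coprime.pow_left
      exact (Nat.Prime.coprime_iff_not_dvd hp).mpr hcop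
    exact Nat.Coprime.coprime_dvd_left (dvd_pow_self n two_ne_zero) h1
  have hθgc : Cfsg.IsGeneralizedCharacter H θ := by
    apply isGeneralizedCharacter_of_coprime_smul hθcf (fun g => ⟨w g, rfl⟩) n hcopn
    have hψ : Cfsg.IsGeneralizedCharacter H (fun h : H => Ψ (SemidirectProduct.inr h)) :=
      IsGeneralizedCharacter.comp (SemidirectProduct.inr : H →* Gam D)
        (IsCharacter.isGeneralizedCharacter (IsIrrCharacter.isCharacter hΨ.irr))
    have hD := isGeneralizedCharacter_index_fix hcop D.ρ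
    have hprod := IsGeneralizedCharacter.mul hψ hD
    have heq : ((n : ℂ) • θ) = (fun h : H => Ψ (SemidirectProduct.inr h)) *
        (fun h => (Nat.card M : ℂ) / (Nat.card {x : M // D.ρ h x = x} : ℂ)) := by
      funext h
      rw [Pi.smul_apply, Pi.mul_apply, smul_eq_mul, hz h]
      have h1 : (Nat.card M : ℂ) = ((z h : ℂ)) ^ 2 * ((w h : ℂ)) ^ 2 := by
        have h2 : ((n : ℤ)) ^ 2 = (Nat.card M : ℤ) := by exact_mod_cast hΦ.deg
        have h3 : (Nat.card M : ℤ) = (z h) ^ 2 * (w h) ^ 2 := by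
          rw [← h2, hw h]; ring
        exact_mod_cast h3
      have h4 : (Nat.card {x : M // D.ρ h x = x} : ℂ) = ((z h : ℂ)) ^ 2 := by
        have := hsq h
        exact_mod_cast this.symm
      have h5 : (n : ℂ) = (z h : ℂ) * (w h : ℂ) := by
        have := hw h
        exact_mod_cast this
      have hzc : (z h : ℂ) ≠ 0 := by exact_mod_cast hz0 h
      rw [h1, h4, h5]
      show (z h : ℂ) * (w h : ℂ) * (w h : ℂ) = _
      field_simp
    rw [heq]
    exact hprod
  refine ⟨PUnit, inferInstance, fun _ => θ, fun _ => 1, ?_, ?_, ?_, ?_, ?_⟩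
  · intro s; simp
  · intro s; exact hθgc
  · intro h hh
    have h1 := hfaith h hh
    subst h1
    simp only [Finset.univ_unique, Finset.sum_singleton]
    show (w 1 : ℂ) = 1
    have h2 := hw 1
    rw [hz1] at h2
    have hn' : (n : ℤ) ≠ 0 := by exact_mod_cast hn0
    have h3 : (n : ℤ) * 1 = (n : ℤ) * w 1 := by rw [mul_one]; exact h2
    have := mul_left_cancel₀ hn' h3
    rw [← this]
    simp
  · intro h hh
    simp only [Finset.univ_unique, Finset.sum_singleton]
    -- `p` divides `w h`
    obtain ⟨e, he⟩ := card_mod_eq_pow (p := p) (M := LinearMap.range (D.ρ h - LinearMap.id))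
    have he0 : e ≠ 0 := by
      intro h0
      rw [h0, pow_zero] at he
      apply hh
      intro x
      have hsub : Subsingleton (LinearMap.range (D.ρ h - LinearMap.id)) :=
        (Nat.card_eq_one_iff_unique.mp he).1
      have hx : (D.ρ h - (LinearMap.id : M →ₗ[ZMod p] M)) x = 0 := by
        have h1 : (⟨(D.ρ h - (LinearMap.id : M →ₗ[ZMod p] M)) x,
            LinearMap.mem_range_self _ x⟩ :
            LinearMap.range (D.ρ h - (LinearMap.id : M →ₗ[ZMod p] M))) = 0 :=
          Subsingleton.elim _ _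
        exact congrArg Subtype.val h1
      rw [LinearMap.sub_apply, LinearMap.id_apply, sub_eq_zero] at hx
      exact hx
    have hpw : (p : ℤ) ∣ w h := by
      have h1 : (p : ℤ) ∣ (w h) ^ 2 := by
        rw [hwsq h, he]
        push_cast
        exact dvd_pow_self _ he0
      exact Int.Prime.dvd_pow' hp h1
    obtain ⟨t, ht⟩ := hpw
    refine ⟨(t : ℂ), isIntegral_algebraMap (R := ℤ) (A := ℂ) (x := t), ?_⟩
    show (w h : ℂ) = (p : ℂ) * (t : ℂ)
    rw [ht]
    push_cast
    ring
  · intro k _ h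
    simp only [Finset.univ_unique, Finset.sum_singleton, one_pow, one_mul]
    show ‖(w h : ℂ)‖ ^ 2 * _ = _
    rw [Complex.norm_intCast, sq_abs]
    have h2 : ((n : ℤ)) ^ 2 = (Nat.card M : ℤ) := by exact_mod_cast hΦ.deg
    have h3 : (w h) ^ 2 * (Nat.card {x : M // D.ρ h x = x} : ℤ) = (Nat.card M : ℤ) := by
      rw [← hsq h, ← h2, hw h]; ring
    exact_mod_cast h3

end Symp

end Cfsg.Agent.Lib.Helper6.Rv
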