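import Mathlib
import Cfsg.Agent.Lib.Helper6.RvBridge
import Cfsg.Agent.Lib.Helper6.RvFormal
import Cfsg.Agent.Lib.Helper6.RvKnorrC
import Cfsg.Agent.Lib.Helper3.SelfDual6
import Cfsg.Agent.Lib.Helper6.RvSymp
import Cfsg.Agent.Lib.Helper7.RvP2
import Cfsg.Agent.Lib.Helper5.RvB6

/-! Assembly of the real-vector criterion. -/

set_option autoImplicit false

namespace Cfsg.Agent.Lib.Helper6.Rv

open scoped ComplexConjugate
open Cfsg.Agent.Lib.Helper3.SelfDual

universe u v

section ModuleLevel

variable {p : ℕ} [Fact p.Prime] {H : Type u} [Group H] [Finite H] {M : Type v} [AddCommGroup M]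
  [Module (ZMod p) M] [Finite M]

/-- the symplectic part, without faithfulness -/
theorem mdata_of_symplectic' (hp2 : p ≠ 2) (hcop : ¬ p ∣ Nat.card H) (D : SympData p H M) :
    MData p D.ρ := by
  set N : Subgroup H := MonoidHom.ker D.ρ with hN
  set ρ' : Representation (ZMod p) (H ⧸ N) M := QuotientGroup.lift N D.ρ (le_refl _) with hρ'
  have hcomp : (MonoidHom.comp ρ' (QuotientGroup.mk' N) : Representation (ZMod p) H M) = D.ρ := by
    ext h x
    rfl
  have hρ'mk : ∀ h : H, ρ' (QuotientGroup.mk h) = D.ρ h := fun h => rfl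
  let D' : SympData p (H ⧸ N) M :=
    { ρ := ρ'
      A := D.A
      alt := D.alt
      nd := D.nd
      inv := by
        intro q x y
        induction q using QuotientGroup.induction_on with
        | H h => rw [hρ'mk]; exact D.inv h x y }
  have hcop' : ¬ p ∣ Nat.card (H ⧸ N) := by
    intro hd
    apply hcop
    exact dvd_trans hd (Subgroup.card_quotient_dvd_card N)
  have hfaith : ∀ q : H ⧸ N, (∀ x, D'.ρ q x = x) → q = 1 := by
    intro q hq
    induction q using QuotientGroup.induction_on with
    | H h =>
      rw [QuotientGroup.eq_one_iff, hN, MonoidHom.mem_ker]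
      apply LinearMap.ext
      intro x
      exact hq x
  have h1 := mdata_of_symplectic hp2 hcop' D' hfaith
  have h2 := MData.comp (QuotientGroup.mk' N) ρ' h1
  rw [hcomp] at h2
  exact h2

/-- module data from a faithful self-dual module -/
theorem mdata_of_selfdual (hcop : ¬ p ∣ Nat.card H) (ρ : Representation (ZMod p) H M)
    (B : LinearMap.BilinForm (ZMod p) M) (hBinv : ∀ g x y, B (ρ g x) (ρ g y) = B x y)
    (hBnd : ∀ x, (∀ y, B x y = 0) → x = 0) : MData p ρ := by
  have hp : p.Prime := Fact.out
  haveI : NeZero (Nat.card H : ZMod p) := by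
    constructor
    intro h
    rw [CharP.cast_eq_zero_iff (ZMod p) p] at h
    exact hcop h
  haveI : FiniteDimensional (ZMod p) M := Module.Finite.of_finite
  obtain ⟨U', W', hd, hs, hU', hW', ⟨A, hAalt, hAinv, hAnd⟩, ⟨S, hSsym, hSinv, hSnd⟩, htriv⟩ :=
    main_aux p _ M ρ B.flip rfl (fun g x y => hBinv g y x) (fun w hw => hBnd w hw)
  have hc : IsCompl U' W' := ⟨hd, codisjoint_iff.mpr hs⟩
  apply mdata_of_isCompl ρ U' W' hU' hW' hc
  · -- the alternating part
    by_cases hp2 : p = 2
    · -- quadratic form from the alternating form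
      obtain ⟨q, hq, hqinv⟩ := exists_quadratic_of_alternating hp2 hcop (subRep ρ U' hU')
        (A.compl₁₂ U'.subtype U'.subtype) (fun x => hAalt x)
        (fun h x y => hAinv h x x.2 y y.2)
      let D : QuadData p H U' :=
        { ρ := subRep ρ U' hU'
          q := q
          B := fun x y => A x y
          hq := hq
          hBadd := fun x y z => by
            show A ((x + y : U') : M) z = _
            rw [Submodule.coe_add, map_add, LinearMap.add_apply]
          hBnd := fun x hx => by
            apply Subtype.ext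
            exact hAnd x x.2 (fun y hy => hx ⟨y, hy⟩)
          hinv := hqinv }
      exact mdata_of_quadratic hcop D
    · let D : SympData p H U' :=
        { ρ := subRep ρ U' hU'
          A := A.compl₁₂ U'.subtype U'.subtype
          alt := fun x => hAalt x
          nd := fun x hx => by
            apply Subtype.ext
            exact hAnd x x.2 (fun y hy => hx ⟨y, hy⟩)
          inv := fun h x y => hAinv h x x.2 y y.2 }
      exact mdata_of_symplectic' hp2 hcop D
  · -- the symmetric part
    by_cases hp2 : p = 2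
    · apply mdata_of_trivial
      intro h x
      apply Subtype.ext
      exact htriv hp2 h x x.2
    · have h2 : (2 : ZMod p) ≠ 0 := by
        intro h0
        have h3 : ((2 : ℕ) : ZMod p) = 0 := by exact_mod_cast h0
        rw [ZMod.natCast_eq_zero_iff] at h3
        exact hp2 ((Nat.prime_dvd_prime_iff_eq hp Nat.prime_two).mp h3)
      let D : QuadData p H W' :=
        { ρ := subRep ρ W' hW'
          q := fun x => 2⁻¹ * S x x
          B := fun x y => S x y
          hq := fun x y => by
            show 2⁻¹ * S ((x + y : W') : M) ((x + y : W') : M) = _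
            rw [Submodule.coe_add, map_add, map_add, LinearMap.add_apply, LinearMap.add_apply,
              hSsym (y : M) (x : M)]
            field_simp
            ring
          hBadd := fun x y z => by
            show S ((x + y : W') : M) z = _
            rw [Submodule.coe_add, map_add, LinearMap.add_apply]
          hBnd := fun x hx => by
            apply Subtype.ext
            exact hSnd x x.2 (fun y hy => hx ⟨y, hy⟩)
          hinv := fun h x => by
            show 2⁻¹ * S _ _ = 2⁻¹ * S _ _
            rw [subRep_coe, hSinv h x x.2 x x.2] }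
      exact mdata_of_quadratic hcop D

end ModuleLevel

section GroupLevel

variable {X : Type u} [Group X] [Finite X] {p : ℕ} [Fact p.Prime] {V G H : Subgroup X} {v : X}

/-- the counting inequality `|C_V(h)| |U| ≤ |C_U(h)| |V|` -/
theorem card_fix_mul_le {A : Type*} [Group A] [Finite A] (K B : Subgroup A) :
    Nat.card K * Nat.card B ≤ Nat.card (K ⊓ B : Subgroup A) * Nat.card A := by
  have h1 : Nat.card (K ⊓ B : Subgroup A) * B.relIndex K = Nat.card K := by
    rw [← Subgroup.inf_relIndex_left, ← Subgroup.relIndex_bot_left, ← Subgroup.relIndex_bot_left,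
      Subgroup.relIndex_mul_relIndex _ _ _ bot_le inf_le_left]
  have h2 : B.relIndex K ≤ B.index := by
    rw [← Subgroup.relIndex_top_right]
    apply Subgroup.relIndex_le_of_le_right le_top
    rw [Subgroup.relIndex_top_right]
    exact Subgroup.index_ne_zero_of_finite
  have h3 : Nat.card B * B.index = Nat.card A := Subgroup.card_mul_index B
  calc Nat.card K * Nat.card B = Nat.card (K ⊓ B : Subgroup A) * (B.relIndex K * Nat.card B) := by
        rw [← h1]; ring
    _ ≤ Nat.card (K ⊓ B : Subgroup A) * (B.index * Nat.card B) := by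
        apply Nat.mul_le_mul_left
        exact Nat.mul_le_mul_right _ h2
    _ = Nat.card (K ⊓ B : Subgroup A) * Nat.card A := by rw [← h3]; ring

theorem NConfig.ngd_of_mdata (c : NConfig p V G H v) (U : Subgroup X) (hUV : U ≤ V)
    (hUinv : ∀ h ∈ H, ∀ w ∈ U, h * w * h⁻¹ ∈ U)
    (hUfaith : ∀ h ∈ H, (∀ w ∈ U, h * w * h⁻¹ = w) → h = 1)
    (hm : MData p (subRep c.rho (c.subMod U) (c.inv_subMod U hUinv))) :
    ∃ (S : Type) (_ : Fintype S) (θ : S → (H → ℂ)) (ω : S → ℂ), NGD p V H θ ω := by
  obtain ⟨S, fS, θ, ω, hω, hθ, hs, hz, hn⟩ := hm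
  refine ⟨S, fS, θ, ω, ⟨hω, hθ, ?_, ?_, ?_⟩⟩
  · apply hs 1
    intro x
    rw [map_one]
    rfl
  · intro h hne
    apply hz h
    intro hall
    apply hne
    apply Subtype.ext
    rw [Subgroup.coe_one]
    apply hUfaith h h.2
    intro w hw
    have h1 := hall ⟨c.ofMem w (hUV hw), hw⟩
    have h2 := congrArg (fun y : c.subMod U => c.val (y : c.Mod)) h1
    exact h2
  · intro k hk h
    have e := hn k hk h
    -- the three subgroups of `V`
    set K : Subgroup V :=
      { carrier := {w | (w : X) * (h : X) = (h : X) * w}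
        mul_mem' := fun {a b} ha hb => by
          show ((a * b : V) : X) * h = h * ((a * b : V) : X)
          rw [Subgroup.coe_mul]
          have ha' : (a : X) * h = h * a := ha
          have hb' : (b : X) * h = h * b := hb
          calc (a : X) * b * h = a * (b * h) := by group
            _ = a * (h * b) := by rw [hb']
            _ = (a * h) * b := by group
            _ = h * (a * b) := by rw [ha']; group
        one_mem' := by
          show ((1 : V) : X) * h = h * ((1 : V) : X)
          simp
        inv_mem' := fun {a} ha => by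
          show ((a⁻¹ : V) : X) * h = h * ((a⁻¹ : V) : X)
          have ha' : (a : X) * h = h * a := ha
          rw [Subgroup.coe_inv]
          calc (a : X)⁻¹ * h = (a : X)⁻¹ * (h * a) * (a : X)⁻¹ := by group
            _ = (a : X)⁻¹ * (a * h) * (a : X)⁻¹ := by rw [ha']
            _ = h * (a : X)⁻¹ := by group } with hK
    set B : Subgroup V := U.subgroupOf V with hB
    have eK : Nat.card {w : V // (w : X) * (h : X) = (h : X) * w} = Nat.card K := rfl
    have eB : Nat.card (c.subMod U) = Nat.card B := by
      apply Nat.card_congr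
      exact
        { toFun := fun x => ⟨Additive.toMul (x : c.Mod), x.2⟩
          invFun := fun b => ⟨Additive.ofMul (b : V), b.2⟩
          left_inv := fun x => rfl
          right_inv := fun b => rfl }
    have eKB : Nat.card {x : c.subMod U //
        subRep c.rho (c.subMod U) (c.inv_subMod U hUinv) h x = x} =
        Nat.card (K ⊓ B : Subgroup V) := by
      apply Nat.card_congr
      refine
        { toFun := fun x => ⟨Additive.toMul ((x : c.subMod U) : c.Mod), ?_, (x : c.subMod U).2⟩
          invFun := fun b => ⟨⟨Additive.ofMul (b : V), b.2.2⟩, ?_⟩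
          left_inv := fun x => rfl
          right_inv := fun b => rfl }
      · have h1 := congrArg (fun y : c.subMod U => c.val (y : c.Mod)) x.2
        have h2 : (h : X) * c.val ((x : c.subMod U) : c.Mod) * (h : X)⁻¹ =
            c.val ((x : c.subMod U) : c.Mod) := h1
        show c.val ((x : c.subMod U) : c.Mod) * h = h * c.val ((x : c.subMod U) : c.Mod)
        calc c.val ((x : c.subMod U) : c.Mod) * h
            = ((h : X) * c.val ((x : c.subMod U) : c.Mod) * (h : X)⁻¹) * h := by rw [h2]
          _ = h * c.val ((x : c.subMod U) : c.Mod) := by group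
      · apply Subtype.ext
        apply c.val_injective
        have hb : ((b : V) : X) * h = h * ((b : V) : X) := b.2.1
        show (h : X) * ((b : V) : X) * (h : X)⁻¹ = ((b : V) : X)
        calc (h : X) * ((b : V) : X) * (h : X)⁻¹ = (((b : V) : X) * h) * (h : X)⁻¹ := by rw [hb]
          _ = ((b : V) : X) := by group
    rw [eKB, eB] at e
    rw [eK]
    have hle := card_fix_mul_le K B
    have hipos : (0 : ℝ) < Nat.card (K ⊓ B : Subgroup V) := by exact_mod_cast Nat.card_pos
    have hle' : (Nat.card K : ℝ) * Nat.card B ≤ Nat.card (K ⊓ B : Subgroup V) * Nat.card V := by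
      exact_mod_cast hle
    have key : ‖∑ s, ω s ^ k * θ s h‖ ^ 2 * (Nat.card K : ℝ) *
        (Nat.card (K ⊓ B : Subgroup V) : ℝ) ≤
        (Nat.card V : ℝ) * (Nat.card (K ⊓ B : Subgroup V) : ℝ) := by
      calc ‖∑ s, ω s ^ k * θ s h‖ ^ 2 * (Nat.card K : ℝ) * (Nat.card (K ⊓ B : Subgroup V) : ℝ)
          = (‖∑ s, ω s ^ k * θ s h‖ ^ 2 * (Nat.card (K ⊓ B : Subgroup V) : ℝ)) *
              (Nat.card K : ℝ) := by ring
        _ = (Nat.card K : ℝ) * Nat.card B := by rw [e]; ring
        _ ≤ _ := hle'
        _ = _ := by ring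
    exact le_of_mul_le_mul_right key hipos

end GroupLevel

/-- the real-vector criterion -/
theorem real_vector {X : Type u} [Group X] [Finite X] (p : ℕ) [Fact p.Prime] (V : Subgroup X)
    [V.Normal] (hVexp : ∀ v ∈ V, v ^ p = 1) (hidx : ¬ p ∣ V.index)
    (hself : Subgroup.centralizer (V : Set X) = V) (G : Subgroup X)
    (hGV : Subgroup.IsComplement' V G) (v : X) (hv : v ∈ V) (U : Subgroup X) (hUV : U ≤ V)
    (hUinv : ∀ h ∈ G, h * v * h⁻¹ = v → ∀ u ∈ U, h * u * h⁻¹ ∈ U)
    (hUfaith : ∀ h ∈ G, h * v * h⁻¹ = v → (∀ u ∈ U, h * u * h⁻¹ = u) → h = 1)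
    (β : X → X → ZMod p)
    (hβl : ∀ u ∈ U, ∀ u' ∈ U, ∀ w ∈ U, β (u * u') w = β u w + β u' w)
    (hβr : ∀ u ∈ U, ∀ w ∈ U, ∀ w' ∈ U, β u (w * w') = β u w + β u w')
    (hβinv : ∀ h ∈ G, h * v * h⁻¹ = v → ∀ u ∈ U, ∀ w ∈ U,
      β (h * u * h⁻¹) (h * w * h⁻¹) = β u w)
    (hβnd : ∀ u ∈ U, (∀ w ∈ U, β u w = 0) → u = 1) :
    Nat.card (ConjClasses X) ≤ Nat.card V := by
  have hVab : ∀ a ∈ V, ∀ b ∈ V, a * b = b * a := by
    intro a ha b hb
    have h1 : a ∈ Subgroup.centralizer (V : Set X) := by rw [hself]; exact ha
    exact (Subgroup.mem_centralizer_iff.mp h1 b hb).symm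
  set Hs : Subgroup X := G ⊓ Subgroup.centralizer ({v} : Set X) with hHs
  have hcomm : ∀ h ∈ Hs, h * v * h⁻¹ = v := by
    intro h hh
    have := Subgroup.mem_centralizer_iff.mp hh.2 v (Set.mem_singleton v)
    calc h * v * h⁻¹ = (v * h) * h⁻¹ := by rw [this]
      _ = v := by group
  have c : NConfig p V G Hs v :=
    { normal := inferInstance
      hVab := hVab
      hVexp := hVexp
      hGp := by rw [← hGV.symm.index_eq_card]; exact hidx
      hGV := hGV
      hu := hv
      hHG := inf_le_left
      hHu := fun h hh => by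
        have := Subgroup.mem_centralizer_iff.mp hh.2 v (Set.mem_singleton v)
        exact this.symm
      hHmax := fun g hg hgv =>
        ⟨hg, Subgroup.mem_centralizer_iff.mpr (fun y hy => by
          rw [Set.mem_singleton_iff.mp hy]; exact hgv.symm)⟩ }
  have hUinv' : ∀ h ∈ Hs, ∀ w ∈ U, h * w * h⁻¹ ∈ U :=
    fun h hh w hw => hUinv h hh.1 (hcomm h hh) w hw
  have hUfaith' : ∀ h ∈ Hs, (∀ w ∈ U, h * w * h⁻¹ = w) → h = 1 :=
    fun h hh hall => hUfaith h hh.1 (hcomm h hh) hall
  have hcop : ¬ p ∣ Nat.card Hs := by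
    intro hd
    apply c.hGp
    exact dvd_trans hd (Subgroup.card_dvd_of_le c.hHG)
  have hm : MData p (subRep c.rho (c.subMod U) (c.inv_subMod U hUinv')) := by
    apply mdata_of_selfdual hcop _ (c.formOf U β hβl hβr)
    · intro g x y
      rw [NConfig.formOf_apply, NConfig.formOf_apply]
      exact hβinv g g.2.1 (hcomm g g.2) _ x.2 _ y.2
    · intro x hx
      apply Subtype.ext
      apply c.val_injective
      apply hβnd _ x.2
      intro w hw
      have := hx ⟨c.ofMem w (hUV hw), hw⟩
      rw [NConfig.formOf_apply] at this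
      exact this
  obtain ⟨S, fS, θ, ω, gd⟩ := c.ngd_of_mdata U hUV hUinv' hUfaith' hm
  exact c.class_bound gd

end Cfsg.Agent.Lib.Helper6.Rv
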