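import Mathlib
import Cfsg.Prelude.Def_Transfer

set_option autoImplicit false
set_option linter.unusedVariables false
set_option linter.unusedSectionVars false
set_option linter.style.longLine false
set_option linter.unusedSimpArgs false
set_option maxHeartbeats 1000000

/-!
# S1234, unit U1: elementwise facts on `Q = E⟨s⟩ ≅ 2² ≀ 2`
-/

namespace Cfsg.Agent.Lib.Helper6.S1234

variable {S : Type*} [Group S]

/-- the elementwise configuration: `Q = E ∪ sE`, `U = C_E(s) = Z(Q)` of order 4, `C_S(U) = Q` -/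
structure Cfg (Q E U : Subgroup S) (s : S) : Prop where
  hEQ : E ≤ Q
  comm : ∀ a ∈ E, ∀ b ∈ E, a * b = b * a
  sq : ∀ a ∈ E, a * a = 1
  sQ : s ∈ Q
  sE : s ∉ E
  ss : s * s = 1
  split : ∀ q ∈ Q, q ∈ E ∨ ∃ e ∈ E, q = s * e
  norm : ∀ e ∈ E, s * e * s ∈ E
  memU : ∀ y, y ∈ U ↔ y ∈ E ∧ s * y = y * s
  cardU : Nat.card U = 4
  cardE : Nat.card E = 16
  cardQ : Nat.card Q = 32
  surj : ∀ y ∈ U, ∃ e ∈ E, e * (s * e * s) = y
  cent : ∀ g : S, (∀ y ∈ U, g * y = y * g) → g ∈ Q

section build

variable [Finite S] (Q E : Subgroup S) (hEQ : E ≤ Q) (hE : Cfsg.IsElementaryAbelian 2 E)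
  (hE16 : Nat.card E = 16) (hQ32 : Nat.card Q = 32) (s : S) (hsQ : s ∈ Q) (hsE : s ∉ E)
  (hs : orderOf s = 2)
  (hfix : Nat.card ↥(E ⊓ Subgroup.centralizer ({s} : Set S)) = 4)

include hEQ hE hE16 hQ32 hsQ hsE hs hfix

theorem cfg_aux :
    (∀ a ∈ E, ∀ b ∈ E, a * b = b * a) ∧ (∀ a ∈ E, a * a = 1) ∧ s * s = 1 ∧
    (∀ q ∈ Q, q ∈ E ∨ ∃ e ∈ E, q = s * e) ∧ (∀ e ∈ E, s * e * s ∈ E) := by
  obtain ⟨hcomm, hexp⟩ := hE
  have hss : s * s = 1 := by rw [← pow_two, ← hs, pow_orderOf_eq_one]
  have hsinv : s⁻¹ = s := inv_eq_of_mul_eq_one_right hss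
  have hidx : (E.subgroupOf Q).index = 2 := by
    have h1 := (E.subgroupOf Q).card_mul_index
    rw [Nat.card_congr (Subgroup.subgroupOfEquivOfLe hEQ).toEquiv, hE16, hQ32] at h1
    omega
  have hsplit : ∀ q ∈ Q, q ∈ E ∨ ∃ e ∈ E, q = s * e := by
    intro q hq
    by_cases hqE : q ∈ E
    · exact Or.inl hqE
    · right
      refine ⟨s * q, ?_, by rw [← mul_assoc, hss, one_mul]⟩
      have := (Subgroup.mul_mem_iff_of_index_two hidx (a := ⟨s, hsQ⟩) (b := ⟨q, hq⟩))
      have h2 : (⟨s, hsQ⟩ * ⟨q, hq⟩ : Q) ∈ E.subgroupOf Q := by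
        rw [this]
        constructor
        · intro h; exact absurd (Subgroup.mem_subgroupOf.mp h) hsE
        · intro h; exact absurd (Subgroup.mem_subgroupOf.mp h) hqE
      exact Subgroup.mem_subgroupOf.mp h2
  have hnorm : ∀ e ∈ E, s * e * s ∈ E := by
    intro e he
    have : (E.subgroupOf Q).Normal := Subgroup.normal_of_index_eq_two hidx
    have := (inferInstance : (E.subgroupOf Q).Normal).conj_mem ⟨e, hEQ he⟩
      (Subgroup.mem_subgroupOf.mpr he) ⟨s, hsQ⟩
    have h2 := Subgroup.mem_subgroupOf.mp this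
    simpa [hsinv] using h2
  refine ⟨?_, ?_, hss, hsplit, hnorm⟩
  · intro a ha b hb
    have := hcomm.is_comm.comm ⟨a, ha⟩ ⟨b, hb⟩
    exact congrArg Subtype.val this
  · intro a ha
    rw [← pow_two]
    exact hexp a ha


/-- `U = Z(Q)` is `C_E(s)` -/
theorem cfg_memU (y : S) :
    y ∈ (Subgroup.center Q).map Q.subtype ↔ y ∈ E ∧ s * y = y * s := by
  obtain ⟨hcomm, hsq, hss, hsplit, hnorm⟩ := cfg_aux Q E hEQ hE hE16 hQ32 s hsQ hsE hs hfix
  constructor
  · rintro ⟨c, hc, rfl⟩
    have hcQ : ∀ q (hq : q ∈ Q), q * (c : S) = (c : S) * q := by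
      intro q hq
      have := Subgroup.mem_center_iff.mp hc ⟨q, hq⟩
      exact congrArg Subtype.val this
    refine ⟨?_, hcQ s hsQ⟩
    rcases hsplit c c.2 with h | ⟨e, he, hce⟩
    · exact h
    · exfalso
      have hall : E ≤ E ⊓ Subgroup.centralizer ({s} : Set S) := by
        intro a ha
        refine ⟨ha, ?_⟩
        show a ∈ Subgroup.centralizer ({s} : Set S)
        rw [Subgroup.mem_centralizer_singleton_iff, eq_comm]
        have h1 := hcQ a (hEQ ha)
        rw [hce] at h1
        -- a * (s * e) = s * e * a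
        have h2 : a * s * e = s * a * e := by
          calc a * s * e = a * (s * e) := by group
            _ = s * e * a := h1
            _ = s * (e * a) := by group
            _ = s * (a * e) := by rw [hcomm e he a ha]
            _ = s * a * e := by group
        exact (mul_right_cancel h2).symm
      have h16 : Nat.card ↥(E ⊓ Subgroup.centralizer ({s} : Set S)) = 16 := by
        rw [le_antisymm inf_le_left hall, hE16]
      omega
  · rintro ⟨hy, hys⟩
    refine ⟨⟨y, hEQ hy⟩, ?_, rfl⟩
    show (⟨y, hEQ hy⟩ : ↥Q) ∈ Subgroup.center ↥Q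
    rw [Subgroup.mem_center_iff]
    intro q
    apply Subtype.ext
    show (q : S) * y = y * q
    rcases hsplit q q.2 with h | ⟨e, he, hqe⟩
    · exact hcomm _ h _ hy
    · rw [hqe]
      calc s * e * y = s * (e * y) := by group
        _ = s * (y * e) := by rw [hcomm e he y hy]
        _ = s * y * e := by group
        _ = y * s * e := by rw [hys]
        _ = y * (s * e) := by group

theorem cfg_eqU :
    (Subgroup.center Q).map Q.subtype = E ⊓ Subgroup.centralizer ({s} : Set S) := by
  ext y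
  rw [cfg_memU Q E hEQ hE hE16 hQ32 s hsQ hsE hs hfix y, Subgroup.mem_inf,
    Subgroup.mem_centralizer_singleton_iff, eq_comm (a := s * y)]

/-- every element of `U` is of the form `e * (s e s) = (e s)²` -/
theorem cfg_surj (y : S) (hy : y ∈ E) (hys : s * y = y * s) : ∃ e ∈ E, e * (s * e * s) = y := by
  obtain ⟨hcomm, hsq, hss, hsplit, hnorm⟩ := cfg_aux Q E hEQ hE hE16 hQ32 s hsQ hsE hs hfix
  have hsinv : s⁻¹ = s := inv_eq_of_mul_eq_one_right hss
  -- the homomorphism `e ↦ e * (s e s)` of `E`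
  let f : ↥E →* ↥E :=
    { toFun := fun e => ⟨(e : S) * (s * e * s), E.mul_mem e.2 (hnorm e e.2)⟩
      map_one' := by
        apply Subtype.ext
        simp [hss]
      map_mul' := by
        intro a b
        apply Subtype.ext
        show ((a : S) * b) * (s * (a * b) * s) = (a * (s * a * s)) * (b * (s * b * s))
        have h1 : s * ((a : S) * b) * s = (s * a * s) * (s * b * s) := by
          calc s * ((a : S) * b) * s = s * a * 1 * b * s := by group
            _ = s * a * (s * s) * b * s := by rw [hss]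
            _ = (s * a * s) * (s * b * s) := by group
        rw [h1]
        have h2 := hcomm b b.2 (s * a * s) (hnorm a a.2)
        calc (a : S) * b * ((s * a * s) * (s * b * s)) = a * (b * (s * a * s)) * (s * b * s) := by group
          _ = a * ((s * a * s) * b) * (s * b * s) := by rw [h2]
          _ = (a * (s * a * s)) * (b * (s * b * s)) := by group }
  have hf : ∀ e : ↥E, ((f e : ↥E) : S) = (e : S) * (s * e * s) := fun e => rfl
  -- kernel and range
  let U' : Subgroup ↥E := (Subgroup.centralizer ({s} : Set S)).subgroupOf E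
  have hU'mem : ∀ e : ↥E, e ∈ U' ↔ s * (e : S) = e * s := by
    intro e
    show (e : S) ∈ Subgroup.centralizer ({s} : Set S) ↔ _
    rw [Subgroup.mem_centralizer_singleton_iff, eq_comm]
  have hker : f.ker = U' := by
    ext e
    rw [MonoidHom.mem_ker, hU'mem]
    constructor
    · intro h
      have h1 : (e : S) * (s * e * s) = 1 := by rw [← hf, h]; rfl
      have h2 : s * (e : S) * s = e := by
        have : (e : S) * (s * e * s) = e * e := by rw [h1, hsq e e.2]
        exact mul_left_cancel this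
      calc s * (e : S) = s * e * (s * s) := by rw [hss, mul_one]
        _ = (s * e * s) * s := by group
        _ = e * s := by rw [h2]
    · intro h
      apply Subtype.ext
      rw [hf]
      show (e : S) * (s * e * s) = 1
      rw [h, mul_assoc, hss, mul_one, hsq e e.2]
  have hrange : f.range ≤ U' := by
    rintro _ ⟨e, rfl⟩
    rw [hU'mem, hf]
    have h2 := hcomm e e.2 (s * e * s) (hnorm e e.2)
    calc s * ((e : S) * (s * e * s)) = (s * e * s) * e * s := by group
      _ = (e * (s * e * s)) * s := by rw [← h2]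
  have hcU' : Nat.card U' = 4 := by
    have e1 : U' = (E ⊓ Subgroup.centralizer ({s} : Set S)).subgroupOf E := by
      show (Subgroup.centralizer ({s} : Set S)).subgroupOf E = _
      rw [Subgroup.inf_subgroupOf_left]
    rw [e1, Nat.card_congr (Subgroup.subgroupOfEquivOfLe inf_le_left).toEquiv, hfix]
  have hcr : Nat.card f.range = 4 := by
    have h1 := Subgroup.card_eq_card_quotient_mul_card_subgroup f.ker
    have h2 : Nat.card (↥E ⧸ f.ker) = Nat.card f.range :=
      Nat.card_congr (QuotientGroup.quotientKerEquivRange f).toEquiv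
    rw [h2, hker, hcU', hE16] at h1
    omega
  have heq : f.range = U' := Subgroup.eq_of_le_of_card_ge hrange (by rw [hcr, hcU'])
  have hyU : (⟨y, hy⟩ : ↥E) ∈ f.range := by
    rw [heq, hU'mem]
    exact hys
  obtain ⟨e, he⟩ := hyU
  refine ⟨e, e.2, ?_⟩
  rw [← hf, he]


/-- **U1**: the hypotheses of S1234 give the elementwise configuration -/
theorem cfg_of_hyps
    (hC : Subgroup.centralizer (((Subgroup.center Q).map Q.subtype : Subgroup S) : Set S) = Q) :
    Cfg Q E ((Subgroup.center Q).map Q.subtype) s := by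
  obtain ⟨hcomm, hsq, hss, hsplit, hnorm⟩ := cfg_aux Q E hEQ hE hE16 hQ32 s hsQ hsE hs hfix
  have hmem := cfg_memU Q E hEQ hE hE16 hQ32 s hsQ hsE hs hfix
  refine ⟨hEQ, hcomm, hsq, hsQ, hsE, hss, hsplit, hnorm, hmem, ?_, hE16, hQ32, ?_, ?_⟩
  · rw [cfg_eqU Q E hEQ hE hE16 hQ32 s hsQ hsE hs hfix, hfix]
  · intro y hy
    obtain ⟨h1, h2⟩ := (hmem y).mp hy
    exact cfg_surj Q E hEQ hE hE16 hQ32 s hsQ hsE hs hfix y h1 h2
  · intro g hg
    rw [← hC, Subgroup.mem_centralizer_iff]
    intro y hy
    exact (hg y hy).symm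

end build

end Cfsg.Agent.Lib.Helper6.S1234
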