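import Mathlib
import Cfsg.Agent.Lib.Helper6.S1234A

set_option autoImplicit false
set_option linter.unusedVariables false
set_option linter.unusedSectionVars false
set_option linter.style.longLine false
set_option linter.unusedSimpArgs false
set_option maxHeartbeats 1000000

/-!
# S1234, unit U2: API of the configuration `Cfg`, the four elements of `U`
-/

namespace Cfsg.Agent.Lib.Helper6.S1234

variable {S : Type*} [Group S] {Q E U : Subgroup S} {s : S}

namespace Cfg

variable (h : Cfg Q E U s)
include h

theorem sinv : s⁻¹ = s := inv_eq_of_mul_eq_one_right h.ss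

theorem einv {e : S} (he : e ∈ E) : e⁻¹ = e := inv_eq_of_mul_eq_one_right (h.sq e he)

theorem U_le_E : U ≤ E := fun y hy => ((h.memU y).mp hy).1

theorem U_le_Q : U ≤ Q := fun y hy => h.hEQ (h.U_le_E hy)

theorem s_comm_U {y : S} (hy : y ∈ U) : s * y = y * s := ((h.memU y).mp hy).2

/-- `U` is central in `Q` -/
theorem Q_comm_U {q y : S} (hq : q ∈ Q) (hy : y ∈ U) : q * y = y * q := by
  have hyE := h.U_le_E hy
  rcases h.split q hq with hqE | ⟨e, he, rfl⟩
  · exact h.comm q hqE y hyE
  · calc s * e * y = s * (e * y) := by group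
      _ = s * (y * e) := by rw [h.comm e he y hyE]
      _ = s * y * e := by group
      _ = y * s * e := by rw [h.s_comm_U hy]
      _ = y * (s * e) := by group

/-- `C_Q(x) = E` for `x ∈ E ∖ U` -/
theorem cent_x {x q : S} (hx : x ∈ E) (hxU : x ∉ U) (hq : q ∈ Q) (hqx : q * x = x * q) : q ∈ E := by
  rcases h.split q hq with hqE | ⟨e, he, rfl⟩
  · exact hqE
  · exfalso
    apply hxU
    rw [h.memU]
    refine ⟨hx, ?_⟩
    have h2 : s * x * e = x * s * e := by
      calc s * x * e = s * (x * e) := by group
        _ = s * (e * x) := by rw [h.comm x hx e he]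
        _ = s * e * x := by group
        _ = x * (s * e) := hqx
        _ = x * s * e := by group
    exact mul_right_cancel h2

/-- every element of `U` is a square in `Q` -/
theorem sq_U {y : S} (hy : y ∈ U) : ∃ q ∈ Q, q * q = y := by
  obtain ⟨e, he, rfl⟩ := h.surj y hy
  exact ⟨e * s, Q.mul_mem (h.hEQ he) h.sQ, by group⟩

/-- a central element of `Q` lies in `U` -/
theorem center_mem [Finite S] {q : S} (hq : q ∈ Q) (hc : ∀ q' ∈ Q, q' * q = q * q') : q ∈ U := by
  rw [h.memU]
  refine ⟨?_, hc s h.sQ⟩
  rcases h.split q hq with hqE | ⟨e, he, rfl⟩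
  · exact hqE
  · exfalso
    have hall : E ≤ U := by
      intro a ha
      rw [h.memU]
      refine ⟨ha, ?_⟩
      have h1 := hc a (h.hEQ ha)
      have h2 : a * s * e = s * a * e := by
        calc a * s * e = a * (s * e) := by group
          _ = s * e * a := h1
          _ = s * (e * a) := by group
          _ = s * (a * e) := by rw [h.comm e he a ha]
          _ = s * a * e := by group
      exact (mul_right_cancel h2).symm
    have := Subgroup.card_le_of_le hall
    rw [h.cardE, h.cardU] at this
    omega

end Cfg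

/-- the four elements of `U` -/
structure UD (U : Subgroup S) (z u : S) : Prop where
  zc : ∀ g : S, g * z = z * g
  z1 : z ≠ 1
  zU : z ∈ U
  uU : u ∈ U
  u1 : u ≠ 1
  uz : u ≠ z
  all : ∀ y ∈ U, y = 1 ∨ y = z ∨ y = u ∨ y = u * z

theorem exists_UD [Finite S] (hS : IsPGroup 2 S) (h : Cfg Q E U s) : ∃ z u : S, UD U z u := by
  have : Fact (Nat.Prime 2) := ⟨Nat.prime_two⟩
  have hnt : Nontrivial S := by
    refine ⟨⟨s, 1, ?_⟩⟩
    intro hs1
    exact h.sE (hs1 ▸ E.one_mem)
  have hcn : Nontrivial (Subgroup.center S) := hS.center_nontrivial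
  obtain ⟨⟨z, hz⟩, hz1⟩ := exists_ne (1 : Subgroup.center S)
  have hz1' : z ≠ 1 := fun hh => hz1 (Subtype.ext hh)
  have hzc : ∀ g : S, g * z = z * g := fun g => Subgroup.mem_center_iff.mp hz g
  have hzQ : z ∈ Q := h.cent z (fun y _ => (hzc y).symm)
  have hzU : z ∈ U := h.center_mem hzQ (fun q' _ => hzc q')
  have hzz : z * z = 1 := h.sq z (h.U_le_E hzU)
  -- an element of `U` outside `{1, z}`
  have hex : ∃ u ∈ U, u ≠ 1 ∧ u ≠ z := by
    by_contra hcon
    push Not at hcon
    have hsub : (U : Set S) ⊆ ({1, z} : Set S) := by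
      intro y hy
      by_cases hy1 : y = 1
      · exact Or.inl hy1
      · exact Or.inr (hcon y hy hy1)
    have h1 : (U : Set S).ncard ≤ ({1, z} : Set S).ncard :=
      Set.ncard_le_ncard hsub (Set.toFinite _)
    have h2 : ({1, z} : Set S).ncard ≤ 2 := Set.ncard_insert_le _ _ |>.trans (by simp)
    have h3 : (U : Set S).ncard = 4 := by
      rw [← h.cardU]; rfl
    omega
  obtain ⟨u, huU, hu1, huz⟩ := hex
  have huu : u * u = 1 := h.sq u (h.U_le_E huU)
  refine ⟨z, u, hzc, hz1', hzU, huU, hu1, huz, ?_⟩
  -- the four elements exhaust `U`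
  have hsub : ({1, z, u, u * z} : Set S) ⊆ (U : Set S) := by
    intro y hy
    rcases hy with rfl | rfl | rfl | rfl
    · exact U.one_mem
    · exact hzU
    · exact huU
    · exact U.mul_mem huU hzU
  have hcard : ({1, z, u, u * z} : Set S).ncard = 4 := by
    classical
    have e1 : ({1, z, u, u * z} : Set S) = ((({1, z, u, u * z} : Finset S)) : Set S) := by
      simp
    rw [e1, Set.ncard_coe_finset]
    have n1 : (1 : S) ∉ ({z, u, u * z} : Finset S) := by
      simp only [Finset.mem_insert, Finset.mem_singleton, not_or]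
      refine ⟨fun hh => hz1' hh.symm, fun hh => hu1 hh.symm, fun hh => ?_⟩
      apply huz
      calc u = u * 1 := (mul_one u).symm
        _ = u * (u * z) := by rw [← hh]
        _ = (u * u) * z := by group
        _ = z := by rw [huu, one_mul]
    have n2 : z ∉ ({u, u * z} : Finset S) := by
      simp only [Finset.mem_insert, Finset.mem_singleton, not_or]
      refine ⟨fun hh => huz hh.symm, fun hh => ?_⟩
      apply hu1
      have : 1 * z = u * z := by rw [one_mul]; exact hh
      exact (mul_right_cancel this).symm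
    have n3 : u ∉ ({u * z} : Finset S) := by
      simp only [Finset.mem_singleton]
      intro hh
      apply hz1'
      have : u * 1 = u * z := by rw [mul_one]; exact hh
      exact (mul_left_cancel this).symm
    rw [Finset.card_insert_of_notMem n1, Finset.card_insert_of_notMem n2,
      Finset.card_insert_of_notMem n3, Finset.card_singleton]
  have heq : ({1, z, u, u * z} : Set S) = (U : Set S) := by
    apply Set.eq_of_subset_of_ncard_le hsub _ (Set.toFinite _)
    rw [hcard]
    have h3 : (U : Set S).ncard = 4 := by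
      rw [← h.cardU]; rfl
    omega
  intro y hy
  have : y ∈ ({1, z, u, u * z} : Set S) := by rw [heq]; exact hy
  rcases this with rfl | rfl | rfl | rfl
  · exact Or.inl rfl
  · exact Or.inr (Or.inl rfl)
  · exact Or.inr (Or.inr (Or.inl rfl))
  · exact Or.inr (Or.inr (Or.inr rfl))

namespace UD

variable {z u : S} (hU : UD U z u) (h : Cfg Q E U s)
include hU h

theorem zz : z * z = 1 := h.sq z (h.U_le_E hU.zU)
theorem uu : u * u = 1 := h.sq u (h.U_le_E hU.uU)

/-- `C_S(u) = Q` -/
theorem cent_u {g : S} (hg : g * u = u * g) : g ∈ Q := by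
  apply h.cent
  intro y hy
  rcases hU.all y hy with rfl | rfl | rfl | rfl
  · simp
  · exact hU.zc g
  · exact hg
  · calc g * (u * z) = (g * u) * z := by group
      _ = (u * g) * z := by rw [hg]
      _ = u * (g * z) := by group
      _ = u * (z * g) := by rw [hU.zc g]
      _ = u * z * g := by group

theorem uz_ne_one : u * z ≠ 1 := by
  intro hh
  apply hU.uz
  calc u = u * (z * z) := by rw [hU.zz h, mul_one]
    _ = (u * z) * z := by group
    _ = z := by rw [hh, one_mul]

theorem uz_ne_z : u * z ≠ z := by
  intro hh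
  apply hU.u1
  have : u * z = 1 * z := by rw [one_mul]; exact hh
  exact mul_right_cancel this

theorem uz_ne_u : u * z ≠ u := by
  intro hh
  apply hU.z1
  have : u * z = u * 1 := by rw [mul_one]; exact hh
  exact mul_left_cancel this

end UD

end Cfsg.Agent.Lib.Helper6.S1234
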