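import Mathlib
import Cfsg.Agent.Lib.Helper6.S1234B

set_option autoImplicit false
set_option linter.unusedVariables false
set_option linter.unusedSectionVars false
set_option linter.style.longLine false
set_option linter.unusedSimpArgs false
set_option maxHeartbeats 1000000

/-!
# S1234, unit U3: Lemma L and the elements `x`, `t` of the main case
-/

namespace Cfsg.Agent.Lib.Helper6.S1234

variable {S : Type*} [Group S] {Q E U : Subgroup S} {s z u : S}

section main

variable (h : Cfg Q E U s) (hU : UD U z u)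
include h hU

/-- elements of `N_S(U)` fix `u` or swap `u, uz` -/
theorem norm_cases {n : S} (hn : n ∈ Subgroup.normalizer (U : Set S)) :
    n * u * n⁻¹ = u ∨ n * u * n⁻¹ = u * z := by
  have h1 : n * u * n⁻¹ ∈ U := (Subgroup.mem_normalizer_iff.mp hn u).mp hU.uU
  rcases hU.all _ h1 with h2 | h2 | h2 | h2
  · exfalso
    exact hU.u1 (conj_eq_one_iff.mp h2)
  · exfalso
    apply hU.uz
    have : n * u = n * z := by
      calc n * u = (n * u * n⁻¹) * n := by group
        _ = z * n := by rw [h2]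
        _ = n * z := (hU.zc n).symm
    exact mul_left_cancel this
  · exact Or.inl h2
  · exact Or.inr h2

theorem Q_le_norm : Q ≤ Subgroup.normalizer (U : Set S) := by
  intro q hq
  rw [Subgroup.mem_normalizer_iff]
  intro y
  constructor
  · intro hy
    have : q * y * q⁻¹ = y := by rw [h.Q_comm_U hq hy]; group
    rw [this]; exact hy
  · intro hy
    have h1 := h.Q_comm_U (Q.inv_mem hq) hy
    have : y = q * y * q⁻¹ := by
      calc y = q⁻¹ * (q * y * q⁻¹) * q := by group
        _ = (q * y * q⁻¹) * q⁻¹ * q := by rw [h1]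
        _ = q * y * q⁻¹ := by group
    rw [this]; exact hy

/-- if `g u g⁻¹ ∈ U` then `g` normalizes `U` -/
theorem mem_norm_of_conj_mem {g : S} (hg : g * u * g⁻¹ ∈ U) : g ∈ Subgroup.normalizer (U : Set S) := by
  have hzz := hU.zz h
  have hcz : g * z * g⁻¹ = z := by rw [hU.zc g]; group
  have hcuz : g * (u * z) * g⁻¹ = (g * u * g⁻¹) * z := by
    calc g * (u * z) * g⁻¹ = (g * u * g⁻¹) * (g * z * g⁻¹) := by group
      _ = (g * u * g⁻¹) * z := by rw [hcz]
  have hne1 : g * u * g⁻¹ ≠ 1 := fun hh => hU.u1 (conj_eq_one_iff.mp hh)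
  have hnez : g * u * g⁻¹ ≠ z := by
    intro hh
    apply hU.uz
    have : g * u = g * z := by
      calc g * u = (g * u * g⁻¹) * g := by group
        _ = z * g := by rw [hh]
        _ = g * z := (hU.zc g).symm
    exact mul_left_cancel this
  have hcases : g * u * g⁻¹ = u ∨ g * u * g⁻¹ = u * z := by
    rcases hU.all _ hg with h2 | h2 | h2 | h2
    · exact absurd h2 hne1
    · exact absurd h2 hnez
    · exact Or.inl h2
    · exact Or.inr h2
  -- conjugation by `g` maps `U` onto `U`
  have hfwd : ∀ y ∈ U, g * y * g⁻¹ ∈ U := by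
    intro y hy
    rcases hU.all y hy with rfl | rfl | rfl | rfl
    · simp [U.one_mem]
    · rw [hcz]; exact hU.zU
    · exact hg
    · rw [hcuz]; exact U.mul_mem hg hU.zU
  rw [Subgroup.mem_normalizer_iff]
  intro y
  refine ⟨hfwd y, ?_⟩
  intro hy
  -- `g y g⁻¹` is one of the four, each of which is the conjugate of an element of `U`
  have hpre : ∃ y' ∈ U, g * y' * g⁻¹ = g * y * g⁻¹ := by
    rcases hU.all _ hy with h2 | h2 | h2 | h2
    · exact ⟨1, U.one_mem, by rw [h2]; simp⟩
    · exact ⟨z, hU.zU, by rw [h2, hcz]⟩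
    · rcases hcases with h3 | h3
      · exact ⟨u, hU.uU, by rw [h2, h3]⟩
      · refine ⟨u * z, U.mul_mem hU.uU hU.zU, ?_⟩
        rw [h2, hcuz, h3, mul_assoc, hzz, mul_one]
    · rcases hcases with h3 | h3
      · refine ⟨u * z, U.mul_mem hU.uU hU.zU, ?_⟩
        rw [h2, hcuz, h3]
      · exact ⟨u, hU.uU, by rw [h2, h3]⟩
  obtain ⟨y', hy', he⟩ := hpre
  have : y' = y := by
    have h1 : g * y' = g * y := mul_right_cancel he
    exact mul_left_cancel h1
  rw [← this]; exact hy'

/-- **Lemma L** -/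
theorem lemma_L {g : S}
    (hgN : g ∈ Subgroup.normalizer ((Subgroup.normalizer (U : Set S) : Subgroup S) : Set S))
    (hg : g ∉ Subgroup.normalizer (U : Set S)) :
    g * u * g⁻¹ ∈ E ∧ g * u * g⁻¹ ∉ U ∧ s * (g * u * g⁻¹) * s = (g * u * g⁻¹) * z ∧
      (∀ n ∈ Subgroup.normalizer (U : Set S),
        n * (g * u * g⁻¹) * n⁻¹ = g * u * g⁻¹ ∨ n * (g * u * g⁻¹) * n⁻¹ = (g * u * g⁻¹) * z) := by
  have hzz := hU.zz h
  have huu := hU.uu h
  have hcz : g * z * g⁻¹ = z := by rw [hU.zc g]; group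
  -- (b) the action of `N₁` on `x`
  have hb : ∀ n ∈ Subgroup.normalizer (U : Set S),
      n * (g * u * g⁻¹) * n⁻¹ = g * u * g⁻¹ ∨ n * (g * u * g⁻¹) * n⁻¹ = (g * u * g⁻¹) * z := by
    intro n hn
    have hm : g⁻¹ * n * g ∈ Subgroup.normalizer (U : Set S) := by
      rw [Subgroup.mem_normalizer_iff.mp hgN (g⁻¹ * n * g)]
      have : g * (g⁻¹ * n * g) * g⁻¹ = n := by group
      rw [this]; exact hn
    have e1 : n * (g * u * g⁻¹) * n⁻¹ = g * ((g⁻¹ * n * g) * u * (g⁻¹ * n * g)⁻¹) * g⁻¹ := by group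
    rcases norm_cases h hU hm with h2 | h2
    · left; rw [e1, h2]
    · right
      rw [e1, h2]
      calc g * (u * z) * g⁻¹ = (g * u * g⁻¹) * (g * z * g⁻¹) := by group
        _ = (g * u * g⁻¹) * z := by rw [hcz]
  -- (a)
  have ha : g * u * g⁻¹ ∉ U := fun hh => hg (mem_norm_of_conj_mem h hU hh)
  -- (c), (d): `x ∈ Q`
  have hxQ : g * u * g⁻¹ ∈ Q := by
    apply hU.cent_u h
    obtain ⟨q, hq, hqq⟩ := h.sq_U hU.uU
    have hqN := Q_le_norm h hU hq
    have h2 : (q * q) * (g * u * g⁻¹) * (q * q)⁻¹ = g * u * g⁻¹ := by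
      have e2 : (q * q) * (g * u * g⁻¹) * (q * q)⁻¹ = q * (q * (g * u * g⁻¹) * q⁻¹) * q⁻¹ := by group
      rw [e2]
      rcases hb q hqN with h3 | h3
      · rw [h3, h3]
      · rw [h3]
        have e3 : q * ((g * u * g⁻¹) * z) * q⁻¹ = (q * (g * u * g⁻¹) * q⁻¹) * (q * z * q⁻¹) := by group
        have e4 : q * z * q⁻¹ = z := by rw [hU.zc q]; group
        rw [e3, h3, e4, mul_assoc, hzz, mul_one]
    rw [hqq] at h2
    -- u x u⁻¹ = x
    calc (g * u * g⁻¹) * u = (u * (g * u * g⁻¹) * u⁻¹) * u := by rw [h2]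
      _ = u * (g * u * g⁻¹) := by group
  -- (e)
  have hxE : g * u * g⁻¹ ∈ E := by
    rcases h.split _ hxQ with h2 | ⟨e0, he0, hx⟩
    · exact h2
    · exfalso
      obtain ⟨e, he, heu⟩ := h.surj u hU.uU
      have heN := Q_le_norm h hU (h.hEQ he)
      have hses := h.norm e he
      have key : e * (g * u * g⁻¹) * e⁻¹ = (g * u * g⁻¹) * u := by
        rw [hx, h.einv he]
        have c1 : e * s = s * (s * e * s) := by
          calc e * s = (s * s) * e * s := by rw [h.ss, one_mul]
            _ = s * (s * e * s) := by group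
        calc e * (s * e0) * e = (e * s) * e0 * e := by group
          _ = s * (s * e * s) * e0 * e := by rw [c1]
          _ = s * ((s * e * s) * e0) * e := by group
          _ = s * (e0 * (s * e * s)) * e := by rw [h.comm _ hses e0 he0]
          _ = s * e0 * ((s * e * s) * e) := by group
          _ = s * e0 * (e * (s * e * s)) := by rw [h.comm _ hses e he]
          _ = s * e0 * u := by rw [heu]
      rcases hb e heN with h3 | h3
      · rw [key] at h3
        have : (g * u * g⁻¹) * u = (g * u * g⁻¹) * 1 := by rw [mul_one]; exact h3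
        exact hU.u1 (mul_left_cancel this)
      · rw [key] at h3
        exact hU.uz (mul_left_cancel h3)
  refine ⟨hxE, ha, ?_, hb⟩
  -- (f)
  have hsN := Q_le_norm h hU h.sQ
  rcases hb s hsN with h3 | h3
  · exfalso
    apply ha
    rw [h.memU]
    refine ⟨hxE, ?_⟩
    rw [h.sinv] at h3
    calc s * (g * u * g⁻¹) = (s * (g * u * g⁻¹) * s) * s := by rw [mul_assoc _ s s, h.ss, mul_one]
      _ = (g * u * g⁻¹) * s := by rw [h3]
  · rw [h.sinv] at h3
    exact h3

end main

end Cfsg.Agent.Lib.Helper6.S1234
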