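import Mathlib
import Cfsg.Agent.Lib.Helper3.QuatLift
import Cfsg.Agent.Lib.Helper6.QQA1
import Cfsg.Agent.Lib.Helper6.S1233A0

set_option autoImplicit false
set_option linter.unusedVariables false
set_option linter.unusedSectionVars false
set_option linter.style.longLine false
set_option linter.unusedSimpArgs false
set_option maxHeartbeats 1000000

/-!
# S1234, unit U-PAIR: two commuting dihedral groups of order 8 with common centre give
two commuting quaternion groups (`D8 ∘ D8 = Q8 ∘ Q8`)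
-/

namespace Cfsg.Agent.Lib.Helper6.S1234

open Cfsg.Agent.Lib.Helper6.QQA Cfsg.Agent.Lib.Helper3

section pair

variable {S : Type*} [Group S] {z u x s t : S}

/-- the rewriting system for words in `z, u, x, s, t` -/
structure Rel (z u x s t : S) : Prop where
  z1 : z ≠ 1
  zz : z * z = 1
  zc : ∀ g : S, g * z = z * g
  uu : u * u = 1
  xx : x * x = 1
  ss : s * s = 1
  tt : t * t = 1
  xu : x * u = u * x
  su : s * u = u * s
  sx : s * x = z * (x * s)
  tu : t * u = z * (u * t)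
  tx : t * x = x * t
  ts : t * s = s * t

theorem Rel.mk' (hz1 : z ≠ 1) (hz2 : z * z = 1) (hzc : ∀ g : S, g * z = z * g)
    (hu : u * u = 1) (hx : x * x = 1) (hs : s * s = 1) (ht : t * t = 1) (hux : u * x = x * u)
    (hus : u * s = s * u) (hxs : s * x * s = x * z) (hut : t * u * t = u * z)
    (htx : t * x = x * t) (hts : t * s = s * t) : Rel z u x s t where
  z1 := hz1
  zz := hz2
  zc := hzc
  uu := hu
  xx := hx
  ss := hs
  tt := ht
  xu := hux.symm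
  su := hus.symm
  sx := by
    have h : s * x = x * z * s := by
      calc s * x = s * x * (s * s) := by rw [hs, mul_one]
        _ = (s * x * s) * s := by group
        _ = x * z * s := by rw [hxs]
    rw [h, hzc x, mul_assoc]
  tu := by
    have h : t * u = u * z * t := by
      calc t * u = t * u * (t * t) := by rw [ht, mul_one]
        _ = (t * u * t) * t := by group
        _ = u * z * t := by rw [hut]
    rw [h, hzc u, mul_assoc]
  tx := htx
  ts := hts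

variable (R : Rel z u x s t)
include R

theorem Rel.zc' (g w : S) : g * (z * w) = z * (g * w) := by
  rw [← mul_assoc, R.zc g, mul_assoc]
theorem Rel.zz' (w : S) : z * (z * w) = w := by rw [← mul_assoc, R.zz, one_mul]
theorem Rel.uu' (w : S) : u * (u * w) = w := by rw [← mul_assoc, R.uu, one_mul]
theorem Rel.xx' (w : S) : x * (x * w) = w := by rw [← mul_assoc, R.xx, one_mul]
theorem Rel.ss' (w : S) : s * (s * w) = w := by rw [← mul_assoc, R.ss, one_mul]
theorem Rel.tt' (w : S) : t * (t * w) = w := by rw [← mul_assoc, R.tt, one_mul]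
theorem Rel.xu' (w : S) : x * (u * w) = u * (x * w) := by
  rw [← mul_assoc, R.xu, mul_assoc]
theorem Rel.su' (w : S) : s * (u * w) = u * (s * w) := by
  rw [← mul_assoc, R.su, mul_assoc]
theorem Rel.sx' (w : S) : s * (x * w) = z * (x * (s * w)) := by
  rw [← mul_assoc, R.sx]; simp only [mul_assoc]
theorem Rel.tu' (w : S) : t * (u * w) = z * (u * (t * w)) := by
  rw [← mul_assoc, R.tu]; simp only [mul_assoc]
theorem Rel.tx' (w : S) : t * (x * w) = x * (t * w) := by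
  rw [← mul_assoc, R.tx, mul_assoc]
theorem Rel.ts' (w : S) : t * (s * w) = s * (t * w) := by
  rw [← mul_assoc, R.ts, mul_assoc]

theorem Rel.uinv : u⁻¹ = u := inv_eq_of_mul_eq_one_right R.uu
theorem Rel.xinv : x⁻¹ = x := inv_eq_of_mul_eq_one_right R.xx
theorem Rel.sinv : s⁻¹ = s := inv_eq_of_mul_eq_one_right R.ss
theorem Rel.tinv : t⁻¹ = t := inv_eq_of_mul_eq_one_right R.tt
theorem Rel.zinv : z⁻¹ = z := inv_eq_of_mul_eq_one_right R.zz


theorem Rel.uz : u * z = z * u := R.zc u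
theorem Rel.xz : x * z = z * x := R.zc x
theorem Rel.sz : s * z = z * s := R.zc s
theorem Rel.tz : t * z = z * t := R.zc t
theorem Rel.uz' (w : S) : u * (z * w) = z * (u * w) := R.zc' u w
theorem Rel.xz' (w : S) : x * (z * w) = z * (x * w) := R.zc' x w
theorem Rel.sz' (w : S) : s * (z * w) = z * (s * w) := R.zc' s w
theorem Rel.tz' (w : S) : t * (z * w) = z * (t * w) := R.zc' t w

/-- first generator of `Q₁` -/
def gA1 (x s : S) : S := x * s
/-- second generator of `Q₁` -/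
def gX1 (u x t : S) : S := x * (u * t)
/-- first generator of `Q₂` -/
def gA2 (u t : S) : S := u * t
/-- second generator of `Q₂` -/
def gX2 (u x s : S) : S := u * (x * s)

theorem Rel.w1 : gA1 x s * gA1 x s = z := by
  simp only [gA1, mul_assoc, R.uz, R.xz, R.sz, R.tz, R.uz', R.xz', R.sz', R.tz', R.zz, R.zz',
    R.uu, R.uu', R.xx, R.xx', R.ss, R.ss', R.tt, R.tt', R.xu, R.xu', R.su, R.su', R.sx, R.sx',
    R.tu, R.tu', R.tx, R.tx', R.ts, R.ts', mul_one, one_mul]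
theorem Rel.w2 : gX1 u x t * gX1 u x t = z := by
  simp only [gX1, mul_assoc, R.uz, R.xz, R.sz, R.tz, R.uz', R.xz', R.sz', R.tz', R.zz, R.zz',
    R.uu, R.uu', R.xx, R.xx', R.ss, R.ss', R.tt, R.tt', R.xu, R.xu', R.su, R.su', R.sx, R.sx',
    R.tu, R.tu', R.tx, R.tx', R.ts, R.ts', mul_one, one_mul]
theorem Rel.w3 : gX1 u x t * gA1 x s * (gX1 u x t)⁻¹ = (gA1 x s)⁻¹ := by
  simp only [gX1, gA1, mul_inv_rev, R.uinv, R.xinv, R.sinv, R.tinv, mul_assoc, R.uz, R.xz, R.sz, R.tz, R.uz', R.xz', R.sz', R.tz', R.zz, R.zz',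
    R.uu, R.uu', R.xx, R.xx', R.ss, R.ss', R.tt, R.tt', R.xu, R.xu', R.su, R.su', R.sx, R.sx',
    R.tu, R.tu', R.tx, R.tx', R.ts, R.ts', mul_one, one_mul]
theorem Rel.w4 : gA2 u t * gA2 u t = z := by
  simp only [gA2, mul_assoc, R.uz, R.xz, R.sz, R.tz, R.uz', R.xz', R.sz', R.tz', R.zz, R.zz',
    R.uu, R.uu', R.xx, R.xx', R.ss, R.ss', R.tt, R.tt', R.xu, R.xu', R.su, R.su', R.sx, R.sx',
    R.tu, R.tu', R.tx, R.tx', R.ts, R.ts', mul_one, one_mul]
theorem Rel.w5 : gX2 u x s * gX2 u x s = z := by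
  simp only [gX2, mul_assoc, R.uz, R.xz, R.sz, R.tz, R.uz', R.xz', R.sz', R.tz', R.zz, R.zz',
    R.uu, R.uu', R.xx, R.xx', R.ss, R.ss', R.tt, R.tt', R.xu, R.xu', R.su, R.su', R.sx, R.sx',
    R.tu, R.tu', R.tx, R.tx', R.ts, R.ts', mul_one, one_mul]
theorem Rel.w6 : gX2 u x s * gA2 u t * (gX2 u x s)⁻¹ = (gA2 u t)⁻¹ := by
  simp only [gX2, gA2, mul_inv_rev, R.uinv, R.xinv, R.sinv, R.tinv, mul_assoc, R.uz, R.xz, R.sz, R.tz, R.uz', R.xz', R.sz', R.tz', R.zz, R.zz',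
    R.uu, R.uu', R.xx, R.xx', R.ss, R.ss', R.tt, R.tt', R.xu, R.xu', R.su, R.su', R.sx, R.sx',
    R.tu, R.tu', R.tx, R.tx', R.ts, R.ts', mul_one, one_mul]
theorem Rel.c1 : gA1 x s * gA2 u t = gA2 u t * gA1 x s := by
  simp only [gA1, gA2, mul_assoc, R.uz, R.xz, R.sz, R.tz, R.uz', R.xz', R.sz', R.tz', R.zz, R.zz',
    R.uu, R.uu', R.xx, R.xx', R.ss, R.ss', R.tt, R.tt', R.xu, R.xu', R.su, R.su', R.sx, R.sx',
    R.tu, R.tu', R.tx, R.tx', R.ts, R.ts', mul_one, one_mul]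
theorem Rel.c2 : gA1 x s * gX2 u x s = gX2 u x s * gA1 x s := by
  simp only [gA1, gX2, mul_assoc, R.uz, R.xz, R.sz, R.tz, R.uz', R.xz', R.sz', R.tz', R.zz, R.zz',
    R.uu, R.uu', R.xx, R.xx', R.ss, R.ss', R.tt, R.tt', R.xu, R.xu', R.su, R.su', R.sx, R.sx',
    R.tu, R.tu', R.tx, R.tx', R.ts, R.ts', mul_one, one_mul]
theorem Rel.c3 : gX1 u x t * gA2 u t = gA2 u t * gX1 u x t := by
  simp only [gX1, gA2, mul_assoc, R.uz, R.xz, R.sz, R.tz, R.uz', R.xz', R.sz', R.tz', R.zz, R.zz',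
    R.uu, R.uu', R.xx, R.xx', R.ss, R.ss', R.tt, R.tt', R.xu, R.xu', R.su, R.su', R.sx, R.sx',
    R.tu, R.tu', R.tx, R.tx', R.ts, R.ts', mul_one, one_mul]
theorem Rel.c4 : gX1 u x t * gX2 u x s = gX2 u x s * gX1 u x t := by
  simp only [gX1, gX2, mul_assoc, R.uz, R.xz, R.sz, R.tz, R.uz', R.xz', R.sz', R.tz', R.zz, R.zz',
    R.uu, R.uu', R.xx, R.xx', R.ss, R.ss', R.tt, R.tt', R.xu, R.xu', R.su, R.su', R.sx, R.sx',
    R.tu, R.tu', R.tx, R.tx', R.ts, R.ts', mul_one, one_mul]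
/-- recovering the generators -/
theorem Rel.rx : gX1 u x t * (gA2 u t)⁻¹ = x := by
  simp only [gX1, gA2, mul_inv_rev, R.uinv, R.xinv, R.sinv, R.tinv, mul_assoc, R.uz, R.xz, R.sz, R.tz, R.uz', R.xz', R.sz', R.tz', R.zz, R.zz',
    R.uu, R.uu', R.xx, R.xx', R.ss, R.ss', R.tt, R.tt', R.xu, R.xu', R.su, R.su', R.sx, R.sx',
    R.tu, R.tu', R.tx, R.tx', R.ts, R.ts', mul_one, one_mul]
theorem Rel.ru : gX2 u x s * (gA1 x s)⁻¹ = u := by
  simp only [gX2, gA1, mul_inv_rev, R.uinv, R.xinv, R.sinv, R.tinv, mul_assoc, R.uz, R.xz, R.sz, R.tz, R.uz', R.xz', R.sz', R.tz', R.zz, R.zz',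
    R.uu, R.uu', R.xx, R.xx', R.ss, R.ss', R.tt, R.tt', R.xu, R.xu', R.su, R.su', R.sx, R.sx',
    R.tu, R.tu', R.tx, R.tx', R.ts, R.ts', mul_one, one_mul]
theorem Rel.rs : x * gA1 x s = s := by
  simp only [gA1, R.xx']
theorem Rel.rt : u * gA2 u t = t := by
  simp only [gA2, R.uu']


omit R in
/-- a homomorphism from `Q8` which does not kill the central involution is injective -/
theorem q8_hom_injective (φ : QuaternionGroup 2 →* S) (h : φ zq ≠ 1) : Function.Injective φ := by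
  rw [injective_iff_map_eq_one]
  intro w hw
  by_contra hne
  by_cases hwz : w = zq
  · exact h (hwz ▸ hw)
  · have := q8_sq_z w hne hwz
    apply h
    rw [← this, map_mul, hw, mul_one]

omit R in
theorem q8_hom_gen (φ : QuaternionGroup 2 →* S) (w : QuaternionGroup 2) :
    ∃ m n : ℕ, φ w = φ iq ^ m * φ jq ^ n := by
  obtain ⟨m, n, rfl⟩ := q8_gen w
  exact ⟨m, n, by rw [map_mul, map_pow, map_pow]⟩

omit R in
theorem quatLift_iq (A X : S) (hA : A ^ (2 * 2) = 1) (hX : X * X = A ^ 2)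
    (hXA : X * A * X⁻¹ = A⁻¹) : quatLift 2 A X hA hX hXA iq = A := by
  have := quatLift_a_natCast 2 A X hA hX hXA 1
  simpa using this

omit R in
theorem quatLift_jq (A X : S) (hA : A ^ (2 * 2) = 1) (hX : X * X = A ^ 2)
    (hXA : X * A * X⁻¹ = A⁻¹) : quatLift 2 A X hA hX hXA jq = X := by
  rw [quatLift_xa, zmodPw_zero, mul_one]

omit R in
theorem quatLift_zq (A X : S) (hA : A ^ (2 * 2) = 1) (hX : X * X = A ^ 2)
    (hXA : X * A * X⁻¹ = A⁻¹) : quatLift 2 A X hA hX hXA zq = A ^ 2 := by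
  have := quatLift_a_natCast 2 A X hA hX hXA 2
  simpa using this

omit R in
/-- the quaternion group generated by `A, X` with `A² = X² = z`, `X A X⁻¹ = A⁻¹` -/
theorem exists_q8 (A X : S) (hz1 : z ≠ 1) (hz2 : z * z = 1) (hA : A * A = z) (hX : X * X = z)
    (hXA : X * A * X⁻¹ = A⁻¹) :
    ∃ φ : QuaternionGroup 2 →* S, Function.Injective φ ∧ φ iq = A ∧ φ jq = X ∧ φ zq = z := by
  have hA2 : A ^ 2 = z := by rw [pow_two, hA]
  have hA4 : A ^ (2 * 2) = 1 := by rw [pow_mul, hA2, pow_two, hz2]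
  have hX' : X * X = A ^ 2 := by rw [hX, hA2]
  refine ⟨quatLift 2 A X hA4 hX' hXA, ?_, quatLift_iq A X hA4 hX' hXA, quatLift_jq A X hA4 hX' hXA, ?_⟩
  · apply q8_hom_injective
    rw [quatLift_zq, hA2]
    exact hz1
  · rw [quatLift_zq, hA2]

/-- **U-PAIR** -/
theorem q8_pair_of_rel [Finite S] :
    ∃ (Q₁ Q₂ : Subgroup S) (e₁ : Q₁ ≃* QuaternionGroup 2) (e₂ : Q₂ ≃* QuaternionGroup 2),
      (∀ a ∈ Q₁, ∀ b ∈ Q₂, a * b = b * a) ∧ Nat.card (Q₁ ⊔ Q₂ : Subgroup S) = 32 ∧ z ∈ Q₁ ∧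
      (∀ y : S, (∀ q ∈ Q₁ ⊔ Q₂, y * q = q * y) →
        y * u = u * y ∧ y * x = x * y ∧ y * s = s * y ∧ y * t = t * y) := by
  obtain ⟨φ₁, hinj₁, hi₁, hj₁, hz₁⟩ := exists_q8 (gA1 x s) (gX1 u x t) R.z1 R.zz R.w1 R.w2 R.w3
  obtain ⟨φ₂, hinj₂, hi₂, hj₂, hz₂⟩ := exists_q8 (gA2 u t) (gX2 u x s) R.z1 R.zz R.w4 R.w5 R.w6
  have hcomm : ∀ a ∈ φ₁.range, ∀ b ∈ φ₂.range, a * b = b * a := by
    rintro _ ⟨v, rfl⟩ _ ⟨w, rfl⟩
    obtain ⟨m, n, hv⟩ := q8_hom_gen φ₁ v
    obtain ⟨k, l, hw⟩ := q8_hom_gen φ₂ w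
    rw [hv, hw, hi₁, hj₁, hi₂, hj₂]
    have c1 : Commute (gA1 x s) (gA2 u t) := R.c1
    have c2 : Commute (gA1 x s) (gX2 u x s) := R.c2
    have c3 : Commute (gX1 u x t) (gA2 u t) := R.c3
    have c4 : Commute (gX1 u x t) (gX2 u x s) := R.c4
    have : Commute (gA1 x s ^ m * gX1 u x t ^ n) (gA2 u t ^ k * gX2 u x s ^ l) :=
      Commute.mul_left (Commute.mul_right (c1.pow_pow m k) (c2.pow_pow m l))
        (Commute.mul_right (c3.pow_pow n k) (c4.pow_pow n l))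
    exact this
  have hzQ₁ : z ∈ φ₁.range := ⟨zq, hz₁⟩
  have hzQ₂ : z ∈ φ₂.range := ⟨zq, hz₂⟩
  have hmem₁ : gA1 x s ∈ φ₁.range := ⟨iq, hi₁⟩
  have hmem₂ : gX1 u x t ∈ φ₁.range := ⟨jq, hj₁⟩
  have hmem₃ : gA2 u t ∈ φ₂.range := ⟨iq, hi₂⟩
  have hmem₄ : gX2 u x s ∈ φ₂.range := ⟨jq, hj₂⟩
  refine ⟨φ₁.range, φ₂.range, (MonoidHom.ofInjective hinj₁).symm, (MonoidHom.ofInjective hinj₂).symm,
    hcomm, ?_, hzQ₁, ?_⟩
  · -- the order
    have hprod := Cfsg.Agent.Lib.Helper6.S1233A.card_sup_mul_card_inf φ₁.range φ₂.range hcomm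
    have hc₁ : Nat.card φ₁.range = 8 :=
      Cfsg.Agent.Lib.Helper6.S1233A.card_q8 (MonoidHom.ofInjective hinj₁).symm
    have hc₂ : Nat.card φ₂.range = 8 :=
      Cfsg.Agent.Lib.Helper6.S1233A.card_q8 (MonoidHom.ofInjective hinj₂).symm
    have hinf : (φ₁.range ⊓ φ₂.range : Subgroup S) = Subgroup.zpowers z := by
      apply le_antisymm
      · rintro y ⟨⟨v, rfl⟩, hy2⟩
        have hcen : ∀ v' : QuaternionGroup 2, v * v' = v' * v := by
          intro v'
          apply hinj₁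
          rw [map_mul, map_mul]
          exact (hcomm (φ₁ v') ⟨v', rfl⟩ (φ₁ v) hy2).symm
        rcases q8_center v hcen with h | h
        · rw [h, map_one]; exact one_mem _
        · rw [h, hz₁]; exact Subgroup.mem_zpowers z
      · rw [Subgroup.zpowers_le]
        exact ⟨hzQ₁, hzQ₂⟩
    have hoz : orderOf z = 2 := orderOf_eq_prime (by rw [pow_two, R.zz]) R.z1
    rw [hinf, Nat.card_zpowers, hoz, hc₁, hc₂] at hprod
    omega
  · intro y hy
    have h1 := hy _ (Subgroup.mem_sup_left hmem₁)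
    have h2 := hy _ (Subgroup.mem_sup_left hmem₂)
    have h3 := hy _ (Subgroup.mem_sup_right hmem₃)
    have h4 := hy _ (Subgroup.mem_sup_right hmem₄)
    have c1 : Commute y (gA1 x s) := h1
    have c2 : Commute y (gX1 u x t) := h2
    have c3 : Commute y (gA2 u t) := h3
    have c4 : Commute y (gX2 u x s) := h4
    have cx : Commute y x := by
      have := c2.mul_right c3.inv_right
      rwa [R.rx] at this
    have cu : Commute y u := by
      have := c4.mul_right c1.inv_right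
      rwa [R.ru] at this
    have cs : Commute y s := by
      have := cx.mul_right c1
      rwa [R.rs] at this
    have ct : Commute y t := by
      have := cu.mul_right c3
      rwa [R.rt] at this
    exact ⟨cu, cx, cs, ct⟩

end pair

/-- **U-PAIR**, in the announced form -/
theorem q8_pair {S : Type*} [Group S] [Finite S] (z u x s t : S) (hz1 : z ≠ 1) (hz2 : z * z = 1)
    (hzc : ∀ g : S, g * z = z * g)
    (hu : u * u = 1) (hx : x * x = 1) (hs : s * s = 1) (ht : t * t = 1) (hux : u * x = x * u)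
    (hus : u * s = s * u) (hxs : s * x * s = x * z) (hut : t * u * t = u * z)
    (htx : t * x = x * t) (hts : t * s = s * t) :
    ∃ (Q₁ Q₂ : Subgroup S) (e₁ : Q₁ ≃* QuaternionGroup 2) (e₂ : Q₂ ≃* QuaternionGroup 2),
      (∀ a ∈ Q₁, ∀ b ∈ Q₂, a * b = b * a) ∧ Nat.card (Q₁ ⊔ Q₂ : Subgroup S) = 32 ∧ z ∈ Q₁ ∧
      (∀ y : S, (∀ q ∈ Q₁ ⊔ Q₂, y * q = q * y) →
        y * u = u * y ∧ y * x = x * y ∧ y * s = s * y ∧ y * t = t * y) :=
  q8_pair_of_rel (Rel.mk' hz1 hz2 hzc hu hx hs ht hux hus hxs hut htx hts)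

end Cfsg.Agent.Lib.Helper6.S1234
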