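import Mathlib
import Cfsg.Prelude.Def_CaseTheorems
import Cfsg.Agent.Lib.Helper6.S1234M
import Cfsg.Agent.Lib.Helper6.S1234P

set_option autoImplicit false
set_option linter.unusedVariables false
set_option linter.unusedSectionVars false
set_option linter.style.longLine false
set_option linter.unusedSimpArgs false
set_option maxHeartbeats 1000000

/-!
# S1234, unit U4: the main case (`U` not normal in `S`) reduces to S1233
-/

namespace Cfsg.Agent.Lib.Helper6.S1234

variable {S : Type*} [Group S] {Q E U : Subgroup S} {s z u : S}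

section main

variable (h : Cfg Q E U s) (hU : UD U z u)
include h hU

/-- `N_S(U)` normalizes `Q = C_S(U)` -/
theorem norm_conj_Q {n q : S} (hn : n ∈ Subgroup.normalizer (U : Set S)) (hq : q ∈ Q) :
    n * q * n⁻¹ ∈ Q := by
  apply h.cent
  intro y hy
  have hn' := (Subgroup.normalizer (U : Set S)).inv_mem hn
  have hy' : n⁻¹ * y * n ∈ U := by
    have := (Subgroup.mem_normalizer_iff.mp hn' y).mp hy
    rwa [inv_inv] at this
  have hc := h.Q_comm_U hq hy'
  calc (n * q * n⁻¹) * y = n * (q * (n⁻¹ * y * n)) * n⁻¹ := by group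
    _ = n * ((n⁻¹ * y * n) * q) * n⁻¹ := by rw [hc]
    _ = y * (n * q * n⁻¹) := by group

/-- an involution swapping `u` and `uz` commutes with neither -/
theorem not_comm_of_swap {t : S} (ht : t * t = 1) (hut : t * u * t = u * z) :
    ¬ (u * t = t * u) ∧ ¬ ((u * z) * t = t * (u * z)) := by
  have key : ¬ (t * u = u * t) := by
    intro hc
    apply hU.z1
    have : u * 1 = u * z := by
      calc u * 1 = u * (t * t) := by rw [ht]
        _ = (u * t) * t := by group
        _ = (t * u) * t := by rw [hc]
        _ = u * z := hut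
    exact (mul_left_cancel this).symm
  constructor
  · intro hc; exact key hc.symm
  · intro hc
    apply key
    have : (t * u) * z = (u * t) * z := by
      calc (t * u) * z = t * (u * z) := by group
        _ = (u * z) * t := hc.symm
        _ = u * (z * t) := by group
        _ = u * (t * z) := by rw [hU.zc t]
        _ = (u * t) * z := by group
    exact mul_right_cancel this

/-- the elements `x, t` with all the relations -/
theorem exists_rel [Finite S] (hS : IsPGroup 2 S)
    (hnn : Subgroup.normalizer (U : Set S) ≠ ⊤) :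
    ∃ x t : S, x ∈ E ∧ x ∉ U ∧ Rel z u x s t := by
  have hzz := hU.zz h
  have huu := hU.uu h
  have hnil : Group.IsNilpotent S := hS.isNilpotent
  have hlt : Subgroup.normalizer (U : Set S) < ⊤ := lt_top_iff_ne_top.mpr hnn
  have hnc := Group.normalizerCondition_of_isNilpotent (G := S) _ hlt
  obtain ⟨g, hgN, hg⟩ := SetLike.exists_of_lt hnc
  have hgN' := (Subgroup.normalizer ((Subgroup.normalizer (U : Set S) : Subgroup S) : Set S)).inv_mem hgN
  have hg' : g⁻¹ ∉ Subgroup.normalizer (U : Set S) := by
    intro hh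
    apply hg
    have := (Subgroup.normalizer (U : Set S)).inv_mem hh
    rwa [inv_inv] at this
  obtain ⟨hxE, hxU, hsx, hb⟩ := lemma_L h hU hgN hg
  obtain ⟨hx'E, hx'U, -, -⟩ := lemma_L h hU hgN' hg'
  rw [inv_inv] at hx'E hx'U
  have hsN := Q_le_norm h hU h.sQ
  -- x and t
  obtain ⟨x, hxdef⟩ : ∃ x : S, x = g * u * g⁻¹ := ⟨_, rfl⟩
  obtain ⟨t, htdef⟩ : ∃ t : S, t = g * s * g⁻¹ := ⟨_, rfl⟩
  rw [← hxdef] at hxE hxU hsx hb
  have hxx : x * x = 1 := h.sq x hxE
  have htt : t * t = 1 := by
    rw [htdef]
    calc g * s * g⁻¹ * (g * s * g⁻¹) = g * (s * s) * g⁻¹ := by group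
      _ = 1 := by rw [h.ss]; group
  have htinv : t⁻¹ = t := inv_eq_of_mul_eq_one_right htt
  have htx : t * x = x * t := by
    rw [htdef, hxdef]
    calc g * s * g⁻¹ * (g * u * g⁻¹) = g * (s * u) * g⁻¹ := by group
      _ = g * (u * s) * g⁻¹ := by rw [h.s_comm_U hU.uU]
      _ = g * u * g⁻¹ * (g * s * g⁻¹) := by group
  have htN : t ∈ Subgroup.normalizer (U : Set S) := by
    rw [htdef]
    exact (Subgroup.mem_normalizer_iff.mp hgN s).mp hsN
  have htu_ne : t * u ≠ u * t := by
    intro hc
    apply hx'U
    rw [h.memU]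
    refine ⟨hx'E, ?_⟩
    rw [htdef] at hc
    calc s * (g⁻¹ * u * g) = g⁻¹ * (g * s * g⁻¹ * u) * g := by group
      _ = g⁻¹ * (u * (g * s * g⁻¹)) * g := by rw [hc]
      _ = g⁻¹ * u * g * s := by group
  have htut : t * u * t = u * z := by
    rcases norm_cases h hU htN with h2 | h2
    · exfalso
      apply htu_ne
      rw [htinv] at h2
      calc t * u = (t * u * t) * t := by rw [mul_assoc _ t t, htt, mul_one]
        _ = u * t := by rw [h2]
    · rw [htinv] at h2; exact h2
  -- w
  have hQ1 : t * s * t ∈ Q := by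
    have := norm_conj_Q h hU htN h.sQ
    rwa [htinv] at this
  have hQ2 : t * s * t ∉ E := by
    intro hE'
    apply hxU
    rw [h.memU]
    refine ⟨hxE, ?_⟩
    have hcomm := h.comm _ hE' x hxE
    have h3 : t * (s * x) * t = t * (x * s) * t := by
      calc t * (s * x) * t = t * s * (x * t) := by group
        _ = t * s * (t * x) := by rw [htx]
        _ = (t * s * t) * x := by group
        _ = x * (t * s * t) := hcomm
        _ = (x * t) * s * t := by group
        _ = (t * x) * s * t := by rw [htx]
        _ = t * (x * s) * t := by group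
    exact mul_left_cancel (mul_right_cancel h3)
  obtain ⟨w, hwE, hw⟩ : ∃ w ∈ E, t * s * t = s * w := by
    rcases h.split _ hQ1 with h2 | ⟨e, he, h2⟩
    · exact absurd h2 hQ2
    · exact ⟨e, he, h2⟩
  have hwinv : w⁻¹ = w := h.einv hwE
  have hw1 : w = s * t * s * t := by
    calc w = (s * s) * w := by rw [h.ss, one_mul]
      _ = s * (s * w) := by group
      _ = s * (t * s * t) := by rw [hw]
      _ = s * t * s * t := by group
  have hw2 : w⁻¹ = t * s * t * s := by
    rw [hw1]
    calc (s * t * s * t)⁻¹ = t⁻¹ * s⁻¹ * t⁻¹ * s⁻¹ := by group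
      _ = t * s * t * s := by rw [htinv, h.sinv]
  have hws : s * w = w * s := by
    calc s * w = s * (s * t * s * t) := by rw [← hw1]
      _ = (s * s) * t * s * t := by group
      _ = t * s * t := by rw [h.ss, one_mul]
      _ = (t * s * t * s) * s := by rw [mul_assoc _ s s, h.ss, mul_one]
      _ = w⁻¹ * s := by rw [hw2]
      _ = w * s := by rw [hwinv]
  have hwt : t * w = w * t := by
    calc t * w = t * (s * t * s * t) := by rw [← hw1]
      _ = (t * s * t * s) * t := by group
      _ = w⁻¹ * t := by rw [hw2]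
      _ = w * t := by rw [hwinv]
  have hwU : w ∈ U := (h.memU w).mpr ⟨hwE, hws⟩
  obtain ⟨hn1, hn2⟩ := not_comm_of_swap h hU htt htut
  have hw1z : w = 1 ∨ w = z := by
    rcases hU.all w hwU with h2 | h2 | h2 | h2
    · exact Or.inl h2
    · exact Or.inr h2
    · exfalso; rw [h2] at hwt; exact hn1 hwt.symm
    · exfalso; rw [h2] at hwt; exact hn2 hwt.symm
  have hux : u * x = x * u := h.comm u (h.U_le_E hU.uU) x hxE
  have hus : u * s = s * u := (h.s_comm_U hU.uU).symm
  rcases hw1z with hw0 | hw0
  · -- `t` commutes with `s`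
    refine ⟨x, t, hxE, hxU, Rel.mk' hU.z1 hzz hU.zc huu hxx h.ss htt hux hus hsx htut htx ?_⟩
    rw [hw0, mul_one] at hw
    calc t * s = (t * s * t) * t := by rw [mul_assoc _ t t, htt, mul_one]
      _ = s * t := by rw [hw]
  · -- replace `t` by `t x`
    rw [hw0] at hw
    have hts : t * s = s * z * t := by
      calc t * s = (t * s * t) * t := by rw [mul_assoc _ t t, htt, mul_one]
        _ = s * z * t := by rw [hw]
    have hxs : x * s = s * x * z := by
      calc x * s = (s * s) * x * s := by rw [h.ss, one_mul]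
        _ = s * (s * x * s) := by group
        _ = s * (x * z) := by rw [hsx]
        _ = s * x * z := by group
    refine ⟨x, t * x, hxE, hxU, Rel.mk' hU.z1 hzz hU.zc huu hxx h.ss ?_ hux hus hsx ?_ ?_ ?_⟩
    · calc t * x * (t * x) = t * (x * t) * x := by group
        _ = t * (t * x) * x := by rw [htx]
        _ = (t * t) * (x * x) := by group
        _ = 1 := by rw [htt, hxx, one_mul]
    · calc t * x * u * (t * x) = t * (x * u) * (t * x) := by group
        _ = t * (u * x) * (t * x) := by rw [hux]
        _ = t * u * (x * t) * x := by group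
        _ = t * u * (t * x) * x := by rw [htx]
        _ = (t * u * t) * (x * x) := by group
        _ = u * z := by rw [hxx, mul_one, htut]
    · calc t * x * x = (x * t) * x := by rw [htx]
        _ = x * (t * x) := by group
    · calc t * x * s = t * (x * s) := by group
        _ = t * (s * x * z) := by rw [hxs]
        _ = (t * s) * x * z := by group
        _ = (s * z * t) * x * z := by rw [hts]
        _ = s * (z * t) * x * z := by group
        _ = s * (t * z) * x * z := by rw [hU.zc t]
        _ = s * t * (z * x) * z := by group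
        _ = s * t * (x * z) * z := by rw [hU.zc x]
        _ = s * t * x * (z * z) := by group
        _ = s * (t * x) := by rw [hzz, mul_one]; group

/-- **main case** of S1234, given the statement of S1233 for `S` -/
theorem main_case [Finite S] (hS : IsPGroup 2 S)
    (hnn : Subgroup.normalizer (U : Set S) ≠ ⊤)
    (h1233 : ∀ (P Q₁ Q₂ : Subgroup S) (e₁ : Q₁ ≃* QuaternionGroup 2) (e₂ : Q₂ ≃* QuaternionGroup 2),
      (∀ a ∈ Q₁, ∀ b ∈ Q₂, a * b = b * a) → Q₁ ⊔ Q₂ = P → Nat.card P = 32 →
      Subgroup.centralizer (P : Set S) ≤ P → Cfsg.SectionalPRankLE 2 4 S) :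
    Cfsg.SectionalPRankLE 2 4 S := by
  obtain ⟨x, t, hxE, hxU, R⟩ := exists_rel h hU hS hnn
  obtain ⟨Q₁, Q₂, e₁, e₂, hcomm, hcard, hzQ, hcent⟩ := q8_pair_of_rel R
  refine h1233 (Q₁ ⊔ Q₂) Q₁ Q₂ e₁ e₂ hcomm rfl hcard ?_
  intro y hy
  rw [Subgroup.mem_centralizer_iff] at hy
  obtain ⟨cu, cx, cs, ct⟩ := hcent y (fun q hq => (hy q hq).symm)
  have hyQ : y ∈ Q := hU.cent_u h cu
  have hyE : y ∈ E := h.cent_x hxE hxU hyQ cx
  have hyU : y ∈ U := (h.memU y).mpr ⟨hyE, cs.symm⟩
  have hut : t * u * t = u * z := by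
    have := R.tu
    calc t * u * t = (z * (u * t)) * t := by rw [R.tu]
      _ = z * u * (t * t) := by group
      _ = z * u := by rw [R.tt, mul_one]
      _ = u * z := (hU.zc u).symm
  obtain ⟨hn1, hn2⟩ := not_comm_of_swap h hU R.tt hut
  rcases hU.all y hyU with rfl | rfl | rfl | rfl
  · exact Subgroup.one_mem _
  · exact Subgroup.mem_sup_left hzQ
  · exact absurd ct hn1
  · exact absurd ct hn2

end main

end Cfsg.Agent.Lib.Helper6.S1234
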