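import Mathlib
import Cfsg.Prelude.Def_CaseTheorems
import Cfsg.Agent.Lib.Helper6.S1234M
import Cfsg.Agent.Lib.Helper5.HDU1

set_option autoImplicit false
set_option linter.unusedVariables false
set_option linter.unusedSectionVars false
set_option linter.style.longLine false
set_option linter.unusedSimpArgs false
set_option maxHeartbeats 1000000

/-!
# S1234, unit U-SMALL: the case `U` normal in `S` (`|S| ≤ 64`)
-/

namespace Cfsg.Agent.Lib.Helper6.S1234

variable {S : Type*} [Group S] {Q E U : Subgroup S} {s z u : S}

/-- a subgroup `Y` of relative index at most 2 in `X` meets every `H ≤ X` in a subgroup of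
index at most 2 -/
theorem card_le_two_mul [Finite S] {Y H X : Subgroup S} (hHX : H ≤ X) (h2 : Y.relIndex X ≤ 2) :
    Nat.card H ≤ 2 * Nat.card (Y ⊓ H : Subgroup S) := by
  have hne : Y.relIndex X ≠ 0 := Subgroup.index_ne_zero_of_finite
  have h1 : Y.relIndex H ≤ Y.relIndex X := Subgroup.relIndex_le_of_le_right hHX hne
  have h3 := (Y.subgroupOf H).card_mul_index
  have h4 : Nat.card (Y.subgroupOf H) = Nat.card (Y ⊓ H : Subgroup S) := by
    rw [← Subgroup.inf_subgroupOf_right Y H]
    exact Nat.card_congr (Subgroup.subgroupOfEquivOfLe inf_le_right).toEquiv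
  have h5 : (Y.subgroupOf H).index = Y.relIndex H := rfl
  rw [h4, h5] at h3
  calc Nat.card H = Nat.card (Y ⊓ H : Subgroup S) * Y.relIndex H := h3.symm
    _ ≤ Nat.card (Y ⊓ H : Subgroup S) * 2 := Nat.mul_le_mul_left _ (h1.trans h2)
    _ = 2 * Nat.card (Y ⊓ H : Subgroup S) := Nat.mul_comm _ _

section small

variable (h : Cfg Q E U s) (hU : UD U z u)
include h hU

theorem small_index [Finite S] (hn : Subgroup.normalizer (U : Set S) = ⊤) : Q.index ≤ 2 := by
  have hallN : ∀ g : S, g ∈ Subgroup.normalizer (U : Set S) := by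
    intro g; rw [hn]; exact Subgroup.mem_top g
  have hzz := hU.zz h
  have hswap : ∀ a : S, a ∉ Q → a * u = u * z * a := by
    intro a ha
    rcases norm_cases h hU (hallN a) with h2 | h2
    · exfalso
      apply ha
      apply hU.cent_u h
      calc a * u = (a * u * a⁻¹) * a := by group
        _ = u * a := by rw [h2]
    · calc a * u = (a * u * a⁻¹) * a := by group
        _ = u * z * a := by rw [h2]
  have hS1 : ∀ a b : S, a ∉ Q → b ∉ Q → a⁻¹ * b ∈ Q := by
    intro a b ha hb
    apply hU.cent_u h
    have h1 := hswap a ha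
    have h2 := hswap b hb
    have h3 : a⁻¹ * (u * z) = u * a⁻¹ := by
      calc a⁻¹ * (u * z) = a⁻¹ * (u * z * a) * a⁻¹ := by group
        _ = a⁻¹ * (a * u) * a⁻¹ := by rw [h1]
        _ = u * a⁻¹ := by group
    calc a⁻¹ * b * u = a⁻¹ * (b * u) := by group
      _ = a⁻¹ * (u * z * b) := by rw [h2]
      _ = (a⁻¹ * (u * z)) * b := by group
      _ = (u * a⁻¹) * b := by rw [h3]
      _ = u * (a⁻¹ * b) := by group
  by_cases hall : ∀ a : S, a ∈ Q
  · have : Q = ⊤ := by ext a; simp [hall a]
    rw [this, Subgroup.index_top]; norm_num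
  · push Not at hall
    obtain ⟨a, ha⟩ := hall
    let f : Bool → S ⧸ Q := fun b => if b then ((1 : S) : S ⧸ Q) else ((a : S) : S ⧸ Q)
    have hf : Function.Surjective f := by
      intro c
      obtain ⟨b, rfl⟩ := QuotientGroup.mk_surjective c
      by_cases hb : b ∈ Q
      · refine ⟨true, ?_⟩
        show ((1 : S) : S ⧸ Q) = (b : S ⧸ Q)
        rw [QuotientGroup.eq]
        simpa using hb
      · refine ⟨false, ?_⟩
        show ((a : S) : S ⧸ Q) = (b : S ⧸ Q)
        rw [QuotientGroup.eq]
        exact hS1 a b ha hb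
    have := Nat.card_le_card_of_surjective f hf
    have hb : Nat.card Bool = 2 := by simp
    rw [hb] at this
    exact this

/-- **U-SMALL** in `SecB` form -/
theorem small_bound [Finite S] (hS : IsPGroup 2 S) (hn : Subgroup.normalizer (U : Set S) = ⊤)
    (H N : Subgroup S) (hNH : N ≤ H) (hnorm : ∀ r ∈ H, ∀ m ∈ N, r * m * r⁻¹ ∈ N)
    (hsq : ∀ r ∈ H, r * r ∈ N) : Nat.card H ≤ 16 * Nat.card N := by
  have hidx := small_index h hU hn
  have hcS : Nat.card S ≤ 64 := by
    have := Q.card_mul_index
    rw [h.cardQ] at this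
    have h0 : Q.index ≠ 0 := Subgroup.index_ne_zero_of_finite
    nlinarith
  have hNpos : 0 < Nat.card N := Nat.card_pos
  by_cases hQH : Q ≤ H
  · -- all of `U` lies in `N`
    have hUN : U ≤ N := by
      intro y hy
      obtain ⟨q, hq, rfl⟩ := h.sq_U hy
      exact hsq q (hQH hq)
    have h4 := Subgroup.card_le_of_le hUN
    rw [h.cardU] at h4
    have := Subgroup.card_le_card_group H
    omega
  · -- `K = Q ⊓ H` is a proper subgroup of `Q`
    have hK2 : Nat.card H ≤ 2 * Nat.card (Q ⊓ H : Subgroup S) := by
      apply card_le_two_mul (X := ⊤) le_top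
      rw [Subgroup.relIndex_top_right]
      exact hidx
    have hKQ : (Q ⊓ H : Subgroup S) ≤ Q := inf_le_left
    have hKdvd : Nat.card (Q ⊓ H : Subgroup S) ∣ 32 := by
      rw [← h.cardQ]
      exact Subgroup.card_dvd_of_le hKQ
    have hKne : Nat.card (Q ⊓ H : Subgroup S) ≠ 32 := by
      intro hc
      apply hQH
      have : (Q ⊓ H : Subgroup S) = Q := Subgroup.eq_of_le_of_card_ge hKQ (by rw [hc, h.cardQ])
      rw [← this]
      exact inf_le_right
    have hK16 : Nat.card (Q ⊓ H : Subgroup S) ≤ 16 := by
      have hle : Nat.card (Q ⊓ H : Subgroup S) ≤ 32 := Nat.le_of_dvd (by norm_num) hKdvd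
      have : Nat.card (Q ⊓ H : Subgroup S) ∈ Nat.divisors 32 := by
        rw [Nat.mem_divisors]; exact ⟨hKdvd, by norm_num⟩
      have hdiv : Nat.divisors 32 = {1, 2, 4, 8, 16, 32} := by decide
      rw [hdiv] at this
      simp only [Finset.mem_insert, Finset.mem_singleton] at this
      omega
    by_cases hN1 : 2 ≤ Nat.card N
    · nlinarith
    · -- `N = ⊥`, `H` has exponent 2
      have hN1' : Nat.card N = 1 := by omega
      have hNbot : N = ⊥ := Subgroup.card_eq_one.mp hN1'
      rw [hN1']
      by_contra hcon
      push Not at hcon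
      have hexp : ∀ r ∈ H, r * r = 1 := by
        intro r hr
        have := hsq r hr
        rw [hNbot, Subgroup.mem_bot] at this
        exact this
      have hab : ∀ a ∈ H, ∀ b ∈ H, a * b = b * a := by
        intro a ha b hb
        have h1 := hexp a ha
        have h2 := hexp b hb
        have h3 := hexp (a * b) (H.mul_mem ha hb)
        have ha' : a⁻¹ = a := inv_eq_of_mul_eq_one_right h1
        have hb' : b⁻¹ = b := inv_eq_of_mul_eq_one_right h2
        have h4 : (a * b)⁻¹ = a * b := inv_eq_of_mul_eq_one_right h3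
        calc a * b = (a * b)⁻¹ := h4.symm
          _ = b⁻¹ * a⁻¹ := mul_inv_rev a b
          _ = b * a := by rw [ha', hb']
      -- `K` has more than 8 elements
      have hK8 : 8 < Nat.card (Q ⊓ H : Subgroup S) := by omega
      have hKc : Nat.card (Q ⊓ H : Subgroup S) = 16 := by
        have : Nat.card (Q ⊓ H : Subgroup S) ∈ Nat.divisors 32 := by
          rw [Nat.mem_divisors]; exact ⟨hKdvd, by norm_num⟩
        have hdiv : Nat.divisors 32 = {1, 2, 4, 8, 16, 32} := by decide
        rw [hdiv] at this
        simp only [Finset.mem_insert, Finset.mem_singleton] at this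
        omega
      -- `K ≤ E`
      have hErel : E.relIndex Q ≤ 2 := by
        have h1 := (E.subgroupOf Q).card_mul_index
        rw [Nat.card_congr (Subgroup.subgroupOfEquivOfLe h.hEQ).toEquiv, h.cardE, h.cardQ] at h1
        have : (E.subgroupOf Q).index = E.relIndex Q := rfl
        rw [this] at h1
        omega
      have hKE : (Q ⊓ H : Subgroup S) ≤ E := by
        by_contra hne
        obtain ⟨k, hk, hkE⟩ := SetLike.not_le_iff_exists.mp hne
        obtain ⟨e0, he0, hke⟩ : ∃ e0 ∈ E, k = s * e0 := by
          rcases h.split k hk.1 with h2 | h2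
          · exact absurd h2 hkE
          · exact h2
        have hEKU : (E ⊓ (Q ⊓ H) : Subgroup S) ≤ U := by
          intro k' hk'
          rw [h.memU]
          refine ⟨hk'.1, ?_⟩
          have hc := hab k hk.2 k' hk'.2.2
          rw [hke] at hc
          have h2 : s * k' * e0 = k' * s * e0 := by
            calc s * k' * e0 = s * (k' * e0) := by group
              _ = s * (e0 * k') := by rw [h.comm k' hk'.1 e0 he0]
              _ = s * e0 * k' := by group
              _ = k' * (s * e0) := hc
              _ = k' * s * e0 := by group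
          exact mul_right_cancel h2
        have h5 := card_le_two_mul (Y := E) (H := (Q ⊓ H : Subgroup S)) (X := Q) inf_le_left hErel
        have h6 := Subgroup.card_le_of_le hEKU
        rw [h.cardU] at h6
        omega
      have hKeqE : (Q ⊓ H : Subgroup S) = E :=
        Subgroup.eq_of_le_of_card_ge hKE (by rw [hKc, h.cardE])
      -- `H ≤ Q`
      have hHQ : H ≤ Q := by
        intro r hr
        apply h.cent
        intro y hy
        have hyH : y ∈ H := by
          have : y ∈ (Q ⊓ H : Subgroup S) := by rw [hKeqE]; exact h.U_le_E hy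
          exact this.2
        exact hab r hr y hyH
      have : (Q ⊓ H : Subgroup S) = H := inf_eq_right.mpr hHQ
      rw [this] at hKc
      omega

end small

end Cfsg.Agent.Lib.Helper6.S1234
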