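import Mathlib
import Cfsg.Prelude.Def_CaseTheorems
import Cfsg.Agent.Lib.Helper6.S1234N
import Cfsg.Agent.Lib.Helper6.S1234S

set_option autoImplicit false
set_option linter.unusedVariables false
set_option linter.unusedSectionVars false
set_option linter.style.longLine false
set_option linter.unusedSimpArgs false
set_option maxHeartbeats 1000000

/-!
# S1234 from the statement of S1233
-/

namespace Cfsg.Agent.Lib.Helper6.S1234

/-- S1234, given the statement of S1233 for the same group `S` -/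
theorem s1234_of {S : Type*} [Group S] [Finite S] (hS : IsPGroup 2 S)
    (h1233 : ∀ (P Q₁ Q₂ : Subgroup S) (e₁ : Q₁ ≃* QuaternionGroup 2) (e₂ : Q₂ ≃* QuaternionGroup 2),
      (∀ a ∈ Q₁, ∀ b ∈ Q₂, a * b = b * a) → Q₁ ⊔ Q₂ = P → Nat.card P = 32 →
      Subgroup.centralizer (P : Set S) ≤ P → Cfsg.SectionalPRankLE 2 4 S)
    (Q E : Subgroup S) (hEQ : E ≤ Q)
    (hE : Cfsg.IsElementaryAbelian 2 E) (hE16 : Nat.card E = 16) (hQ32 : Nat.card Q = 32) (s : S)
    (hsQ : s ∈ Q) (hsE : s ∉ E) (hs : orderOf s = 2)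
    (hfix : Nat.card ↥(E ⊓ Subgroup.centralizer ({s} : Set S)) = 4)
    (hC : Subgroup.centralizer (((Subgroup.center Q).map Q.subtype : Subgroup S) : Set S) = Q) :
    Cfsg.SectionalPRankLE 2 4 S := by
  have h := cfg_of_hyps Q E hEQ hE hE16 hQ32 s hsQ hsE hs hfix hC
  obtain ⟨z, u, hU⟩ := exists_UD hS h
  by_cases hn : Subgroup.normalizer (((Subgroup.center Q).map Q.subtype : Subgroup S) : Set S) = ⊤
  · have : Fact (Nat.Prime 2) := ⟨Nat.prime_two⟩
    let P : Sylow 2 S :=
      { toSubgroup := ⊤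
        isPGroup' := hS.to_subgroup ⊤
        is_maximal' := fun _ hh => top_le_iff.mp hh }
    refine Cfsg.Agent.Lib.Helper5.HDU1.sectionalPRankLE_of_sylow 4 P ?_
    intro R M _ hMR hnorm hsq
    have := small_bound h hU hS hn R M hMR hnorm hsq
    norm_num at this ⊢
    exact this
  · exact main_case h hU hS hn h1233

end Cfsg.Agent.Lib.Helper6.S1234
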