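import Mathlib

set_option autoImplicit false
set_option linter.unusedSectionVars false

namespace Cfsg.Agent.Lib.Helper6.SL2Blk

open Matrix
open scoped Pointwise

section

variable {F : Type*} [Field F]

/-- the upper unitriangular matrix with entry `c` -/
def tv (c : F) : Matrix.SpecialLinearGroup (Fin 2) F :=
  ⟨!![1, c; 0, 1], by simp [Matrix.det_fin_two]⟩

theorem tv_coe (c : F) : ((tv c : Matrix.SpecialLinearGroup (Fin 2) F) : Matrix (Fin 2) (Fin 2) F)
    = !![1, c; 0, 1] := rfl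

theorem tv_zero : tv (0 : F) = 1 := by
  apply Subtype.ext
  rw [tv_coe, Matrix.SpecialLinearGroup.coe_one]
  ext i j
  fin_cases i <;> fin_cases j <;> simp

theorem tv_mul (c d : F) : tv c * tv d = tv (c + d) := by
  apply Subtype.ext
  rw [Matrix.SpecialLinearGroup.coe_mul, tv_coe, tv_coe, tv_coe]
  ext i j
  fin_cases i <;> fin_cases j <;> simp [Matrix.mul_apply, Fin.sum_univ_two, add_comm]

theorem tv_pow (c : F) (n : ℕ) : tv c ^ n = tv (n • c) := by
  induction n with
  | zero => simp [tv_zero]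
  | succ n ih => rw [pow_succ, ih, tv_mul, succ_nsmul]

theorem tv_pow_char (p : ℕ) [CharP F p] (c : F) : tv c ^ p = 1 := by
  rw [tv_pow, nsmul_eq_mul, CharP.cast_eq_zero, zero_mul, tv_zero]

/-- a matrix of determinant one commuting with the standard transvection is `± tv c` -/
theorem eq_of_commute_tv (g : Matrix.SpecialLinearGroup (Fin 2) F) (h : Commute (tv (1 : F)) g) :
    ∃ c : F, g = tv c ∨ g = tv c * (-1) := by
  have h1 : ((tv (1 : F) * g : Matrix.SpecialLinearGroup (Fin 2) F) : Matrix (Fin 2) (Fin 2) F)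
      = ((g * tv (1 : F) : Matrix.SpecialLinearGroup (Fin 2) F) : Matrix (Fin 2) (Fin 2) F) := by
    rw [h.eq]
  rw [Matrix.SpecialLinearGroup.coe_mul, Matrix.SpecialLinearGroup.coe_mul, tv_coe] at h1
  have e00 := congrFun (congrFun h1 0) 0
  have e01 := congrFun (congrFun h1 0) 1
  simp [Matrix.mul_apply, Fin.sum_univ_two] at e00 e01
  -- e00 : g 0 0 + g 1 0 = g 0 0, e01 : g 0 1 + g 1 1 = g 0 0 + g 0 1
  have hc : (g : Matrix (Fin 2) (Fin 2) F) 1 0 = 0 := by
    linear_combination e00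
  have hd : (g : Matrix (Fin 2) (Fin 2) F) 1 1 = (g : Matrix (Fin 2) (Fin 2) F) 0 0 := by
    linear_combination e01
  have hdet := g.2
  rw [Matrix.det_fin_two, hc, hd] at hdet
  have hsq : ((g : Matrix (Fin 2) (Fin 2) F) 0 0 - 1) * ((g : Matrix (Fin 2) (Fin 2) F) 0 0 + 1) = 0 := by
    linear_combination hdet
  rcases mul_eq_zero.mp hsq with ha | ha
  · have ha' : (g : Matrix (Fin 2) (Fin 2) F) 0 0 = 1 := by linear_combination ha
    refine ⟨(g : Matrix (Fin 2) (Fin 2) F) 0 1, Or.inl ?_⟩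
    apply Subtype.ext
    rw [tv_coe]
    ext i j
    fin_cases i <;> fin_cases j <;> simp [ha', hc, hd]
  · have ha' : (g : Matrix (Fin 2) (Fin 2) F) 0 0 = -1 := by linear_combination ha
    refine ⟨-(g : Matrix (Fin 2) (Fin 2) F) 0 1, Or.inr ?_⟩
    apply Subtype.ext
    rw [Matrix.SpecialLinearGroup.coe_mul, tv_coe, Matrix.SpecialLinearGroup.coe_neg,
      Matrix.SpecialLinearGroup.coe_one]
    ext i j
    fin_cases i <;> fin_cases j <;> simp [ha', hc, hd, Matrix.mul_apply, Fin.sum_univ_two]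

theorem neg_one_commute (x : Matrix.SpecialLinearGroup (Fin 2) F) :
    Commute (-1 : Matrix.SpecialLinearGroup (Fin 2) F) x := by
  apply Subtype.ext
  rw [Matrix.SpecialLinearGroup.coe_mul, Matrix.SpecialLinearGroup.coe_mul,
    Matrix.SpecialLinearGroup.coe_neg, Matrix.SpecialLinearGroup.coe_one]
  simp

end

section

variable {F : Type*} [Field F] [Fintype F] [DecidableEq F]

/-- every element of `SL₂(F)`, `F` of characteristic `p`, has class size divisible by `p` or is
plus or minus a `p`-element -/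
theorem sl2_class_cases (p : ℕ) [Fact p.Prime] [CharP F p]
    (g : Matrix.SpecialLinearGroup (Fin 2) F) :
    p ∣ (Subgroup.centralizer ({g} : Set (Matrix.SpecialLinearGroup (Fin 2) F))).index ∨
    ∃ u z : Matrix.SpecialLinearGroup (Fin 2) F, g = u * z ∧ Commute u z ∧ u ^ p = 1 ∧
      (z = 1 ∨ z = -1) := by
  classical
  by_cases hdvd : p ∣ (Subgroup.centralizer ({g} : Set (Matrix.SpecialLinearGroup (Fin 2) F))).index
  · exact Or.inl hdvd
  right
  set C := Subgroup.centralizer ({g} : Set (Matrix.SpecialLinearGroup (Fin 2) F)) with hC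
  have hp : p.Prime := Fact.out
  obtain ⟨Q⟩ : Nonempty (Sylow p C) := inferInstance
  set Q' : Subgroup (Matrix.SpecialLinearGroup (Fin 2) F) := (Q : Subgroup C).map C.subtype with hQ'
  have hQ'p : IsPGroup p Q' := Q.2.map C.subtype
  have hidx : ¬ p ∣ Q'.index := by
    rw [hQ', Subgroup.index_map_subtype]
    intro h
    rcases (Nat.Prime.dvd_mul hp).mp h with h | h
    · exact Q.not_dvd_index h
    · exact hdvd h
  set S : Sylow p (Matrix.SpecialLinearGroup (Fin 2) F) := hQ'p.toSylow hidx with hS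
  have htp : IsPGroup p (Subgroup.zpowers (tv (1 : F))) := by
    apply IsPGroup.of_card (n := 1)
    rw [Nat.card_zpowers, pow_one]
    have h1 : orderOf (tv (1 : F)) ∣ p := orderOf_dvd_of_pow_eq_one (tv_pow_char p 1)
    rcases (Nat.dvd_prime hp).mp h1 with h | h
    · exfalso
      rw [orderOf_eq_one_iff] at h
      have := congrArg (fun x : Matrix.SpecialLinearGroup (Fin 2) F => (x : Matrix (Fin 2) (Fin 2) F) 0 1) h
      simp [tv_coe] at this
    · exact h
  obtain ⟨S', hS'⟩ := htp.exists_le_sylow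
  obtain ⟨x, hx⟩ := MulAction.exists_smul_eq (Matrix.SpecialLinearGroup (Fin 2) F) S S'
  have ht : tv (1 : F) ∈ (S' : Subgroup (Matrix.SpecialLinearGroup (Fin 2) F)) := hS' (Subgroup.mem_zpowers _)
  rw [← hx, Sylow.coe_subgroup_smul, Subgroup.mem_pointwise_smul_iff_inv_smul_mem] at ht
  have ht2 : x⁻¹ * tv (1 : F) * x⁻¹⁻¹ ∈ Q' := by
    have : (MulAut.conj x)⁻¹ • tv (1 : F) = x⁻¹ * tv (1 : F) * x⁻¹⁻¹ := by
      rw [← map_inv, MulAut.smul_def, MulAut.conj_apply]
    rw [← this]
    exact ht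
  rw [inv_inv] at ht2
  obtain ⟨c, _, hc⟩ := ht2
  have hcomm : Commute (x⁻¹ * tv (1 : F) * x) g := by
    rw [← hc]
    have := Subgroup.mem_centralizer_iff.mp c.2 g rfl
    exact this.symm
  have hcomm2 : Commute (tv (1 : F)) (x * g * x⁻¹) := by
    have h1 : x⁻¹ * tv (1 : F) * x * g = g * (x⁻¹ * tv (1 : F) * x) := hcomm.eq
    change tv (1 : F) * (x * g * x⁻¹) = x * g * x⁻¹ * tv (1 : F)
    have h2 : tv (1 : F) * (x * g * x⁻¹) = x * (x⁻¹ * tv (1 : F) * x * g) * x⁻¹ := by group
    rw [h2, h1]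
    group
  obtain ⟨c', hc'⟩ := eq_of_commute_tv _ hcomm2
  rcases hc' with hc' | hc'
  · refine ⟨x⁻¹ * tv c' * x, 1, ?_, Commute.one_right _, ?_, Or.inl rfl⟩
    · rw [mul_one, ← hc']; group
    · have : (x⁻¹ * tv c' * x) ^ p = x⁻¹ * (tv c') ^ p * x := by
        have := conj_pow (a := x⁻¹) (b := tv c') (i := p)
        rw [inv_inv] at this
        exact this
      rw [this, tv_pow_char, mul_one, inv_mul_cancel]
  · refine ⟨x⁻¹ * tv c' * x, -1, ?_, (neg_one_commute _).symm, ?_, Or.inr rfl⟩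
    · have h1 : g = x⁻¹ * (x * g * x⁻¹) * x := by group
      rw [h1, hc']
      have h2 := (neg_one_commute (F := F) x).eq
      calc x⁻¹ * (tv c' * -1) * x = x⁻¹ * tv c' * (-1 * x) := by group
        _ = x⁻¹ * tv c' * (x * -1) := by rw [h2]
        _ = x⁻¹ * tv c' * x * -1 := by group
    · have : (x⁻¹ * tv c' * x) ^ p = x⁻¹ * (tv c') ^ p * x := by
        have := conj_pow (a := x⁻¹) (b := tv c') (i := p)
        rw [inv_inv] at this
        exact this
      rw [this, tv_pow_char, mul_one, inv_mul_cancel]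

end

end Cfsg.Agent.Lib.Helper6.SL2Blk
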