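import Mathlib
import Cfsg.Prelude.Def_Blocks
import Cfsg.Agent.Lib.Helper6.SL2Blk1
import Cfsg.Agent.Lib.Helper6.SL2Blk2
import Cfsg.Agent.Lib.Helper6.BlkVanish
import Cfsg.Agent.Lib.Helper6.SecondOrth
import Cfsg.Agent.Lib.Helper4.SL2Deg
import Cfsg.Agent.S2321

set_option autoImplicit false
set_option linter.unusedSectionVars false
open Cfsg

namespace Cfsg.Agent.Lib.Helper6.SL2Blk

open scoped ComplexConjugate
open Cfsg.Agent.Lib.Helper6 Cfsg.Agent.Lib.Helper4 Matrix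

section

variable {F : Type*} [Field F] [Fintype F] [DecidableEq F]
variable {p : ℕ} {M : Ideal Cfsg.AlgInt}

local notation "SL2F" => Matrix.SpecialLinearGroup (Fin 2) F

theorem charDegree_eq_degN (ψ : Cfsg.IrrCharacter SL2F) :
    Cfsg.charDegree (ψ : SL2F → ℂ) = degN ψ := by
  have h1 := IsCharacter.apply_one_eq_charDegree (IsIrrCharacter.isCharacter ψ.2)
  have h2 := degN_spec ψ
  rw [h1] at h2
  exact_mod_cast h2

/-- the degree of an irreducible character of `SL₂(q)` is `q` or prime to `p` -/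
theorem degree_cases [Fintype (GL (Fin 2) F)] [Fact p.Prime] [CharP F p]
    (ψ : Cfsg.IrrCharacter SL2F) :
    (ψ : SL2F → ℂ) 1 = (Fintype.card F : ℂ) ∨ ¬ p ∣ Cfsg.charDegree (ψ : SL2F → ℂ) := by
  have hp : p.Prime := Fact.out
  obtain ⟨n, _, hq⟩ := FiniteField.card F p
  have hpq : p ∣ Fintype.card F := by
    rw [hq]; exact dvd_pow_self p n.ne_zero
  have hq1 : 1 ≤ Fintype.card F := Fintype.card_pos
  have hp1 : ¬ p ∣ 1 := hp.one_lt.ne' ∘ Nat.dvd_one.mp
  rw [charDegree_eq_degN]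
  rcases sl2_types_degN ψ with ⟨-, h⟩ | ⟨-, h⟩ | ⟨δ, -, -, h⟩ | ⟨χ, -, -, -, h⟩ |
    ⟨α₀, ψ', -, -, -, -, -, -, -, h⟩ | ⟨χ, α₀, ψ', -, -, -, -, -, -, -, -, -, -, h⟩
  · right; rw [h]; exact hp1
  · left; rw [degN_spec, h]
  · right; rw [h]
    intro hd
    exact hp1 ((Nat.dvd_add_right hpq).mp hd)
  · right; rw [h]
    intro hd
    have : p ∣ (Fintype.card F - 1) + 1 := by
      rw [Nat.sub_add_cancel hq1]; exact hpq
    exact hp1 ((Nat.dvd_add_right hd).mp this)
  · right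
    intro hd
    have h2 : p ∣ Fintype.card F + 1 := by
      rw [← h]; exact Dvd.dvd.mul_left hd 2
    exact hp1 ((Nat.dvd_add_right hpq).mp h2)
  · right
    intro hd
    have h2 : p ∣ Fintype.card F - 1 := by
      rw [← h]; exact Dvd.dvd.mul_left hd 2
    have : p ∣ (Fintype.card F - 1) + 1 := by
      rw [Nat.sub_add_cancel hq1]; exact hpq
    exact hp1 ((Nat.dvd_add_right h2).mp this)

theorem neg_one_sq : (-1 : SL2F) ^ 2 = 1 := by
  apply Subtype.ext
  rw [Matrix.SpecialLinearGroup.coe_pow, Matrix.SpecialLinearGroup.coe_neg,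
    Matrix.SpecialLinearGroup.coe_one]
  simp

theorem neg_one_central (h : SL2F) : (-1 : SL2F) * h = h * (-1) := (neg_one_commute h).eq

theorem neg_one_ne_one [Fact p.Prime] [CharP F p] (hp2 : p ≠ 2) : (-1 : SL2F) ≠ 1 := by
  intro h
  have := congrArg (fun x : SL2F => (x : Matrix (Fin 2) (Fin 2) F) 0 0) h
  simp only [Matrix.SpecialLinearGroup.coe_neg, Matrix.SpecialLinearGroup.coe_one] at this
  simp at this
  have h2 : (2 : F) = 0 := by linear_combination -this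
  have h3 : ((2 : ℕ) : F) = 0 := by exact_mod_cast h2
  rw [CharP.cast_eq_zero_iff F p] at h3
  have hp : p.Prime := Fact.out
  exact hp2 ((Nat.prime_dvd_prime_iff_eq hp Nat.prime_two).mp h3)

/-- the value at `-1` is plus or minus the degree -/
theorem sign_cases (ψ : Cfsg.IrrCharacter SL2F) :
    (ψ : SL2F → ℂ) (-1) = (ψ : SL2F → ℂ) 1 ∨ (ψ : SL2F → ℂ) (-1) = -(ψ : SL2F → ℂ) 1 := by
  have h1 := IsIrrCharacter.apply_central_pow ψ.2 (z := (-1 : SL2F)) neg_one_central 2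
  rw [neg_one_sq] at h1
  have h0 := IsIrrCharacter.apply_one_ne_zero ψ.2
  rw [div_self h0] at h1
  have h2 : ((ψ : SL2F → ℂ) (-1) - (ψ : SL2F → ℂ) 1) * ((ψ : SL2F → ℂ) (-1) + (ψ : SL2F → ℂ) 1) = 0 := by
    have h3 : ((ψ : SL2F → ℂ) (-1)) ^ 2 = ((ψ : SL2F → ℂ) 1) ^ 2 := by
      rw [div_pow] at h1
      field_simp at h1
      exact h1.symm
    linear_combination h3
  rcases mul_eq_zero.mp h2 with h | h
  · left; linear_combination h
  · right; linear_combination h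

theorem centralChar_neg_one (ψ : SL2F → ℂ) :
    Cfsg.centralChar ψ (-1) = ψ (-1) / ψ 1 := by
  unfold Cfsg.centralChar
  have : Subgroup.centralizer ({(-1 : SL2F)} : Set SL2F) = ⊤ := by
    rw [Subgroup.centralizer_eq_top_iff_subset]
    intro x hx
    rw [Set.mem_singleton_iff] at hx
    rw [hx]
    exact Subgroup.mem_center_iff.mpr (fun g => (neg_one_central g).symm)
  rw [this, Subgroup.index_top]
  simp

/-- characters in the same block have the same sign at `-1` -/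
theorem sign_of_sameBlock (hM : Cfsg.IsPModular p M) (hp2 : p ≠ 2)
    (χ ψ : Cfsg.IrrCharacter SL2F) (h : Cfsg.SameBlock M (χ : SL2F → ℂ) (ψ : SL2F → ℂ)) :
    (χ : SL2F → ℂ) (-1) * (ψ : SL2F → ℂ) 1 = (ψ : SL2F → ℂ) (-1) * (χ : SL2F → ℂ) 1 := by
  have h1 := h (-1)
  rw [centralChar_neg_one, centralChar_neg_one] at h1
  have hχ0 := IsIrrCharacter.apply_one_ne_zero χ.2
  have hψ0 := IsIrrCharacter.apply_one_ne_zero ψ.2
  have h2 : ¬ Cfsg.MemLocalIdeal M (2 : ℂ) := by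
    intro h2
    have h3 : Cfsg.MemLocalIdeal M ((2 : ℕ) : ℂ) := by exact_mod_cast h2
    rw [memLocalIdeal_natCast_iff hM] at h3
    exact hp2 ((Nat.prime_dvd_prime_iff_eq hM.1 Nat.prime_two).mp h3)
  rcases sign_cases χ with hc | hc <;> rcases sign_cases ψ with hd | hd
  · rw [hc, hd]; ring
  · exfalso
    rw [hc, hd, div_self hχ0, neg_div, div_self hψ0] at h1
    apply h2
    have : (1 : ℂ) - -1 = 2 := by norm_num
    rwa [this] at h1
  · exfalso
    rw [hc, hd, div_self hψ0, neg_div, div_self hχ0] at h1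
    apply h2
    have : (-1 : ℂ) - 1 = -2 := by norm_num
    rw [this] at h1
    have := MemLocalIdeal.neg h1
    rwa [neg_neg] at this
  · rw [hc, hd]; ring

/-- characters of `p'`-degree with the same sign at `-1` are in the same block -/
theorem sameBlock_of_sign [Fact p.Prime] [CharP F p] (hM : Cfsg.IsPModular p M)
    (χ ψ : Cfsg.IrrCharacter SL2F)
    (hdχ : ¬ p ∣ Cfsg.charDegree (χ : SL2F → ℂ)) (hdψ : ¬ p ∣ Cfsg.charDegree (ψ : SL2F → ℂ))
    (h : (χ : SL2F → ℂ) (-1) * (ψ : SL2F → ℂ) 1 = (ψ : SL2F → ℂ) (-1) * (χ : SL2F → ℂ) 1) :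
    Cfsg.SameBlock M (χ : SL2F → ℂ) (ψ : SL2F → ℂ) := by
  apply sameBlock_of_cases hM χ.2 ψ.2 hdχ hdψ
  intro g
  rcases sl2_class_cases p g with hg | ⟨u, z, hguz, hcomm, hu, hz⟩
  · exact Or.inl hg
  · right
    refine ⟨u, z, hguz, hcomm, hu, ?_⟩
    rcases hz with rfl | rfl
    · ring
    · exact h

/-- some irreducible character is faithful on the centre -/
theorem exists_neg_sign [Fact p.Prime] [CharP F p] (hp2 : p ≠ 2) :
    ∃ ψ : Cfsg.IrrCharacter SL2F, (ψ : SL2F → ℂ) (-1) = -(ψ : SL2F → ℂ) 1 := by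
  by_contra hcon
  push Not at hcon
  have hall : ∀ ψ : Cfsg.IrrCharacter SL2F, (ψ : SL2F → ℂ) (-1) = (ψ : SL2F → ℂ) 1 := by
    intro ψ
    rcases sign_cases ψ with h | h
    · exact h
    · exact absurd h (hcon ψ)
  have h1 := (isConj_iff_forall_irr (-1 : SL2F) 1).mpr hall
  rw [isConj_comm, isConj_one_right] at h1
  exact neg_one_ne_one (p := p) hp2 h1

end

end Cfsg.Agent.Lib.Helper6.SL2Blk
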