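import Mathlib
import Cfsg.Prelude.Def_Blocks
import Cfsg.Agent.Lib.Helper6.BlkDefConj
import Cfsg.Agent.Lib.Helper6.BlkCenter
import Cfsg.Agent.S0908

set_option autoImplicit false
set_option linter.unusedSectionVars false
open Cfsg

namespace Cfsg.Agent.Lib.Helper6.SL2Blk

open scoped ComplexConjugate Pointwise
open Cfsg.Agent.Lib.Helper6

section

variable {G : Type*} [Group G] [Fintype G] [DecidableEq G]
variable {p : ℕ} {M : Ideal Cfsg.AlgInt}

/-- a block containing a character of `p'`-degree has full defect -/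
theorem blockDefect_eq_of_pPrime_degree (χ₀ : Cfsg.IrrCharacter G) (B : Set (Cfsg.IrrCharacter G))
    (hχ₀ : χ₀ ∈ B) (hd : ¬ p ∣ Cfsg.charDegree (χ₀ : G → ℂ)) :
    Cfsg.blockDefect p B = (Nat.card G).factorization p := by
  unfold Cfsg.blockDefect
  have h0 : (Cfsg.charDegree (χ₀ : G → ℂ)).factorization p = 0 :=
    Nat.factorization_eq_zero_of_not_dvd hd
  have hmem : 0 ∈ (fun χ : Cfsg.IrrCharacter G => (Cfsg.charDegree (χ : G → ℂ)).factorization p) '' B :=
    ⟨χ₀, hχ₀, h0⟩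
  have : sInf ((fun χ : Cfsg.IrrCharacter G => (Cfsg.charDegree (χ : G → ℂ)).factorization p) '' B) = 0 :=
    Nat.eq_zero_of_le_zero (Nat.sInf_le hmem)
  rw [this, Nat.sub_zero]

/-- every Sylow `p`-subgroup is a defect group of a block containing a character of
`p'`-degree -/
theorem isDefectGroup_sylow_of_pPrime_degree (hM : Cfsg.IsPModular p M) [Fact p.Prime]
    (χ₀ : Cfsg.IrrCharacter G) (hd : ¬ p ∣ Cfsg.charDegree (χ₀ : G → ℂ)) (P : Sylow p G) :
    Cfsg.IsDefectGroup p M (Cfsg.blockOf M (χ₀ : G → ℂ)) (P : Subgroup G) := by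
  obtain ⟨g, hg⟩ := exists_isDefectClass hM χ₀
  obtain ⟨Q⟩ : Nonempty (Sylow p (Subgroup.centralizer ({g} : Set G))) := inferInstance
  set D : Subgroup G := (Q : Subgroup (Subgroup.centralizer ({g} : Set G))).map
    (Subgroup.centralizer ({g} : Set G)).subtype with hD
  have hDdef : Cfsg.IsDefectGroup p M (Cfsg.blockOf M (χ₀ : G → ℂ)) D := ⟨g, hg, Q, rfl⟩
  have hcard := Cfsg.Agent.S0908.result p M hM _ ⟨χ₀, rfl⟩ D hDdef
  rw [blockDefect_eq_of_pPrime_degree χ₀ _ (sameBlock_refl hM _) hd] at hcard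
  set S : Sylow p G := Sylow.ofCard D hcard with hS
  obtain ⟨x, hx⟩ := MulAction.exists_smul_eq G S P
  have h1 := IsDefectGroup.map_conj hM χ₀ D hDdef x
  have h2 : D.map (MulAut.conj x).toMonoidHom = (P : Subgroup G) := by
    rw [← hx, Sylow.coe_subgroup_smul]
    rfl
  rwa [h2] at h1

end

end Cfsg.Agent.Lib.Helper6.SL2Blk
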