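import Mathlib
import Cfsg.Agent.Lib.Helper6.SL2Torus
import Cfsg.Agent.Lib.Helper6.IndFunMore
import Cfsg.Agent.Lib.Helper6.GenCharOps
import Cfsg.Agent.Lib.Helper4.SL2IndInner
import Cfsg.Agent.S2433
import Cfsg.Agent.S2306

set_option autoImplicit false
set_option linter.unusedSectionVars false
set_option linter.style.haveILetI false

/-! The cuspidal (discrete series) class functions of `SL₂(q)`, `q` odd: definition and values. -/

namespace Cfsg.Agent.Lib.Helper6.SL2Cusp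

open Matrix Cfsg.Agent.Lib.Helper4 Cfsg.Agent.Lib.Helper4.SL2Tr Cfsg.Agent.Lib.Helper4.SL2Ord
  Cfsg.Agent.Lib.Helper6 Cfsg.Agent.Lib.Helper6.IndFunMore
open scoped ComplexConjugate

variable {F : Type*} [Field F] [Fintype F] [DecidableEq F]

local notation "SL2" => Matrix.SpecialLinearGroup (Fin 2) F

/-- the principal series function `R(α)` -/
noncomputable def Rps (α : MulChar F ℂ) : SL2 → ℂ :=
  Cfsg.indFun (borelSL2 F)
    (fun b => α (((b : SL2) : Matrix (Fin 2) (Fin 2) F) 0 0))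

theorem Rps_isCharacter (α : MulChar F ℂ) : Cfsg.IsCharacter SL2 (Rps α) :=
  IsCharacter.indFun _ (Cfsg.Agent.S2306.isCharacter_borelChar α)

theorem Rps_isClassFunction (α : MulChar F ℂ) : Cfsg.IsClassFunction SL2 (Rps α) :=
  indFun_isClassFunction _ _

theorem Rps_diag (hodd : Odd (Fintype.card F)) (α : MulChar F ℂ) (g : SL2)
    (h01 : (g : Matrix (Fin 2) (Fin 2) F) 0 1 = 0) (h10 : (g : Matrix (Fin 2) (Fin 2) F) 1 0 = 0)
    (hne : (g : Matrix (Fin 2) (Fin 2) F) 0 0 ^ 2 ≠ 1) :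
    Rps α g = α ((g : Matrix (Fin 2) (Fin 2) F) 0 0) + α ((g : Matrix (Fin 2) (Fin 2) F) 1 1) :=
  (Cfsg.Agent.S2433.result hodd α g).1 h01 h10 hne

theorem Rps_elliptic (hodd : Odd (Fintype.card F)) (α : MulChar F ℂ) (g : SL2)
    (h : ∀ (c : F) (v : Fin 2 → F), v ≠ 0 → (g : Matrix (Fin 2) (Fin 2) F).mulVec v ≠ c • v) :
    Rps α g = 0 :=
  (Cfsg.Agent.S2433.result hodd α g).2.1 h

theorem Rps_unip (hodd : Odd (Fintype.card F)) (α : MulChar F ℂ) (g : SL2)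
    (h10 : (g : Matrix (Fin 2) (Fin 2) F) 1 0 = 0)
    (heq : (g : Matrix (Fin 2) (Fin 2) F) 0 0 = (g : Matrix (Fin 2) (Fin 2) F) 1 1)
    (hne : (g : Matrix (Fin 2) (Fin 2) F) 0 1 ≠ 0) :
    Rps α g = α ((g : Matrix (Fin 2) (Fin 2) F) 0 0) :=
  (Cfsg.Agent.S2433.result hodd α g).2.2.1 h10 heq hne

theorem Rps_scalar (hodd : Odd (Fintype.card F)) (α : MulChar F ℂ) (g : SL2)
    (h01 : (g : Matrix (Fin 2) (Fin 2) F) 0 1 = 0) (h10 : (g : Matrix (Fin 2) (Fin 2) F) 1 0 = 0)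
    (heq : (g : Matrix (Fin 2) (Fin 2) F) 0 0 = (g : Matrix (Fin 2) (Fin 2) F) 1 1) :
    Rps α g = ((Fintype.card F : ℂ) + 1) * α ((g : Matrix (Fin 2) (Fin 2) F) 0 0) :=
  (Cfsg.Agent.S2433.result hodd α g).2.2.2 h01 h10 heq

/-- `St - 1 = R(1) - 2` -/
noncomputable def Dfun : SL2 → ℂ := fun g => Rps (1 : MulChar F ℂ) g - 2

theorem Dfun_isClassFunction : Cfsg.IsClassFunction SL2 (Dfun (F := F)) := by
  intro g h
  unfold Dfun
  rw [Rps_isClassFunction 1 g h]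

theorem Dfun_isGeneralizedCharacter : Cfsg.IsGeneralizedCharacter SL2 (Dfun (F := F)) := by
  have h1 : (Dfun (F := F)) = Rps 1 - ((fun _ => (1 : ℂ)) + (fun _ => (1 : ℂ))) := by
    funext g
    simp only [Dfun, Pi.sub_apply, Pi.add_apply]
    norm_num
  rw [h1]
  exact IsGeneralizedCharacter.sub (IsCharacter.isGeneralizedCharacter (Rps_isCharacter 1))
    (IsCharacter.isGeneralizedCharacter (IsCharacter.add isCharacter_one isCharacter_one))

omit [Fintype F] [DecidableEq F] in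
theorem one_mulChar_apply {x : F} (hx : x ≠ 0) : (1 : MulChar F ℂ) x = 1 :=
  MulChar.one_apply (isUnit_iff_ne_zero.2 hx)

omit [Fintype F] [DecidableEq F] in
theorem diag_ne_zero (g : SL2) (h10 : (g : Matrix (Fin 2) (Fin 2) F) 1 0 = 0) :
    (g : Matrix (Fin 2) (Fin 2) F) 0 0 ≠ 0 ∧ (g : Matrix (Fin 2) (Fin 2) F) 1 1 ≠ 0 := by
  have hd := sl2_det g
  rw [h10, mul_zero, sub_zero] at hd
  constructor
  · intro h; rw [h, zero_mul] at hd; exact zero_ne_one hd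
  · intro h; rw [h, mul_zero] at hd; exact zero_ne_one hd

theorem Dfun_diag (hodd : Odd (Fintype.card F)) (g : SL2)
    (h01 : (g : Matrix (Fin 2) (Fin 2) F) 0 1 = 0) (h10 : (g : Matrix (Fin 2) (Fin 2) F) 1 0 = 0)
    (hne : (g : Matrix (Fin 2) (Fin 2) F) 0 0 ^ 2 ≠ 1) : Dfun g = 0 := by
  unfold Dfun
  rw [Rps_diag hodd 1 g h01 h10 hne, one_mulChar_apply (diag_ne_zero g h10).1,
    one_mulChar_apply (diag_ne_zero g h10).2]
  norm_num

theorem Dfun_elliptic (hodd : Odd (Fintype.card F)) (g : SL2)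
    (h : ∀ (c : F) (v : Fin 2 → F), v ≠ 0 → (g : Matrix (Fin 2) (Fin 2) F).mulVec v ≠ c • v) :
    Dfun g = -2 := by
  unfold Dfun
  rw [Rps_elliptic hodd 1 g h]
  norm_num

theorem Dfun_unip (hodd : Odd (Fintype.card F)) (g : SL2)
    (h10 : (g : Matrix (Fin 2) (Fin 2) F) 1 0 = 0)
    (heq : (g : Matrix (Fin 2) (Fin 2) F) 0 0 = (g : Matrix (Fin 2) (Fin 2) F) 1 1)
    (hne : (g : Matrix (Fin 2) (Fin 2) F) 0 1 ≠ 0) : Dfun g = -1 := by
  unfold Dfun
  rw [Rps_unip hodd 1 g h10 heq hne, one_mulChar_apply (diag_ne_zero g h10).1]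
  norm_num

theorem Dfun_scalar (hodd : Odd (Fintype.card F)) (g : SL2)
    (h01 : (g : Matrix (Fin 2) (Fin 2) F) 0 1 = 0) (h10 : (g : Matrix (Fin 2) (Fin 2) F) 1 0 = 0)
    (heq : (g : Matrix (Fin 2) (Fin 2) F) 0 0 = (g : Matrix (Fin 2) (Fin 2) F) 1 1) :
    Dfun g = (Fintype.card F : ℂ) - 1 := by
  unfold Dfun
  rw [Rps_scalar hodd 1 g h01 h10 heq, one_mulChar_apply (diag_ne_zero g h10).1]
  ring

/-! ### the elements `mkSL a u` -/

omit [Fintype F] [DecidableEq F] in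
theorem mkSL_one_zero : mkSL (1 : Fˣ) (0 : F) = 1 := by
  rw [sl2_ext_iff]
  simp [mkSL_coe]

theorem mkSL_negOne_zero : mkSL (-1 : Fˣ) (0 : F) = negOneSL F := by
  rw [sl2_ext_iff]
  simp [mkSL_coe, negOneSL_coe]

omit [Fintype F] [DecidableEq F] in
/-- class functions are constant on `mkSL a u` for `a² ≠ 1` -/
theorem classFun_mkSL (f : SL2 → ℂ) (hf : Cfsg.IsClassFunction SL2 f) (a : Fˣ)
    (ha : (a : F) ^ 2 ≠ 1) (u : F) : f (mkSL a u) = f (mkSL a 0) := by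
  have hne : ((a⁻¹ : Fˣ) : F) - (a : F) ≠ 0 := by
    intro h
    apply ha
    have h1 : ((a⁻¹ : Fˣ) : F) = (a : F) := sub_eq_zero.1 h
    have h2 : (a : F) * ((a⁻¹ : Fˣ) : F) = 1 := by
      rw [← Units.val_mul, mul_inv_cancel, Units.val_one]
    rw [h1] at h2
    rw [pow_two, h2]
  set s : F := u / (((a⁻¹ : Fˣ) : F) - (a : F)) with hs
  have h1 : mkSL a u = upperU s * mkSL a 0 * (upperU s)⁻¹ := by
    rw [eq_mul_inv_iff_mul_eq, sl2_ext_iff]
    simp only [Matrix.SpecialLinearGroup.coe_mul, mkSL_coe, upperU_coe, Matrix.mul_apply,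
      Fin.sum_univ_two, Matrix.of_apply, Matrix.cons_val', Matrix.cons_val_zero,
      Matrix.cons_val_one, Matrix.cons_val_fin_one]
    refine ⟨by ring, ?_, by ring, by ring⟩
    rw [hs]
    field_simp
    ring
  rw [h1, hf]

omit [Fintype F] [DecidableEq F] in
theorem unit_inv_eq_of_sq (a : Fˣ) (ha : (a : F) ^ 2 = 1) : ((a⁻¹ : Fˣ) : F) = (a : F) := by
  have h2 : (a : F) * ((a⁻¹ : Fˣ) : F) = 1 := by
    rw [← Units.val_mul, mul_inv_cancel, Units.val_one]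
  have h3 : (a : F) ≠ 0 := a.ne_zero
  apply mul_left_cancel₀ h3
  rw [h2, ← pow_two, ha]

theorem Dfun_mkSL (hodd : Odd (Fintype.card F)) (a : Fˣ) (u : F) :
    Dfun (mkSL a u) = if (a : F) ^ 2 = 1 then (if u = 0 then (Fintype.card F : ℂ) - 1 else -1)
      else 0 := by
  by_cases ha : (a : F) ^ 2 = 1
  · rw [if_pos ha]
    by_cases hu : u = 0
    · rw [if_pos hu, hu]
      apply Dfun_scalar hodd
      · simp [mkSL_coe]
      · simp [mkSL_coe]
      · simp [mkSL_coe, unit_inv_eq_of_sq a ha]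
    · rw [if_neg hu]
      apply Dfun_unip hodd
      · simp [mkSL_coe]
      · simp [mkSL_coe, unit_inv_eq_of_sq a ha]
      · simpa [mkSL_coe] using hu
  · rw [if_neg ha, classFun_mkSL _ Dfun_isClassFunction a ha u]
    apply Dfun_diag hodd
    · simp [mkSL_coe]
    · simp [mkSL_coe]
    · simpa [mkSL_coe] using ha

end Cfsg.Agent.Lib.Helper6.SL2Cusp
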