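import Mathlib
import Cfsg.Agent.Lib.Helper6.SL2CuspDef

set_option autoImplicit false
set_option linter.unusedSectionVars false
set_option linter.style.haveILetI false

/-! The cuspidal class functions of `SL₂(q)`, `q` odd: values. -/

namespace Cfsg.Agent.Lib.Helper6.SL2Cusp

open Matrix Cfsg.Agent.Lib.Helper4 Cfsg.Agent.Lib.Helper4.SL2Tr Cfsg.Agent.Lib.Helper4.SL2Ord
  Cfsg.Agent.Lib.Helper6 Cfsg.Agent.Lib.Helper6.IndFunMore
open scoped ComplexConjugate

variable {F : Type*} [Field F] [Fintype F] [DecidableEq F]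

local notation "SL2" => Matrix.SpecialLinearGroup (Fin 2) F

theorem card_SL2_complex :
    (Nat.card SL2 : ℂ) = (Fintype.card F : ℂ) * ((Fintype.card F : ℂ) ^ 2 - 1) := by
  rw [card_SL2, Nat.cast_mul, Nat.cast_sub (Nat.one_le_pow _ _ Fintype.card_pos)]
  push_cast
  ring

omit [Fintype F] [DecidableEq F] in
theorem not_mem_center_of_upper (g : SL2)
    (h : (g : Matrix (Fin 2) (Fin 2) F) 0 1 ≠ 0 ∨ (g : Matrix (Fin 2) (Fin 2) F) 0 0 ^ 2 ≠ 1) :
    g ∉ Subgroup.center SL2 := by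
  intro hg
  rw [Matrix.SpecialLinearGroup.mem_center_iff] at hg
  obtain ⟨r, hr, hg⟩ := hg
  have h00 : (g : Matrix (Fin 2) (Fin 2) F) 0 0 = r := by rw [← hg]; simp
  have h01 : (g : Matrix (Fin 2) (Fin 2) F) 0 1 = 0 := by rw [← hg]; simp
  rcases h with h | h
  · exact h h01
  · apply h
    rw [h00]
    simpa using hr

section torus

variable (K : Subgroup (Matrix.SpecialLinearGroup (Fin 2) F)) (hC : IsCyclic K)
  (hcard : Nat.card K = Fintype.card F + 1)

/-- the function induced from a linear character of `K` -/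
noncomputable def IndK (θ : K →* ℂˣ) : SL2 → ℂ :=
  Cfsg.indFun K (fun c => ((θ c : ℂˣ) : ℂ))

theorem IndK_isCharacter (θ : K →* ℂˣ) : Cfsg.IsCharacter SL2 (IndK K θ) :=
  IsCharacter.indFun _ (IsIrrCharacter.isCharacter (isIrrCharacter_of_hom θ))

theorem IndK_isClassFunction (θ : K →* ℂˣ) : Cfsg.IsClassFunction SL2 (IndK K θ) :=
  indFun_isClassFunction _ _

include hcard in
theorem card_ratio : (Nat.card SL2 : ℂ) / (Nat.card K : ℂ) =
    (Fintype.card F : ℂ) * ((Fintype.card F : ℂ) - 1) := by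
  rw [card_SL2_complex, hcard]
  have h : ((Fintype.card F : ℂ) + 1) ≠ 0 := by
    have : ((Fintype.card F + 1 : ℕ) : ℂ) ≠ 0 := Nat.cast_ne_zero.2 (Nat.succ_ne_zero (Fintype.card F))
    rw [Nat.cast_add, Nat.cast_one] at this
    exact this
  push_cast
  field_simp
  ring

include hcard in
theorem IndK_central (θ : K →* ℂˣ) (z : K) (hz : (z : SL2) ∈ Subgroup.center SL2) :
    IndK K θ z = (Fintype.card F : ℂ) * ((Fintype.card F : ℂ) - 1) * ((θ z : ℂˣ) : ℂ) := by
  unfold IndK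
  rw [indFun_apply_central K _ z (fun x => ((Subgroup.mem_center_iff.1 hz) x)), card_ratio K hcard]

include hC hcard in
theorem IndK_noncentral (hodd : Odd (Fintype.card F)) (θ : K →* ℂˣ) (c : K)
    (hc : (c : SL2) ∉ Subgroup.center SL2) :
    IndK K θ c = ((θ c : ℂˣ) : ℂ) + ((θ c⁻¹ : ℂˣ) : ℂ) := by
  unfold IndK
  have hns := not_isScalar2_of_not_mem_center (c : SL2) hc
  have ht4 := trace_sq_ne_four_of_mem K hC hcard hodd c.2 hc
  obtain ⟨w, hw⟩ := exists_conj_inv hodd (c : SL2) hns ht4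
  apply indFun_two_cosets K _ c c⁻¹ w
  · rw [hw]; rfl
  · intro h
    apply ne_inv_of_not_mem_center hodd (c : SL2) hc
    have := congrArg Subtype.val h
    exact this
  · intro x
    exact conj_eq_self_iff K hC hcard hodd c.2 hc x
  · intro x hx
    exact conj_mem_cases K hC hcard hodd c.2 hc x hx

include hC hcard in
theorem IndK_upper (hodd : Odd (Fintype.card F)) (θ : K →* ℂˣ) (g : SL2)
    (h10 : (g : Matrix (Fin 2) (Fin 2) F) 1 0 = 0) (hg : g ∉ Subgroup.center SL2) :
    IndK K θ g = 0 := by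
  unfold IndK
  apply indFun_eq_zero_of_not_conj
  intro x
  exact not_conj_mem_of_upper K hC hcard hodd g h10 hg x

/-- the cuspidal class function attached to `θ` (with `α (-1) = θ (-1)`) -/
noncomputable def cusp (α : MulChar F ℂ) (θ : K →* ℂˣ) : SL2 → ℂ :=
  Dfun * Rps α - IndK K θ

theorem cusp_isClassFunction (α : MulChar F ℂ) (θ : K →* ℂˣ) :
    Cfsg.IsClassFunction SL2 (cusp K α θ) := by
  intro g h
  unfold cusp
  simp only [Pi.sub_apply, Pi.mul_apply]
  rw [Dfun_isClassFunction g h, Rps_isClassFunction α g h, IndK_isClassFunction K θ g h]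

theorem cusp_isGeneralizedCharacter (α : MulChar F ℂ) (θ : K →* ℂˣ) :
    Cfsg.IsGeneralizedCharacter SL2 (cusp K α θ) := by
  unfold cusp
  exact IsGeneralizedCharacter.sub
    (IsGeneralizedCharacter.mul Dfun_isGeneralizedCharacter
      (IsCharacter.isGeneralizedCharacter (Rps_isCharacter α)))
    (IsCharacter.isGeneralizedCharacter (IndK_isCharacter K θ))

include hcard in
theorem cusp_one (hodd : Odd (Fintype.card F)) (α : MulChar F ℂ) (θ : K →* ℂˣ) :
    cusp K α θ 1 = (Fintype.card F : ℂ) - 1 := by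
  unfold cusp
  simp only [Pi.sub_apply, Pi.mul_apply]
  have h1 := IndK_central K hcard θ 1 (Subgroup.one_mem _)
  rw [map_one, Units.val_one, mul_one] at h1
  have h2 : ((1 : K) : SL2) = 1 := rfl
  rw [h2] at h1
  rw [h1, Dfun_scalar hodd 1 (by simp) (by simp) (by simp), Rps_scalar hodd α 1 (by simp) (by simp)
    (by simp)]
  simp
  ring

/-- the element `-1` of `K` -/
def negK (hodd : Odd (Fintype.card F)) : K := ⟨negOneSL F, negOne_mem K hcard hodd⟩

include hcard in
theorem cusp_negOne (hodd : Odd (Fintype.card F)) (α : MulChar F ℂ) (θ : K →* ℂˣ)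
    (hα : α (-1) = ((θ (negK K hcard hodd) : ℂˣ) : ℂ)) :
    cusp K α θ (negOneSL F) = ((Fintype.card F : ℂ) - 1) * α (-1) := by
  unfold cusp
  simp only [Pi.sub_apply, Pi.mul_apply]
  have h1 := IndK_central K hcard θ (negK K hcard hodd) negOneSL_mem_center
  have h2 : ((negK K hcard hodd : K) : SL2) = negOneSL F := rfl
  rw [h2] at h1
  rw [h1, Dfun_scalar hodd (negOneSL F) (by simp [negOneSL_coe]) (by simp [negOneSL_coe])
    (by simp [negOneSL_coe]), Rps_scalar hodd α (negOneSL F) (by simp [negOneSL_coe])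
    (by simp [negOneSL_coe]) (by simp [negOneSL_coe]), ← hα]
  simp only [negOneSL_coe, Matrix.of_apply, Matrix.cons_val', Matrix.cons_val_zero,
    Matrix.cons_val_fin_one]
  ring

include hC hcard in
theorem cusp_unip (hodd : Odd (Fintype.card F)) (α : MulChar F ℂ) (θ : K →* ℂˣ) (g : SL2)
    (h10 : (g : Matrix (Fin 2) (Fin 2) F) 1 0 = 0)
    (heq : (g : Matrix (Fin 2) (Fin 2) F) 0 0 = (g : Matrix (Fin 2) (Fin 2) F) 1 1)
    (hne : (g : Matrix (Fin 2) (Fin 2) F) 0 1 ≠ 0) :
    cusp K α θ g = - α ((g : Matrix (Fin 2) (Fin 2) F) 0 0) := by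
  unfold cusp
  simp only [Pi.sub_apply, Pi.mul_apply]
  rw [IndK_upper K hC hcard hodd θ g h10 (not_mem_center_of_upper g (Or.inl hne)),
    Dfun_unip hodd g h10 heq hne, Rps_unip hodd α g h10 heq hne]
  ring

include hC hcard in
theorem cusp_diag (hodd : Odd (Fintype.card F)) (α : MulChar F ℂ) (θ : K →* ℂˣ) (g : SL2)
    (h01 : (g : Matrix (Fin 2) (Fin 2) F) 0 1 = 0) (h10 : (g : Matrix (Fin 2) (Fin 2) F) 1 0 = 0)
    (hne : (g : Matrix (Fin 2) (Fin 2) F) 0 0 ^ 2 ≠ 1) : cusp K α θ g = 0 := by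
  unfold cusp
  simp only [Pi.sub_apply, Pi.mul_apply]
  rw [IndK_upper K hC hcard hodd θ g h10 (not_mem_center_of_upper g (Or.inr hne)),
    Dfun_diag hodd g h01 h10 hne]
  ring

include hC hcard in
theorem cusp_noncentral (hodd : Odd (Fintype.card F)) (α : MulChar F ℂ) (θ : K →* ℂˣ) (c : K)
    (hc : (c : SL2) ∉ Subgroup.center SL2) :
    cusp K α θ c = -(((θ c : ℂˣ) : ℂ) + (((θ c)⁻¹ : ℂˣ) : ℂ)) := by
  unfold cusp
  simp only [Pi.sub_apply, Pi.mul_apply]
  rw [IndK_noncentral K hC hcard hodd θ c hc,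
    Rps_elliptic hodd α _ (elliptic_of_mem K hC hcard hodd c.2 hc), map_inv]
  ring

end torus

end Cfsg.Agent.Lib.Helper6.SL2Cusp
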