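import Mathlib
import Cfsg.Agent.Lib.Helper6.SL2CuspVal
import Cfsg.Agent.Lib.Helper6.IrrBasis

set_option autoImplicit false
set_option linter.unusedSectionVars false
set_option linter.style.haveILetI false

/-! The cuspidal class functions of `SL₂(q)`, `q` odd: inner products. -/

namespace Cfsg.Agent.Lib.Helper6.SL2Cusp

open Matrix Cfsg.Agent.Lib.Helper4 Cfsg.Agent.Lib.Helper4.SL2Tr Cfsg.Agent.Lib.Helper4.SL2Ord
  Cfsg.Agent.Lib.Helper6 Cfsg.Agent.Lib.Helper6.IndFunMore
open scoped ComplexConjugate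

variable {F : Type*} [Field F] [Fintype F] [DecidableEq F]

local notation "SL2" => Matrix.SpecialLinearGroup (Fin 2) F

theorem card_sub_one_ne_zero : ((Fintype.card F : ℂ) - 1) ≠ 0 := by
  have h1 : 1 < Fintype.card F := Fintype.one_lt_card
  intro h
  rw [sub_eq_zero] at h
  have : Fintype.card F = 1 := by exact_mod_cast h
  omega

theorem card_ne_zero' : (Fintype.card F : ℂ) ≠ 0 := by
  have h1 : 0 < Fintype.card F := Fintype.card_pos
  exact_mod_cast h1.ne'

omit [Fintype F] [DecidableEq F] in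
theorem unit_eq_of_sq (a : Fˣ) (ha : (a : F) ^ 2 = 1) : a = 1 ∨ a = -1 := by
  have h : ((a : F) - 1) * ((a : F) + 1) = 0 := by linear_combination ha
  rcases mul_eq_zero.1 h with h | h
  · left
    apply Units.ext
    rw [Units.val_one]
    exact sub_eq_zero.1 h
  · right
    apply Units.ext
    rw [Units.val_neg, Units.val_one]
    exact eq_neg_of_add_eq_zero_left h

/-- the inner product of `(St - 1) R(α)` with a class function, as a sum over the Borel subgroup -/
theorem classInner_DR (hodd : Odd (Fintype.card F)) (α : MulChar F ℂ) (f : SL2 → ℂ)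
    (hf : Cfsg.IsClassFunction SL2 f) (z₁ z₂ v₁ v₂ : ℂ) (h1 : f 1 = z₁) (h2 : f (negOneSL F) = z₂)
    (h3 : ∀ u : F, u ≠ 0 → f (mkSL 1 u) = v₁) (h4 : ∀ u : F, u ≠ 0 → f (mkSL (-1) u) = v₂) :
    Cfsg.classInner (Dfun * Rps α) f =
      (Fintype.card F : ℂ)⁻¹ * ((conj z₁ - conj v₁) + α (-1) * (conj z₂ - conj v₂)) := by
  have : Fintype (borelSL2 F) := Fintype.ofFinite _
  have hq1 := card_sub_one_ne_zero (F := F)
  have hq0 := card_ne_zero' (F := F)
  have hneF : (1 : Fˣ) ≠ -1 := by
    intro h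
    have h5 := congrArg (fun x : Fˣ => (x : F)) h
    simp only [Units.val_one, Units.val_neg] at h5
    have := two_ne_zero_of_odd hodd
    apply this
    linear_combination h5
  unfold Rps
  rw [IndFunMore.mul_indFun _ _ _ Dfun_isClassFunction, classInner_indFun _ _ _ hf, ← mkBEquiv.sum_comp,
    Fintype.sum_prod_type]
  -- the terms
  have hterm : ∀ (a : Fˣ) (u : F),
      Dfun ((mkBEquiv (a, u) : borelSL2 F) : SL2) *
        α ((((mkBEquiv (a, u) : borelSL2 F) : SL2) : Matrix (Fin 2) (Fin 2) F) 0 0) *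
        conj (f ((mkBEquiv (a, u) : borelSL2 F) : SL2)) =
      (if (a : F) ^ 2 = 1 then (if u = 0 then (Fintype.card F : ℂ) - 1 else -1) else 0) *
        α (a : F) * conj (f (mkSL a u)) := by
    intro a u
    rw [mkBEquiv_apply, mkB_coe, Dfun_mkSL hodd]
    simp [mkSL_coe]
  have hG : ∀ a : Fˣ, ∑ u : F, Dfun ((mkBEquiv (a, u) : borelSL2 F) : SL2) *
        α ((((mkBEquiv (a, u) : borelSL2 F) : SL2) : Matrix (Fin 2) (Fin 2) F) 0 0) *
        conj (f ((mkBEquiv (a, u) : borelSL2 F) : SL2)) =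
      if (a : F) ^ 2 = 1 then α (a : F) * (((Fintype.card F : ℂ) - 1) * conj (f (mkSL a 0)) -
        ∑ u ∈ Finset.univ.erase (0 : F), conj (f (mkSL a u))) else 0 := by
    intro a
    rw [Finset.sum_congr rfl (fun u _ => hterm a u)]
    by_cases ha : (a : F) ^ 2 = 1
    · rw [if_pos ha, ← Finset.add_sum_erase Finset.univ _ (Finset.mem_univ (0 : F))]
      simp only [if_pos ha, if_true]
      have h5 : ∀ u ∈ Finset.univ.erase (0 : F),
          (if u = 0 then (Fintype.card F : ℂ) - 1 else -1) * α (a : F) * conj (f (mkSL a u)) =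
          -(α (a : F) * conj (f (mkSL a u))) := by
        intro u hu
        rw [if_neg (Finset.ne_of_mem_erase hu)]
        ring
      rw [Finset.sum_congr rfl h5, Finset.sum_neg_distrib, ← Finset.mul_sum]
      ring
    · rw [if_neg ha]
      apply Finset.sum_eq_zero
      intro u _
      rw [if_neg ha, zero_mul, zero_mul]
  rw [Finset.sum_congr rfl (fun a _ => hG a)]
  rw [Finset.sum_eq_add (1 : Fˣ) (-1) hneF]
  · rw [if_pos (by simp), if_pos (by simp)]
    have h6 : ∑ u ∈ Finset.univ.erase (0 : F), conj (f (mkSL (1 : Fˣ) u)) =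
        ((Fintype.card F : ℂ) - 1) * conj v₁ := by
      rw [Finset.sum_congr rfl (fun u hu => by rw [h3 u (Finset.ne_of_mem_erase hu)]),
        Finset.sum_const, Finset.card_erase_of_mem (Finset.mem_univ _), Finset.card_univ,
        nsmul_eq_mul, Nat.cast_sub Fintype.card_pos, Nat.cast_one]
    have h7 : ∑ u ∈ Finset.univ.erase (0 : F), conj (f (mkSL (-1 : Fˣ) u)) =
        ((Fintype.card F : ℂ) - 1) * conj v₂ := by
      rw [Finset.sum_congr rfl (fun u hu => by rw [h4 u (Finset.ne_of_mem_erase hu)]),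
        Finset.sum_const, Finset.card_erase_of_mem (Finset.mem_univ _), Finset.card_univ,
        nsmul_eq_mul, Nat.cast_sub Fintype.card_pos, Nat.cast_one]
    rw [h6, h7, mkSL_one_zero, mkSL_negOne_zero, h1, h2, card_borelSL2, Nat.cast_mul,
      Nat.cast_sub Fintype.card_pos, Nat.cast_one, Units.val_one, map_one, Units.val_neg,
      Units.val_one]
    field_simp
  · intro a _ ha
    rw [if_neg]
    intro h
    rcases unit_eq_of_sq a h with h' | h'
    · exact ha.1 h'
    · exact ha.2 h'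
  · intro h; exact absurd (Finset.mem_univ _) h
  · intro h; exact absurd (Finset.mem_univ _) h

omit [Fintype F] [DecidableEq F] in
theorem mulChar_neg_one_cases (α : MulChar F ℂ) : α (-1) = 1 ∨ α (-1) = -1 := by
  have h : α (-1) * α (-1) = 1 := by
    rw [← map_mul]
    simp
  have h' : (α (-1) - 1) * (α (-1) + 1) = 0 := by linear_combination h
  rcases mul_eq_zero.1 h' with h1 | h1
  · left; exact sub_eq_zero.1 h1
  · right; exact eq_neg_of_add_eq_zero_left h1

omit [Fintype F] [DecidableEq F] in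
theorem conj_mulChar_neg_one (α : MulChar F ℂ) : conj (α (-1)) = α (-1) := by
  rcases mulChar_neg_one_cases α with h | h <;> rw [h] <;> simp

section torus

variable (K : Subgroup (Matrix.SpecialLinearGroup (Fin 2) F)) (hC : IsCyclic K)
  (hcard : Nat.card K = Fintype.card F + 1)

/-- complex conjugation inverts the values of a linear character -/
theorem conj_hom (θ : K →* ℂˣ) (c : K) : conj ((θ c : ℂˣ) : ℂ) = (((θ c)⁻¹ : ℂˣ) : ℂ) := by
  have h1 : ((θ c : ℂˣ) : ℂ) ^ Nat.card K = 1 := by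
    rw [← Units.val_pow_eq_pow_val, ← map_pow, pow_card_eq_one', map_one, Units.val_one]
  have h2 : ‖((θ c : ℂˣ) : ℂ)‖ = 1 :=
    Complex.norm_eq_one_of_pow_eq_one h1 Nat.card_pos.ne'
  rw [Units.val_inv_eq_inv_val, Complex.inv_eq_conj h2]

theorem conj_hom_inv (θ : K →* ℂˣ) (c : K) :
    conj ((((θ c)⁻¹ : ℂˣ)) : ℂ) = ((θ c : ℂˣ) : ℂ) := by
  rw [← conj_hom, Complex.conj_conj]

include hcard in
/-- the sum of the values of a linear character of `K` -/
theorem sum_hom [Fintype K] (ψ : K →* ℂˣ) [Decidable (ψ = 1)] :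
    ∑ c : K, ((ψ c : ℂˣ) : ℂ) = if ψ = 1 then (Fintype.card F : ℂ) + 1 else 0 := by
  classical
  have h1 := sum_hom_units ((Units.coeHom ℂ).comp ψ)
  have h2 : ((Units.coeHom ℂ).comp ψ = 1) ↔ ψ = 1 := by
    constructor
    · intro h
      ext c
      have := DFunLike.congr_fun h c
      simpa using this
    · intro h
      rw [h]
      ext c
      simp
  simp only [MonoidHom.coe_comp, Function.comp_apply, Units.coeHom_apply] at h1
  rw [h1]
  by_cases h : ψ = 1
  · rw [if_pos h, if_pos (h2.2 h), ← Nat.card_eq_fintype_card, hcard]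
    push_cast
    rfl
  · rw [if_neg h, if_neg (fun h' => h (h2.1 h')), Nat.cast_zero]

include hC hcard in
/-- a uniform formula for the values of a cuspidal class function on `K` -/
theorem cusp_on_K (hodd : Odd (Fintype.card F)) (α : MulChar F ℂ) (θ : K →* ℂˣ)
    (hα : α (-1) = ((θ (negK K hcard hodd) : ℂˣ) : ℂ)) (c : K) [Decidable (c = 1)]
    [Decidable (c = negK K hcard hodd)] :
    cusp K α θ c = -(((θ c : ℂˣ) : ℂ) + (((θ c)⁻¹ : ℂˣ) : ℂ)) +
      ((Fintype.card F : ℂ) + 1) * (if c = 1 then 1 else 0) +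
      ((Fintype.card F : ℂ) + 1) * (if c = negK K hcard hodd then α (-1) else 0) := by
  have hn1 : (negK K hcard hodd : K) ≠ 1 := by
    intro h
    exact negOneSL_ne_one hodd (congrArg Subtype.val h)
  by_cases h1 : c = 1
  · subst h1
    rw [if_pos rfl, if_neg (Ne.symm hn1)]
    have : ((1 : K) : SL2) = 1 := rfl
    rw [this, cusp_one K hcard hodd, map_one, inv_one, Units.val_one]
    ring
  · rw [if_neg h1]
    by_cases h2 : c = negK K hcard hodd
    · subst h2
      rw [if_pos rfl]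
      have h3 : ((negK K hcard hodd : K) : SL2) = negOneSL F := rfl
      have h4 : (θ (negK K hcard hodd))⁻¹ = θ (negK K hcard hodd) := by
        rw [← map_inv]
        congr 1
        apply Subtype.ext
        rw [Subgroup.coe_inv, h3, inv_eq_iff_mul_eq_one, SL2Cov.negOneSL_mul_self]
      rw [h3, cusp_negOne K hcard hodd α θ hα, h4, ← hα]
      ring
    · rw [if_neg h2]
      have hcz : (c : SL2) ∉ Subgroup.center SL2 := by
        intro hz
        rw [mem_center_iff_sq hodd] at hz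
        rcases eq_one_or_neg_of_sq hodd _ hz with h | h
        · exact h1 (Subtype.ext h)
        · exact h2 (Subtype.ext h)
      rw [cusp_noncentral K hC hcard hodd α θ c hcz]
      ring

include hC hcard in
/-- inner products of cuspidal class functions -/
theorem classInner_cusp (hodd : Odd (Fintype.card F)) (α₁ α₂ : MulChar F ℂ) (θ₁ θ₂ : K →* ℂˣ)
    (hα₁ : α₁ (-1) = ((θ₁ (negK K hcard hodd) : ℂˣ) : ℂ))
    (hα₂ : α₂ (-1) = ((θ₂ (negK K hcard hodd) : ℂˣ) : ℂ))
    [Decidable (θ₁ * θ₂⁻¹ = 1)] [Decidable (θ₁ * θ₂ = 1)] :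
    Cfsg.classInner (cusp K α₁ θ₁) (cusp K α₂ θ₂) =
      (if θ₁ * θ₂⁻¹ = 1 then 1 else 0) + (if θ₁ * θ₂ = 1 then 1 else 0) := by
  classical
  have : Fintype K := Fintype.ofFinite _
  have hq0 := card_ne_zero' (F := F)
  have hq2 : ((Fintype.card F : ℂ) + 1) ≠ 0 := by
    have : ((Fintype.card F + 1 : ℕ) : ℂ) ≠ 0 :=
      Nat.cast_ne_zero.2 (Nat.succ_ne_zero (Fintype.card F))
    rw [Nat.cast_add, Nat.cast_one] at this
    exact this
  have hcf := cusp_isClassFunction K α₂ θ₂
  rw [show cusp K α₁ θ₁ = Dfun * Rps α₁ - IndK K θ₁ from rfl, classInner_sub_left]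
  -- the Borel part
  have hB := classInner_DR hodd α₁ (cusp K α₂ θ₂) hcf ((Fintype.card F : ℂ) - 1)
    (((Fintype.card F : ℂ) - 1) * α₂ (-1)) (-1) (-α₂ (-1)) (cusp_one K hcard hodd α₂ θ₂)
    (cusp_negOne K hcard hodd α₂ θ₂ hα₂)
    (by
      intro u hu
      rw [cusp_unip K hC hcard hodd α₂ θ₂ (mkSL 1 u) (by simp [mkSL_coe]) (by simp [mkSL_coe])
        (by simpa [mkSL_coe] using hu)]
      simp [mkSL_coe])
    (by
      intro u hu
      rw [cusp_unip K hC hcard hodd α₂ θ₂ (mkSL (-1) u) (by simp [mkSL_coe])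
        (by simp [mkSL_coe]) (by simpa [mkSL_coe] using hu)]
      simp [mkSL_coe])
  rw [hB]
  -- the torus part
  unfold IndK
  rw [classInner_indFun K _ _ hcf, hcard]
  have hterm : ∀ c : K, ((θ₁ c : ℂˣ) : ℂ) * conj (cusp K α₂ θ₂ c) =
      -(((θ₁ * θ₂⁻¹) c : ℂˣ) : ℂ) - (((θ₁ * θ₂) c : ℂˣ) : ℂ) +
      ((Fintype.card F : ℂ) + 1) * (if c = 1 then ((θ₁ c : ℂˣ) : ℂ) else 0) +
      ((Fintype.card F : ℂ) + 1) * α₂ (-1) *
        (if c = negK K hcard hodd then ((θ₁ c : ℂˣ) : ℂ) else 0) := by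
    intro c
    rw [cusp_on_K K hC hcard hodd α₂ θ₂ hα₂ c]
    simp only [map_add, map_neg, map_mul, conj_hom, conj_hom_inv, apply_ite conj, map_one, map_zero,
      conj_mulChar_neg_one, Complex.conj_natCast, inv_inv, MonoidHom.mul_apply,
      MonoidHom.inv_apply, Units.val_mul]
    split_ifs <;> ring
  rw [Finset.sum_congr rfl (fun c _ => hterm c)]
  simp only [Finset.sum_add_distrib, Finset.sum_sub_distrib, Finset.sum_neg_distrib,
    ← Finset.mul_sum, Finset.sum_ite_eq', Finset.mem_univ, if_true]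
  rw [sum_hom K hcard, sum_hom K hcard, map_one, Units.val_one, ← hα₁]
  simp only [map_sub, map_neg, map_mul, map_one, Complex.conj_natCast, conj_mulChar_neg_one]
  push_cast
  split_ifs <;> field_simp <;> ring

end torus

end Cfsg.Agent.Lib.Helper6.SL2Cusp
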