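import Mathlib
import Cfsg.Agent.Lib.Helper6.SL2CuspInner
import Cfsg.Agent.Lib.Helper6.GaloisConj

set_option autoImplicit false
set_option linter.unusedSectionVars false
set_option linter.style.haveILetI false

/-! The cuspidal characters of `SL₂(q)`, `q` odd: irreducibility, orthogonality relations. -/

namespace Cfsg.Agent.Lib.Helper6.SL2Cusp

open Matrix Cfsg.Agent.Lib.Helper4 Cfsg.Agent.Lib.Helper4.SL2Tr Cfsg.Agent.Lib.Helper4.SL2Ord
  Cfsg.Agent.Lib.Helper6 Cfsg.Agent.Lib.Helper6.IndFunMore
open scoped ComplexConjugate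

variable {F : Type*} [Field F] [Fintype F] [DecidableEq F]

local notation "SL2" => Matrix.SpecialLinearGroup (Fin 2) F

section torus

variable (K : Subgroup (Matrix.SpecialLinearGroup (Fin 2) F)) (hC : IsCyclic K)
  (hcard : Nat.card K = Fintype.card F + 1)

/-- the value of a linear character of `K` at `-1` is `±1` -/
theorem hom_negK_cases (hodd : Odd (Fintype.card F)) (θ : K →* ℂˣ) :
    ((θ (negK K hcard hodd) : ℂˣ) : ℂ) = 1 ∨ ((θ (negK K hcard hodd) : ℂˣ) : ℂ) = -1 := by
  have h1 : (negK K hcard hodd) * (negK K hcard hodd) = 1 := by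
    apply Subtype.ext
    exact SL2Cov.negOneSL_mul_self
  have h : ((θ (negK K hcard hodd) : ℂˣ) : ℂ) * ((θ (negK K hcard hodd) : ℂˣ) : ℂ) = 1 := by
    rw [← Units.val_mul, ← map_mul, h1, map_one, Units.val_one]
  have h' : (((θ (negK K hcard hodd) : ℂˣ) : ℂ) - 1) * (((θ (negK K hcard hodd) : ℂˣ) : ℂ) + 1)
      = 0 := by linear_combination h
  rcases mul_eq_zero.1 h' with h1 | h1
  · left; exact sub_eq_zero.1 h1
  · right; exact eq_neg_of_add_eq_zero_left h1

/-- a multiplicative character with a prescribed sign at `-1` -/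
theorem exists_alpha (hodd : Odd (Fintype.card F)) (θ : K →* ℂˣ) :
    ∃ α : MulChar F ℂ, α (-1) = ((θ (negK K hcard hodd) : ℂˣ) : ℂ) := by
  rcases hom_negK_cases K hcard hodd θ with h | h
  · refine ⟨1, ?_⟩
    rw [h]
    exact one_mulChar_apply (neg_ne_zero.2 one_ne_zero)
  · have hne : (-1 : F) ≠ 1 := by
      intro h1
      apply two_ne_zero_of_odd hodd
      linear_combination -h1
    obtain ⟨α, hα⟩ := MulChar.exists_apply_ne_one_of_hasEnoughRootsOfUnity F ℂ hne
    refine ⟨α, ?_⟩
    rw [h]
    rcases mulChar_neg_one_cases α with h1 | h1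
    · exact absurd h1 hα
    · exact h1

/-- a chosen multiplicative character with the sign of `θ` at `-1` -/
noncomputable def alphaOf (hodd : Odd (Fintype.card F)) (θ : K →* ℂˣ) : MulChar F ℂ :=
  Classical.choose (exists_alpha K hcard hodd θ)

theorem alphaOf_spec (hodd : Odd (Fintype.card F)) (θ : K →* ℂˣ) :
    alphaOf K hcard hodd θ (-1) = ((θ (negK K hcard hodd) : ℂˣ) : ℂ) :=
  Classical.choose_spec (exists_alpha K hcard hodd θ)

/-- the cuspidal class function attached to `θ` -/
noncomputable def cuspChar (hodd : Odd (Fintype.card F)) (θ : K →* ℂˣ) : SL2 → ℂ :=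
  cusp K (alphaOf K hcard hodd θ) θ

include hC in
theorem classInner_cuspChar (hodd : Odd (Fintype.card F)) (θ₁ θ₂ : K →* ℂˣ)
    [Decidable (θ₁ * θ₂⁻¹ = 1)] [Decidable (θ₁ * θ₂ = 1)] :
    Cfsg.classInner (cuspChar K hcard hodd θ₁) (cuspChar K hcard hodd θ₂) =
      (if θ₁ * θ₂⁻¹ = 1 then 1 else 0) + (if θ₁ * θ₂ = 1 then 1 else 0) :=
  classInner_cusp K hC hcard hodd _ _ θ₁ θ₂ (alphaOf_spec K hcard hodd θ₁)
    (alphaOf_spec K hcard hodd θ₂)

theorem card_ge_three (hodd : Odd (Fintype.card F)) : 3 ≤ Fintype.card F := by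
  have := Fintype.one_lt_card (α := F)
  obtain ⟨k, hk⟩ := hodd
  omega

include hC in
/-- the cuspidal class function attached to `θ` with `θ² ≠ 1` is an irreducible character -/
theorem cuspChar_irr (hodd : Odd (Fintype.card F)) (θ : K →* ℂˣ) (hθ : ∃ c : K, θ c ^ 2 ≠ 1) :
    Cfsg.IsIrrCharacter SL2 (cuspChar K hcard hodd θ) := by
  classical
  apply IsGeneralizedCharacter.isIrrCharacter_of_norm_one
  · exact cusp_isGeneralizedCharacter K _ θ
  · rw [classInner_cuspChar K hC hcard hodd, if_pos (mul_inv_cancel θ), if_neg, add_zero]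
    intro h
    obtain ⟨c, hc⟩ := hθ
    apply hc
    have := DFunLike.congr_fun h c
    rw [MonoidHom.mul_apply, MonoidHom.one_apply] at this
    rw [pow_two, this]
  · unfold cuspChar
    rw [cusp_one K hcard hodd]
    have h3 := card_ge_three (F := F) hodd
    have : (2 : ℝ) ≤ ((Fintype.card F : ℕ) : ℝ) - 1 := by
      have : (3 : ℝ) ≤ ((Fintype.card F : ℕ) : ℝ) := by exact_mod_cast h3
      linarith
    simp only [Complex.sub_re, Complex.natCast_re, Complex.one_re]
    linarith

include hC in
/-- cuspidal class functions are orthogonal to the principal series -/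
theorem classInner_cusp_Rps (hodd : Odd (Fintype.card F)) (α β : MulChar F ℂ) (θ : K →* ℂˣ)
    (hα : α (-1) = ((θ (negK K hcard hodd) : ℂˣ) : ℂ)) :
    Cfsg.classInner (cusp K α θ) (Rps β) = 0 := by
  classical
  have : Fintype K := Fintype.ofFinite _
  have hq0 := card_ne_zero' (F := F)
  have hq2 : ((Fintype.card F : ℂ) + 1) ≠ 0 := by
    have : ((Fintype.card F + 1 : ℕ) : ℂ) ≠ 0 :=
      Nat.cast_ne_zero.2 (Nat.succ_ne_zero (Fintype.card F))
    rw [Nat.cast_add, Nat.cast_one] at this
    exact this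
  have hcf := Rps_isClassFunction β
  rw [show cusp K α θ = Dfun * Rps α - IndK K θ from rfl, classInner_sub_left]
  have hB := classInner_DR hodd α (Rps β) hcf (((Fintype.card F : ℂ) + 1))
    (((Fintype.card F : ℂ) + 1) * β (-1)) 1 (β (-1))
    (by rw [Rps_scalar hodd β 1 (by simp) (by simp) (by simp)]; simp)
    (by
      rw [Rps_scalar hodd β (negOneSL F) (by simp [negOneSL_coe]) (by simp [negOneSL_coe])
        (by simp [negOneSL_coe])]
      simp [negOneSL_coe])
    (by
      intro u hu
      rw [Rps_unip hodd β (mkSL 1 u) (by simp [mkSL_coe]) (by simp [mkSL_coe])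
        (by simpa [mkSL_coe] using hu)]
      simp [mkSL_coe])
    (by
      intro u hu
      rw [Rps_unip hodd β (mkSL (-1) u) (by simp [mkSL_coe]) (by simp [mkSL_coe])
        (by simpa [mkSL_coe] using hu)]
      simp [mkSL_coe])
  rw [hB]
  unfold IndK
  rw [classInner_indFun K _ _ hcf, hcard]
  have hn1 : (negK K hcard hodd : K) ≠ 1 := by
    intro h
    exact negOneSL_ne_one hodd (congrArg Subtype.val h)
  have hterm : ∀ c : K, ((θ c : ℂˣ) : ℂ) * conj (Rps β c) =
      ((Fintype.card F : ℂ) + 1) * (if c = 1 then ((θ c : ℂˣ) : ℂ) else 0) +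
      ((Fintype.card F : ℂ) + 1) * β (-1) *
        (if c = negK K hcard hodd then ((θ c : ℂˣ) : ℂ) else 0) := by
    intro c
    by_cases h1 : c = 1
    · subst h1
      rw [if_pos rfl, if_neg (Ne.symm hn1)]
      have : ((1 : K) : SL2) = 1 := rfl
      rw [this, Rps_scalar hodd β 1 (by simp) (by simp) (by simp)]
      simp
    · rw [if_neg h1]
      by_cases h2 : c = negK K hcard hodd
      · subst h2
        rw [if_pos rfl]
        have h3 : ((negK K hcard hodd : K) : SL2) = negOneSL F := rfl
        rw [h3, Rps_scalar hodd β (negOneSL F) (by simp [negOneSL_coe]) (by simp [negOneSL_coe])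
          (by simp [negOneSL_coe])]
        simp only [negOneSL_coe, Matrix.of_apply, Matrix.cons_val', Matrix.cons_val_zero,
          Matrix.cons_val_fin_one, map_mul, map_add, map_one, Complex.conj_natCast,
          conj_mulChar_neg_one]
        ring
      · rw [if_neg h2]
        have hcz : (c : SL2) ∉ Subgroup.center SL2 := by
          intro hz
          rw [mem_center_iff_sq hodd] at hz
          rcases eq_one_or_neg_of_sq hodd _ hz with h | h
          · exact h1 (Subtype.ext h)
          · exact h2 (Subtype.ext h)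
        rw [Rps_elliptic hodd β _ (elliptic_of_mem K hC hcard hodd c.2 hcz)]
        simp
  rw [Finset.sum_congr rfl (fun c _ => hterm c)]
  simp only [Finset.sum_add_distrib, ← Finset.mul_sum, Finset.sum_ite_eq', Finset.mem_univ,
    if_true]
  rw [show θ 1 = 1 from map_one θ, Units.val_one, ← hα]
  simp only [map_sub, map_add, map_mul, map_one, Complex.conj_natCast, conj_mulChar_neg_one]
  push_cast
  field_simp
  ring

include hC hcard in
/-- the multiplicity of the trivial character in a cuspidal class function -/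
theorem classInner_cusp_one (hodd : Odd (Fintype.card F)) (α : MulChar F ℂ) (θ : K →* ℂˣ)
    [Decidable (θ = 1)] :
    Cfsg.classInner (cusp K α θ) (fun _ => (1 : ℂ)) = -(if θ = 1 then 1 else 0) := by
  classical
  have : Fintype K := Fintype.ofFinite _
  have hq2 : ((Fintype.card F : ℂ) + 1) ≠ 0 := by
    have : ((Fintype.card F + 1 : ℕ) : ℂ) ≠ 0 :=
      Nat.cast_ne_zero.2 (Nat.succ_ne_zero (Fintype.card F))
    rw [Nat.cast_add, Nat.cast_one] at this
    exact this
  have hcf : Cfsg.IsClassFunction SL2 (fun _ => (1 : ℂ)) := fun _ _ => rfl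
  rw [show cusp K α θ = Dfun * Rps α - IndK K θ from rfl, classInner_sub_left]
  have hB := classInner_DR hodd α (fun _ => (1 : ℂ)) hcf 1 1 1 1 rfl rfl (fun _ _ => rfl)
    (fun _ _ => rfl)
  rw [hB]
  unfold IndK
  rw [classInner_indFun K _ _ hcf, hcard]
  simp only [map_one, mul_one, sub_self, mul_zero, add_zero, zero_sub]
  rw [sum_hom K hcard]
  split_ifs
  · push_cast
    field_simp
  · simp

end torus

end Cfsg.Agent.Lib.Helper6.SL2Cusp
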