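import Mathlib
import Cfsg.Agent.Lib.Helper6.SL2CuspIrr
import Cfsg.Agent.S2299

set_option autoImplicit false
set_option linter.unusedSectionVars false
set_option linter.style.haveILetI false

/-! The cuspidal characters of `SL₂(q)`, `q` odd: every irreducible character of degree `q - 1`
is cuspidal (`q ≥ 5`). -/

namespace Cfsg.Agent.Lib.Helper6.SL2Cusp

open Matrix Cfsg.Agent.Lib.Helper4 Cfsg.Agent.Lib.Helper4.SL2Tr Cfsg.Agent.Lib.Helper4.SL2Ord
  Cfsg.Agent.Lib.Helper6 Cfsg.Agent.Lib.Helper6.IndFunMore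
open scoped ComplexConjugate

variable {F : Type*} [Field F] [Fintype F] [DecidableEq F]

local notation "SL2" => Matrix.SpecialLinearGroup (Fin 2) F

section torus

variable (K : Subgroup (Matrix.SpecialLinearGroup (Fin 2) F)) (hC : IsCyclic K)
  (hcard : Nat.card K = Fintype.card F + 1)

include hC hcard in
theorem card_hom : Nat.card (K →* ℂˣ) = Fintype.card F + 1 := by
  letI : CommGroup K := IsCyclic.commGroup
  have h := CommGroup.card_monoidHom_of_hasEnoughRootsOfUnity K ℂ
  rw [hcard] at h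
  exact h

include hC hcard in
theorem finite_hom : Finite (K →* ℂˣ) := by
  apply Nat.finite_of_card_ne_zero
  rw [card_hom K hC hcard]
  exact Nat.succ_ne_zero _

include hC in
/-- a linear character of `K` is determined by its value at a generator -/
theorem hom_ext_gen (g : K) (hg : ∀ x : K, x ∈ Subgroup.zpowers g) (θ₁ θ₂ : K →* ℂˣ)
    (h : θ₁ g = θ₂ g) : θ₁ = θ₂ := by
  ext x
  obtain ⟨k, rfl⟩ := Subgroup.mem_zpowers_iff.1 (hg x)
  rw [map_zpow, map_zpow, h]

include hC hcard in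
/-- at most two linear characters of `K` have square one -/
theorem card_bad_le [Fintype (K →* ℂˣ)] [DecidablePred (fun θ : K →* ℂˣ => ∀ c : K, θ c ^ 2 = 1)] :
    (Finset.univ.filter (fun θ : K →* ℂˣ => ∀ c : K, θ c ^ 2 = 1)).card ≤ 2 := by
  classical
  obtain ⟨g, hg⟩ := hC.exists_generator
  have h1 : (Finset.univ.filter (fun θ : K →* ℂˣ => ∀ c : K, θ c ^ 2 = 1)).card ≤
      ({1, -1} : Finset ℂˣ).card := by
    apply Finset.card_le_card_of_injOn (fun θ => θ g)
    · intro θ hθ
      have h2 := (Finset.mem_filter.1 (Finset.mem_coe.1 hθ)).2 g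
      have h3 : (θ g - 1 : ℂ) * (θ g + 1 : ℂ) = 0 := by
        have : ((θ g : ℂˣ) : ℂ) ^ 2 = 1 := by
          rw [← Units.val_pow_eq_pow_val, h2, Units.val_one]
        linear_combination this
      simp only [Finset.coe_insert, Finset.coe_singleton, Set.mem_insert_iff,
        Set.mem_singleton_iff]
      rcases mul_eq_zero.1 h3 with h4 | h4
      · left
        apply Units.ext
        rw [Units.val_one]
        exact sub_eq_zero.1 h4
      · right
        apply Units.ext
        rw [Units.val_neg, Units.val_one]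
        exact eq_neg_of_add_eq_zero_left h4
    · intro θ₁ _ θ₂ _ h
      exact hom_ext_gen K hC g hg θ₁ θ₂ h
  exact h1.trans Finset.card_le_two

include hC hcard in
/-- for `q ≥ 5`, every irreducible character of degree `q - 1` is cuspidal -/
theorem exists_eq_cuspChar (hodd : Odd (Fintype.card F)) (hq : 5 ≤ Fintype.card F) (χ : SL2 → ℂ)
    (hχ : Cfsg.IsIrrCharacter SL2 χ) (hχ1 : χ 1 = (Fintype.card F : ℂ) - 1) :
    ∃ θ : K →* ℂˣ, (∃ c : K, θ c ^ 2 ≠ 1) ∧ χ = cuspChar K hcard hodd θ := by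
  classical
  haveI := finite_hom K hC hcard
  have : Fintype (K →* ℂˣ) := Fintype.ofFinite _
  have : Fintype {χ : Cfsg.IrrCharacter SL2 //
      (χ : SL2 → ℂ) 1 = (Fintype.card F : ℂ) - 1} := Fintype.ofFinite _
  have hcardI := ((Cfsg.Agent.S2299.result hodd).2 hq).2.2.2.1
  -- the set `D`
  set D : Finset (K →* ℂˣ) := Finset.univ.filter (fun θ : K →* ℂˣ => ¬ ∀ c : K, θ c ^ 2 = 1)
    with hD
  have hDcard : Fintype.card F - 1 ≤ D.card := by
    have h1 := Finset.card_filter_add_card_filter_not (s := (Finset.univ : Finset (K →* ℂˣ)))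
      (fun θ : K →* ℂˣ => ∀ c : K, θ c ^ 2 = 1)
    rw [← hD, Finset.card_univ, (Nat.card_eq_fintype_card (α := (K →* ℂˣ))).symm,
      card_hom K hC hcard] at h1
    have h2 := card_bad_le K hC hcard
    omega
  have hDmem : ∀ θ ∈ D, ∃ c : K, θ c ^ 2 ≠ 1 := by
    intro θ hθ
    have := (Finset.mem_filter.1 hθ).2
    push Not at this
    exact this
  -- the target set
  set J : Finset (SL2 → ℂ) := (Finset.univ : Finset {χ : Cfsg.IrrCharacter SL2 //
      (χ : SL2 → ℂ) 1 = (Fintype.card F : ℂ) - 1}).image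
      (fun χ : {χ : Cfsg.IrrCharacter SL2 // (χ : SL2 → ℂ) 1 = (Fintype.card F : ℂ) - 1} => χ.1.1)
    with hJ
  have hJcard : J.card ≤ (Fintype.card F - 1) / 2 := by
    have := Finset.card_image_le (s := (Finset.univ : Finset {χ : Cfsg.IrrCharacter SL2 //
      (χ : SL2 → ℂ) 1 = (Fintype.card F : ℂ) - 1}))
      (f := fun χ : {χ : Cfsg.IrrCharacter SL2 //
        (χ : SL2 → ℂ) 1 = (Fintype.card F : ℂ) - 1} => χ.1.1)
    rw [Finset.card_univ, (Nat.card_eq_fintype_card (α := {χ : Cfsg.IrrCharacter SL2 //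
      (χ : SL2 → ℂ) 1 = (Fintype.card F : ℂ) - 1})).symm, hcardI] at this
    exact this
  set I : Finset (SL2 → ℂ) := D.image (cuspChar K hcard hodd) with hI
  have hIJ : I ⊆ J := by
    intro ψ hψ
    obtain ⟨θ, hθ, rfl⟩ := Finset.mem_image.1 hψ
    rw [hJ, Finset.mem_image]
    exact ⟨⟨⟨_, cuspChar_irr K hC hcard hodd θ (hDmem θ hθ)⟩, cusp_one K hcard hodd _ θ⟩,
      Finset.mem_univ _, rfl⟩
  -- the fibres
  have hfib : ∀ a ∈ D.image (cuspChar K hcard hodd),
      (D.filter (fun θ => cuspChar K hcard hodd θ = a)).card ≤ 2 := by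
    intro a ha
    obtain ⟨θ₀, hθ₀, rfl⟩ := Finset.mem_image.1 ha
    have hsub : D.filter (fun θ => cuspChar K hcard hodd θ = cuspChar K hcard hodd θ₀) ⊆
        ({θ₀, θ₀⁻¹} : Finset (K →* ℂˣ)) := by
      intro θ hθ
      obtain ⟨hθD, hθe⟩ := Finset.mem_filter.1 hθ
      have hirr := cuspChar_irr K hC hcard hodd θ₀ (hDmem θ₀ hθ₀)
      have h1 := classInner_cuspChar K hC hcard hodd θ θ₀
      rw [hθe, classInner_isIrrCharacter hirr hirr, if_pos rfl] at h1
      simp only [Finset.mem_insert, Finset.mem_singleton]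
      by_cases h2 : θ * θ₀⁻¹ = 1
      · left
        exact mul_inv_eq_one.1 h2
      · right
        by_cases h3 : θ * θ₀ = 1
        · ext c
          have h4 := DFunLike.congr_fun h3 c
          rw [MonoidHom.mul_apply, MonoidHom.one_apply] at h4
          rw [MonoidHom.inv_apply, mul_eq_one_iff_eq_inv.1 h4]
        · rw [if_neg h2, if_neg h3] at h1
          norm_num at h1
    exact (Finset.card_le_card hsub).trans Finset.card_le_two
  have h3 := Finset.card_le_mul_card_image D 2 hfib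
  have hIcard : J.card ≤ I.card := by
    obtain ⟨k, hk⟩ := hodd
    have : D.card ≤ 2 * I.card := h3
    omega
  have hIJeq : I = J := Finset.eq_of_subset_of_card_le hIJ hIcard
  have hχJ : χ ∈ J := by
    rw [hJ, Finset.mem_image]
    exact ⟨⟨⟨χ, hχ⟩, hχ1⟩, Finset.mem_univ _, rfl⟩
  rw [← hIJeq, hI, Finset.mem_image] at hχJ
  obtain ⟨θ, hθ, hθχ⟩ := hχJ
  exact ⟨θ, hDmem θ hθ, hθχ.symm⟩

end torus

end Cfsg.Agent.Lib.Helper6.SL2Cusp
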