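import Mathlib
import Cfsg.Agent.Lib.Helper6.SL2CuspCount
import Cfsg.Agent.Lib.Helper4.SL2Mackey
import Cfsg.Agent.Lib.Helper4.GL2Table

set_option autoImplicit false
set_option linter.unusedSectionVars false
set_option linter.style.haveILetI false

/-! The characters of degree `(q ± 1)/2` of `SL₂(q)`, `q` odd: auxiliary results. -/

namespace Cfsg.Agent.Lib.Helper6.SL2Cusp

open Matrix Cfsg.Agent.Lib.Helper4 Cfsg.Agent.Lib.Helper4.SL2Tr Cfsg.Agent.Lib.Helper4.SL2Ord
  Cfsg.Agent.Lib.Helper6 Cfsg.Agent.Lib.Helper6.IndFunMore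
open scoped ComplexConjugate

variable {F : Type*} [Field F] [Fintype F] [DecidableEq F]

local notation "SL2" => Matrix.SpecialLinearGroup (Fin 2) F

omit [DecidableEq F] in
/-- the values of a non-trivial quadratic multiplicative character -/
theorem quad_mulChar_apply (α₀ : MulChar F ℂ) (h1 : α₀ ≠ 1) (h2 : α₀ ^ 2 = 1) (a : F)
    (ha : a ≠ 0) : (IsSquare a → α₀ a = 1) ∧ (¬ IsSquare a → α₀ a = -1) := by
  constructor
  · rintro ⟨b, rfl⟩
    have hb : b ≠ 0 := fun h => ha (by rw [h, mul_zero])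
    have h3 := MulChar.pow_apply_coe α₀ 2 (Units.mk0 b hb)
    rw [h2, MulChar.one_apply_coe, Units.val_mk0] at h3
    rw [map_mul, ← pow_two, ← h3]
  · intro hns
    obtain ⟨g, hg⟩ := (inferInstance : IsCyclic Fˣ).exists_generator
    have hgv : α₀.toUnitHom g = -1 := by
      have h3 : α₀ (g : F) ^ 2 = 1 := by
        rw [← MulChar.pow_apply_coe, h2, MulChar.one_apply_coe]
      rw [sq] at h3
      apply Units.ext
      rw [MulChar.coe_toUnitHom, Units.val_neg, Units.val_one]
      rcases mul_self_eq_one_iff.mp h3 with h4 | h4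
      · exfalso
        apply h1
        rw [MulChar.eq_iff hg, h4, MulChar.one_apply_coe]
      · exact h4
    obtain ⟨k, hk⟩ := Subgroup.mem_zpowers_iff.1 (hg (Units.mk0 a ha))
    have hodd : Odd k := by
      rw [← Int.not_even_iff_odd]
      rintro ⟨j, hj⟩
      apply hns
      refine ⟨((g ^ j : Fˣ) : F), ?_⟩
      have : (Units.mk0 a ha) = g ^ j * g ^ j := by rw [← hk, hj, _root_.zpow_add]
      have h5 := congrArg (fun u : Fˣ => (u : F)) this
      simpa using h5
    have h6 : α₀.toUnitHom (Units.mk0 a ha) = -1 := by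
      rw [← hk, map_zpow, hgv, hodd.neg_one_zpow]
    have h7 := congrArg (fun u : ℂˣ => (u : ℂ)) h6
    simpa [MulChar.coe_toUnitHom] using h7

section torus

variable (K : Subgroup (Matrix.SpecialLinearGroup (Fin 2) F)) (hC : IsCyclic K)
  (hcard : Nat.card K = Fintype.card F + 1)

include hC hcard in
/-- the quadratic character of `K` -/
theorem exists_quadHom (hodd : Odd (Fintype.card F)) :
    ∃ η : K →* ℂˣ, η * η = 1 ∧ η ≠ 1 ∧
      ∀ c : K, (η c = 1 ∨ η c = -1) ∧ (η c = 1 ↔ c ^ ((Fintype.card F + 1) / 2) = 1) := by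
  obtain ⟨c₀, hc₀⟩ := hC.exists_generator
  have hord : orderOf c₀ = Fintype.card F + 1 := by
    rw [orderOf_eq_card_of_forall_mem_zpowers hc₀, hcard]
  obtain ⟨k, hk⟩ := hodd
  have hm : (Fintype.card F + 1) / 2 = k + 1 := by omega
  have hdvd : orderOf (-1 : ℂˣ) ∣ orderOf c₀ := by
    rw [hord]
    apply orderOf_dvd_of_pow_eq_one
    rw [hk, show 2 * k + 1 + 1 = 2 * (k + 1) by ring, pow_mul]
    simp
  set η : K →* ℂˣ := monoidHomOfForallMemZpowers hc₀ hdvd with hη
  have hη0 : η c₀ = -1 := monoidHomOfForallMemZpowers_apply_gen hc₀ hdvd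
  have hval : ∀ j : ℤ, η (c₀ ^ j) = (-1 : ℂˣ) ^ j := by
    intro j
    rw [map_zpow, hη0]
  refine ⟨η, ?_, ?_, ?_⟩
  · ext c
    obtain ⟨j, rfl⟩ := Subgroup.mem_zpowers_iff.1 (hc₀ c)
    rw [MonoidHom.mul_apply, hval, MonoidHom.one_apply, ← mul_zpow]
    simp
  · intro h
    have := DFunLike.congr_fun h c₀
    rw [hη0, MonoidHom.one_apply] at this
    have h2 := congrArg (fun u : ℂˣ => (u : ℂ)) this
    simp only [Units.val_neg, Units.val_one] at h2
    norm_num at h2
  · intro c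
    obtain ⟨j, rfl⟩ := Subgroup.mem_zpowers_iff.1 (hc₀ c)
    rw [hval]
    have hpow : (c₀ ^ j) ^ ((Fintype.card F + 1) / 2) = 1 ↔ Even j := by
      rw [hm, ← zpow_natCast, ← _root_.zpow_mul, ← orderOf_dvd_iff_zpow_eq_one, hord, hk]
      have : ((2 * k + 1 + 1 : ℕ) : ℤ) = 2 * ((k + 1 : ℕ) : ℤ) := by push_cast; ring
      rw [this, mul_comm j, mul_comm 2]
      rw [mul_dvd_mul_iff_left (by exact_mod_cast Nat.succ_ne_zero k)]
      exact even_iff_two_dvd.symm
    rcases Int.even_or_odd j with he | ho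
    · rw [he.neg_one_zpow]
      exact ⟨Or.inl rfl, ⟨fun _ => hpow.2 he, fun _ => rfl⟩⟩
    · rw [ho.neg_one_zpow]
      have hne : (-1 : ℂˣ) ≠ 1 := by
        intro h
        have h2 := congrArg (fun u : ℂˣ => (u : ℂ)) h
        simp only [Units.val_neg, Units.val_one] at h2
        norm_num at h2
      refine ⟨Or.inr rfl, ⟨fun h => absurd h hne, fun h => ?_⟩⟩
      exfalso
      have := hpow.1 h
      exact (Int.not_even_iff_odd.2 ho) this

include hC hcard in
/-- for `q ≥ 5` the cuspidal class function attached to the quadratic character of `K` is the sum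
of the two irreducible characters of degree `(q - 1)/2` -/
theorem quad_cusp_decomp (hodd : Odd (Fintype.card F)) (hq : 5 ≤ Fintype.card F) (η : K →* ℂˣ)
    (hη2 : η * η = 1) (hη1 : η ≠ 1) (χ : SL2 → ℂ) (hχ : Cfsg.IsIrrCharacter SL2 χ)
    (hχ1 : χ 1 = (((Fintype.card F - 1) / 2 : ℕ) : ℂ)) :
    ∃ χ₂ : SL2 → ℂ, Cfsg.IsIrrCharacter SL2 χ₂ ∧ χ₂ ≠ χ ∧
      χ₂ 1 = (((Fintype.card F - 1) / 2 : ℕ) : ℂ) ∧ cuspChar K hcard hodd η = χ + χ₂ := by
  classical
  have : Fintype (Cfsg.IrrCharacter SL2) := Fintype.ofFinite _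
  obtain ⟨k, hk⟩ := hodd.exists_bit1
  have hk2 : 2 ≤ k := by omega
  set Y := cuspChar K hcard hodd η with hYdef
  have hY : Cfsg.IsGeneralizedCharacter SL2 Y := cusp_isGeneralizedCharacter K _ η
  have hnorm : Cfsg.classInner Y Y = 2 := by
    rw [hYdef, classInner_cuspChar K hC hcard hodd, if_pos (mul_inv_cancel η), if_pos hη2]
    norm_num
  have hY1 : Y 1 = (Fintype.card F : ℂ) - 1 := cusp_one K hcard hodd _ η
  obtain ⟨c, hc, hci⟩ := IsGeneralizedCharacter.exists_int_coeff hY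
  have hsq : ∑ β, c β * c β = 2 := by
    have h2 := hnorm
    rw [hc, classInner_sum_int] at h2
    exact_mod_cast h2
  obtain ⟨i, j, hij, hci', hcj', hrest⟩ := exists_pair_of_sum_sq_eq_two c hsq
  -- orthogonality relations
  have hYone : Cfsg.classInner Y (fun _ => (1 : ℂ)) = 0 := by
    rw [hYdef]
    unfold cuspChar
    rw [classInner_cusp_one K hC hcard hodd, if_neg hη1, neg_zero]
  have hYR : ∀ β : MulChar F ℂ, Cfsg.classInner Y (Rps β) = 0 := by
    intro β
    exact classInner_cusp_Rps K hC hcard hodd _ β η (alphaOf_spec K hcard hodd η)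
  have hYcusp : ∀ θ : K →* ℂˣ, (∃ x : K, θ x ^ 2 ≠ 1) →
      Cfsg.classInner Y (cuspChar K hcard hodd θ) = 0 := by
    intro θ hθ
    have hθθ : θ * θ ≠ 1 := by
      intro h
      obtain ⟨x, hx⟩ := hθ
      apply hx
      have := DFunLike.congr_fun h x
      rw [MonoidHom.mul_apply, MonoidHom.one_apply] at this
      rw [pow_two, this]
    rw [hYdef, classInner_cuspChar K hC hcard hodd, if_neg, if_neg, add_zero]
    · intro h
      apply hθθ
      have h1 : θ = η⁻¹ := by
        refine MonoidHom.ext (fun x => ?_)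
        have := DFunLike.congr_fun h x
        rw [MonoidHom.mul_apply, MonoidHom.one_apply] at this
        rw [MonoidHom.inv_apply]
        exact eq_inv_of_mul_eq_one_right this
      have h2 : η⁻¹ = η := by
        refine MonoidHom.ext (fun x => ?_)
        have := DFunLike.congr_fun hη2 x
        rw [MonoidHom.mul_apply, MonoidHom.one_apply] at this
        rw [MonoidHom.inv_apply, inv_eq_of_mul_eq_one_left this]
      rw [h1, h2, hη2]
    · intro h
      apply hθθ
      have h1 : θ = η := by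
        refine MonoidHom.ext (fun x => ?_)
        have := DFunLike.congr_fun h x
        rw [MonoidHom.mul_apply, MonoidHom.one_apply, MonoidHom.inv_apply] at this
        rw [← mul_inv_eq_one.1 this]
      rw [h1, hη2]
  -- only characters of degree `(q ± 1)/2` occur
  have hdeg : ∀ β : Cfsg.IrrCharacter SL2, c β ≠ 0 → degN β = k + 1 ∨ degN β = k := by
    intro β hβ
    have hcβ := hci β
    rcases sl2_types_degN β with ⟨h, -⟩ | ⟨h, -⟩ | ⟨δ, -, h, -⟩ | ⟨χ', -, -, -, hd⟩ |
      ⟨α₀, ψ', -, -, -, -, -, -, -, hd⟩ | ⟨χ', α₀, ψ', -, -, -, -, -, -, -, -, -, -, hd⟩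
    · exfalso
      apply hβ
      rw [h, hYone] at hcβ
      exact_mod_cast hcβ.symm
    · exfalso
      apply hβ
      have h1 : resSL (stGL2 (1 : MulChar F ℂ)) = Rps 1 - (fun _ => (1 : ℂ)) := by
        have h2 := psGL2_self_eq (1 : MulChar F ℂ)
        have h3 : resSL (psGL2 (1 : MulChar F ℂ) 1) =
            resSL (stGL2 (1 : MulChar F ℂ)) + resSL (lamGL2 (1 : MulChar F ℂ)) := by
          rw [h2]; rfl
        rw [resSL_ps_eq_psSL2, resSL_lam] at h3
        rw [show Rps (1 : MulChar F ℂ) = psSL2 (fun x => (1 : MulChar F ℂ) x) from rfl, h3,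
          add_sub_cancel_right]
      rw [h, h1, classInner_sub_right, hYR, hYone, sub_zero] at hcβ
      exact_mod_cast hcβ.symm
    · exfalso
      apply hβ
      have h1 : resSL (psGL2 (1 : MulChar F ℂ) δ) = Rps δ⁻¹ := by
        have h2 := resSL_ps δ⁻¹ (1 : MulChar F ℂ)
        rw [inv_inv, mul_one] at h2
        rw [← h2, resSL_ps_eq_psSL2]
        rfl
      rw [h, h1, hYR] at hcβ
      exact_mod_cast hcβ.symm
    · exfalso
      apply hβ
      have h1 : (β : SL2 → ℂ) 1 = (Fintype.card F : ℂ) - 1 := by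
        rw [degN_spec, hd, Nat.cast_sub Fintype.card_pos, Nat.cast_one]
      obtain ⟨θ, hθ, hθβ⟩ := exists_eq_cuspChar K hC hcard hodd hq _ β.2 h1
      rw [hθβ, hYcusp θ hθ] at hcβ
      exact_mod_cast hcβ.symm
    · left; omega
    · right; omega
  have hci0 : c i ≠ 0 := by rcases hci' with h | h <;> rw [h] <;> norm_num
  have hcj0 : c j ≠ 0 := by rcases hcj' with h | h <;> rw [h] <;> norm_num
  have hθ2 : Y = (c i : ℂ) • (i : SL2 → ℂ) + (c j : ℂ) • (j : SL2 → ℂ) := by
    rw [hc, ← Finset.add_sum_erase Finset.univ _ (Finset.mem_univ i),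
      ← Finset.add_sum_erase (Finset.univ.erase i) _
        (Finset.mem_erase.mpr ⟨hij.symm, Finset.mem_univ j⟩)]
    rw [Finset.sum_eq_zero, add_zero]
    intro l hl
    have hlj := Finset.ne_of_mem_erase hl
    have hli := Finset.ne_of_mem_erase (Finset.mem_of_mem_erase hl)
    rw [hrest l hli hlj, Int.cast_zero, zero_smul]
  have h3 : (c i : ℂ) * (degN i : ℂ) + (c j : ℂ) * (degN j : ℂ) = (Fintype.card F : ℂ) - 1 := by
    have := congrFun hθ2 1
    rw [hY1, Pi.add_apply, Pi.smul_apply, Pi.smul_apply, smul_eq_mul, smul_eq_mul, degN_spec,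
      degN_spec] at this
    exact this.symm
  have h4 : c i * (degN i : ℤ) + c j * (degN j : ℤ) = 2 * (k : ℤ) := by
    have : (Fintype.card F : ℂ) - 1 = ((2 * (k : ℤ) : ℤ) : ℂ) := by
      rw [hk]; push_cast; ring
    rw [this] at h3
    exact_mod_cast h3
  have hres : c i = 1 ∧ c j = 1 ∧ degN i = k ∧ degN j = k := by
    rcases hdeg i hci0 with hdi | hdi <;> rcases hdeg j hcj0 with hdj | hdj <;>
      rcases hci' with h1 | h1 <;> rcases hcj' with h2 | h2 <;>
      rw [hdi, hdj, h1, h2] at h4 <;> first | (exfalso; push_cast at h4; omega) |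
        exact ⟨h1, h2, hdi, hdj⟩
  obtain ⟨hi1, hj1, hdi, hdj⟩ := hres
  rw [hi1, hj1, Int.cast_one, one_smul, one_smul] at hθ2
  have hkk : (Fintype.card F - 1) / 2 = k := by omega
  -- the characters of degree `(q - 1)/2`
  have hcard2 := ((Cfsg.Agent.S2299.result hodd).2 hq).2.2.2.2.2
  rw [hkk] at hcard2 hχ1 ⊢
  have hi' : (i : SL2 → ℂ) 1 = (k : ℂ) := by rw [degN_spec, hdi]
  have hj' : (j : SL2 → ℂ) 1 = (k : ℂ) := by rw [degN_spec, hdj]
  obtain ⟨y, hy, huniq⟩ := (Nat.card_eq_two_iff' (⟨i, hi'⟩ : {ψ : Cfsg.IrrCharacter SL2 //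
    (ψ : SL2 → ℂ) 1 = (k : ℂ)})).1 hcard2
  have hjy : (⟨j, hj'⟩ : {ψ : Cfsg.IrrCharacter SL2 // (ψ : SL2 → ℂ) 1 = (k : ℂ)}) = y := by
    apply huniq
    intro h
    exact hij (congrArg Subtype.val h).symm
  by_cases hXi : (⟨χ, hχ⟩ : Cfsg.IrrCharacter SL2) = i
  · refine ⟨j, j.2, ?_, hj', ?_⟩
    · intro h
      apply hij
      rw [← hXi]
      exact (Subtype.ext h).symm
    · rw [hθ2, ← hXi]
  · have hXy : (⟨⟨χ, hχ⟩, hχ1⟩ : {ψ : Cfsg.IrrCharacter SL2 // (ψ : SL2 → ℂ) 1 = (k : ℂ)}) = y := by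
      apply huniq
      intro h
      exact hXi (congrArg Subtype.val h)
    have hXj : (⟨χ, hχ⟩ : Cfsg.IrrCharacter SL2) = j := by
      have := hXy.trans hjy.symm
      exact congrArg Subtype.val this
    refine ⟨i, i.2, ?_, hi', ?_⟩
    · intro h
      apply hij
      rw [← hXj]
      exact Subtype.ext h
    · rw [hθ2, ← hXj, add_comm]

end torus

end Cfsg.Agent.Lib.Helper6.SL2Cusp
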