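import Mathlib
import Cfsg.Agent.Lib.Helper6.SL2CuspIrr
import Cfsg.Agent.Lib.Helper6.BlkVanish
import Cfsg.Agent.Lib.Helper6.SecondOrth
import Cfsg.Agent.Lib.Helper6.GaloisRat

set_option autoImplicit false
set_option linter.unusedSectionVars false
set_option linter.style.haveILetI false

/-! `SL₂(3)`: irreducible characters of degree `2` vanish at the elements of order `4`. -/

namespace Cfsg.Agent.Lib.Helper6.SL2Cusp

open Matrix Cfsg.Agent.Lib.Helper4 Cfsg.Agent.Lib.Helper4.SL2Tr Cfsg.Agent.Lib.Helper4.SL2Ord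
  Cfsg.Agent.Lib.Helper6 Cfsg.Agent.Lib.Helper6.IndFunMore
open scoped ComplexConjugate

variable {F : Type*} [Field F] [Fintype F] [DecidableEq F]

local notation "SL2" => Matrix.SpecialLinearGroup (Fin 2) F

section torus

variable (K : Subgroup (Matrix.SpecialLinearGroup (Fin 2) F)) (hC : IsCyclic K)
  (hcard : Nat.card K = Fintype.card F + 1)

include hC hcard in
theorem q3_vanish (hodd : Odd (Fintype.card F)) (hq : Fintype.card F = 3) (χ : SL2 → ℂ)
    (hχ : Cfsg.IsIrrCharacter SL2 χ) (hχ1 : χ 1 = 2) (c : K)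
    (hc : (c : SL2) ∉ Subgroup.center SL2) : χ c = 0 := by
  classical
  have : Fintype (Cfsg.IrrCharacter SL2) := Fintype.ofFinite _
  have hc4 : (c : SL2) ^ 4 = 1 := by
    have := pow_card_eq_one_of_mem K hcard c.2
    rw [hq] at this
    exact this
  have hc2 : (c : SL2) ^ 2 = negOneSL F := by
    have h1 : ((c : SL2) ^ 2) ^ 2 = 1 := by rw [← pow_mul]; exact hc4
    rcases eq_one_or_neg_of_sq hodd _ h1 with h | h
    · exfalso
      apply hc
      rw [mem_center_iff_sq hodd]
      exact h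
    · exact h
  obtain ⟨m, μ, hμ, hk⟩ := IsCharacter.exists_eigen_pow (IsIrrCharacter.isCharacter hχ) (c : SL2) 4
    (by norm_num) hc4
  have hm : m = 2 := by
    have h0 := hk 0
    simp only [pow_zero, Finset.sum_const, Finset.card_univ, Fintype.card_fin, nsmul_eq_mul,
      mul_one] at h0
    rw [hχ1] at h0
    exact_mod_cast h0.symm
  subst hm
  have h1 := hk 1
  have h2 := hk 2
  simp only [pow_one, Fin.sum_univ_two] at h1 h2
  rw [hc2] at h2
  -- the central character
  have hz : ∀ h : SL2, negOneSL F * h = h * negOneSL F := fun h =>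
    (Subgroup.mem_center_iff.1 negOneSL_mem_center h).symm
  have h3 := IsIrrCharacter.apply_central_mul hχ hz (negOneSL F)
  rw [SL2Cov.negOneSL_mul_self, hχ1] at h3
  have h4 : χ (negOneSL F) ^ 2 = 4 := by
    have : (2 : ℂ) ≠ 0 := two_ne_zero
    field_simp at h3
    linear_combination -h3
  set a := μ 0 ^ 2 with ha
  set b := μ 1 ^ 2 with hb
  have ha2 : a ^ 2 = 1 := by rw [ha, ← pow_mul]; exact hμ 0
  have hb2 : b ^ 2 = 1 := by rw [hb, ← pow_mul]; exact hμ 1
  have hab : a * b = 1 := by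
    rw [h2] at h4
    linear_combination (1 / 2 : ℂ) * h4 - (1 / 2 : ℂ) * ha2 - (1 / 2 : ℂ) * hb2
  have hab' : a = b := by
    calc a = a * b ^ 2 := by rw [hb2, mul_one]
      _ = (a * b) * b := by ring
      _ = b := by rw [hab, one_mul]
  have h5 : (μ 0 - μ 1) * (μ 0 + μ 1) = 0 := by
    rw [ha, hb] at hab'
    linear_combination hab'
  rcases mul_eq_zero.1 h5 with h6 | h6
  · -- `χ c = 2 μ₀`: impossible by the second orthogonality relation
    exfalso
    have h7 : μ 1 = μ 0 := (sub_eq_zero.1 h6).symm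
    rw [h7] at h1
    have hnorm : ‖μ 0‖ = 1 := Complex.norm_eq_one_of_pow_eq_one (hμ 0) (by norm_num)
    have h8 : χ (c : SL2) * conj (χ (c : SL2)) = 4 := by
      rw [h1, Complex.mul_conj, Complex.normSq_eq_norm_sq]
      have : ‖μ 0 + μ 0‖ = 2 := by
        rw [← two_mul, norm_mul, hnorm]
        simp
      rw [this]
      norm_num
    have h9 := (sum_irr_mul_conj (c : SL2) (c : SL2)).1 (IsConj.refl _)
    rw [(no_root_of_mem K hC hcard hodd c.2 hc).2, hcard, hq] at h9
    -- real parts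
    have h10 : ∑ ψ : Cfsg.IrrCharacter SL2, Complex.normSq ((ψ : SL2 → ℂ) (c : SL2)) = 4 := by
      have : ((∑ ψ : Cfsg.IrrCharacter SL2, Complex.normSq ((ψ : SL2 → ℂ) (c : SL2)) : ℝ) : ℂ)
          = ((4 : ℝ) : ℂ) := by
        push_cast
        have h' : ∀ ψ : Cfsg.IrrCharacter SL2, ((Complex.normSq ((ψ : SL2 → ℂ) (c : SL2)) : ℝ) : ℂ)
            = (ψ : SL2 → ℂ) (c : SL2) * conj ((ψ : SL2 → ℂ) (c : SL2)) :=
          fun ψ => (Complex.mul_conj _).symm
        rw [Finset.sum_congr rfl (fun ψ _ => h' ψ), h9]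
        norm_num
      exact_mod_cast this
    set T : Cfsg.IrrCharacter SL2 := ⟨fun _ => 1, isIrrCharacter_one⟩ with hT
    set X : Cfsg.IrrCharacter SL2 := ⟨χ, hχ⟩ with hX
    have hTX : T ≠ X := by
      intro h
      have := congrArg (fun ψ : Cfsg.IrrCharacter SL2 => (ψ : SL2 → ℂ) 1) h
      simp only [hT, hX, hχ1] at this
      norm_num at this
    have h11 : ∑ ψ ∈ ({T, X} : Finset (Cfsg.IrrCharacter SL2)),
        Complex.normSq ((ψ : SL2 → ℂ) (c : SL2)) ≤
        ∑ ψ : Cfsg.IrrCharacter SL2, Complex.normSq ((ψ : SL2 → ℂ) (c : SL2)) :=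
      Finset.sum_le_sum_of_subset_of_nonneg (Finset.subset_univ _)
        (fun ψ _ _ => Complex.normSq_nonneg _)
    rw [Finset.sum_pair hTX, h10] at h11
    have h12 : Complex.normSq ((X : SL2 → ℂ) (c : SL2)) = 4 := by
      have : ((Complex.normSq ((X : SL2 → ℂ) (c : SL2)) : ℝ) : ℂ) = ((4 : ℝ) : ℂ) := by
        rw [← Complex.mul_conj]
        push_cast
        exact h8
      exact_mod_cast this
    have h13 : Complex.normSq ((T : SL2 → ℂ) (c : SL2)) = 1 := by
      simp [hT]
    rw [h12, h13] at h11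
    norm_num at h11
  · rw [h1, h6]

end torus

end Cfsg.Agent.Lib.Helper6.SL2Cusp
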