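import Mathlib
import Cfsg.Agent.S2475
import Cfsg.Agent.Lib.Helper5.DicksonOrders

/-!
# S3641, piece N5: order and spectrum of `PSL(2,17)`.
-/

set_option autoImplicit false

namespace Cfsg.Agent.Lib.Helper6.SN17

-- N5
theorem psl_facts :
    Nat.card (Matrix.ProjectiveSpecialLinearGroup (Fin 2) (ZMod 17)) = 2448 ∧
    (∀ t : Matrix.ProjectiveSpecialLinearGroup (Fin 2) (ZMod 17),
      orderOf t ∣ 8 ∨ orderOf t ∣ 9 ∨ orderOf t ∣ 17) ∧
    (∃ t : Matrix.ProjectiveSpecialLinearGroup (Fin 2) (ZMod 17), orderOf t = 8) ∧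
    (∃ t : Matrix.ProjectiveSpecialLinearGroup (Fin 2) (ZMod 17), orderOf t = 9) := by
  haveI : Fact (Nat.Prime 17) := ⟨by norm_num⟩
  have hcardF : Fintype.card (ZMod 17) = 17 := ZMod.card 17
  have hcard := Cfsg.Agent.Lib.Helper5.DicksonOrders.card_PSL2_mul (F := ZMod 17)
  rw [hcardF] at hcard
  have hspec := Cfsg.Agent.S2475.result (F := ZMod 17) 17 (by rw [hcardF]; norm_num)
  rw [hcardF] at hspec
  have hg : Nat.gcd 2 (17 - 1) = 2 := by norm_num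
  rw [hg] at hcard hspec
  have e1 : (17 - 1) / 2 = 8 := by norm_num
  have e2 : (17 + 1) / 2 = 9 := by norm_num
  rw [e1, e2] at hspec
  refine ⟨by omega, ?_, ?_, ?_⟩
  · intro t
    have ht : orderOf t ∈ Set.range (orderOf : Matrix.ProjectiveSpecialLinearGroup (Fin 2)
        (ZMod 17) → ℕ) := ⟨t, rfl⟩
    rw [hspec] at ht
    rcases ht with h | h | h
    · exact Or.inr (Or.inr h)
    · exact Or.inl h
    · exact Or.inr (Or.inl h)
  · have h8 : (8 : ℕ) ∈ {m : ℕ | m ∣ 17 ∨ m ∣ 8 ∨ m ∣ 9} := Or.inr (Or.inl (dvd_refl 8))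
    rw [← hspec] at h8
    exact h8
  · have h9 : (9 : ℕ) ∈ {m : ℕ | m ∣ 17 ∨ m ∣ 8 ∨ m ∣ 9} := Or.inr (Or.inr (dvd_refl 9))
    rw [← hspec] at h9
    exact h9

end Cfsg.Agent.Lib.Helper6.SN17
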