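import Mathlib

/-!
# S3641, pieces N6a, N6b, N6c: comparing Sylow numbers along injective / quotient maps.
-/

set_option autoImplicit false

namespace Cfsg.Agent.Lib.Helper6.SN17

-- N6a
theorem card_sylow_le_of_injective {T H : Type*} [Group T] [Group H] [Finite H] (f : T →* H)
    (hf : Function.Injective f) (p : ℕ) [Fact p.Prime] :
    Nat.card (Sylow p T) ≤ Nat.card (Sylow p H) := by
  classical
  have hex : ∀ P : Sylow p T, ∃ Q : Sylow p H, Q.comap f = (P : Subgroup T) := fun P =>
    P.exists_comap_eq_of_injective hf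
  choose Q hQ using hex
  apply Nat.card_le_card_of_injective Q
  intro P P' h
  apply Sylow.ext
  rw [← hQ P, ← hQ P', h]

-- N6b
theorem card_sylow_quotient_le {G : Type*} [Group G] [Finite G] (K : Subgroup G) [K.Normal]
    (p : ℕ) [Fact p.Prime] :
    Nat.card (Sylow p (G ⧸ K)) ≤ Nat.card (Sylow p G) :=
  Nat.card_le_card_of_surjective _
    (Sylow.mapSurjective_surjective (QuotientGroup.mk'_surjective K) p)

-- N6c
theorem le_normalizer_of_card_eq {G : Type*} [Group G] [Finite G] (K : Subgroup G) [K.Normal]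
    (p : ℕ) [Fact p.Prime] (h : Nat.card (Sylow p (G ⧸ K)) = Nat.card (Sylow p G))
    (S : Sylow p G) : K ≤ Subgroup.normalizer (S : Set G) := by
  classical
  have hsurj := Sylow.mapSurjective_surjective (QuotientGroup.mk'_surjective K) p
  have hbij : Function.Bijective
      (Sylow.mapSurjective (QuotientGroup.mk'_surjective K) : Sylow p G → Sylow p (G ⧸ K)) :=
    hsurj.bijective_of_nat_card_le h.symm.le
  intro k hk
  rw [← Sylow.smul_eq_iff_mem_normalizer]
  apply hbij.1
  apply Sylow.ext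
  rw [Sylow.coe_mapSurjective, Sylow.coe_mapSurjective]
  ext y
  constructor
  · rintro ⟨x, hx, rfl⟩
    -- x ∈ k • S, so x = k s k⁻¹
    have hx' : x ∈ ((k • S : Sylow p G) : Subgroup G) := hx
    rw [Sylow.coe_subgroup_smul, Subgroup.mem_smul_pointwise_iff_exists] at hx'
    obtain ⟨s, hs, rfl⟩ := hx'
    refine ⟨s, hs, ?_⟩
    have hk1 : (QuotientGroup.mk' K) k = 1 := (QuotientGroup.eq_one_iff k).2 hk
    show (QuotientGroup.mk' K) s = (QuotientGroup.mk' K) (MulAut.conj k s)
    rw [MulAut.conj_apply, map_mul, map_mul, map_inv, hk1, one_mul, inv_one, mul_one]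
  · rintro ⟨s, hs, rfl⟩
    refine ⟨k * s * k⁻¹, ?_, ?_⟩
    · show k * s * k⁻¹ ∈ ((k • S : Sylow p G) : Subgroup G)
      rw [Sylow.coe_subgroup_smul, Subgroup.mem_smul_pointwise_iff_exists]
      exact ⟨s, hs, by rw [MulAut.smul_def, MulAut.conj_apply]⟩
    · have hk1 : (QuotientGroup.mk' K) k = 1 := (QuotientGroup.eq_one_iff k).2 hk
      rw [map_mul, map_mul, map_inv, hk1, one_mul, inv_one, mul_one]

end Cfsg.Agent.Lib.Helper6.SN17
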