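import Cfsg.Agent.Lib.Helper2.SOT3Defs
import Cfsg.Agent.Lib.Helper2.FrobeniusDiv
import Cfsg.Agent.S3995

/-!
# S3996 farm, piece A: the counting data of a finite group
-/

set_option autoImplicit false

namespace Cfsg.Agent.Lib.Helper6.SOT3

open Cfsg.Agent.Lib.Helper2 Cfsg.Agent.Lib.Helper2.SOT3

open Classical in
/-- the number of elements of order `d` is divisible by `φ d`. -/
theorem totient_dvd_card_orderOf (G : Type*) [Group G] [Finite G] (d : ℕ) :
    Nat.totient d ∣ Nat.card {g : G // orderOf g = d} := by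
  haveI := Fintype.ofFinite G
  rw [Nat.card_eq_fintype_card, Fintype.card_subtype]
  rw [Finset.card_eq_sum_card_image (fun x => Subgroup.zpowers x)
    (Finset.univ.filter (fun g : G => orderOf g = d))]
  apply Finset.dvd_sum
  intro b hb
  obtain ⟨x, hx, rfl⟩ := Finset.mem_image.1 hb
  have hxd : orderOf x = d := (Finset.mem_filter.1 hx).2
  have : (Finset.univ.filter (fun g : G => orderOf g = d)).filter
      (fun x' => Subgroup.zpowers x' = Subgroup.zpowers x) =
      Finset.univ.filter (fun x' : G => Subgroup.zpowers x' = Subgroup.zpowers x) := by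
    ext x'
    simp only [Finset.mem_filter, Finset.mem_univ, true_and, and_iff_right_iff_imp]
    intro h
    have := (zpowers_eq_iff' x x').1 h
    rw [this.2, hxd]
  rw [this, card_same_zpowers, hxd]

/-- (A) the counting data of a finite group. -/
theorem cnt_of_group (G : Type*) [Group G] [Finite G] :
    Cnt (Nat.card G) (fun d => Nat.card {g : G // orderOf g = d}) := by
  refine ⟨Nat.card_pos, Cfsg.Agent.S3995.cnt_one, ?_, ?_, ?_, ?_, ?_, ?_⟩
  · intro m hm
    have hm0 : 0 < m := Nat.pos_of_dvd_of_pos hm Nat.card_pos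
    rw [← Cfsg.Agent.S3995.sol_eq_sum hm0]
    exact frobenius_dvd G m hm
  · intro p hp hpN
    haveI := Fact.mk hp
    obtain ⟨g, hg⟩ := exists_prime_orderOf_dvd_card' p hpN
    exact (Cfsg.Agent.S3995.cnt_pos_iff p).mpr ⟨g, hg⟩
  · intro m hm
    obtain ⟨g, rfl⟩ := (Cfsg.Agent.S3995.cnt_pos_iff m).mp hm
    exact orderOf_dvd_natCard g
  · intro d m hdm hm
    obtain ⟨g, rfl⟩ := (Cfsg.Agent.S3995.cnt_pos_iff m).mp hm
    have ho : 0 < orderOf g := orderOf_pos g
    refine (Cfsg.Agent.S3995.cnt_pos_iff d).mpr ⟨g ^ (orderOf g / d), ?_⟩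
    have hd0 : 0 < d := Nat.pos_of_dvd_of_pos hdm ho
    rw [orderOf_pow_of_dvd (Nat.div_pos (Nat.le_of_dvd ho hdm) hd0).ne' (Nat.div_dvd_of_dvd hdm),
      Nat.div_div_self hdm ho.ne']
  · intro d
    exact totient_dvd_card_orderOf G d
  · rw [← Cfsg.Agent.S3995.sol_eq_sum (G := G) (Nat.card_pos (α := G))]
    have : ∀ g : G, g ^ Nat.card G = 1 := fun g => pow_card_eq_one'
    rw [Nat.card_congr (Equiv.subtypeUnivEquiv this)]

end Cfsg.Agent.Lib.Helper6.SOT3
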