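import Cfsg.Agent.Lib.Helper2.SOT3Defs
import Cfsg.Agent.Lib.Lead.AutOrbC
import Cfsg.Agent.S0144

/-!
# S3996 farm, piece H: at most two prime divisors implies solvable (Burnside)
-/

set_option autoImplicit false

namespace Cfsg.Agent.Lib.Helper6.SOT3

/-- (H) solvable from at most two prime divisors. -/
theorem solvable_of_primes {G : Type*} [Group G] [Finite G]
    (h : ∀ p q r : ℕ, p.Prime → q.Prime → r.Prime → p ≠ q → p ≠ r → q ≠ r →
      p ∣ Nat.card G → q ∣ Nat.card G → r ∣ Nat.card G → False) : Group.IsSolvable G := by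
  by_cases h1 : Nat.card G = 1
  · haveI : Subsingleton G := (Nat.card_eq_one_iff_unique.1 h1).1
    infer_instance
  · have hp : (Nat.card G).minFac.Prime := Nat.minFac_prime h1
    have hpN : (Nat.card G).minFac ∣ Nat.card G := Nat.minFac_dvd _
    obtain ⟨p, hpe⟩ : ∃ p, p = (Nat.card G).minFac := ⟨_, rfl⟩
    rw [← hpe] at hp hpN
    have hn0 : Nat.card G ≠ 0 := Nat.card_pos.ne'
    obtain ⟨q, hq, hall⟩ : ∃ q : ℕ, q.Prime ∧
        ∀ r : ℕ, r.Prime → r ∣ Nat.card G → r = p ∨ r = q := by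
      by_cases hex : ∃ q : ℕ, q.Prime ∧ q ∣ Nat.card G ∧ q ≠ p
      · obtain ⟨q, hq, hqN, hqp⟩ := hex
        refine ⟨q, hq, ?_⟩
        intro r hr hrN
        by_contra hcon
        push Not at hcon
        exact h p q r hp hq hr (Ne.symm hqp) (Ne.symm hcon.1) (Ne.symm hcon.2) hpN hqN hrN
      · push Not at hex
        exact ⟨p, hp, fun r hr hrN => Or.inl (hex r hr hrN)⟩
    obtain ⟨a, b, hab⟩ := Cfsg.Agent.Lib.Lead.AutOrbC.card_eq_two_prime_pows hn0 hp hall
    exact Cfsg.Agent.S0144.result p q a b hp hq hab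

end Cfsg.Agent.Lib.Helper6.SOT3
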