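import Cfsg.Agent.Lib.Helper6.SOT4G2

/-!
# S4004 farm, piece G1: a Sylow `p`-subgroup fixes an element of order `q`
-/

set_option autoImplicit false

namespace Cfsg.Agent.Lib.Helper6.SOT4

/-- a Sylow `p`-subgroup centralizes some element of order `q` when `#{o(g) = q} ≡ 1 (mod p)`. -/
theorem exists_fixed_of_order {G : Type*} [Group G] [Finite G] (p q : ℕ) [Fact p.Prime]
    (P : Sylow p G) (h : (p : ℤ) ∣ (Nat.card {g : G // orderOf g = q} : ℤ) - 1) :
    ∃ y : G, orderOf y = q ∧ ∀ a ∈ (P : Subgroup G), a * y * a⁻¹ = y := by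
  letI : MulAction ↥(P : Subgroup G) {g : G // orderOf g = q} :=
    conjOrderAction (P : Subgroup G) q
  have hmod := P.isPGroup'.card_modEq_card_fixedPoints {g : G // orderOf g = q}
  have hne : Nonempty (MulAction.fixedPoints ↥(P : Subgroup G) {g : G // orderOf g = q}) := by
    by_contra hcon
    rw [not_nonempty_iff] at hcon
    have hz : Nat.card (MulAction.fixedPoints ↥(P : Subgroup G) {g : G // orderOf g = q}) = 0 :=
      Nat.card_eq_zero.2 (Or.inl hcon)
    rw [hz] at hmod
    have h1 : p ∣ Nat.card {g : G // orderOf g = q} := (Nat.modEq_zero_iff_dvd).1 hmod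
    have h2 : (p : ℤ) ∣ (Nat.card {g : G // orderOf g = q} : ℤ) := by exact_mod_cast h1
    have h3 : (p : ℤ) ∣ 1 := by
      have := dvd_sub h2 h
      simpa using this
    have h4 : p ∣ 1 := by exact_mod_cast h3
    exact (Fact.out : p.Prime).one_lt.ne' (Nat.dvd_one.1 h4)
  obtain ⟨⟨y, hy⟩⟩ := hne
  refine ⟨y.1, y.2, ?_⟩
  intro a ha
  exact congrArg Subtype.val (hy ⟨a, ha⟩)

/-- every element of order `p` commutes with some element of order `q`. -/
theorem exists_commute_of_order {G : Type*} [Group G] [Finite G] (p q : ℕ) [Fact p.Prime]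
    (h : (p : ℤ) ∣ (Nat.card {g : G // orderOf g = q} : ℤ) - 1) (x : G) (hx : orderOf x = p) :
    ∃ y : G, orderOf y = q ∧ Commute x y := by
  have hxp : IsPGroup p (Subgroup.zpowers x) :=
    IsPGroup.of_card (n := 1) (by rw [Nat.card_zpowers, hx, pow_one])
  obtain ⟨Q, hQ⟩ := hxp.exists_le_sylow
  obtain ⟨y, hy, hfix⟩ := exists_fixed_of_order p q Q h
  refine ⟨y, hy, ?_⟩
  have hxQ : x ∈ (Q : Subgroup G) := hQ (Subgroup.mem_zpowers x)
  have := hfix x hxQ
  show x * y = y * x
  calc x * y = x * y * x⁻¹ * x := by group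
    _ = y * x := by rw [this]

/-- (G1) a Sylow `p`-subgroup fixes an element of order `q`: many elements of order `p q`. -/
theorem mixed_count_ge {G : Type*} [Group G] [Finite G] (p q : ℕ) (hp : p.Prime) (hq : q.Prime)
    (hpq : p ≠ q) (hpG : p ∣ Nat.card G)
    (h : (p : ℤ) ∣ (Nat.card {g : G // orderOf g = q} : ℤ) - 1) :
    (q - 1) * Nat.card {g : G // orderOf g = p} ≤ Nat.card {g : G // orderOf g = p * q} := by
  haveI := Fact.mk hp
  have hcop : p.Coprime q := (Nat.coprime_primes hp hq).2 hpq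
  choose F hF1 hF2 using fun x : {g : G // orderOf g = p} =>
    exists_commute_of_order p q h x.1 x.2
  -- exponent `a ≡ 1 (mod p)`, `a ≡ 0 (mod q)`
  have ha1 : q ^ (p - 1) ≡ 1 [MOD p] := by
    have := Nat.ModEq.pow_totient (x := q) (n := p) hcop.symm
    rwa [Nat.totient_prime hp] at this
  have ha0 : q ∣ q ^ (p - 1) := dvd_pow_self q (by have := hp.two_le; omega)
  have hord : ∀ (x : {g : G // orderOf g = p}) (i : Fin (q - 1)),
      orderOf (F x ^ ((i : ℕ) + 1)) = q := by
    intro x i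
    have hi := i.2
    have hc : (orderOf (F x)).Coprime ((i : ℕ) + 1) := by
      rw [hF1 x]
      apply (Nat.Prime.coprime_iff_not_dvd hq).2
      intro hd
      have := Nat.le_of_dvd (Nat.succ_pos _) hd
      omega
    rw [hc.orderOf_pow, hF1 x]
  have hmem : ∀ (x : {g : G // orderOf g = p}) (i : Fin (q - 1)),
      orderOf (x.1 * F x ^ ((i : ℕ) + 1)) = p * q := by
    intro x i
    have hc : Commute x.1 (F x ^ ((i : ℕ) + 1)) := (hF2 x).pow_right _
    have := hc.orderOf_mul_eq_mul_orderOf_of_coprime (by rw [x.2, hord x i]; exact hcop)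
    rw [this, x.2, hord x i]
  have hrec : ∀ (x : {g : G // orderOf g = p}) (i : Fin (q - 1)),
      (x.1 * F x ^ ((i : ℕ) + 1)) ^ (q ^ (p - 1)) = x.1 := by
    intro x i
    have hc : Commute x.1 (F x ^ ((i : ℕ) + 1)) := (hF2 x).pow_right _
    rw [hc.mul_pow]
    have h1 : x.1 ^ (q ^ (p - 1)) = x.1 := by
      have : x.1 ^ (q ^ (p - 1)) = x.1 ^ 1 := by
        rw [pow_eq_pow_iff_modEq, x.2]; exact ha1
      rwa [pow_one] at this
    have h2 : (F x ^ ((i : ℕ) + 1)) ^ (q ^ (p - 1)) = 1 := by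
      apply orderOf_dvd_iff_pow_eq_one.1
      rw [hord x i]; exact ha0
    rw [h1, h2, mul_one]
  let f : {g : G // orderOf g = p} × Fin (q - 1) → {g : G // orderOf g = p * q} :=
    fun xi => ⟨xi.1.1 * F xi.1 ^ ((xi.2 : ℕ) + 1), hmem xi.1 xi.2⟩
  have hinj : Function.Injective f := by
    rintro ⟨x, i⟩ ⟨x', j⟩ hff
    have hval : x.1 * F x ^ ((i : ℕ) + 1) = x'.1 * F x' ^ ((j : ℕ) + 1) := congrArg Subtype.val hff
    have hxx : x = x' := by
      apply Subtype.ext
      rw [← hrec x i, ← hrec x' j, hval]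
    subst hxx
    have hpow : F x ^ ((i : ℕ) + 1) = F x ^ ((j : ℕ) + 1) := mul_left_cancel hval
    rw [pow_eq_pow_iff_modEq, hF1 x] at hpow
    have hi := i.2
    have hj := j.2
    have : (i : ℕ) + 1 = (j : ℕ) + 1 := Nat.ModEq.eq_of_lt_of_lt hpow (by omega) (by omega)
    have hij : i = j := Fin.ext (by omega)
    rw [hij]
  have := Nat.card_le_card_of_injective f hinj
  rw [Nat.card_prod, Nat.card_fin, mul_comm] at this
  exact this

end Cfsg.Agent.Lib.Helper6.SOT4
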