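import Mathlib

/-!
# S4004 farm, piece G2: a subgroup of order `q` acts freely on the elements of order `p ^ 2`
-/

set_option autoImplicit false

namespace Cfsg.Agent.Lib.Helper6.SOT4

/-- the conjugation action of a subgroup on the set of elements of a given order. -/
@[reducible] def conjOrderAction {G : Type*} [Group G] (H : Subgroup G) (d : ℕ) :
    MulAction H {g : G // orderOf g = d} where
  smul a g := ⟨(a : G) * g.1 * (a : G)⁻¹, by
    rw [← MulAut.conj_apply, MulEquiv.orderOf_eq]; exact g.2⟩
  one_smul g := by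
    apply Subtype.ext
    show ((1 : H) : G) * g.1 * ((1 : H) : G)⁻¹ = g.1
    simp
  mul_smul a b g := by
    apply Subtype.ext
    show ((a * b : H) : G) * g.1 * ((a * b : H) : G)⁻¹ = (a : G) * ((b : G) * g.1 * (b : G)⁻¹) * (a : G)⁻¹
    simp [mul_assoc]

theorem conjOrderAction_smul_val {G : Type*} [Group G] (H : Subgroup G) (d : ℕ) (a : H)
    (g : {g : G // orderOf g = d}) :
    ((conjOrderAction H d).smul a g).1 = (a : G) * g.1 * (a : G)⁻¹ := rfl

/-- (G2) no elements of order `p q`: a subgroup of order `q` acts freely on the elements of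
order `p ^ 2`. -/
theorem dvd_count_sq_of_no_mixed {G : Type*} [Group G] [Finite G] (p q : ℕ) (hp : p.Prime)
    (hq : q.Prime) (hpq : p ≠ q) (hqG : q ∣ Nat.card G)
    (h0 : Nat.card {g : G // orderOf g = p * q} = 0) :
    q ∣ Nat.card {g : G // orderOf g = p ^ 2} := by
  haveI := Fact.mk hq
  obtain ⟨y, hy⟩ := exists_prime_orderOf_dvd_card' q hqG
  have hno : ∀ g : G, orderOf g ≠ p * q := by
    intro g hg
    rcases Nat.card_eq_zero.1 h0 with h | h
    · exact h.false ⟨g, hg⟩
    · exact h.not_finite inferInstance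
  letI : MulAction (Subgroup.zpowers y) {g : G // orderOf g = p ^ 2} :=
    conjOrderAction (Subgroup.zpowers y) (p ^ 2)
  have hY : IsPGroup q (Subgroup.zpowers y) :=
    IsPGroup.of_card (n := 1) (by rw [Nat.card_zpowers, hy, pow_one])
  have hmod := hY.card_modEq_card_fixedPoints {g : G // orderOf g = p ^ 2}
  have hfix : IsEmpty (MulAction.fixedPoints (Subgroup.zpowers y) {g : G // orderOf g = p ^ 2}) := by
    constructor
    rintro ⟨g, hg⟩
    have h1 := hg ⟨y, Subgroup.mem_zpowers y⟩
    have h2 : y * g.1 * y⁻¹ = g.1 := congrArg Subtype.val h1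
    have hcomm : Commute y g.1 := by
      show y * g.1 = g.1 * y
      calc y * g.1 = y * g.1 * y⁻¹ * y := by group
        _ = g.1 * y := by rw [h2]
    have hgp : orderOf (g.1 ^ p) = p := by
      have := orderOf_pow_of_dvd (x := g.1) (n := p) hp.ne_zero (by rw [g.2]; exact Dvd.intro_left _ (by rw [pow_two]))
      rw [this, g.2, pow_two, Nat.mul_div_cancel _ hp.pos]
    have hc2 : Commute (g.1 ^ p) y := (hcomm.pow_right p).symm
    have hcop : (orderOf (g.1 ^ p)).Coprime (orderOf y) := by
      rw [hgp, hy]; exact (Nat.coprime_primes hp hq).2 hpq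
    have := hc2.orderOf_mul_eq_mul_orderOf_of_coprime hcop
    rw [hgp, hy] at this
    exact hno _ this
  have hz : Nat.card (MulAction.fixedPoints (Subgroup.zpowers y) {g : G // orderOf g = p ^ 2}) = 0 :=
    Nat.card_eq_zero.2 (Or.inl hfix)
  rw [hz] at hmod
  exact (Nat.modEq_zero_iff_dvd).1 hmod

end Cfsg.Agent.Lib.Helper6.SOT4
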