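import Mathlib

/-!
# S4004 farm, piece G3: all elements have prime order
-/

set_option autoImplicit false

namespace Cfsg.Agent.Lib.Helper6.SOT4

/-- no element of order `d` when the count is zero. -/
theorem orderOf_ne_of_card_eq_zero {G : Type*} [Group G] [Finite G] (d : ℕ)
    (h0 : Nat.card {g : G // orderOf g = d} = 0) (g : G) : orderOf g ≠ d := by
  intro hg
  rcases Nat.card_eq_zero.1 h0 with h | h
  · exact h.false ⟨g, hg⟩
  · exact h.not_finite inferInstance

/-- an element whose order is divisible by `d` has a power of order `d`. -/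
theorem exists_orderOf_eq_of_dvd {G : Type*} [Group G] [Finite G] (g : G) (d : ℕ)
    (hd : d ∣ orderOf g) : ∃ h : G, orderOf h = d := by
  have ho : 0 < orderOf g := orderOf_pos g
  have hd0 : 0 < d := Nat.pos_of_dvd_of_pos hd ho
  refine ⟨g ^ (orderOf g / d), ?_⟩
  rw [orderOf_pow_of_dvd (Nat.div_pos (Nat.le_of_dvd ho hd) hd0).ne' (Nat.div_dvd_of_dvd hd),
    Nat.div_div_self hd ho.ne']

/-- (G3) all elements have prime order. -/
theorem epo_of_counts {G : Type*} [Group G] [Finite G] (p q : ℕ) (hp : p.Prime) (hq : q.Prime)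
    (hpq : p ≠ q) (hdiv : ∀ r : ℕ, r.Prime → r ∣ Nat.card G → r = p ∨ r = q)
    (h0 : Nat.card {g : G // orderOf g = p * q} = 0)
    (hp2 : Nat.card {g : G // orderOf g = p ^ 2} = 0)
    (hq2 : Nat.card {g : G // orderOf g = q ^ 2} = 0) :
    ∀ g : G, g ≠ 1 → orderOf g = p ∨ orderOf g = q := by
  intro g hg
  have ho1 : orderOf g ≠ 1 := fun h => hg (orderOf_eq_one_iff.1 h)
  have hoG : orderOf g ∣ Nat.card G := orderOf_dvd_natCard g
  have ho : 0 < orderOf g := orderOf_pos g
  -- first prime factor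
  have hr : (orderOf g).minFac.Prime := Nat.minFac_prime ho1
  have hro : (orderOf g).minFac ∣ orderOf g := Nat.minFac_dvd _
  obtain ⟨r, hre⟩ : ∃ r, r = (orderOf g).minFac := ⟨_, rfl⟩
  rw [← hre] at hr hro
  obtain ⟨o', ho'⟩ := hro
  by_cases h1 : o' = 1
  · rw [h1, mul_one] at ho'
    rw [ho']
    exact hdiv r hr (ho' ▸ hoG)
  · exfalso
    have hs : o'.minFac.Prime := Nat.minFac_prime h1
    have hso : o'.minFac ∣ o' := Nat.minFac_dvd _
    obtain ⟨s, hse⟩ : ∃ s, s = o'.minFac := ⟨_, rfl⟩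
    rw [← hse] at hs hso
    have hrs : r * s ∣ orderOf g := by rw [ho']; exact Nat.mul_dvd_mul_left r hso
    have hrG : r ∣ Nat.card G := (Dvd.intro _ ho'.symm).trans hoG
    have hsG : s ∣ Nat.card G := ((dvd_mul_left s r).trans hrs).trans hoG
    obtain ⟨h, hh⟩ := exists_orderOf_eq_of_dvd g (r * s) hrs
    rcases hdiv r hr hrG with rfl | rfl <;> rcases hdiv s hs hsG with rfl | rfl
    · exact orderOf_ne_of_card_eq_zero _ hp2 h (by rw [hh, pow_two])
    · exact orderOf_ne_of_card_eq_zero _ h0 h hh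
    · exact orderOf_ne_of_card_eq_zero _ h0 h (by rw [hh, mul_comm])
    · exact orderOf_ne_of_card_eq_zero _ hq2 h (by rw [hh, pow_two])

end Cfsg.Agent.Lib.Helper6.SOT4
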