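import Mathlib
import Cfsg.Agent.Lib.Helper6.SPWDefs
import Cfsg.Agent.Lib.Helper6.WlE

set_option autoImplicit false
set_option linter.unusedSectionVars false
set_option linter.unusedVariables false

/-!
# Farm SPW (S2524), Parts I and II: STUBS (helper6 coordinates these two parts; Part III = helper1)

All statements below are `sorry` stubs (this file is imported by no statement).  Copy the statements
of your unit VERBATIM into your own NEW file `Cfsg/Agent/Lib/<You>/SPW<unit>.lean`, namespace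
`Cfsg.Agent.Lib.<You>.SPW`, `import Cfsg.Agent.Lib.Helper6.SPWDefs` (NOT this file), post a tip
`SPW-CLAIM <unit>` before you start and `SPW-DONE <unit>` with the import path when landed.

`q = Fintype.card F` ODD: `h2 : (2 : F) ≠ 0`.  `Q = qf T` (`qf T x = x ⬝ᵥ T x`), `pol = polF Q`
(`pol x y = Q (x+y) - Q x - Q y`, `pol x x = 2 Q x`), `disc Q x y = pol(x,y)² - 4 Q x Q y`.

## Part I: orbit bound, `q` odd (port of the SPE orbit half: helper1 SPEA/SPEC/SPEG, helper3 SPEB,
helper4 SPED, helper2 SPEE, helper6 SPEF - READ THOSE FILES FIRST, the structure is identical)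

Paper proof.  `T` symmetric, not of the form `c x xᵀ`.  Double count the triples `(Q', x, y)`, `Q'` in
the `GL_n`-orbit of `Q`, `(Q' x, Q' y, pol' x y) = (a, c, b) := (Q x₀, Q y₀, pol x₀ y₀)` for a chosen
pair with `disc Q x₀ y₀ ≠ 0` (the plane `⟨x₀, y₀⟩` is nondegenerate):
* every independent pair occurs for at least `q^(2m)` forms (shears, unit OF, helper6);
* every form occurs for at most `2 (q+1) q^(2m)` pairs (units OB, OE) provided the plane is
  anisotropic, or (`Q x₀ = Q y₀ = 0` and `Q = 0` on the orthogonal of the plane);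
* such a pair exists (unit OC); `GL` is transitive on independent pairs (helper4 SPED, reused).
-/

namespace Cfsg.Agent.Lib.Helper6.SPWStub

open Matrix Cfsg Cfsg.Agent.Lib.Helper6.Wl Cfsg.Agent.Lib.Helper1.SPE Cfsg.Agent.Lib.Helper6.SPW

variable {F : Type*} [Field F] [Fintype F] [DecidableEq F]

/-! ## Unit OB : binary forms, `q` odd -/

/-- an anisotropic binary form over `F_q`, `q` odd, takes every nonzero value exactly `q + 1` times.
Proof: `N(d) := #{bq = d}`; `N(0) = 1`; `N(r² d) = N(d)`, so `N` takes two values `N₁` (on `d₀ □`)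
and `N₂` with `(q-1)/2 (N₁ + N₂) = q² - 1`.  Second relation: complete the square,
`bq = a ((s + b t/(2a))² - D t²/(4a²))`, `D = b² - 4ac` a NONSQUARE; count the solutions of
`a (u² - D' t²) = a w²` (`w` free): for `t = 0`: `u = ± w`, `2q - 1` solutions; for `t ≠ 0`:
`(u-w)(u+w) = D' t² ≠ 0`, `q - 1` solutions each; total `q²`; the same number is
`∑_d N(a d)(1 + η(d)) = N(0) + (q-1) N(a □)`, so `N(a □) = q + 1`, hence both values are `q + 1`. -/
theorem card_bq_eq_odd (h2 : (2 : F) ≠ 0) (a b c : F)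
    (hani : ∀ s t : F, bq a b c s t = 0 → s = 0 ∧ t = 0) (a' : F) (ha' : a' ≠ 0) :
    (Finset.univ.filter (fun p : F × F => bq a b c p.1 p.2 = a')).card =
      Fintype.card F + 1 := by
  sorry

/-- anisotropic plane: at most `2 (q + 1)` pairs with prescribed Gram data.  `a' ≠ 0`: `q + 1`
choices for the first vector `p`, the second runs over an affine line `p₀ + r p^⊥` (`bp(p, ·) = b'`
is a nonzero linear condition because the plane is nondegenerate) on which the form is a quadratic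
polynomial in `r` with leading coefficient `bq (p^⊥) ≠ 0`: at most two roots.  `a' = 0`: `p = 0`,
so `b' = 0` and at most `q + 1` second vectors. -/
theorem card_bq_pairs_le_odd (h2 : (2 : F) ≠ 0) (a b c : F)
    (hani : ∀ s t : F, bq a b c s t = 0 → s = 0 ∧ t = 0) (a' b' c' : F) :
    (Finset.univ.filter (fun p : (F × F) × (F × F) =>
      bq a b c p.1.1 p.1.2 = a' ∧ bq a b c p.2.1 p.2.2 = c' ∧
        bp a b c p.1.1 p.1.2 p.2.1 p.2.2 = b')).card ≤ 2 * (Fintype.card F + 1) := by
  sorry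

/-! ## Unit OC : choice of the plane, `q` odd -/

theorem polF_qf_self' {n : ℕ} (T : Matrix (Fin n) (Fin n) F) (x : Fin n → F) :
    polF (qf T) x x = 2 * qf T x := by
  sorry

/-- a pair with nonzero discriminant is independent (`x = r y` gives `disc = 4r²Q(y)² - 4r²Q(y)² = 0`) -/
theorem indep_of_disc {n : ℕ} (T : Matrix (Fin n) (Fin n) F) (x y : Fin n → F)
    (h : disc (qf T) x y ≠ 0) : ∀ s t : F, s • x + t • y = 0 → s = 0 ∧ t = 0 := by
  sorry

/-- `T` symmetric, not `c x xᵀ`.  (1) `Q x₀ ≠ 0` for some `x₀` (else `pol = 0`, `T = 0`).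
(2) `disc Q x₀ y ≠ 0` for some `y`: otherwise `Q y = pol(x₀,y)²/(4 Q x₀)` for all `y`, i.e.
`T = c w wᵀ` with `w = T x₀`, `c = 1/Q x₀`.  (3) if the plane is not anisotropic it contains a
hyperbolic pair `(x₁, y₂)` (`Q x₁ = Q y₂ = 0`, `pol x₁ y₂ = 1`); if `Q z = γ ≠ 0` for some `z`
orthogonal to it, the plane `⟨x₁ + z, y₂ + β z⟩` is anisotropic for `β = (ν - 1)/(4γ)`, `ν` a
nonsquare: `Q (s (x₁+z) + t (y₂+βz)) = γ s² + (1 + 2γβ) s t + γβ² t²` has discriminant `1 + 4γβ = ν`;
otherwise `Hyp` holds. -/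
theorem exists_plane_odd (h2 : (2 : F) ≠ 0) {n : ℕ} (T : Matrix (Fin n) (Fin n) F) (hT : Tᵀ = T)
    (hrk : ¬ IsRk1 T) :
    ∃ x₀ y₀ : Fin n → F, disc (qf T) x₀ y₀ ≠ 0 ∧
      (Ani (qf T) x₀ y₀ ∨ Hyp (qf T) x₀ y₀) := by
  sorry

/-! ## Unit OE : the upper count, `q` odd (port of helper2 SPEE) -/

/-- fibre over the tails: the plane `E = ⟨e₀, e₁⟩` is nondegenerate, every `x` is `h_x + z_x` with
`h_x ∈ E` and `z_x ⊥ E` (`z_x = x - (projection)`), `Q x = Q h_x + Q z_x`,
`pol x y = pol h_x h_y + pol z_x z_y`; for fixed tails the fibre is a translate of a set counted in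
unit OB (`Ani`) or in helper3 `card_hyp_pairs_le` (`Hyp`, where `Q z = 0 = pol z z'` on `E^⊥`). -/
theorem card_pairs_le_odd (h2 : (2 : F) ≠ 0) {m : ℕ}
    (T : Matrix (Fin (m + 2)) (Fin (m + 2)) F)
    (hd : disc (qf T) (Pi.single 0 1) (Pi.single 1 1) ≠ 0)
    (hcase : Ani (qf T) (Pi.single 0 1) (Pi.single 1 1) ∨
      Hyp (qf T) (Pi.single 0 1) (Pi.single 1 1)) :
    (Finset.univ.filter (fun p : (Fin (m + 2) → F) × (Fin (m + 2) → F) =>
      qf T p.1 = qf T (Pi.single 0 1) ∧ qf T p.2 = qf T (Pi.single 1 1) ∧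
        polF (qf T) p.1 p.2 = polF (qf T) (Pi.single 0 1) (Pi.single 1 1))).card
      ≤ 2 * (Fintype.card F + 1) * Fintype.card F ^ (2 * m) := by
  sorry

/-! ## Unit OF : the lower count (helper6; characteristic free) -/

theorem card_orbit_pairs_ge_disc {m : ℕ}
    (T : Matrix (Fin (m + 2)) (Fin (m + 2)) F)
    (hd : disc (qf T) (Pi.single 0 1) (Pi.single 1 1) ≠ 0)
    (x y : Fin (m + 2) → F) (h : GL (Fin (m + 2)) F)
    (hx : (h : Matrix (Fin (m + 2)) (Fin (m + 2)) F) *ᵥ Pi.single 0 1 = x)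
    (hy : (h : Matrix (Fin (m + 2)) (Fin (m + 2)) F) *ᵥ Pi.single 1 1 = y) :
    Fintype.card F ^ (2 * m) ≤ ((qOrbit T).filter (fun Q' =>
      Q' x = qf T (Pi.single 0 1) ∧ Q' y = qf T (Pi.single 1 1) ∧
        polF Q' x y = polF (qf T) (Pi.single 0 1) (Pi.single 1 1))).card := by
  sorry

/-! ## Unit OG : the orbit bound, `q` odd (port of helper1 SPEG; helper6) -/

theorem orbit_bound_odd (h2 : (2 : F) ≠ 0) {n : ℕ} (hn : 2 ≤ n)
    (T : Matrix (Fin n) (Fin n) F) (hT : Tᵀ = T) (hrk : ¬ IsRk1 T) :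
    (Fintype.card F ^ n - 1) * (Fintype.card F ^ n - Fintype.card F) ≤
      2 * (Fintype.card F + 1) * (qOrbit T).card := by
  sorry

/-! ## Unit OR : the gap (helper6) -/
section rep
variable {n : ℕ} {V : Type*} [AddCommGroup V] [Module ℂ V] [FiniteDimensional ℂ V]
variable (ρ : Representation ℂ (symplecticGroup (Fin n) F) V) (ψ : AddChar F ℂ)

/-- a `Q`-character of rank at least two forces `dim V ≥ (q^n-1)(q^n-q)/(2(q+1))` -/
theorem gap_bound (h2 : (2 : F) ≠ 0) (hn : 2 ≤ n) (hψ : ψ ≠ 1) (T : symAdd F n)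
    (hT : eT ρ ψ T ≠ 0) (hrk : ¬ IsRk1 (T : Matrix (Fin n) (Fin n) F)) :
    (Fintype.card F ^ n - 1) * (Fintype.card F ^ n - Fintype.card F) ≤
      2 * (Fintype.card F + 1) * Module.finrank ℂ V := by
  sorry

end rep

/-! ## Part II: the Weil side (helper6) -/
section weil
variable {n : ℕ}

/-- for every class `κ ≠ 0` there are two irreducible representations, of degrees `(q^n+1)/2` and
`(q^n-1)/2`, whose `Q`-spectrum (w.r.t. the fixed `ψ`) is `{κ x xᵀ}` with multiplicity one (plus the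
trivial character once for the even one), with opposite central signs -/
theorem exists_weil (hodd : Odd (Fintype.card F)) (ψ : AddChar F ℂ) (hψ : ψ ≠ 1) (κ : F)
    (hκ : κ ≠ 0) :
    ∃ (ρp : Representation ℂ (symplecticGroup (Fin n) F)
        (Fin ((Fintype.card F ^ n + 1) / 2) → ℂ))
      (ρm : Representation ℂ (symplecticGroup (Fin n) F)
        (Fin ((Fintype.card F ^ n - 1) / 2) → ℂ)),
      ρp.IsIrreducible ∧ ρm.IsIrreducible ∧
      (∀ T : symAdd F n, LinearMap.trace ℂ _ (eT ρp ψ T) =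
        if (T = 0 ∨ ∃ x : Fin n → F, (T : Matrix (Fin n) (Fin n) F) = κ • vecMulVec x x)
          then 1 else 0) ∧
      (∀ T : symAdd F n, LinearMap.trace ℂ _ (eT ρm ψ T) =
        if (∃ x : Fin n → F, x ≠ 0 ∧ (T : Matrix (Fin n) (Fin n) F) = κ • vecMulVec x x)
          then 1 else 0) ∧
      ∃ ε : ℂ, (ε = 1 ∨ ε = -1) ∧ ρp (negSp : symplecticGroup (Fin n) F) = ε • 1 ∧
        ρm (negSp : symplecticGroup (Fin n) F) = (-ε) • 1 := by
  sorry

end weil

end Cfsg.Agent.Lib.Helper6.SPWStub
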