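import Mathlib
import Cfsg.Prelude.Def_Local
import Cfsg.Agent.Lib.Helper2.Cores
import Cfsg.Agent.Lib.Helper2.Components3
import Cfsg.Agent.Lib.Helper8.FStar

/-!
# SSX farm (S3164): unit V6, verbatim (helper6)
-/

set_option autoImplicit false

namespace Cfsg.Agent.Lib.Helper6.SSX

open Cfsg

/-- a subgroup of a nilpotent subgroup is nilpotent -/
theorem isNilpotent_of_le {G : Type*} [Group G] {A F : Subgroup G} (hAF : A ≤ F)
    (hF : Group.IsNilpotent ↥F) : Group.IsNilpotent ↥A := by
  obtain ⟨n, hn⟩ := (Subgroup.isNilpotent_iff_lowerCentralSeries F).1 hF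
  have : A.lowerCentralSeries n ≤ F.lowerCentralSeries n := Subgroup.lowerCentralSeries_mono n hAF
  exact (Subgroup.isNilpotent_iff_lowerCentralSeries A).2 ⟨n, le_bot_iff.1 (hn ▸ this)⟩

/-- a quasisimple group is not nilpotent -/
theorem not_isNilpotent_of_isQuasisimple {A : Type*} [Group A] (hq : Cfsg.IsQuasisimple A) :
    ¬ Group.IsNilpotent A := by
  intro hnil
  haveI : Group.IsPerfect A := hq.1
  haveI : IsSimpleGroup (A ⧸ Subgroup.center A) := hq.2
  haveI : Nontrivial A := by
    by_contra hnt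
    rw [not_nontrivial_iff_subsingleton] at hnt
    haveI := hnt
    have : Subsingleton (A ⧸ Subgroup.center A) := inferInstance
    exact not_subsingleton (A ⧸ Subgroup.center A) this
  exact Group.IsPerfect.not_isNilpotent (G := A) hnil

/-- V6: `A ≤ E(G)`. -/
theorem V6 {G : Type*} [Group G] [Finite G] (A : Subgroup G) (hq : Cfsg.IsQuasisimple ↥A)
    (a : G) (haA : a ∈ A) (ha : orderOf a = 2)
    (hO : ⁅A, Cfsg.oddCore G⁆ = ⊥)
    (hkey : ∀ M : Subgroup G, M.Normal → Even (Nat.card ↥M) → A ≤ M) : A ≤ Cfsg.layer G := by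
  have hLn : (layer G).Normal := Cfsg.Agent.Lib.Helper2.layer_normal
  by_cases hE : Even (Nat.card (layer G))
  · exact hkey _ hLn hE
  exfalso
  have hFn : (fittingSubgroup G).Normal := Cfsg.Agent.Lib.Helper2.fittingSubgroup_normal
  have hFodd : ¬ Even (Nat.card (fittingSubgroup G)) := by
    intro hFe
    have hAF := hkey _ hFn hFe
    exact not_isNilpotent_of_isQuasisimple hq
      (isNilpotent_of_le hAF Cfsg.Agent.Lib.Helper2.fittingSubgroup_isNilpotent)
  have hLO : layer G ≤ oddCore G :=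
    Cfsg.Agent.Lib.Helper2.le_pPrimeCore (hN := hLn)
      (Nat.coprime_two_right.2 (Nat.not_even_iff_odd.1 hE))
  have hFO : fittingSubgroup G ≤ oddCore G :=
    Cfsg.Agent.Lib.Helper2.le_pPrimeCore (hN := hFn)
      (Nat.coprime_two_right.2 (Nat.not_even_iff_odd.1 hFodd))
  have hFsO : generalizedFittingSubgroup G ≤ oddCore G := sup_le hLO hFO
  have hAc : A ≤ Subgroup.centralizer (generalizedFittingSubgroup G : Set G) :=
    (Subgroup.commutator_eq_bot_iff_le_centralizer.1 hO).trans
      (Subgroup.centralizer_le (by exact_mod_cast hFsO))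
  have hAF : A ≤ generalizedFittingSubgroup G :=
    hAc.trans Cfsg.Agent.Lib.Helper8.centralizer_generalizedFittingSubgroup_le
  have haO : a ∈ oddCore G := hFsO (hAF haA)
  have hdvd : orderOf (⟨a, haO⟩ : oddCore G) ∣ Nat.card (oddCore G) := orderOf_dvd_natCard _
  have hord : orderOf (⟨a, haO⟩ : oddCore G) = 2 := by
    rw [← ha]
    exact (Subgroup.orderOf_mk a haO)
  rw [hord] at hdvd
  have hcop : (Nat.card (oddCore G)).Coprime 2 :=
    Cfsg.Agent.Lib.Helper2.pPrimeCore_card_coprime 2
  have hoddO : Odd (Nat.card (oddCore G)) := Nat.coprime_two_right.1 hcop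
  exact (Nat.not_even_iff_odd.2 hoddO) (even_iff_two_dvd.2 hdvd)

end Cfsg.Agent.Lib.Helper6.SSX
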