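import Mathlib
import Cfsg.Prelude.Def_Local

/-!
# SSX farm (S3164): unit V8, verbatim (helper6)
-/

set_option autoImplicit false

namespace Cfsg.Agent.Lib.Helper6.SSX

open Cfsg

/-- V8: if `G` has no nontrivial normal 2-subgroup then the centre of a normal subgroup has odd
order. -/
theorem V8 {G : Type*} [Group G] [Finite G] (X : Subgroup G) [X.Normal]
    (h2 : ∀ Q : Subgroup G, Q.Normal → IsPGroup 2 ↥Q → Q = ⊥) :
    Odd (Nat.card ↥(Subgroup.center ↥X)) := by
  haveI : Fact (Nat.Prime 2) := ⟨Nat.prime_two⟩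
  -- `Q = Ω₁(Z(X))`
  let Q : Subgroup G :=
    { carrier := {g | g ∈ X ∧ (∀ x ∈ X, x * g = g * x) ∧ g * g = 1}
      one_mem' := ⟨X.one_mem, fun x _ => by rw [mul_one, one_mul], mul_one 1⟩
      mul_mem' := by
        rintro g k ⟨hgX, hgc, hg2⟩ ⟨hkX, hkc, hk2⟩
        refine ⟨X.mul_mem hgX hkX, fun x hx => ?_, ?_⟩
        · rw [← mul_assoc, hgc x hx, mul_assoc, hkc x hx, mul_assoc]
        · calc g * k * (g * k) = g * (k * g) * k := by simp only [mul_assoc]
            _ = g * (g * k) * k := by rw [hgc k hkX]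
            _ = (g * g) * (k * k) := by simp only [mul_assoc]
            _ = 1 := by rw [hg2, hk2, mul_one]
      inv_mem' := by
        rintro g ⟨hgX, hgc, hg2⟩
        have hginv : g⁻¹ = g := by
          rw [inv_eq_iff_mul_eq_one]; exact hg2
        rw [hginv]
        exact ⟨hgX, hgc, hg2⟩ }
  have hQn : Q.Normal := by
    constructor
    rintro g ⟨hgX, hgc, hg2⟩ n
    have hX : ∀ x ∈ X, ∀ m : G, m * x * m⁻¹ ∈ X := fun x hx m =>
      (inferInstance : X.Normal).conj_mem x hx m
    refine ⟨hX g hgX n, fun x hx => ?_, ?_⟩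
    · have hx' : n⁻¹ * x * n ∈ X := by
        have := hX x hx n⁻¹
        rwa [inv_inv] at this
      have hc := hgc _ hx'
      calc x * (n * g * n⁻¹) = n * ((n⁻¹ * x * n) * g) * n⁻¹ := by group
        _ = n * (g * (n⁻¹ * x * n)) * n⁻¹ := by rw [hc]
        _ = n * g * n⁻¹ * x := by group
    · calc n * g * n⁻¹ * (n * g * n⁻¹) = n * (g * g) * n⁻¹ := by group
        _ = 1 := by rw [hg2, mul_one, mul_inv_cancel]
  have hQ2 : IsPGroup 2 ↥Q := by
    intro q
    refine ⟨1, ?_⟩
    apply Subtype.ext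
    have := q.2.2.2
    rw [pow_one, pow_two]
    exact this
  have hQbot : Q = ⊥ := h2 Q hQn hQ2
  by_contra hodd
  rw [Nat.not_odd_iff_even] at hodd
  obtain ⟨z, hz⟩ := exists_prime_orderOf_dvd_card' 2 hodd.two_dvd
  have hzQ : ((z : X) : G) ∈ Q := by
    refine ⟨(z : X).2, fun x hx => ?_, ?_⟩
    · have := Subgroup.mem_center_iff.1 z.2 ⟨x, hx⟩
      exact congrArg Subtype.val this
    · have h1 : z ^ 2 = 1 := by rw [← hz]; exact pow_orderOf_eq_one z
      have h2' := congrArg (fun u : Subgroup.center ↥X => ((u : X) : G)) h1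
      simp only [pow_two] at h2'
      exact h2'
  rw [hQbot, Subgroup.mem_bot] at hzQ
  have hz1 : z = 1 := by
    apply Subtype.ext
    apply Subtype.ext
    exact hzQ
  rw [hz1, orderOf_one] at hz
  norm_num at hz

end Cfsg.Agent.Lib.Helper6.SSX
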