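import Mathlib
import Cfsg.Prelude
import Cfsg.Agent.Lib.Helper6.SU3Conj

set_option autoImplicit false
set_option linter.unusedSectionVars false
set_option linter.unusedVariables false
set_option linter.unusedSimpArgs false
open Cfsg

/-! The involutions of `SU_3(q)` commuting with the standard involution `diag(1,-1,-1)`. -/

namespace Cfsg.Agent.Lib.Helper6.SU3Refl

open Matrix Cfsg.Agent.Lib.Helper5.Herm Cfsg.Agent.Lib.Helper5.HermTv Cfsg.Agent.Lib.Helper5.HermSU
  Cfsg.Agent.Lib.Helper5.HermGen Cfsg.Agent.Lib.Helper5.HermCount Cfsg.Agent.Lib.Helper5.HermCard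
  Cfsg.Agent.Lib.Helper5.HermBridge

variable {F : Type*} [Field F] [Fintype F] {q : ℕ} (hF : Fintype.card F = q ^ 2)

/-- the first basis vector -/
def e0 (F : Type*) [Field F] : Fin 3 → F := ![1, 0, 0]

/-- the embedding of the plane orthogonal to `e0` -/
def iota (u : Fin 2 → F) : Fin 3 → F := ![0, u 0, u 1]

omit [Fintype F] in
theorem herm3 (x y : Fin 3 → F) :
    hermForm 3 F q x y = x 0 * y 0 ^ q + x 1 * y 1 ^ q + x 2 * y 2 ^ q := by
  unfold hermForm
  rw [Fin.sum_univ_three]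

omit [Fintype F] in
theorem herm2 (x y : Fin 2 → F) :
    hermForm 2 F q x y = x 0 * y 0 ^ q + x 1 * y 1 ^ q := by
  unfold hermForm
  rw [Fin.sum_univ_two]

include hF in
theorem herm_e0_right (x : Fin 3 → F) : hermForm 3 F q x (e0 F) = x 0 := by
  rw [herm3]
  simp [e0, q_ne_zero hF]

include hF in
theorem herm_e0_left (x : Fin 3 → F) : hermForm 3 F q (e0 F) x = x 0 ^ q := by
  rw [herm3]
  simp [e0]

include hF in
theorem herm_e0_e0 : hermForm 3 F q (e0 F) (e0 F) = 1 := by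
  rw [herm_e0_right hF]
  simp [e0]

include hF in
theorem herm_e0_ne : hermForm 3 F q (e0 F) (e0 F) ≠ 0 := by
  rw [herm_e0_e0 hF]; exact one_ne_zero

omit [Fintype F] in
theorem herm_iota (u u' : Fin 2 → F) :
    hermForm 3 F q (iota u) (iota u') = hermForm 2 F q u u' := by
  rw [herm3, herm2]
  simp [iota]

omit [Fintype F] in
theorem iota_injective : Function.Injective (iota (F := F)) := by
  intro u u' h
  ext i
  fin_cases i
  · have := congrFun h 1
    simpa [iota] using this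
  · have := congrFun h 2
    simpa [iota] using this

omit [Fintype F] in
theorem iota_smul (a : F) (u : Fin 2 → F) : iota (a • u) = a • iota u := by
  ext i
  fin_cases i <;> simp [iota]

omit [Fintype F] in
theorem iota_zero_apply (u : Fin 2 → F) : iota u 0 = 0 := by simp [iota]

omit [Fintype F] in
theorem eq_iota_of_zero (w : Fin 3 → F) (hw : w 0 = 0) : w = iota ![w 1, w 2] := by
  ext i
  fin_cases i <;> simp [iota, hw]

include hF in
theorem herm_e0_add_iota (z u : Fin 2 → F) :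
    hermForm 3 F q (e0 F + iota z) (iota u) = hermForm 2 F q z u := by
  rw [hadd_l, herm_iota, herm_e0_left hF, iota_zero_apply, zero_pow (q_ne_zero hF), zero_add]

include hF in
theorem herm_e0_add_iota_self (z : Fin 2 → F) :
    hermForm 3 F q (e0 F + iota z) (e0 F + iota z) = 1 + hermForm 2 F q z z := by
  rw [hadd_r hF, herm_e0_add_iota hF, herm_e0_right hF]
  simp [e0, iota]

/-- a vector orthogonal to `u` in the plane -/
def perp2 (q : ℕ) (u : Fin 2 → F) : Fin 2 → F := ![u 1 ^ q, -(u 0 ^ q)]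

omit [Fintype F] in
theorem herm_perp2_left (u : Fin 2 → F) : hermForm 2 F q (perp2 q u) u = 0 := by
  rw [herm2]
  simp [perp2]
  ring

include hF in
theorem herm_perp2_right (u : Fin 2 → F) : hermForm 2 F q u (perp2 q u) = 0 := by
  rw [← hermForm_conj hF 2, herm_perp2_left, zero_pow (q_ne_zero hF)]

include hF in
theorem herm_perp2_self (u : Fin 2 → F) :
    hermForm 2 F q (perp2 q u) (perp2 q u) = hermForm 2 F q u u := by
  rw [herm2, herm2]
  simp only [perp2, Matrix.cons_val_zero, Matrix.cons_val_one]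
  rw [pow_q_neg hF, pow_q_pow_q hF, pow_q_pow_q hF]
  ring

include hF in
theorem perp2_ne_zero (u : Fin 2 → F) (hu : u ≠ 0) : perp2 q u ≠ 0 := by
  intro h
  apply hu
  have h0 := congrFun h 0
  have h1 := congrFun h 1
  simp [perp2] at h0 h1
  ext i
  fin_cases i
  · exact h1.1
  · exact h0.1

include hF in
theorem eq_smul_perp2 (u u' : Fin 2 → F) (hu : u ≠ 0) (h : hermForm 2 F q u' u = 0) :
    ∃ c : F, u' = c • perp2 q u := by
  rw [herm2] at h
  have hq0 := q_ne_zero hF
  by_cases h0 : u 0 = 0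
  · have h1 : u 1 ≠ 0 := by
      intro h1
      apply hu
      ext i
      fin_cases i
      · exact h0
      · exact h1
    have h1q : u 1 ^ q ≠ 0 := pow_ne_zero _ h1
    rw [h0, zero_pow hq0, mul_zero, zero_add] at h
    have hu'1 : u' 1 = 0 := by
      rcases mul_eq_zero.mp h with h2 | h2
      · exact h2
      · exact absurd h2 h1q
    refine ⟨u' 0 / u 1 ^ q, ?_⟩
    ext i
    fin_cases i
    · simp [perp2]
      field_simp
    · simp [perp2, h0, hq0, hu'1]
  · have h0q : u 0 ^ q ≠ 0 := pow_ne_zero _ h0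
    refine ⟨-(u' 1 / u 0 ^ q), ?_⟩
    ext i
    fin_cases i
    · simp [perp2]
      field_simp
      linear_combination h
    · simp [perp2]
      field_simp

/-- the standard involution `diag(1,-1,-1)` -/
noncomputable def t0 : ↥(Cfsg.SU 3 F q) := refl hF (e0 F) (herm_e0_ne hF)

theorem t0_ne_one (hq : Odd q) : t0 hF ≠ 1 := refl_ne_one hF hq _ _

theorem t0_mul_self : t0 hF * t0 hF = 1 := refl_mul_self hF _ _

theorem commute_t0_refl_iff (hq : Odd q) (w : Fin 3 → F) (hw : hermForm 3 F q w w ≠ 0) :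
    Commute (t0 hF) (refl hF w hw) ↔ (∃ a : F, a ≠ 0 ∧ w = a • e0 F) ∨ w 0 = 0 := by
  unfold t0
  rw [commute_refl_iff hF hq, herm_e0_right hF]

theorem refl_eq_t0_iff (hq : Odd q) (w : Fin 3 → F) (hw : hermForm 3 F q w w ≠ 0) :
    refl hF w hw = t0 hF ↔ ∃ a : F, a ≠ 0 ∧ w = a • e0 F := by
  unfold t0
  rw [eq_comm, refl_eq_iff hF hq]

/-- the involution attached to a non-isotropic vector of the plane -/
noncomputable def reflI (u : Fin 2 → F) (hu : hermForm 2 F q u u ≠ 0) : ↥(Cfsg.SU 3 F q) :=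
  refl hF (iota u) (by rw [herm_iota]; exact hu)

theorem reflI_ne_one (hq : Odd q) (u : Fin 2 → F) (hu : hermForm 2 F q u u ≠ 0) :
    reflI hF u hu ≠ 1 := refl_ne_one hF hq _ _

theorem reflI_mul_self (u : Fin 2 → F) (hu : hermForm 2 F q u u ≠ 0) :
    reflI hF u hu * reflI hF u hu = 1 := refl_mul_self hF _ _

theorem commute_t0_reflI (hq : Odd q) (u : Fin 2 → F) (hu : hermForm 2 F q u u ≠ 0) :
    Commute (t0 hF) (reflI hF u hu) := by
  unfold reflI
  rw [commute_t0_refl_iff hF hq]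
  right
  exact iota_zero_apply u

theorem reflI_ne_t0 (hq : Odd q) (u : Fin 2 → F) (hu : hermForm 2 F q u u ≠ 0) :
    reflI hF u hu ≠ t0 hF := by
  unfold reflI
  rw [Ne, refl_eq_t0_iff hF hq]
  rintro ⟨a, ha, h⟩
  have h1 := congrFun h 1
  have h2 := congrFun h 2
  simp [iota, e0] at h1 h2
  apply hu
  rw [herm2, h1, h2]
  simp [q_ne_zero hF]

theorem reflI_eq_iff (hq : Odd q) (u u' : Fin 2 → F) (hu : hermForm 2 F q u u ≠ 0)
    (hu' : hermForm 2 F q u' u' ≠ 0) :
    reflI hF u hu = reflI hF u' hu' ↔ ∃ a : F, a ≠ 0 ∧ u' = a • u := by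
  unfold reflI
  rw [refl_eq_iff hF hq]
  constructor
  · rintro ⟨a, ha, h⟩
    refine ⟨a, ha, ?_⟩
    apply iota_injective
    rw [h, iota_smul]
  · rintro ⟨a, ha, h⟩
    refine ⟨a, ha, ?_⟩
    rw [h, iota_smul]

theorem commute_reflI_iff (hq : Odd q) (u u' : Fin 2 → F) (hu : hermForm 2 F q u u ≠ 0)
    (hu' : hermForm 2 F q u' u' ≠ 0) :
    Commute (reflI hF u hu) (reflI hF u' hu') ↔
      (∃ a : F, a ≠ 0 ∧ u' = a • u) ∨ hermForm 2 F q u' u = 0 := by
  unfold reflI
  rw [commute_refl_iff hF hq, herm_iota]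
  constructor
  · rintro (⟨a, ha, h⟩ | h)
    · left
      refine ⟨a, ha, ?_⟩
      apply iota_injective
      rw [h, iota_smul]
    · right; exact h
  · rintro (⟨a, ha, h⟩ | h)
    · left
      refine ⟨a, ha, ?_⟩
      rw [h, iota_smul]
    · right; exact h

theorem exists_reflI_of_commute (hq : Odd q) (x : ↥(Cfsg.SU 3 F q)) (hx : x ≠ 1)
    (hx2 : x * x = 1) (hxt : x ≠ t0 hF) (hc : Commute (t0 hF) x) :
    ∃ (u : Fin 2 → F) (hu : hermForm 2 F q u u ≠ 0), x = reflI hF u hu := by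
  obtain ⟨w, hw, rfl⟩ := exists_refl_of_involution hF hq x hx hx2
  rw [commute_t0_refl_iff hF hq] at hc
  rcases hc with hc | hc
  · exact absurd ((refl_eq_t0_iff hF hq w hw).mpr hc) hxt
  · have hw' := eq_iota_of_zero w hc
    have hu : hermForm 2 F q ![w 1, w 2] ![w 1, w 2] ≠ 0 := by
      rw [← herm_iota, ← hw']; exact hw
    refine ⟨![w 1, w 2], hu, ?_⟩
    unfold reflI
    congr 1

/-- two commuting involutions commute with exactly one further involution (standard position) -/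
theorem card_common_t0 (hq : Odd q) (x : ↥(Cfsg.SU 3 F q)) (hx : x ≠ 1) (hx2 : x * x = 1)
    (hxt : x ≠ t0 hF) (hc : Commute (t0 hF) x) :
    Nat.card {y : ↥(Cfsg.SU 3 F q) // y ≠ 1 ∧ y * y = 1 ∧ y ≠ t0 hF ∧ y ≠ x ∧
      Commute (t0 hF) y ∧ Commute x y} = 1 := by
  obtain ⟨u, hu, rfl⟩ := exists_reflI_of_commute hF hq x hx hx2 hxt hc
  have hu0 : u ≠ 0 := by
    rintro rfl
    apply hu
    rw [herm2]; simp
  have hp : hermForm 2 F q (perp2 q u) (perp2 q u) ≠ 0 := by
    rw [herm_perp2_self hF]; exact hu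
  have key : ∀ y : ↥(Cfsg.SU 3 F q), (y ≠ 1 ∧ y * y = 1 ∧ y ≠ t0 hF ∧ y ≠ reflI hF u hu ∧
      Commute (t0 hF) y ∧ Commute (reflI hF u hu) y) ↔ y = reflI hF (perp2 q u) hp := by
    intro y
    constructor
    · rintro ⟨hy, hy2, hyt, hyx, hcy, hcxy⟩
      obtain ⟨u', hu', rfl⟩ := exists_reflI_of_commute hF hq y hy hy2 hyt hcy
      rw [commute_reflI_iff hF hq] at hcxy
      rcases hcxy with hcxy | hcxy
      · exact absurd ((reflI_eq_iff hF hq u u' hu hu').mpr hcxy).symm hyx
      · obtain ⟨c, hcu⟩ := eq_smul_perp2 hF u u' hu0 hcxy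
        have hc0 : c ≠ 0 := by
          rintro rfl
          rw [zero_smul] at hcu
          apply hu'
          rw [hcu, herm2]; simp
        exact ((reflI_eq_iff hF hq (perp2 q u) u' hp hu').mpr ⟨c, hc0, hcu⟩).symm
    · rintro rfl
      refine ⟨reflI_ne_one hF hq _ _, reflI_mul_self hF _ _, reflI_ne_t0 hF hq _ _, ?_,
        commute_t0_reflI hF hq _ _, ?_⟩
      · intro h
        obtain ⟨a, ha, h1⟩ := (reflI_eq_iff hF hq _ _ hp hu).mp h
        have h2 : hermForm 2 F q u (perp2 q u) = 0 := herm_perp2_right hF u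
        have h2' : hermForm 2 F q (a • perp2 q u) (perp2 q u) = 0 := by
          rw [← h1]; exact h2
        rw [hermForm_smul_left] at h2'
        rcases mul_eq_zero.mp h2' with h3 | h3
        · exact ha h3
        · exact hp h3
      · rw [commute_reflI_iff hF hq]
        right
        exact herm_perp2_left u
  rw [Nat.card_eq_one_iff_unique]
  constructor
  · constructor
    rintro ⟨y, hy⟩ ⟨y', hy'⟩
    apply Subtype.ext
    show y = y'
    rw [(key y).mp hy, (key y').mp hy']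
  · exact ⟨⟨_, (key _).mpr rfl⟩⟩

include hF in
theorem card_aniso_n (n : ℕ) :
    Nat.card {w : Fin n → F // hermForm n F q w w ≠ 0} + A F q n 0 = q ^ (2 * n) := by
  classical
  unfold A
  have h1 := Nat.card_congr (Equiv.sumCompl (fun w : Fin n → F => hermForm n F q w w = 0))
  rw [Nat.card_sum] at h1
  have h2 : Nat.card (Fin n → F) = q ^ (2 * n) := by
    rw [Nat.card_eq_fintype_card, Fintype.card_fun, hF, Fintype.card_fin, ← pow_mul]
  rw [h2] at h1
  rw [← h1, add_comm]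

/-- the involutions commuting with the standard involution, as a `reflSet` -/
theorem commuting_eq_reflSet (hq : Odd q) :
    {x : ↥(Cfsg.SU 3 F q) | x ≠ 1 ∧ x * x = 1 ∧ x ≠ t0 hF ∧ Commute (t0 hF) x} =
      reflSet hF {w : Fin 3 → F | w 0 = 0 ∧ hermForm 3 F q w w ≠ 0} := by
  ext x
  constructor
  · rintro ⟨hx, hx2, hxt, hc⟩
    obtain ⟨u, hu, rfl⟩ := exists_reflI_of_commute hF hq x hx hx2 hxt hc
    have hu3 : hermForm 3 F q (iota u) (iota u) ≠ 0 := by rw [herm_iota]; exact hu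
    exact ⟨iota u, ⟨iota_zero_apply u, hu3⟩, hu3, rfl⟩
  · rintro ⟨w, ⟨hw0, _⟩, hw, rfl⟩
    refine ⟨refl_ne_one hF hq w hw, refl_mul_self hF w hw, ?_, ?_⟩
    · rw [Ne, refl_eq_t0_iff hF hq]
      rintro ⟨a, ha, h⟩
      have := congrFun h 0
      rw [hw0] at this
      simp [e0] at this
      exact ha this.symm
    · rw [commute_t0_refl_iff hF hq]
      right; exact hw0

include hF in
theorem card_plane_aniso :
    Nat.card ({w : Fin 3 → F | w 0 = 0 ∧ hermForm 3 F q w w ≠ 0} : Set (Fin 3 → F)) =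
      Nat.card {u : Fin 2 → F // hermForm 2 F q u u ≠ 0} := by
  symm
  refine Nat.card_congr (Equiv.ofBijective
    (fun u : {u : Fin 2 → F // hermForm 2 F q u u ≠ 0} =>
      (⟨iota u.1, iota_zero_apply _, by rw [herm_iota]; exact u.2⟩ :
        ({w : Fin 3 → F | w 0 = 0 ∧ hermForm 3 F q w w ≠ 0} : Set (Fin 3 → F)))) ⟨?_, ?_⟩)
  · rintro ⟨u, hu⟩ ⟨u', hu'⟩ h
    apply Subtype.ext
    apply iota_injective
    exact congrArg Subtype.val h
  · rintro ⟨w, hw0, hw⟩
    have hw' := eq_iota_of_zero w hw0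
    have hu : hermForm 2 F q ![w 1, w 2] ![w 1, w 2] ≠ 0 := by
      rw [← herm_iota, ← hw']; exact hw
    refine ⟨⟨![w 1, w 2], hu⟩, ?_⟩
    apply Subtype.ext
    exact hw'.symm

include hF in
/-- the number of involutions other than the standard one commuting with it -/
theorem card_commuting_t0 (hq : Odd q) :
    Nat.card {x : ↥(Cfsg.SU 3 F q) // x ≠ 1 ∧ x * x = 1 ∧ x ≠ t0 hF ∧ Commute (t0 hF) x} =
      q * (q - 1) := by
  have h2 := two_le_q hF
  have h1 := card_reflSet_mul hF hq {w : Fin 3 → F | w 0 = 0 ∧ hermForm 3 F q w w ≠ 0}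
    (fun w hw => hw.2) (fun w hw a ha => ⟨by
      show a * w 0 = 0
      rw [hw.1, mul_zero], herm_smul_self_ne hF a ha w hw.2⟩)
  rw [← commuting_eq_reflSet hF hq, card_plane_aniso hF] at h1
  have h3 := card_aniso_n hF 2
  have hA : A F q 2 0 = (q ^ 2 - 1) * (q + 1) + 1 := by
    rw [A_zero hF]
    rw [if_pos (by decide)]
    norm_num
  rw [hA] at h3
  have hq2 : 1 ≤ q ^ 2 := Nat.one_le_pow _ _ (by omega)
  have hpos : 0 < q ^ 2 - 1 := by
    have : 4 ≤ q ^ 2 := by nlinarith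
    omega
  apply Nat.eq_of_mul_eq_mul_right hpos
  have h5 : Nat.card {x : ↥(Cfsg.SU 3 F q) // x ≠ 1 ∧ x * x = 1 ∧ x ≠ t0 hF ∧
      Commute (t0 hF) x} =
      Nat.card ({x : ↥(Cfsg.SU 3 F q) | x ≠ 1 ∧ x * x = 1 ∧ x ≠ t0 hF ∧ Commute (t0 hF) x} :
        Set ↥(Cfsg.SU 3 F q)) := rfl
  rw [h5, h1]
  have hq1 : 1 ≤ q := by omega
  zify [hq2, hq1] at h3 ⊢
  linear_combination h3

end Cfsg.Agent.Lib.Helper6.SU3Refl
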