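import Mathlib
import Cfsg.Prelude
import Cfsg.Agent.Lib.Helper6.SU3Std

set_option autoImplicit false
set_option linter.unusedSectionVars false
set_option linter.unusedVariables false
set_option linter.unusedSimpArgs false
open Cfsg

/-! The commuting involution graph of `SU_3(q)`, `q` odd, seen from the standard involution. -/

namespace Cfsg.Agent.Lib.Helper6.SU3Refl

open Matrix Cfsg.Agent.Lib.Helper5.Herm Cfsg.Agent.Lib.Helper5.HermTv Cfsg.Agent.Lib.Helper5.HermSU
  Cfsg.Agent.Lib.Helper5.HermGen Cfsg.Agent.Lib.Helper5.HermCount Cfsg.Agent.Lib.Helper5.HermCard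
  Cfsg.Agent.Lib.Helper5.HermBridge Cfsg.Agent.Lib.Helper5.HermFrames

variable {F : Type*} [Field F] [Fintype F] {q : ℕ} (hF : Fintype.card F = q ^ 2)

include hF in
theorem herm_e0Z_ne (z : Fin 2 → F) (hz : hermForm 2 F q z z = 0) :
    hermForm 3 F q (e0 F + iota z) (e0 F + iota z) ≠ 0 := by
  rw [herm_e0_add_iota_self hF, hz, add_zero]; exact one_ne_zero

/-- the involution attached to `e0 + z`, `z` an isotropic vector of the plane -/
noncomputable def reflZ (z : Fin 2 → F) (hz : hermForm 2 F q z z = 0) : ↥(Cfsg.SU 3 F q) :=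
  refl hF (e0 F + iota z) (herm_e0Z_ne hF z hz)

/-- the involutions at distance three from the standard one -/
def P3 (x : ↥(Cfsg.SU 3 F q)) : Prop :=
  x ≠ 1 ∧ x * x = 1 ∧ ¬ Commute (t0 hF) x ∧
    ∀ y : ↥(Cfsg.SU 3 F q), y ≠ 1 → y * y = 1 → ¬ (Commute (t0 hF) y ∧ Commute y x)

omit [Fintype F] in
theorem e0_add_iota_zero (z : Fin 2 → F) : (e0 F + iota z) 0 = 1 := by
  simp [e0, iota]

theorem refl_congr {v v' : Fin 3 → F} (h : v = v') (hv : hermForm 3 F q v v ≠ 0)
    (hv' : hermForm 3 F q v' v' ≠ 0) : refl hF v hv = refl hF v' hv' := by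
  subst h; rfl

/-- every non-isotropic vector not orthogonal to `e0` is proportional to some `e0 + z` -/
theorem exists_e0_add (w : Fin 3 → F) (hw : hermForm 3 F q w w ≠ 0) (hw0 : w 0 ≠ 0) :
    ∃ (z : Fin 2 → F) (hz : hermForm 3 F q (e0 F + iota z) (e0 F + iota z) ≠ 0),
      refl hF w hw = refl hF (e0 F + iota z) hz := by
  have hinv : (w 0)⁻¹ ≠ 0 := inv_ne_zero hw0
  have hw' : (w 0)⁻¹ • w = e0 F + iota ![(w 0)⁻¹ * w 1, (w 0)⁻¹ * w 2] := by
    ext i
    fin_cases i
    · simp [e0, iota, hw0]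
    · simp [e0, iota]
    · simp [e0, iota]
  have hz : hermForm 3 F q (e0 F + iota ![(w 0)⁻¹ * w 1, (w 0)⁻¹ * w 2])
      (e0 F + iota ![(w 0)⁻¹ * w 1, (w 0)⁻¹ * w 2]) ≠ 0 := by
    rw [← hw']
    exact herm_smul_self_ne hF _ hinv w hw
  refine ⟨_, hz, ?_⟩
  rw [← refl_smul hF (w 0)⁻¹ hinv w hw (herm_smul_self_ne hF _ hinv w hw)]
  exact refl_congr hF hw' _ _

/-- commuting of a plane involution with the involution attached to `e0 + z` -/
theorem commute_reflI_e0Z_iff (hq : Odd q) (u z : Fin 2 → F) (hu : hermForm 2 F q u u ≠ 0)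
    (hz : hermForm 3 F q (e0 F + iota z) (e0 F + iota z) ≠ 0) :
    Commute (reflI hF u hu) (refl hF (e0 F + iota z) hz) ↔ hermForm 2 F q z u = 0 := by
  unfold reflI
  rw [commute_refl_iff hF hq, herm_e0_add_iota hF]
  constructor
  · rintro (⟨a, ha, h⟩ | h)
    · exfalso
      have := congrFun h 0
      rw [e0_add_iota_zero] at this
      simp [iota] at this
    · exact h
  · intro h; right; exact h

/-- the involution attached to `e0 + z` does not commute with the standard one when `z ≠ 0` -/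
theorem not_commute_t0_e0Z (hq : Odd q) (z : Fin 2 → F) (hz0 : z ≠ 0)
    (hz : hermForm 3 F q (e0 F + iota z) (e0 F + iota z) ≠ 0) :
    ¬ Commute (t0 hF) (refl hF (e0 F + iota z) hz) := by
  rw [commute_t0_refl_iff hF hq]
  rintro (⟨a, ha, h⟩ | h)
  · apply hz0
    have h1 := congrFun h 1
    have h2 := congrFun h 2
    simp [e0, iota] at h1 h2
    ext i
    fin_cases i
    · exact h1
    · exact h2
  · rw [e0_add_iota_zero] at h
    exact one_ne_zero h

omit [Fintype F] in
theorem herm2_zero_left (u : Fin 2 → F) : hermForm 2 F q 0 u = 0 := by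
  rw [herm2]; simp

theorem P3_reflZ (hq : Odd q) (z : Fin 2 → F) (hz0 : z ≠ 0) (hz : hermForm 2 F q z z = 0) :
    P3 hF (reflZ hF z hz) := by
  refine ⟨refl_ne_one hF hq _ _, refl_mul_self hF _ _, not_commute_t0_e0Z hF hq z hz0 _, ?_⟩
  rintro y hy hy2 ⟨hc1, hc2⟩
  by_cases hyt : y = t0 hF
  · subst hyt
    exact not_commute_t0_e0Z hF hq z hz0 _ hc2
  · obtain ⟨u, hu, rfl⟩ := exists_reflI_of_commute hF hq y hy hy2 hyt hc1
    unfold reflZ at hc2
    rw [commute_reflI_e0Z_iff hF hq] at hc2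
    have hc3 : hermForm 2 F q u z = 0 := by
      rw [← hermForm_conj hF 2, hc2, zero_pow (q_ne_zero hF)]
    obtain ⟨c, hcu⟩ := eq_smul_perp2 hF z u hz0 hc3
    apply hu
    rw [hcu, hermForm_smul_left, hermForm_smul_right, herm_perp2_self hF, hz, mul_zero, mul_zero]

theorem exists_reflZ_of_P3 (hq : Odd q) (x : ↥(Cfsg.SU 3 F q)) (hx : P3 hF x) :
    ∃ (z : Fin 2 → F) (hz : hermForm 2 F q z z = 0), z ≠ 0 ∧ x = reflZ hF z hz := by
  obtain ⟨hx1, hx2, hnc, hall⟩ := hx
  obtain ⟨w, hw, rfl⟩ := exists_refl_of_involution hF hq x hx1 hx2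
  have hw0 : w 0 ≠ 0 := by
    intro h0
    apply hnc
    rw [commute_t0_refl_iff hF hq]
    right; exact h0
  obtain ⟨z, hz3, hwz⟩ := exists_e0_add hF w hw hw0
  rw [hwz] at hnc hall ⊢
  have hz : hermForm 2 F q z z = 0 := by
    by_contra hne
    have hp : hermForm 2 F q (perp2 q z) (perp2 q z) ≠ 0 := by
      rw [herm_perp2_self hF]; exact hne
    apply hall (reflI hF (perp2 q z) hp) (reflI_ne_one hF hq _ _) (reflI_mul_self hF _ _)
    refine ⟨commute_t0_reflI hF hq _ _, ?_⟩
    rw [commute_reflI_e0Z_iff hF hq]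
    exact herm_perp2_right hF z
  have hz0 : z ≠ 0 := by
    rintro rfl
    apply hnc
    rw [commute_t0_refl_iff hF hq]
    left
    refine ⟨1, one_ne_zero, ?_⟩
    ext i
    fin_cases i <;> simp [e0, iota]
  exact ⟨z, hz, hz0, rfl⟩

theorem reflZ_injective (hq : Odd q) (z z' : Fin 2 → F) (hz : hermForm 2 F q z z = 0)
    (hz' : hermForm 2 F q z' z' = 0) (h : reflZ hF z hz = reflZ hF z' hz') : z = z' := by
  unfold reflZ at h
  obtain ⟨a, ha, h1⟩ := (refl_eq_iff hF hq _ _ _ _).mp h
  have h0 := congrFun h1 0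
  rw [Pi.smul_apply, e0_add_iota_zero, e0_add_iota_zero, smul_eq_mul, mul_one] at h0
  rw [← h0, one_smul] at h1
  have h2 : iota z' = iota z := add_left_cancel h1
  exact (iota_injective h2).symm

/-- the number of involutions at distance three from the standard one -/
theorem card_P3 (hq : Odd q) :
    Nat.card {x : ↥(Cfsg.SU 3 F q) // P3 hF x} = (q + 1) * (q ^ 2 - 1) := by
  have h1 : Nat.card {x : ↥(Cfsg.SU 3 F q) // P3 hF x} = Nat.card (Iso F q 2) := by
    symm
    refine Nat.card_congr (Equiv.ofBijective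
      (fun z : Iso F q 2 => (⟨reflZ hF z.1 z.2.2, P3_reflZ hF hq z.1 z.2.1 z.2.2⟩ :
        {x : ↥(Cfsg.SU 3 F q) // P3 hF x})) ⟨?_, ?_⟩)
    · rintro ⟨z, hz0, hz⟩ ⟨z', hz0', hz'⟩ h
      apply Subtype.ext
      exact reflZ_injective hF hq z z' hz hz' (congrArg Subtype.val h)
    · rintro ⟨x, hx⟩
      obtain ⟨z, hz, hz0, rfl⟩ := exists_reflZ_of_P3 hF hq x hx
      exact ⟨⟨z, hz0, hz⟩, rfl⟩
  have h2 := card_Iso (F := F) (q := q) (n := 2)
  have hA : A F q 2 0 = (q ^ 2 - 1) * (q + 1) + 1 := by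
    rw [A_zero hF]
    rw [if_pos (by decide)]
    norm_num
  rw [hA] at h2
  rw [h1]
  have : Nat.card (Iso F q 2) = (q ^ 2 - 1) * (q + 1) := by omega
  rw [this, mul_comm]

omit [Fintype F] in
theorem herm3_cons (a b c a' b' c' : F) :
    hermForm 3 F q ![a, b, c] ![a', b', c'] = a * a' ^ q + b * b' ^ q + c * c' ^ q := by
  rw [herm3]; rfl

omit [Fintype F] in
theorem e0_add_iota (z : Fin 2 → F) : e0 F + iota z = ![1, z 0, z 1] := by
  ext i
  fin_cases i <;> simp [e0, iota]

omit [Fintype F] in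
theorem iota_cons (a b : F) : iota ![a, b] = ![0, a, b] := rfl

/-- every involution is at distance at most three from the standard one -/
theorem diam_t0 (hq : Odd q) (x : ↥(Cfsg.SU 3 F q)) (hx : x ≠ 1) (hx2 : x * x = 1) :
    ∃ y z : ↥(Cfsg.SU 3 F q), y ≠ 1 ∧ y * y = 1 ∧ z ≠ 1 ∧ z * z = 1 ∧
      Commute (t0 hF) y ∧ Commute y z ∧ Commute z x := by
  have hq0 := q_ne_zero hF
  have h2n := two_ne hF hq
  by_cases hc : Commute (t0 hF) x
  · exact ⟨t0 hF, x, t0_ne_one hF hq, t0_mul_self hF, hx, hx2, Commute.refl _, hc, Commute.refl _⟩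
  · obtain ⟨w, hw, rfl⟩ := exists_refl_of_involution hF hq x hx hx2
    have hw0 : w 0 ≠ 0 := by
      intro h0
      apply hc
      rw [commute_t0_refl_iff hF hq]
      right; exact h0
    obtain ⟨z, hz3, hwz⟩ := exists_e0_add hF w hw hw0
    rw [hwz]
    by_cases hN : hermForm 2 F q z z = 0
    · -- the isotropic case
      have hN' : z 0 * z 0 ^ q + z 1 * z 1 ^ q = 0 := by rw [← herm2]; exact hN
      by_cases hb : z 1 * z 1 ^ q + 1 = 0
      · -- use the second candidate
        have ha : z 0 * z 0 ^ q + 1 ≠ 0 := by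
          intro ha
          apply h2n
          linear_combination ha + hb - hN'
        have hu : hermForm 2 F q ![(0 : F), 1] ![(0 : F), 1] ≠ 0 := by
          rw [herm2]; simp [hq0]
        have hw2 : hermForm 3 F q ![-(z 0 ^ q), 1, 0] ![-(z 0 ^ q), 1, 0] ≠ 0 := by
          rw [herm3_cons, pow_q_neg hF, pow_q_pow_q hF, one_pow, zero_pow hq0]
          intro h
          apply ha
          linear_combination h
        refine ⟨reflI hF _ hu, refl hF _ hw2, reflI_ne_one hF hq _ _, reflI_mul_self hF _ _,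
          refl_ne_one hF hq _ _, refl_mul_self hF _ _, commute_t0_reflI hF hq _ _, ?_, ?_⟩
        · unfold reflI
          rw [commute_refl_iff hF hq]
          right
          rw [iota_cons, herm3_cons, zero_pow hq0]
          ring
        · rw [commute_refl_iff hF hq]
          right
          rw [e0_add_iota, herm3_cons, pow_q_neg hF, pow_q_pow_q hF, one_pow, zero_pow hq0]
          ring
      · -- use the first candidate
        have hu : hermForm 2 F q ![(1 : F), 0] ![(1 : F), 0] ≠ 0 := by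
          rw [herm2]; simp [hq0]
        have hw2 : hermForm 3 F q ![-(z 1 ^ q), 0, 1] ![-(z 1 ^ q), 0, 1] ≠ 0 := by
          rw [herm3_cons, pow_q_neg hF, pow_q_pow_q hF, one_pow, zero_pow hq0]
          intro h
          apply hb
          linear_combination h
        refine ⟨reflI hF _ hu, refl hF _ hw2, reflI_ne_one hF hq _ _, reflI_mul_self hF _ _,
          refl_ne_one hF hq _ _, refl_mul_self hF _ _, commute_t0_reflI hF hq _ _, ?_, ?_⟩
        · unfold reflI
          rw [commute_refl_iff hF hq]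
          right
          rw [iota_cons, herm3_cons, zero_pow hq0]
          ring
        · rw [commute_refl_iff hF hq]
          right
          rw [e0_add_iota, herm3_cons, pow_q_neg hF, pow_q_pow_q hF, one_pow, zero_pow hq0]
          ring
    · have hp : hermForm 2 F q (perp2 q z) (perp2 q z) ≠ 0 := by
        rw [herm_perp2_self hF]; exact hN
      refine ⟨reflI hF _ hp, reflI hF _ hp, reflI_ne_one hF hq _ _, reflI_mul_self hF _ _,
        reflI_ne_one hF hq _ _, reflI_mul_self hF _ _, commute_t0_reflI hF hq _ _,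
        Commute.refl _, ?_⟩
      rw [commute_reflI_e0Z_iff hF hq]
      exact herm_perp2_right hF z

end Cfsg.Agent.Lib.Helper6.SU3Refl
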