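import Mathlib
import Cfsg.Prelude
import Cfsg.Agent.Lib.Helper6.SU3Graph

set_option autoImplicit false
set_option linter.unusedSectionVars false
set_option linter.unusedVariables false
set_option linter.unusedSimpArgs false
open Cfsg

/-! Transport along conjugation and the final statements on the involutions of `SU_3(q)`. -/

namespace Cfsg.Agent.Lib.Helper6.SU3Refl

section generic
variable {G : Type*} [Group G]

theorem invol_map_iff (φ : G ≃* G) (y : G) : (φ y ≠ 1 ∧ φ y * φ y = 1) ↔ (y ≠ 1 ∧ y * y = 1) := by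
  rw [← map_mul, map_eq_one_iff φ φ.injective, Ne, map_eq_one_iff φ φ.injective]

theorem commute_map_iff (φ : G ≃* G) (a b : G) : Commute (φ a) (φ b) ↔ Commute a b := by
  rw [commute_iff_eq, commute_iff_eq, ← map_mul, ← map_mul, φ.injective.eq_iff]

theorem card_common_map (φ : G ≃* G) (t x : G) :
    Nat.card {y : G // y ≠ 1 ∧ y * y = 1 ∧ y ≠ φ t ∧ y ≠ φ x ∧ Commute (φ t) y ∧
      Commute (φ x) y} =
    Nat.card {y : G // y ≠ 1 ∧ y * y = 1 ∧ y ≠ t ∧ y ≠ x ∧ Commute t y ∧ Commute x y} := by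
  symm
  refine Nat.card_congr (φ.toEquiv.subtypeEquiv (fun y => ?_))
  show _ ↔ (φ y ≠ 1 ∧ φ y * φ y = 1 ∧ φ y ≠ φ t ∧ φ y ≠ φ x ∧ Commute (φ t) (φ y) ∧
    Commute (φ x) (φ y))
  rw [commute_map_iff, commute_map_iff, φ.injective.ne_iff, φ.injective.ne_iff,
    ← and_assoc, ← and_assoc (a := φ y ≠ 1), invol_map_iff]

theorem card1_map (φ : G ≃* G) (t : G) :
    Nat.card {x : G // x ≠ 1 ∧ x * x = 1 ∧ x ≠ φ t ∧ Commute (φ t) x} =
    Nat.card {x : G // x ≠ 1 ∧ x * x = 1 ∧ x ≠ t ∧ Commute t x} := by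
  symm
  refine Nat.card_congr (φ.toEquiv.subtypeEquiv (fun y => ?_))
  show _ ↔ (φ y ≠ 1 ∧ φ y * φ y = 1 ∧ φ y ≠ φ t ∧ Commute (φ t) (φ y))
  rw [commute_map_iff, φ.injective.ne_iff, ← and_assoc, ← and_assoc (a := φ y ≠ 1),
    invol_map_iff]

theorem exists_map_iff (φ : G ≃* G) (t x : G) :
    (∃ y : G, y ≠ 1 ∧ y * y = 1 ∧ Commute (φ t) y ∧ Commute y (φ x)) ↔
      ∃ y : G, y ≠ 1 ∧ y * y = 1 ∧ Commute t y ∧ Commute y x := by
  constructor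
  · rintro ⟨y, hy⟩
    refine ⟨φ.symm y, ?_⟩
    have h := hy
    rw [← φ.apply_symm_apply y, commute_map_iff, commute_map_iff, ← and_assoc,
      invol_map_iff, and_assoc] at h
    exact h
  · rintro ⟨y, hy⟩
    refine ⟨φ y, ?_⟩
    rw [commute_map_iff, commute_map_iff, ← and_assoc, invol_map_iff, and_assoc]
    exact hy

theorem card2_map (φ : G ≃* G) (t : G) :
    Nat.card {x : G // x ≠ 1 ∧ x * x = 1 ∧ ¬ Commute (φ t) x ∧
      ∃ y : G, y ≠ 1 ∧ y * y = 1 ∧ Commute (φ t) y ∧ Commute y x} =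
    Nat.card {x : G // x ≠ 1 ∧ x * x = 1 ∧ ¬ Commute t x ∧
      ∃ y : G, y ≠ 1 ∧ y * y = 1 ∧ Commute t y ∧ Commute y x} := by
  symm
  refine Nat.card_congr (φ.toEquiv.subtypeEquiv (fun x => ?_))
  show _ ↔ (φ x ≠ 1 ∧ φ x * φ x = 1 ∧ ¬ Commute (φ t) (φ x) ∧
      ∃ y : G, y ≠ 1 ∧ y * y = 1 ∧ Commute (φ t) y ∧ Commute y (φ x))
  rw [commute_map_iff, exists_map_iff, ← and_assoc, ← and_assoc (a := φ x ≠ 1), invol_map_iff]

theorem card3_map (φ : G ≃* G) (t : G) :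
    Nat.card {x : G // x ≠ 1 ∧ x * x = 1 ∧ ¬ Commute (φ t) x ∧
      ∀ y : G, y ≠ 1 → y * y = 1 → ¬ (Commute (φ t) y ∧ Commute y x)} =
    Nat.card {x : G // x ≠ 1 ∧ x * x = 1 ∧ ¬ Commute t x ∧
      ∀ y : G, y ≠ 1 → y * y = 1 → ¬ (Commute t y ∧ Commute y x)} := by
  symm
  refine Nat.card_congr (φ.toEquiv.subtypeEquiv (fun x => ?_))
  show _ ↔ (φ x ≠ 1 ∧ φ x * φ x = 1 ∧ ¬ Commute (φ t) (φ x) ∧
      ∀ y : G, y ≠ 1 → y * y = 1 → ¬ (Commute (φ t) y ∧ Commute y (φ x)))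
  have h1 : (∀ y : G, y ≠ 1 → y * y = 1 → ¬ (Commute (φ t) y ∧ Commute y (φ x))) ↔
      ¬ ∃ y : G, y ≠ 1 ∧ y * y = 1 ∧ Commute (φ t) y ∧ Commute y (φ x) := by
    constructor
    · rintro h ⟨y, hy1, hy2, hy3⟩
      exact h y hy1 hy2 hy3
    · intro h y hy1 hy2 hy3
      exact h ⟨y, hy1, hy2, hy3⟩
  have h2 : (∀ y : G, y ≠ 1 → y * y = 1 → ¬ (Commute t y ∧ Commute y x)) ↔
      ¬ ∃ y : G, y ≠ 1 ∧ y * y = 1 ∧ Commute t y ∧ Commute y x := by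
    constructor
    · rintro h ⟨y, hy1, hy2, hy3⟩
      exact h y hy1 hy2 hy3
    · intro h y hy1 hy2 hy3
      exact h ⟨y, hy1, hy2, hy3⟩
  rw [h1, h2, commute_map_iff, exists_map_iff, ← and_assoc, ← and_assoc (a := φ x ≠ 1),
    invol_map_iff]

theorem diam_map (φ : G ≃* G) (t : G)
    (h : ∀ x : G, x ≠ 1 → x * x = 1 → ∃ y z : G, y ≠ 1 ∧ y * y = 1 ∧ z ≠ 1 ∧ z * z = 1 ∧
      Commute t y ∧ Commute y z ∧ Commute z x) :
    ∀ x : G, x ≠ 1 → x * x = 1 → ∃ y z : G, y ≠ 1 ∧ y * y = 1 ∧ z ≠ 1 ∧ z * z = 1 ∧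
      Commute (φ t) y ∧ Commute y z ∧ Commute z x := by
  intro x hx hx2
  have hx' : φ.symm x ≠ 1 ∧ φ.symm x * φ.symm x = 1 := by
    rw [← invol_map_iff φ, φ.apply_symm_apply]
    exact ⟨hx, hx2⟩
  obtain ⟨y, z, hy, hy2, hz, hz2, h1, h2, h3⟩ := h (φ.symm x) hx'.1 hx'.2
  refine ⟨φ y, φ z, ?_, ?_, ?_, ?_, ?_, ?_, ?_⟩
  · exact ((invol_map_iff φ y).mpr ⟨hy, hy2⟩).1
  · exact ((invol_map_iff φ y).mpr ⟨hy, hy2⟩).2
  · exact ((invol_map_iff φ z).mpr ⟨hz, hz2⟩).1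
  · exact ((invol_map_iff φ z).mpr ⟨hz, hz2⟩).2
  · exact (commute_map_iff φ t y).mpr h1
  · exact (commute_map_iff φ y z).mpr h2
  · have := (commute_map_iff φ z (φ.symm x)).mpr h3
    rwa [φ.apply_symm_apply] at this

/-- the involutions split according to their distance from a given one -/
theorem card_partition [Finite G] (t : G) (ht : t ≠ 1) (ht2 : t * t = 1) :
    Nat.card {x : G // x ≠ 1 ∧ x * x = 1} =
      1 + Nat.card {x : G // x ≠ 1 ∧ x * x = 1 ∧ x ≠ t ∧ Commute t x} +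
      Nat.card {x : G // x ≠ 1 ∧ x * x = 1 ∧ ¬ Commute t x ∧
        ∃ y : G, y ≠ 1 ∧ y * y = 1 ∧ Commute t y ∧ Commute y x} +
      Nat.card {x : G // x ≠ 1 ∧ x * x = 1 ∧ ¬ Commute t x ∧
        ∀ y : G, y ≠ 1 → y * y = 1 → ¬ (Commute t y ∧ Commute y x)} := by
  classical
  set A : Set G := {x | x ≠ 1 ∧ x * x = 1} with hA
  set B1 : Set G := {x | x ≠ 1 ∧ x * x = 1 ∧ x ≠ t ∧ Commute t x} with hB1
  set B2 : Set G := {x | x ≠ 1 ∧ x * x = 1 ∧ ¬ Commute t x ∧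
        ∃ y : G, y ≠ 1 ∧ y * y = 1 ∧ Commute t y ∧ Commute y x} with hB2
  set B3 : Set G := {x | x ≠ 1 ∧ x * x = 1 ∧ ¬ Commute t x ∧
        ∀ y : G, y ≠ 1 → y * y = 1 → ¬ (Commute t y ∧ Commute y x)} with hB3
  have hcard : ∀ S : Set G, Nat.card S = S.ncard := fun S => Nat.card_coe_set_eq S
  show Nat.card A = 1 + Nat.card B1 + Nat.card B2 + Nat.card B3
  rw [hcard, hcard, hcard, hcard]
  have hunion : A = (({t} ∪ B1) ∪ B2) ∪ B3 := by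
    ext x
    simp only [hA, hB1, hB2, hB3, Set.mem_union, Set.mem_singleton_iff, Set.mem_ofPred_eq]
    constructor
    · rintro ⟨hx, hx2⟩
      by_cases hxt : x = t
      · left; left; left; exact hxt
      · by_cases hc : Commute t x
        · left; left; right; exact ⟨hx, hx2, hxt, hc⟩
        · by_cases hex : ∃ y : G, y ≠ 1 ∧ y * y = 1 ∧ Commute t y ∧ Commute y x
          · left; right; exact ⟨hx, hx2, hc, hex⟩
          · right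
            refine ⟨hx, hx2, hc, ?_⟩
            intro y hy hy2 hyc
            exact hex ⟨y, hy, hy2, hyc⟩
    · rintro (((rfl | h) | h) | h)
      · exact ⟨ht, ht2⟩
      · exact ⟨h.1, h.2.1⟩
      · exact ⟨h.1, h.2.1⟩
      · exact ⟨h.1, h.2.1⟩
  have hd1 : Disjoint ({t} : Set G) B1 := by
    rw [Set.disjoint_left]
    intro x hx hx1
    rw [Set.mem_singleton_iff] at hx
    exact hx1.2.2.1 hx
  have hd2 : Disjoint (({t} : Set G) ∪ B1) B2 := by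
    rw [Set.disjoint_left]
    rintro x (hx | hx) hx2
    · rw [Set.mem_singleton_iff] at hx
      subst hx
      exact hx2.2.2.1 (Commute.refl _)
    · exact hx2.2.2.1 hx.2.2.2
  have hd3 : Disjoint ((({t} : Set G) ∪ B1) ∪ B2) B3 := by
    rw [Set.disjoint_left]
    rintro x ((hx | hx) | hx) hx3
    · rw [Set.mem_singleton_iff] at hx
      subst hx
      exact hx3.2.2.1 (Commute.refl _)
    · exact hx3.2.2.1 hx.2.2.2
    · obtain ⟨y, hy, hy2, hyc⟩ := hx.2.2.2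
      exact hx3.2.2.2 y hy hy2 hyc
  rw [hunion, Set.ncard_union_eq hd3, Set.ncard_union_eq hd2, Set.ncard_union_eq hd1,
    Set.ncard_singleton]

end generic

open Cfsg.Agent.Lib.Helper5.Herm

variable {F : Type*} [Field F] [Fintype F] {q : ℕ} (hF : Fintype.card F = q ^ 2)

include hF in
/-- every involution is the image of the standard one under an inner automorphism -/
theorem exists_conj_t0 (hq : Odd q) (t : ↥(Cfsg.SU 3 F q)) (ht : t ≠ 1) (ht2 : t * t = 1) :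
    ∃ φ : ↥(Cfsg.SU 3 F q) ≃* ↥(Cfsg.SU 3 F q), φ (t0 hF) = t := by
  obtain ⟨g, hg⟩ := involutions_conj hF hq (t0 hF) t (t0_ne_one hF hq) (t0_mul_self hF) ht ht2
  exact ⟨MulAut.conj g, by rw [MulAut.conj_apply]; exact hg⟩

include hF in
/-- S2360 -/
theorem su3_involutions (hq : Odd q) (t : ↥(Cfsg.SU 3 F q)) (ht : t ≠ 1) (ht2 : t * t = 1) :
    (∀ x : ↥(Cfsg.SU 3 F q), x ≠ 1 → x * x = 1 → ∃ g : ↥(Cfsg.SU 3 F q), g * t * g⁻¹ = x) ∧
    Nat.card {x : ↥(Cfsg.SU 3 F q) // x ≠ 1 ∧ x * x = 1} = q ^ 2 * (q ^ 2 - q + 1) ∧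
    Nat.card ↥(Subgroup.centralizer ({t} : Set ↥(Cfsg.SU 3 F q))) = q * (q + 1) * (q ^ 2 - 1) ∧
    ∀ x : ↥(Cfsg.SU 3 F q), x ≠ 1 → x * x = 1 → x ≠ t → Commute t x →
      Nat.card {y : ↥(Cfsg.SU 3 F q) // y ≠ 1 ∧ y * y = 1 ∧ y ≠ t ∧ y ≠ x ∧ Commute t y ∧
        Commute x y} = 1 := by
  refine ⟨fun x hx hx2 => involutions_conj hF hq t x ht ht2 hx hx2, card_involutions hF hq,
    card_centralizer_involution hF hq t ht ht2, ?_⟩
  intro x hx hx2 hxt hc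
  obtain ⟨φ, rfl⟩ := exists_conj_t0 hF hq t ht ht2
  have hx' : φ.symm x ≠ 1 ∧ φ.symm x * φ.symm x = 1 := by
    rw [← invol_map_iff φ, φ.apply_symm_apply]
    exact ⟨hx, hx2⟩
  have hxt' : φ.symm x ≠ t0 hF := by
    intro h
    apply hxt
    rw [← h, φ.apply_symm_apply]
  have hc' : Commute (t0 hF) (φ.symm x) := by
    rw [← commute_map_iff φ, φ.apply_symm_apply]
    exact hc
  have := card_common_t0 hF hq (φ.symm x) hx'.1 hx'.2 hxt' hc'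
  rw [← card_common_map φ, φ.apply_symm_apply] at this
  exact this

include hF in
/-- S2356 -/
theorem su3_commuting_graph (hq : Odd q) (t : ↥(Cfsg.SU 3 F q)) (ht : t ≠ 1) (ht2 : t * t = 1) :
    Nat.card {x : ↥(Cfsg.SU 3 F q) // x ≠ 1 ∧ x * x = 1 ∧ x ≠ t ∧ Commute t x} = q * (q - 1) ∧
    Nat.card {x : ↥(Cfsg.SU 3 F q) // x ≠ 1 ∧ x * x = 1 ∧ ¬ Commute t x ∧
        ∃ y : ↥(Cfsg.SU 3 F q), y ≠ 1 ∧ y * y = 1 ∧ Commute t y ∧ Commute y x} =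
      q * (q - 2) * (q ^ 2 - 1) ∧
    Nat.card {x : ↥(Cfsg.SU 3 F q) // x ≠ 1 ∧ x * x = 1 ∧ ¬ Commute t x ∧
        ∀ y : ↥(Cfsg.SU 3 F q), y ≠ 1 → y * y = 1 → ¬ (Commute t y ∧ Commute y x)} =
      (q + 1) * (q ^ 2 - 1) ∧
    ∀ x : ↥(Cfsg.SU 3 F q), x ≠ 1 → x * x = 1 →
      ∃ y z : ↥(Cfsg.SU 3 F q), y ≠ 1 ∧ y * y = 1 ∧ z ≠ 1 ∧ z * z = 1 ∧
        Commute t y ∧ Commute y z ∧ Commute z x := by
  have h2 := two_le_q hF
  have h3q : 3 ≤ q := by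
    rcases hq with ⟨k, rfl⟩
    omega
  obtain ⟨φ, rfl⟩ := exists_conj_t0 hF hq t ht ht2
  have c1 := card_commuting_t0 hF hq
  have c3 : Nat.card {x : ↥(Cfsg.SU 3 F q) // x ≠ 1 ∧ x * x = 1 ∧ ¬ Commute (t0 hF) x ∧
        ∀ y : ↥(Cfsg.SU 3 F q), y ≠ 1 → y * y = 1 → ¬ (Commute (t0 hF) y ∧ Commute y x)} =
      (q + 1) * (q ^ 2 - 1) := card_P3 hF hq
  have cpart := card_partition (t0 hF) (t0_ne_one hF hq) (t0_mul_self hF)
  rw [card_involutions hF hq, c1, c3] at cpart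
  have c2 : Nat.card {x : ↥(Cfsg.SU 3 F q) // x ≠ 1 ∧ x * x = 1 ∧ ¬ Commute (t0 hF) x ∧
        ∃ y : ↥(Cfsg.SU 3 F q), y ≠ 1 ∧ y * y = 1 ∧ Commute (t0 hF) y ∧ Commute y x} =
      q * (q - 2) * (q ^ 2 - 1) := by
    have hq2 : 1 ≤ q ^ 2 := Nat.one_le_pow _ _ (by omega)
    have hqq : q ≤ q ^ 2 := by nlinarith
    have hq1 : 1 ≤ q := by omega
    have hq22 : 2 ≤ q := by omega
    zify [hq2, hqq, hq1, hq22] at cpart ⊢
    linear_combination -cpart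
  refine ⟨?_, ?_, ?_, ?_⟩
  · rw [card1_map φ, c1]
  · rw [card2_map φ, c2]
  · rw [card3_map φ, c3]
  · exact diam_map φ (t0 hF) (diam_t0 hF hq)

end Cfsg.Agent.Lib.Helper6.SU3Refl
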