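import Mathlib
import Cfsg.Prelude
import Cfsg.Agent.Lib.Helper5.HermPerp
import Cfsg.Agent.Lib.Helper6.SU3Refl
import Cfsg.Agent.Lib.Helper6.QdSection

set_option autoImplicit false
set_option linter.unusedSectionVars false
set_option linter.unusedVariables false
set_option linter.unusedSimpArgs false
open Cfsg

/-! `Qd(p)` is not involved in `PSU_3(q)`, `q` a power of the odd prime `p`: every nontrivial
`p`-element of `SU_3(q)` fixes exactly one isotropic point, so the normalizer of a nontrivial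
`p`-subgroup lies in the stabilizer of an isotropic point, whose commutators are unipotent. -/

namespace Cfsg.Agent.Lib.Helper6.SU3Qd

open Matrix Cfsg.Agent.Lib.Helper5.Herm Cfsg.Agent.Lib.Helper5.HermTv Cfsg.Agent.Lib.Helper5.HermSU
  Cfsg.Agent.Lib.Helper5.HermBridge Cfsg.Agent.Lib.Helper5.HermPair
  Cfsg.Agent.Lib.Helper5.HermPerp Cfsg.Agent.Lib.Helper5.SUSingularMax
  Cfsg.Agent.Lib.Helper6.SU3Refl

variable {F : Type*} [Field F] [Fintype F] {q : ℕ} (hF : Fintype.card F = q ^ 2)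

/-! ### orthogonal complements of lines and planes -/

theorem mem_perp_singleton (x v : Fin 3 → F) :
    v ∈ perpS hF (Submodule.span F {x}) ↔ hermForm 3 F q x v = 0 := by
  rw [mem_perpS]
  constructor
  · intro h
    exact h x (Submodule.mem_span_singleton_self x)
  · intro h w hw
    obtain ⟨c, rfl⟩ := Submodule.mem_span_singleton.mp hw
    rw [hsmul_l, h, mul_zero]

theorem mem_perp_pair (x y v : Fin 3 → F) :
    v ∈ perpS hF (Submodule.span F {x, y}) ↔
      hermForm 3 F q x v = 0 ∧ hermForm 3 F q y v = 0 := by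
  rw [mem_perpS]
  constructor
  · intro h
    exact ⟨h x (Submodule.subset_span (by simp)), h y (Submodule.subset_span (by simp))⟩
  · rintro ⟨h1, h2⟩ w hw
    obtain ⟨a, b, rfl⟩ := Submodule.mem_span_pair.mp hw
    rw [hadd_l, hsmul_l, hsmul_l, h1, h2, mul_zero, mul_zero, add_zero]

/-- two independent vectors span a subspace of dimension at least two -/
theorem two_le_finrank_pair (x y : Fin 3 → F) (hx : x ≠ 0) (hy : ∀ c : F, y ≠ c • x) :
    2 ≤ Module.finrank F (Submodule.span F {x, y}) := by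
  have h1 : Submodule.span F {x} < Submodule.span F {x, y} := by
    rw [lt_iff_le_and_ne]
    refine ⟨Submodule.span_mono (by simp), ?_⟩
    intro h
    have hy' : y ∈ Submodule.span F {x} := by
      rw [h]; exact Submodule.subset_span (by simp)
    obtain ⟨c, hc⟩ := Submodule.mem_span_singleton.mp hy'
    exact hy c hc.symm
  have h2 := Submodule.finrank_lt_finrank_of_lt h1
  rw [finrank_span_singleton hx] at h2
  omega

include hF in
/-- the orthogonal complement of an isotropic line is spanned by the line and one more vector -/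
theorem perp_line (x : Fin 3 → F) (hx : x ≠ 0) (hxx : hermForm 3 F q x x = 0) :
    ∃ y : Fin 3 → F, hermForm 3 F q x y = 0 ∧ (∀ c : F, y ≠ c • x) ∧
      ∀ w : Fin 3 → F, hermForm 3 F q x w = 0 → ∃ a b : F, w = a • y + b • x := by
  set U := Submodule.span F {x} with hU
  set W := perpS hF U with hW
  have hfU : Module.finrank F U = 1 := finrank_span_singleton hx
  have hfW : Module.finrank F W = 2 := by
    have h3 := finrank_perpS hF U
    rw [hfU, ← hW] at h3
    omega
  have hUW : U ≤ W := by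
    intro w hw
    obtain ⟨c, rfl⟩ := Submodule.mem_span_singleton.mp hw
    rw [hW, hU, mem_perp_singleton, hsmul_r, hxx, mul_zero]
  have hne : U ≠ W := by
    intro h
    rw [h] at hfU
    omega
  obtain ⟨y, hyW, hyU⟩ := SetLike.exists_of_lt (lt_of_le_of_ne hUW hne)
  have hy : ∀ c : F, y ≠ c • x := by
    intro c hc
    exact hyU (Submodule.mem_span_singleton.mpr ⟨c, hc.symm⟩)
  have hxy : hermForm 3 F q x y = 0 := by
    rw [hW, hU, mem_perp_singleton] at hyW
    exact hyW
  refine ⟨y, hxy, hy, ?_⟩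
  have hle : Submodule.span F {x, y} ≤ W := by
    rw [Submodule.span_le]
    intro z hz
    rcases hz with rfl | hz
    · exact hUW (Submodule.mem_span_singleton_self _)
    · rw [Set.mem_singleton_iff] at hz
      rw [hz]; exact hyW
  have h2 := two_le_finrank_pair x y hx hy
  have heq : Submodule.span F {x, y} = W := by
    apply Submodule.eq_of_le_of_finrank_le hle
    omega
  intro w hw
  have hwW : w ∈ W := by
    rw [hW, hU, mem_perp_singleton]; exact hw
  rw [← heq] at hwW
  obtain ⟨a, b, hab⟩ := Submodule.mem_span_pair.mp hwW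
  exact ⟨b, a, by rw [← hab, add_comm]⟩


/-! ### triangular elements -/

/-- `g` is triangular with respect to `x, y` -/
def Tri (x y : Fin 3 → F) (g : ↥(Cfsg.SU 3 F q)) (a a' s : F) : Prop :=
  sact g x = a • x ∧ sact g y = a' • y + s • x

omit [Fintype F] in
theorem Tri.mul {x y : Fin 3 → F} {g h : ↥(Cfsg.SU 3 F q)} {a a' s b b' t : F}
    (hg : Tri x y g a a' s) (hh : Tri x y h b b' t) :
    Tri x y (g * h) (a * b) (a' * b') (b' * s + t * a) := by
  constructor
  · rw [sact_mul, hh.1, sact_smul, hg.1]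
    module
  · rw [sact_mul, hh.2, sact_add, sact_smul, sact_smul, hg.1, hg.2]
    module

omit [Fintype F] in
theorem sact_inv_of_smul {x : Fin 3 → F} {g : ↥(Cfsg.SU 3 F q)} {a : F}
    (hg : sact g x = a • x) (ha : a ≠ 0) : sact g⁻¹ x = a⁻¹ • x := by
  have h1 := congrArg (sact g⁻¹) hg
  rw [sact_inv_sact, sact_smul] at h1
  calc sact g⁻¹ x = a⁻¹ • (a • sact g⁻¹ x) := by rw [smul_smul, inv_mul_cancel₀ ha, one_smul]
    _ = a⁻¹ • x := by rw [← h1]

omit [Fintype F] in
theorem Tri.inv {x y : Fin 3 → F} {g : ↥(Cfsg.SU 3 F q)} {a a' s : F}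
    (hg : Tri x y g a a' s) (ha : a ≠ 0) (ha' : a' ≠ 0) :
    Tri x y g⁻¹ a⁻¹ a'⁻¹ (-(a'⁻¹ * s * a⁻¹)) := by
  have h1 : sact g⁻¹ x = a⁻¹ • x := sact_inv_of_smul hg.1 ha
  refine ⟨h1, ?_⟩
  have h4 := congrArg (sact g⁻¹) hg.2
  rw [sact_inv_sact, sact_add, sact_smul, sact_smul, h1] at h4
  have h2 : sact g⁻¹ y = a'⁻¹ • (a' • sact g⁻¹ y) := by
    rw [smul_smul, inv_mul_cancel₀ ha', one_smul]
  have h3 : a' • sact g⁻¹ y = y - s • a⁻¹ • x := by
    rw [eq_sub_iff_add_eq]; exact h4.symm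
  rw [h2, h3]
  module

omit [Fintype F] in
theorem scalar_ne_zero {x : Fin 3 → F} (hx : x ≠ 0) {g : ↥(Cfsg.SU 3 F q)} {a : F}
    (hg : sact g x = a • x) : a ≠ 0 := by
  rintro rfl
  rw [zero_smul] at hg
  have := congrArg (sact g⁻¹) hg
  rw [sact_inv_sact, sact_zero] at this
  exact hx this

include hF in
/-- an element stabilizing the isotropic point `⟨x⟩` is triangular -/
theorem exists_tri {x y : Fin 3 → F} (hx : x ≠ 0) (hxy : hermForm 3 F q x y = 0)
    (hy : ∀ c : F, y ≠ c • x)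
    (hspan : ∀ w : Fin 3 → F, hermForm 3 F q x w = 0 → ∃ a b : F, w = a • y + b • x)
    {g : ↥(Cfsg.SU 3 F q)} {a : F} (hg : sact g x = a • x) :
    ∃ a' s : F, a' ≠ 0 ∧ Tri x y g a a' s := by
  have ha := scalar_ne_zero hx hg
  have h1 : sact g⁻¹ x = a⁻¹ • x := sact_inv_of_smul hg ha
  have h2 : hermForm 3 F q x (sact g y) = 0 := by
    rw [← herm_sact_inv_left, h1, hsmul_l, hxy, mul_zero]
  obtain ⟨a', s, has⟩ := hspan _ h2
  refine ⟨a', s, ?_, hg, has⟩
  rintro rfl
  rw [zero_smul, zero_add] at has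
  have := congrArg (sact g⁻¹) has
  rw [sact_inv_sact, sact_smul, h1, smul_smul] at this
  exact hy _ this

include hF in
/-- commutators in the stabilizer of an isotropic point are unipotent -/
theorem comm_unipotent (x : Fin 3 → F) (hx : x ≠ 0) (hxx : hermForm 3 F q x x = 0)
    (g h : ↥(Cfsg.SU 3 F q)) (hg : ∃ a : F, sact g x = a • x) (hh : ∃ b : F, sact h x = b • x)
    (v : Fin 3 → F) :
    sact (g * h * g⁻¹ * h⁻¹) (sact (g * h * g⁻¹ * h⁻¹) (sact (g * h * g⁻¹ * h⁻¹) v - v) -
      (sact (g * h * g⁻¹ * h⁻¹) v - v)) -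
      (sact (g * h * g⁻¹ * h⁻¹) (sact (g * h * g⁻¹ * h⁻¹) v - v) -
      (sact (g * h * g⁻¹ * h⁻¹) v - v)) = 0 := by
  obtain ⟨y, hxy, hy, hspan⟩ := perp_line hF x hx hxx
  obtain ⟨a, hga⟩ := hg
  obtain ⟨b, hhb⟩ := hh
  have ha := scalar_ne_zero hx hga
  have hb := scalar_ne_zero hx hhb
  obtain ⟨a', s, ha', hgT⟩ := exists_tri hF hx hxy hy hspan hga
  obtain ⟨b', t, hb', hhT⟩ := exists_tri hF hx hxy hy hspan hhb
  have hcT := ((hgT.mul hhT).mul (hgT.inv ha ha')).mul (hhT.inv hb hb')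
  set c := g * h * g⁻¹ * h⁻¹ with hc
  obtain ⟨hcx, hcy⟩ := hcT
  have e1 : a * b * a⁻¹ * b⁻¹ = 1 := by field_simp
  have e2 : a' * b' * a'⁻¹ * b'⁻¹ = 1 := by field_simp
  rw [e1, one_smul] at hcx
  rw [e2, one_smul] at hcy
  -- `N v ∈ x^⊥`
  have hperp : hermForm 3 F q x (sact c v - v) = 0 := by
    rw [sub_eq_add_neg, hadd_r hF, herm_neg_right hF]
    nth_rewrite 1 [← hcx]
    rw [herm_sact, add_neg_cancel]
  obtain ⟨α, β, hαβ⟩ := hspan _ hperp
  rw [hαβ, sact_add, sact_smul, sact_smul, hcx, hcy]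
  set S : F := (b'⁻¹ * (a'⁻¹ * (b' * s + t * a) + -(a'⁻¹ * s * a⁻¹) * (a * b)) +
        -(b'⁻¹ * t * b⁻¹) * (a * b * a⁻¹)) with hS
  have e3 : α • (y + S • x) + β • x - (α • y + β • x) = (α * S) • x := by
    module
  rw [e3, sact_smul, hcx, sub_self]


/-- the matrix of an element of `SU_3` -/
abbrev mat (s : ↥(Cfsg.SU 3 F q)) : Matrix (Fin 3) (Fin 3) F :=
  ((s : Matrix.SpecialLinearGroup (Fin 3) F) : Matrix (Fin 3) (Fin 3) F)

omit [Fintype F] in
theorem sub_one_mulVec (s : ↥(Cfsg.SU 3 F q)) (v : Fin 3 → F) :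
    (mat s - 1) *ᵥ v = sact s v - v := by
  rw [sub_mulVec, one_mulVec]
  rfl

omit [Fintype F] in
theorem mat_pow (s : ↥(Cfsg.SU 3 F q)) (k : ℕ) : mat (s ^ k) = mat s ^ k := by
  unfold mat
  rw [SubmonoidClass.coe_pow, Matrix.SpecialLinearGroup.coe_pow]

omit [Fintype F] in
theorem mat_one : mat (1 : ↥(Cfsg.SU 3 F q)) = 1 := by
  unfold mat
  rw [OneMemClass.coe_one, Matrix.SpecialLinearGroup.coe_one]

omit [Fintype F] in
theorem mat_injective : Function.Injective (mat (F := F) (q := q)) := by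
  intro s t h
  exact Subtype.ext (Subtype.ext h)

include hF in
theorem comm_pow_p {p : ℕ} [Fact p.Prime] [CharP F p] (hp3 : 3 ≤ p)
    (x : Fin 3 → F) (hx : x ≠ 0) (hxx : hermForm 3 F q x x = 0)
    (g h : ↥(Cfsg.SU 3 F q)) (hg : ∃ a : F, sact g x = a • x) (hh : ∃ b : F, sact h x = b • x) :
    (g * h * g⁻¹ * h⁻¹) ^ p = 1 := by
  set c := g * h * g⁻¹ * h⁻¹ with hc
  have h3 : (mat c - 1) ^ 3 = 0 := by
    rw [ext_iff_mulVec]
    intro v
    have e : (mat c - 1) ^ 3 = (mat c - 1) * ((mat c - 1) * (mat c - 1)) := by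
      rw [pow_succ, pow_two, mul_assoc]
    rw [e, ← mulVec_mulVec, ← mulVec_mulVec, sub_one_mulVec, sub_one_mulVec, sub_one_mulVec,
      zero_mulVec]
    exact comm_unipotent hF x hx hxx g h hg hh v
  have hpw : (mat c - 1) ^ p = 0 := by
    have hk : (mat c - 1) ^ p = (mat c - 1) ^ 3 * (mat c - 1) ^ (p - 3) := by
      rw [← pow_add]
      congr 1
      omega
    rw [hk, h3, zero_mul]
  have hMp : mat c ^ p = 1 := by
    have hcm : Commute (mat c) 1 := Commute.one_right _
    have := sub_pow_char_of_commute (p := p) hcm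
    rw [hpw, one_pow] at this
    exact (sub_eq_zero.mp this.symm)
  apply mat_injective
  rw [mat_pow, hMp, mat_one]


/-! ### unipotent elements -/

omit [Fintype F] in
theorem unip_nilp {p : ℕ} [Fact p.Prime] [CharP F p] (u : ↥(Cfsg.SU 3 F q)) (k : ℕ)
    (hu : u ^ (p ^ k) = 1) : (mat u - 1) ^ (p ^ k) = 0 := by
  have hcm : Commute (mat u) 1 := Commute.one_right _
  rw [sub_pow_char_pow_of_commute (p := p) (n := k) hcm, ← mat_pow, hu, mat_one, one_pow, sub_self]

omit [Fintype F] in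
/-- the only eigenvalue of a unipotent element is `1` -/
theorem eigenvalue_eq_one (u : ↥(Cfsg.SU 3 F q)) (m : ℕ) (hm : (mat u - 1) ^ m = 0)
    (y : Fin 3 → F) (hy : y ≠ 0) (l : F) (hl : sact u y = l • y) : l = 1 := by
  have h1 : ∀ j : ℕ, ((mat u - 1) ^ j) *ᵥ y = (l - 1) ^ j • y := by
    intro j
    induction j with
    | zero => simp
    | succ j ih =>
      have e : l • y - y = (l - 1) • y := by rw [sub_smul, one_smul]
      rw [pow_succ, ← mulVec_mulVec, sub_one_mulVec, hl, e, mulVec_smul, ih, smul_smul,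
        pow_succ, mul_comm]
  have h2 := h1 m
  rw [hm, zero_mulVec] at h2
  have h3 : (l - 1) ^ m = 0 := by
    by_contra h
    exact hy ((smul_eq_zero.mp h2.symm).resolve_left h)
  exact sub_eq_zero.mp (pow_eq_zero_iff (by
    rintro rfl
    simp at h3) |>.mp h3)

include hF in
/-- a nontrivial unipotent element fixes a nonzero isotropic vector -/
theorem exists_fixed_isotropic (u : ↥(Cfsg.SU 3 F q)) (hu1 : u ≠ 1) (m : ℕ)
    (hm : (mat u - 1) ^ m = 0) :
    ∃ x : Fin 3 → F, x ≠ 0 ∧ hermForm 3 F q x x = 0 ∧ sact u x = x := by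
  classical
  set N := mat u - 1 with hN
  have hN0 : N ≠ 0 := by
    intro h
    apply hu1
    apply mat_injective
    rw [mat_one]
    exact sub_eq_zero.mp h
  have hex : ∃ j : ℕ, N ^ j = 0 := ⟨m, hm⟩
  have hj0 : Nat.find hex ≠ 0 := by
    intro h
    have := Nat.find_spec hex
    rw [h, pow_zero] at this
    exact one_ne_zero this
  have hj1 : Nat.find hex ≠ 1 := by
    intro h
    have := Nat.find_spec hex
    rw [h, pow_one] at this
    exact hN0 this
  obtain ⟨j, hj⟩ : ∃ j, Nat.find hex = j + 2 := ⟨Nat.find hex - 2, by omega⟩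
  have hj2 : N ^ (j + 2) = 0 := by
    rw [← hj]; exact Nat.find_spec hex
  have hj3 : N ^ (j + 1) ≠ 0 := Nat.find_min hex (by omega)
  have hv : ∃ v : Fin 3 → F, (N ^ (j + 1)) *ᵥ v ≠ 0 := by
    by_contra h
    push Not at h
    apply hj3
    rw [ext_iff_mulVec]
    intro v
    rw [h v, zero_mulVec]
  obtain ⟨v, hv⟩ := hv
  set w := (N ^ j) *ᵥ v with hw
  have hx : (N ^ (j + 1)) *ᵥ v = sact u w - w := by
    rw [pow_succ', ← mulVec_mulVec, ← hw, hN, sub_one_mulVec]
  have hNx : sact u ((N ^ (j + 1)) *ᵥ v) = (N ^ (j + 1)) *ᵥ v := by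
    have h1 : N *ᵥ ((N ^ (j + 1)) *ᵥ v) = 0 := by
      rw [mulVec_mulVec, ← pow_succ', hj2, zero_mulVec]
    rw [hN, sub_one_mulVec] at h1
    exact sub_eq_zero.mp h1
  refine ⟨(N ^ (j + 1)) *ᵥ v, hv, ?_, hNx⟩
  nth_rewrite 1 [hx]
  rw [sub_eq_add_neg, hadd_l, herm_neg_left]
  nth_rewrite 1 [← hNx]
  rw [herm_sact, add_neg_cancel]

omit [Fintype F] in
theorem herm_sub_left (u u' v : Fin 3 → F) :
    hermForm 3 F q (u - u') v = hermForm 3 F q u v - hermForm 3 F q u' v := by
  rw [sub_eq_add_neg, hadd_l, herm_neg_left, ← sub_eq_add_neg]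

include hF in
/-- a nontrivial unipotent element has at most one isotropic eigenline -/
theorem fixed_isotropic_unique (u : ↥(Cfsg.SU 3 F q)) (hu1 : u ≠ 1) (m : ℕ)
    (hm : (mat u - 1) ^ m = 0) (x : Fin 3 → F) (hx : x ≠ 0) (hxx : hermForm 3 F q x x = 0)
    (hux : sact u x = x) (y : Fin 3 → F) (hy : y ≠ 0) (hyy : hermForm 3 F q y y = 0) (l : F)
    (huy : sact u y = l • y) : ∃ c : F, y = c • x := by
  have hl := eigenvalue_eq_one u m hm y hy l huy
  rw [hl, one_smul] at huy
  by_contra hcon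
  push Not at hcon
  have h2 := two_le_finrank_pair x y hx hcon
  set P := Submodule.span F {x, y} with hP
  have h3 := finrank_perpS hF P
  by_cases hxy : hermForm 3 F q x y = 0
  · have hyx := herm_symm_zero hF hxy
    have hle : P ≤ perpS hF P := by
      intro v hv
      obtain ⟨a, b, rfl⟩ := Submodule.mem_span_pair.mp hv
      rw [hP, mem_perp_pair]
      constructor
      · rw [hadd_r hF, hsmul_r, hsmul_r, hxx, hxy, mul_zero, mul_zero, add_zero]
      · rw [hadd_r hF, hsmul_r, hsmul_r, hyx, hyy, mul_zero, mul_zero, add_zero]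
    have := Submodule.finrank_mono hle
    omega
  · have hyx : hermForm 3 F q y x ≠ 0 := fun h => hxy (herm_symm_zero hF h)
    have h4 : Module.finrank F (perpS hF P) ≤ 1 := by omega
    obtain ⟨z, hz⟩ := finrank_le_one_iff.mp h4
    -- `u` preserves `P^⊥`
    have hpres : ∀ w ∈ perpS hF P, sact u w ∈ perpS hF P := by
      intro w hw
      rw [hP, mem_perp_pair] at hw ⊢
      constructor
      · nth_rewrite 1 [← hux]
        rw [herm_sact]; exact hw.1
      · nth_rewrite 1 [← huy]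
        rw [herm_sact]; exact hw.2
    have hfixz : sact u (z : Fin 3 → F) = z := by
      by_cases hz0 : (z : Fin 3 → F) = 0
      · rw [hz0, sact_zero]
      · obtain ⟨μ, hμ⟩ := hz ⟨sact u z, hpres z z.2⟩
        have hμ' : sact u (z : Fin 3 → F) = μ • (z : Fin 3 → F) := by
          have := congrArg Subtype.val hμ
          exact this.symm
        have := eigenvalue_eq_one u m hm z hz0 μ hμ'
        rw [hμ', this, one_smul]
    have hfix : ∀ w ∈ perpS hF P, sact u w = w := by
      intro w hw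
      obtain ⟨c, hc⟩ := hz ⟨w, hw⟩
      have hc' : w = c • (z : Fin 3 → F) := by
        have := congrArg Subtype.val hc
        exact this.symm
      rw [hc', sact_smul, hfixz]
    apply hu1
    apply ext_sact
    intro v
    rw [sact_one]
    set α := hermForm 3 F q v y / hermForm 3 F q x y with hα
    set β := hermForm 3 F q v x / hermForm 3 F q y x with hβ
    set v' := v - α • x - β • y with hv'
    have hv'P : v' ∈ perpS hF P := by
      rw [hP, mem_perp_pair]
      constructor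
      · apply herm_symm_zero hF
        rw [hv', herm_sub_left, herm_sub_left, hsmul_l, hsmul_l, hxx, mul_zero, sub_zero, hβ,
          div_mul_cancel₀ _ hyx, sub_self]
      · apply herm_symm_zero hF
        rw [hv', herm_sub_left, herm_sub_left, hsmul_l, hsmul_l, hyy, mul_zero, sub_zero, hα,
          div_mul_cancel₀ _ hxy, sub_self]
    have hv : v = v' + α • x + β • y := by
      rw [hv']; abel
    rw [hv, sact_add, sact_add, sact_smul, sact_smul, hux, huy, hfix v' hv'P]


/-! ### normalizers of `p`-subgroups -/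

omit [Fintype F] in
theorem sact_ne_zero (g : ↥(Cfsg.SU 3 F q)) {x : Fin 3 → F} (hx : x ≠ 0) : sact g x ≠ 0 := by
  intro h
  have := congrArg (sact g⁻¹) h
  rw [sact_inv_sact, sact_zero] at this
  exact hx this

include hF in
theorem normalizer_comm {p : ℕ} [Fact p.Prime] [CharP F p] (hp3 : 3 ≤ p)
    (E : Subgroup ↥(Cfsg.SU 3 F q)) (hE : E ≠ ⊥) (hEp : IsPGroup p E)
    (g : ↥(Cfsg.SU 3 F q)) (hg : g ∈ Subgroup.normalizer (E : Set ↥(Cfsg.SU 3 F q)))
    (h : ↥(Cfsg.SU 3 F q)) (hh : h ∈ Subgroup.normalizer (E : Set ↥(Cfsg.SU 3 F q))) :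
    (g * h * g⁻¹ * h⁻¹) ^ p = 1 := by
  classical
  have : Nontrivial ↥E := (Subgroup.nontrivial_iff_ne_bot E).mpr hE
  have : Finite ↥(Cfsg.SU 3 F q) := inferInstance
  have := hEp.center_nontrivial
  obtain ⟨z, hz⟩ := exists_ne (1 : Subgroup.center ↥E)
  set u : ↥(Cfsg.SU 3 F q) := ((z : ↥E) : ↥(Cfsg.SU 3 F q)) with hu
  have hu1 : u ≠ 1 := by
    intro h1
    apply hz
    apply Subtype.ext
    apply Subtype.ext
    exact h1
  have huE : u ∈ E := (z : ↥E).2
  have hcomm : ∀ e ∈ E, e * u = u * e := by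
    intro e he
    have := Subgroup.mem_center_iff.mp z.2 ⟨e, he⟩
    exact congrArg Subtype.val this
  obtain ⟨k, hk⟩ := hEp (z : ↥E)
  have huk : u ^ (p ^ k) = 1 := by
    have := congrArg Subtype.val hk
    rw [SubmonoidClass.coe_pow] at this
    exact this
  have hm := unip_nilp (p := p) u k huk
  obtain ⟨x, hx, hxx, hux⟩ := exists_fixed_isotropic hF u hu1 _ hm
  have key : ∀ g ∈ Subgroup.normalizer (E : Set ↥(Cfsg.SU 3 F q)), ∃ a : F, sact g x = a • x := by
    intro g hg
    have hg' := (Subgroup.mem_normalizer_iff.mp (Subgroup.inv_mem _ hg) u).mp huE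
    rw [inv_inv] at hg'
    have h1 := hcomm _ hg'
    -- `u` fixes `u' x`
    have h2 : sact u (sact (g⁻¹ * u * g) x) = (1 : F) • sact (g⁻¹ * u * g) x := by
      rw [← sact_mul, ← h1, sact_mul, hux, one_smul]
    obtain ⟨c, hc⟩ := fixed_isotropic_unique hF u hu1 _ hm x hx hxx hux _ (sact_ne_zero _ hx)
      (by rw [herm_sact]; exact hxx) 1 h2
    have h3 : sact u (sact g x) = c • sact g x := by
      have := congrArg (sact g) hc
      rw [← sact_mul, sact_smul] at this
      rw [← this, ← sact_mul]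
      congr 1
      group
    obtain ⟨c', hc'⟩ := fixed_isotropic_unique hF u hu1 _ hm x hx hxx hux _ (sact_ne_zero g hx)
      (by rw [herm_sact]; exact hxx) c h3
    exact ⟨c', hc'⟩
  exact comm_pow_p hF hp3 x hx hxx g h (key g hg) (key h hh)

/-- **`Qd(p)` is not involved in `PSU_3(q)`** for `q` a power of the odd prime `p`. -/
theorem not_involves_qd_PSU3 {p : ℕ} [Fact p.Prime] (hp : p ≠ 2) {K : Type*} [Field K] [Fintype K]
    [CharP K p] (n : ℕ) (hK : Fintype.card K = (p ^ n) ^ 2) :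
    ¬ Cfsg.Involves ↥(Cfsg.qd p) (Cfsg.PSU 3 K (p ^ n)) := by
  classical
  have hp3 : 3 ≤ p := by
    have := (Fact.out : p.Prime).two_le
    omega
  have : Finite ↥(Cfsg.SU 3 K (p ^ n)) := inferInstance
  apply QdSection.not_involves_qd (Subgroup.center ↥(Cfsg.SU 3 K (p ^ n))) p
  intro E hE hEp g hg h hh
  exact ⟨1, by rw [pow_one]; exact normalizer_comm hK hp3 E hE hEp g hg h hh⟩

end Cfsg.Agent.Lib.Helper6.SU3Qd
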