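import Mathlib
import Cfsg.Prelude
import Cfsg.Agent.Lib.Helper5.HermTv
import Cfsg.Agent.Lib.Helper5.HermGen
import Cfsg.Agent.Lib.Helper5.HermSU
import Cfsg.Agent.Lib.Helper5.HermPerp

set_option autoImplicit false
set_option linter.unusedSectionVars false
set_option linter.unusedVariables false
set_option linter.unusedSimpArgs false
open Cfsg

/-! Involutions of `GU_n(q)` and `SU_n(q)`, `q` even: an involution `α` is
`x ↦ x + ∑ h(x, w_i) w_i` for a totally isotropic linearly independent family `w` of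
`rank (α - 1)` vectors, so two involutions with the same rank are conjugate. -/

namespace Cfsg.Agent.Lib.Helper6.SUInv2

open Cfsg.Agent.Lib.Helper5
open Matrix Cfsg.Agent.Lib.Helper5.Herm Cfsg.Agent.Lib.Helper5.HermTv Cfsg.Agent.Lib.Helper5.HermSU
  Cfsg.Agent.Lib.Helper5.HermGen Cfsg.Agent.Lib.Helper5.HermCount
  Cfsg.Agent.Lib.Helper5.HermBridge Cfsg.Agent.Lib.Helper5.HermBasis
  Cfsg.Agent.Lib.Helper5.HermPerp

variable {F : Type*} [Field F] [Fintype F] {q : ℕ} (hF : Fintype.card F = q ^ 2) {n : ℕ}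

/-- `α - 1` as a linear map -/
noncomputable def Nl (α : ↥(Cfsg.GU n F q)) : (Fin n → F) →ₗ[F] (Fin n → F) :=
  Matrix.mulVecLin ((α : Matrix.GeneralLinearGroup (Fin n) F) : Matrix (Fin n) (Fin n) F) -
    LinearMap.id

omit [Fintype F] in
theorem Nl_apply (α : ↥(Cfsg.GU n F q)) (x : Fin n → F) : Nl α x = gact n α x - x := rfl

omit [Fintype F] in
theorem herm_sub_left (u u' v : Fin n → F) :
    hermForm n F q (u - u') v = hermForm n F q u v - hermForm n F q u' v := by
  have h := hermForm_add_left n q (u - u') u' v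
  rw [sub_add_cancel] at h
  rw [h]; ring

include hF in
theorem herm_sub_right (u v v' : Fin n → F) :
    hermForm n F q u (v - v') = hermForm n F q u v - hermForm n F q u v' := by
  have h := hermForm_add_right hF n u (v - v') v'
  rw [sub_add_cancel] at h
  rw [h]; ring

omit [Fintype F] in
/-- an involution is self-adjoint -/
theorem herm_adj (α : ↥(Cfsg.GU n F q)) (hα : α * α = 1) (x y : Fin n → F) :
    hermForm n F q (gact n α x) y = hermForm n F q x (gact n α y) := by
  rw [← herm_gact n α (gact n α x) y, ← gact_mul, hα, gact_one]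

include hF in
theorem herm_N_adj (α : ↥(Cfsg.GU n F q)) (hα : α * α = 1) (x y : Fin n → F) :
    hermForm n F q (Nl α x) y = hermForm n F q x (Nl α y) := by
  rw [Nl_apply, Nl_apply, herm_sub_left, herm_sub_right hF, herm_adj α hα]

omit [Fintype F] in
theorem gact_sub (α : ↥(Cfsg.GU n F q)) (x y : Fin n → F) :
    gact n α (x - y) = gact n α x - gact n α y := mulVec_sub _ x y

omit [Fintype F] in
theorem vec_add_self [CharP F 2] (x : Fin n → F) : x + x = 0 := by
  funext i
  exact CharTwo.add_self_eq_zero (x i)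

omit [Fintype F] in
theorem N_N [CharP F 2] (α : ↥(Cfsg.GU n F q)) (hα : α * α = 1) (y : Fin n → F) :
    Nl α (Nl α y) = 0 := by
  rw [Nl_apply, Nl_apply, gact_sub, ← gact_mul, hα, gact_one]
  have h2 : gact n α y + gact n α y = 0 := vec_add_self _
  have h3 : y + y = 0 := vec_add_self _
  calc y - gact n α y - (gact n α y - y) = (y + y) - (gact n α y + gact n α y) := by abel
    _ = 0 := by rw [h2, h3, sub_zero]

include hF in
theorem herm_N_N [CharP F 2] (α : ↥(Cfsg.GU n F q)) (hα : α * α = 1) (x y : Fin n → F) :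
    hermForm n F q (Nl α x) (Nl α y) = 0 := by
  rw [herm_N_adj hF α hα, N_N α hα, hermForm_zero_right hF]

/-- the hermitian form induced on the image of `α - 1`, defined through a section `s` -/
noncomputable def gam (α : ↥(Cfsg.GU n F q))
    (s : ↥(LinearMap.range (Nl α)) →ₗ[F] (Fin n → F)) :
    ↥(LinearMap.range (Nl α)) →ₛₗ[HermBridge.sigma hF] ↥(LinearMap.range (Nl α)) →ₗ[F] F :=
  LinearMap.mk₂'ₛₗ (HermBridge.sigma hF) (RingHom.id F)
    (fun x y => hermForm n F q (y : Fin n → F) (s x))
    (fun x x' y => by rw [map_add, hermForm_add_right hF])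
    (fun c x y => by rw [map_smul, hermForm_smul_right, sigma_apply, smul_eq_mul])
    (fun x y y' => by rw [Submodule.coe_add, hermForm_add_left])
    (fun c x y => by rw [Submodule.coe_smul, hermForm_smul_left, RingHom.id_apply, smul_eq_mul])

theorem gam_apply (α : ↥(Cfsg.GU n F q))
    (s : ↥(LinearMap.range (Nl α)) →ₗ[F] (Fin n → F)) (x y : ↥(LinearMap.range (Nl α))) :
    gam hF α s x y = hermForm n F q (y : Fin n → F) (s x) := rfl

/-- the key identity: `γ(w', N x) = h(x, w')` -/
theorem gam_N (α : ↥(Cfsg.GU n F q)) (hα : α * α = 1)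
    (s : ↥(LinearMap.range (Nl α)) →ₗ[F] (Fin n → F))
    (hs : ∀ w : ↥(LinearMap.range (Nl α)), Nl α (s w) = w)
    (w' : ↥(LinearMap.range (Nl α))) (x : Fin n → F) :
    gam hF α s w' ⟨Nl α x, LinearMap.mem_range_self _ x⟩ = hermForm n F q x (w' : Fin n → F) := by
  rw [gam_apply]
  show hermForm n F q (Nl α x) (s w') = _
  rw [herm_N_adj hF α hα, hs]

theorem gam_isSymm (α : ↥(Cfsg.GU n F q)) (hα : α * α = 1)
    (s : ↥(LinearMap.range (Nl α)) →ₗ[F] (Fin n → F))
    (hs : ∀ w : ↥(LinearMap.range (Nl α)), Nl α (s w) = w) : (gam hF α s).IsSymm := by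
  refine ⟨fun x y => ?_⟩
  rw [gam_apply, gam_apply, sigma_apply, hermForm_conj hF]
  conv_rhs => rw [← hs x]
  rw [herm_N_adj hF α hα, hs]

theorem gam_nondegenerate (α : ↥(Cfsg.GU n F q)) (hα : α * α = 1)
    (s : ↥(LinearMap.range (Nl α)) →ₗ[F] (Fin n → F))
    (hs : ∀ w : ↥(LinearMap.range (Nl α)), Nl α (s w) = w) : (gam hF α s).Nondegenerate := by
  have hleft : ∀ x : ↥(LinearMap.range (Nl α)), (∀ y, gam hF α s x y = 0) → x = 0 := by
    intro x hx
    have h1 : ∀ u : Fin n → F, hermForm n F q u (x : Fin n → F) = 0 := by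
      intro u
      rw [← gam_N hF α hα s hs x u]
      exact hx _
    have h2 := (hermSesq_nondegenerate hF n).1 (x : Fin n → F) (fun y => by
      rw [hermSesq_apply]; exact h1 y)
    exact Subtype.ext h2
  constructor
  · exact hleft
  · intro y hy
    apply hleft
    intro x
    have h1 := (gam_isSymm hF α hα s hs).eq x y
    rw [hy x, map_zero] at h1
    exact h1.symm


include hF in
/-- **Normal form of an involution.** -/
theorem normal_form [CharP F 2] (α : ↥(Cfsg.GU n F q)) (hα : α * α = 1) :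
    ∃ w : Fin (Module.finrank F (LinearMap.range (Nl α))) → (Fin n → F),
      LinearIndependent F w ∧ (∀ i j, hermForm n F q (w i) (w j) = 0) ∧
      (∀ x, Nl α x = ∑ i, hermForm n F q x (w i) • w i) ∧
      (∀ i, ∃ v, Nl α v = w i ∧ hermForm n F q (w i) v = 1) := by
  obtain ⟨s, hs'⟩ := (Nl α).rangeRestrict.exists_rightInverse_of_surjective
    (LinearMap.range_rangeRestrict _)
  have hs : ∀ w : ↥(LinearMap.range (Nl α)), Nl α (s w) = w := by
    intro w
    have h1 := congrArg (fun f : ↥(LinearMap.range (Nl α)) →ₗ[F] ↥(LinearMap.range (Nl α)) =>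
      ((f w : ↥(LinearMap.range (Nl α))) : Fin n → F)) hs'
    exact h1
  obtain ⟨b, hb⟩ := exists_orthonormal_basis (sigma_ne_id hF) (sigma_sigma hF) (gam hF α s)
    (gam_isSymm hF α hα s hs) (gam_nondegenerate hF α hα s hs)
  refine ⟨fun i => ((b i : ↥(LinearMap.range (Nl α))) : Fin n → F), ?_, ?_, ?_, ?_⟩
  · exact b.linearIndependent.map' (Submodule.subtype _) (Submodule.ker_subtype _)
  · intro i j
    show hermForm n F q ((b i : ↥(LinearMap.range (Nl α))) : Fin n → F)
      ((b j : ↥(LinearMap.range (Nl α))) : Fin n → F) = 0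
    rw [← hs (b i), ← hs (b j)]
    exact herm_N_N hF α hα _ _
  · intro x
    set y : ↥(LinearMap.range (Nl α)) := ⟨Nl α x, LinearMap.mem_range_self _ x⟩ with hy
    have hrepr : ∀ j, b.repr y j = hermForm n F q x ((b j : ↥(LinearMap.range (Nl α))) : Fin n → F) := by
      intro j
      have h1 := congrArg (gam hF α s (b j)) (b.sum_repr y)
      rw [map_sum] at h1
      simp only [map_smul, smul_eq_mul, hb] at h1
      rw [Finset.sum_eq_single j (fun i _ hij => by rw [if_neg (Ne.symm hij), mul_zero])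
        (fun h => absurd (Finset.mem_univ j) h), if_pos rfl, mul_one] at h1
      rw [h1, hy, gam_N hF α hα s hs]
    have h2 := congrArg (fun z : ↥(LinearMap.range (Nl α)) => (z : Fin n → F)) (b.sum_repr y)
    simp only [Submodule.coe_sum, Submodule.coe_smul] at h2
    rw [show Nl α x = (y : Fin n → F) from rfl, ← h2]
    apply Finset.sum_congr rfl
    intro i _
    rw [hrepr]
  · intro i
    refine ⟨s (b i), hs (b i), ?_⟩
    have := hb i i
    rw [if_pos rfl, gam_apply] at this
    exact this


omit [Fintype F] in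
theorem gact_eq_add_N (α : ↥(Cfsg.GU n F q)) (x : Fin n → F) : gact n α x = x + Nl α x := by
  rw [Nl_apply]; abel

omit [Fintype F] in
theorem gact_sum (α : ↥(Cfsg.GU n F q)) {ι : Type*} (s : Finset ι) (f : ι → (Fin n → F)) :
    gact n α (∑ i ∈ s, f i) = ∑ i ∈ s, gact n α (f i) :=
  map_sum (Matrix.mulVecLin
    ((α : Matrix.GeneralLinearGroup (Fin n) F) : Matrix (Fin n) (Fin n) F)) f s

include hF in
/-- involutions of `GU_n(q)`, `q` even, with the same rank are conjugate -/
theorem conj_GU [CharP F 2] (α β : ↥(Cfsg.GU n F q)) (hα : α * α = 1) (hβ : β * β = 1)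
    (hr : Module.finrank F (LinearMap.range (Nl α)) = Module.finrank F (LinearMap.range (Nl β))) :
    ∃ g : ↥(Cfsg.GU n F q), g * α * g⁻¹ = β := by
  obtain ⟨w, hwli, hw0, hwN, -⟩ := normal_form hF α hα
  obtain ⟨w', hwli', hw0', hwN', -⟩ := normal_form hF β hβ
  set w'' : Fin (Module.finrank F (LinearMap.range (Nl α))) → (Fin n → F) :=
    w' ∘ Fin.cast hr with hw''
  have hli'' : LinearIndependent F w'' := hwli'.comp _ (Fin.cast_injective hr)
  have hN'' : ∀ x, Nl β x = ∑ i, hermForm n F q x (w'' i) • w'' i := by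
    intro x
    rw [hwN' x]
    exact (Fintype.sum_equiv (finCongr hr) _ _ (fun i => rfl)).symm
  obtain ⟨g, hg, hgx⟩ := HermWitt.witt_family (B := hermSesq hF n) (sigma_ne_id hF)
    (sigma_sigma hF) (hermSesq_nondegenerate hF n) (hermSesq_isSymm hF n) _ w w'' hwli hli''
    (fun i j => by
      rw [hermSesq_apply, hermSesq_apply, hw0]
      exact (hw0' _ _).symm)
  obtain ⟨A, hA⟩ := exists_GU_of_isometry n g (fun u v => by
    have := hg v u
    rw [hermSesq_apply, hermSesq_apply] at this
    exact this)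
  refine ⟨A, ?_⟩
  apply ext_gact
  intro x
  rw [gact_mul, gact_mul, gact_eq_add_N α, gact_add, gact_gact_inv, gact_eq_add_N β, hN'', hwN,
    gact_sum]
  congr 1
  apply Finset.sum_congr rfl
  intro i _
  rw [gact_smul, herm_gact_inv_left]
  have h1 : gact n A (w i) = w'' i := by rw [← hgx i]; exact hA _
  rw [h1]


/-! ### centralizing elements of prescribed determinant -/

include hF in
theorem exists_not_fixed : ∃ t : F, t ^ q ≠ t := by
  by_contra h
  push Not at h
  apply sigma_ne_id hF
  apply RingHom.ext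
  intro a
  rw [sigma_apply, RingHom.id_apply]
  exact h a

include hF in
/-- a hyperbolic pair adapted to a nontrivial involution -/
theorem exists_hyperbolic [CharP F 2] (α : ↥(Cfsg.GU n F q)) (hα : α * α = 1) (hα1 : α ≠ 1) :
    ∃ w v : Fin n → F, hermForm n F q w w = 0 ∧ hermForm n F q v v = 0 ∧
      hermForm n F q w v = 1 ∧ hermForm n F q v w = 1 ∧ gact n α w = w ∧ gact n α v = v + w := by
  obtain ⟨w, hwli, hw0, hwN, hwv⟩ := normal_form hF α hα
  have hpos : 0 < Module.finrank F (LinearMap.range (Nl α)) := by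
    by_contra h
    have h0 : Module.finrank F (LinearMap.range (Nl α)) = 0 := by omega
    apply hα1
    apply ext_gact
    intro x
    rw [gact_one, gact_eq_add_N, hwN x]
    have : IsEmpty (Fin (Module.finrank F (LinearMap.range (Nl α)))) := by
      rw [h0]; infer_instance
    rw [Finset.univ_eq_empty, Finset.sum_empty, add_zero]
  set i₀ : Fin (Module.finrank F (LinearMap.range (Nl α))) := ⟨0, hpos⟩ with hi₀
  obtain ⟨v₀, hNv₀, hwv₀⟩ := hwv i₀
  set w₀ := w i₀ with hw₀
  have hww : hermForm n F q w₀ w₀ = 0 := hw0 _ _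
  have hm : hermForm n F q v₀ v₀ ^ q = hermForm n F q v₀ v₀ := hermForm_conj hF n v₀ v₀
  obtain ⟨μ, hμ⟩ := exists_trace_eq hF (hermForm n F q v₀ v₀) hm
  have hvw₀ : hermForm n F q v₀ w₀ = 1 := by
    rw [← hermForm_conj hF n w₀ v₀, hwv₀, one_pow]
  have hNw : Nl α w₀ = 0 := by
    rw [hwN w₀]
    apply Finset.sum_eq_zero
    intro i _
    rw [hw0, zero_smul]
  have h2 : (2 : F) = 0 := CharTwo.two_eq_zero
  refine ⟨w₀, v₀ + μ • w₀, hww, ?_, ?_, ?_, ?_, ?_⟩
  · rw [hermForm_add_left, hermForm_add_right hF, hermForm_add_right hF, hermForm_smul_left,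
      hermForm_smul_left, hermForm_smul_right, hermForm_smul_right, hww, hwv₀, hvw₀, ← hμ]
    linear_combination (μ + μ ^ q) * h2
  · rw [hermForm_add_right hF, hermForm_smul_right, hww, hwv₀, mul_zero, add_zero]
  · rw [hermForm_add_left, hermForm_smul_left, hww, hvw₀, mul_zero, add_zero]
  · rw [gact_eq_add_N, hNw, add_zero]
  · rw [gact_eq_add_N, map_add, map_smul, hNw, hNv₀, smul_zero, add_zero]


include hF in
/-- the scalar `λ` on a hyperbolic plane, identity on its complement -/
theorem exists_plane_scalar [CharP F 2] (w v : Fin n → F) (hww : hermForm n F q w w = 0)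
    (hvv : hermForm n F q v v = 0) (hwv : hermForm n F q w v = 1) (hvw : hermForm n F q v w = 1)
    (z : ↥(normHom F q).ker) :
    ∃ C : ↥(Cfsg.GU n F q), detN hF C = z * z ∧ ∀ x : Fin n → F,
      gact n C x = x + (((z : Fˣ) : F) + 1) •
        (hermForm n F q x v • w + hermForm n F q x w • v) := by
  obtain ⟨t, ht⟩ := exists_not_fixed hF
  have h2 : (2 : F) = 0 := CharTwo.two_eq_zero
  set l : F := ((z : Fˣ) : F) with hl
  have hlq : l ^ q * l = 1 := by
    have := normKer_coe (q := q) z
    rw [pow_succ] at this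
    exact this
  set τ : F := t + t ^ q with hτ
  have hτ0 : τ ≠ 0 := by
    intro h0
    apply ht
    have : t ^ q = -t := by linear_combination h0
    rw [this]
    linear_combination (-t) * h2
  have hτq : τ ^ q = τ := by
    rw [hτ, pow_q_add hF, pow_q_pow_q hF]; ring
  set c : F := (l + 1) / τ with hc
  have hcτ : c * τ = l + 1 := by rw [hc]; field_simp
  have hcq : c ^ q = (l ^ q + 1) / τ := by
    rw [hc, div_pow, pow_q_add hF, one_pow, hτq]
  have key : (l + 1) + (l ^ q + 1) + (l + 1) * (l ^ q + 1) = 0 := by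
    linear_combination (l + l ^ q + 2) * h2 + hlq
  set u₁ : Fin n → F := w + t • v with hu₁
  set u₂ : Fin n → F := w + t ^ q • v with hu₂
  have h11 : hermForm n F q u₁ u₁ = τ := by
    rw [hu₁, hermForm_add_left, hermForm_add_right hF, hermForm_add_right hF, hermForm_smul_left,
      hermForm_smul_left, hermForm_smul_right, hermForm_smul_right, hww, hvv, hwv, hvw, hτ]
    ring
  have h22 : hermForm n F q u₂ u₂ = τ := by
    rw [hu₂, hermForm_add_left, hermForm_add_right hF, hermForm_add_right hF, hermForm_smul_left,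
      hermForm_smul_left, hermForm_smul_right, hermForm_smul_right, hww, hvv, hwv, hvw, hτ,
      pow_q_pow_q hF]
    ring
  have h21 : hermForm n F q u₂ u₁ = 0 := by
    rw [hu₁, hu₂, hermForm_add_left, hermForm_add_right hF, hermForm_add_right hF,
      hermForm_smul_left, hermForm_smul_left, hermForm_smul_right, hermForm_smul_right, hww, hvv,
      hwv, hvw]
    linear_combination (t ^ q) * h2
  have hq1 : QCond n q u₁ c := by
    unfold QCond
    rw [h11, hcq, hc]
    field_simp
    linear_combination key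
  have hq2 : QCond n q u₂ c := by
    unfold QCond
    rw [h22, hcq, hc]
    field_simp
    linear_combination key
  refine ⟨qtv hF n u₁ c hq1 * qtv hF n u₂ c hq2, ?_, ?_⟩
  · rw [map_mul]
    have e1 : detN hF (qtv hF n u₁ c hq1) = z := by
      apply Subtype.ext
      apply Units.ext
      rw [detN_qtv, h11, hcτ]
      linear_combination h2
    have e2 : detN hF (qtv hF n u₂ c hq2) = z := by
      apply Subtype.ext
      apply Units.ext
      rw [detN_qtv, h22, hcτ]
      linear_combination h2
    rw [e1, e2]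
  · intro x
    rw [gact_mul, gact_qtv, gact_qtv, hermForm_add_left, hermForm_smul_left, h21, mul_zero,
      add_zero]
    have e1 : hermForm n F q x u₁ = hermForm n F q x w + t ^ q * hermForm n F q x v := by
      rw [hu₁, hermForm_add_right hF, hermForm_smul_right]
    have e2 : hermForm n F q x u₂ = hermForm n F q x w + t * hermForm n F q x v := by
      rw [hu₂, hermForm_add_right hF, hermForm_smul_right, pow_q_pow_q hF]
    rw [e1, e2, hu₁, hu₂]
    set A := hermForm n F q x w
    set B := hermForm n F q x v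
    have hw2 : (2 : F) • w = 0 := by rw [h2, zero_smul]
    have hv2 : (2 : F) • v = 0 := by rw [h2, zero_smul]
    rw [← hcτ, hτ]
    linear_combination (norm := module) (c * A) • hw2 + (c * t * t ^ q * B) • hv2


include hF in
theorem exists_centralizing [CharP F 2] (α : ↥(Cfsg.GU n F q)) (hα : α * α = 1) (hα1 : α ≠ 1)
    (z : ↥(normHom F q).ker) :
    ∃ C : ↥(Cfsg.GU n F q), C * α = α * C ∧ detN hF C = z * z := by
  obtain ⟨w, v, hww, hvv, hwv, hvw, hαw, hαv⟩ := exists_hyperbolic hF α hα hα1
  obtain ⟨C, hdet, hC⟩ := exists_plane_scalar hF w v hww hvv hwv hvw z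
  refine ⟨C, ?_, hdet⟩
  apply ext_gact
  intro x
  rw [gact_mul, gact_mul, hC, hC, gact_add, gact_smul, gact_add, gact_smul, gact_smul, hαw, hαv,
    herm_adj α hα, herm_adj α hα, hαw, hαv, hermForm_add_right hF]
  module

include hF in
theorem even_q [CharP F 2] : 2 ∣ q := by
  have h1 : ((Fintype.card F : ℕ) : F) = 0 := Nat.cast_card_eq_zero F
  rw [CharP.cast_eq_zero_iff F 2, hF] at h1
  exact Nat.Prime.dvd_of_dvd_pow Nat.prime_two h1

include hF in
theorem exists_sq_normKer [CharP F 2] (μ : ↥(normHom F q).ker) :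
    ∃ z : ↥(normHom F q).ker, z * z = μ := by
  obtain ⟨k, hk⟩ := even_q hF
  refine ⟨μ ^ (k + 1), ?_⟩
  have h1 : μ ^ (q + 1) = 1 := by
    rw [← card_ker hF]
    exact pow_card_eq_one'
  rw [← pow_add]
  have h2 : k + 1 + (k + 1) = (q + 1) + 1 := by omega
  rw [h2, pow_succ, h1, one_mul]

include hF in
/-- involutions of `SU_n(q)`, `q` even, with the same rank are conjugate in `SU_n(q)` -/
theorem conj_SU [CharP F 2] (a b : ↥(Cfsg.SU n F q)) (ha : a * a = 1) (ha1 : a ≠ 1)
    (hb : b * b = 1)
    (hr : Module.finrank F (LinearMap.range (Nl (toGU n a))) =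
      Module.finrank F (LinearMap.range (Nl (toGU n b)))) :
    ∃ g : ↥(Cfsg.SU n F q), g * a * g⁻¹ = b := by
  have hα : toGU n a * toGU n a = 1 := by rw [← map_mul, ha, map_one]
  have hβ : toGU n b * toGU n b = 1 := by rw [← map_mul, hb, map_one]
  have hα1 : toGU n a ≠ 1 := by
    intro h
    apply ha1
    apply toGU_injective n
    rw [h, map_one]
  obtain ⟨g₀, hg₀⟩ := conj_GU hF (toGU n a) (toGU n b) hα hβ hr
  obtain ⟨z, hz⟩ := exists_sq_normKer hF (detN hF g₀)⁻¹
  obtain ⟨C, hCα, hCdet⟩ := exists_centralizing hF (toGU n a) hα hα1 z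
  have hdetN : detN hF (g₀ * C) = 1 := by
    rw [map_mul, hCdet, hz, mul_inv_cancel]
  have hdet : (((g₀ * C : ↥(Cfsg.GU n F q)) : Matrix.GeneralLinearGroup (Fin n) F) :
      Matrix (Fin n) (Fin n) F).det = 1 := by
    rw [← detN_coe hF, hdetN]
    rfl
  obtain ⟨A, hA⟩ := exists_toGU_eq n (g₀ * C) hdet
  refine ⟨A, ?_⟩
  apply toGU_injective n
  rw [map_mul, map_mul, map_inv, hA, ← hg₀]
  have h1 : C * toGU n a * C⁻¹ = toGU n a := by
    rw [hCα, mul_assoc, mul_inv_cancel, mul_one]
  calc g₀ * C * toGU n a * (g₀ * C)⁻¹ = g₀ * (C * toGU n a * C⁻¹) * g₀⁻¹ := by group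
    _ = g₀ * toGU n a * g₀⁻¹ := by rw [h1]

omit [Fintype F] in
theorem rank_eq (a : ↥(Cfsg.SU n F q)) :
    (((a : Matrix.SpecialLinearGroup (Fin n) F) : Matrix (Fin n) (Fin n) F) - 1).rank =
      Module.finrank F (LinearMap.range (Nl (toGU n a))) := by
  unfold Matrix.rank Nl
  have h : (((a : Matrix.SpecialLinearGroup (Fin n) F) : Matrix (Fin n) (Fin n) F) - 1).mulVecLin =
      Matrix.mulVecLin (((toGU n a : ↥(Cfsg.GU n F q)) : Matrix.GeneralLinearGroup (Fin n) F) :
        Matrix (Fin n) (Fin n) F) - LinearMap.id := by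
    apply LinearMap.ext
    intro x
    simp only [Matrix.mulVecLin_apply, LinearMap.sub_apply, LinearMap.id_apply, Matrix.sub_mulVec,
      Matrix.one_mulVec]
    rfl
  rw [h]

end Cfsg.Agent.Lib.Helper6.SUInv2
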