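import Mathlib
import Cfsg.Prelude.Def_Transfer
import Cfsg.Agent.Lib.Helper6.SW1
import Cfsg.Agent.Lib.Helper6.SW2
import Cfsg.Agent.Lib.Helper6.SW3
import Cfsg.Agent.Lib.Helper4.SLCard
import Cfsg.Agent.Lib.Helper5.SympCard

set_option autoImplicit false
set_option linter.unusedSectionVars false
set_option linter.unusedVariables false
set_option linter.unusedSimpArgs false

/-! A Sylow 2-subgroup of `Sp₂ₙ(F)` (`F` finite of odd order) inside `SL₂(F) ≀ Sₙ`; normal
subgroups of Sylow subgroups, transported by conjugation. -/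

namespace Cfsg.Agent.Lib.Helper6.SW

open Matrix
open scoped Pointwise

section transport

variable {G : Type*} [Group G] [Finite G]

/-- a subgroup normalised by one Sylow subgroup containing it has a normal copy in every Sylow
subgroup -/
theorem exists_normal_of_sylow (p : ℕ) [Fact p.Prime] (P₀ : Sylow p G) (E : Subgroup G)
    (hE : E ≤ (P₀ : Subgroup G))
    (hnorm : ∀ g ∈ (P₀ : Subgroup G), ∀ x ∈ E, g * x * g⁻¹ ∈ E)
    (hEA : Cfsg.IsElementaryAbelian p E) (S : Sylow p G) :
    ∃ E' : Subgroup ↥(S : Subgroup G), E'.Normal ∧ Cfsg.IsElementaryAbelian p E' ∧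
      Nat.card E' = Nat.card E := by
  obtain ⟨g, hg⟩ := MulAction.exists_smul_eq G P₀ S
  have hS : (S : Subgroup G) = MulAut.conj g • (P₀ : Subgroup G) := by
    rw [← hg]; rfl
  have hmemS : ∀ s : G, s ∈ (S : Subgroup G) ↔ g⁻¹ * s * g ∈ (P₀ : Subgroup G) := by
    intro s
    rw [hS, Subgroup.mem_pointwise_smul_iff_inv_smul_mem]
    simp [MulAut.smul_def, mul_assoc]
  let E₁ : Subgroup G := MulAut.conj g • E
  have hmemE : ∀ s : G, s ∈ E₁ ↔ g⁻¹ * s * g ∈ E := by
    intro s
    show s ∈ MulAut.conj g • E ↔ _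
    rw [Subgroup.mem_pointwise_smul_iff_inv_smul_mem]
    simp [MulAut.smul_def, mul_assoc]
  have hle : E₁ ≤ (S : Subgroup G) := by
    intro s hs
    rw [hmemS]
    exact hE ((hmemE s).mp hs)
  refine ⟨E₁.subgroupOf (S : Subgroup G), ?_, ?_, ?_⟩
  · constructor
    intro x hx s
    rw [Subgroup.mem_subgroupOf] at hx ⊢
    rw [hmemE] at hx ⊢
    have hs := (hmemS s.1).mp s.2
    have := hnorm _ hs _ hx
    have h3 : g⁻¹ * ((s * x * s⁻¹ : ↥(S : Subgroup G)) : G) * g =
        g⁻¹ * (s : G) * g * (g⁻¹ * (x : G) * g) * (g⁻¹ * (s : G) * g)⁻¹ := by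
      simp only [Subgroup.coe_mul, Subgroup.coe_inv]
      group
    rw [h3]
    exact this
  · obtain ⟨hc, hexp⟩ := hEA
    constructor
    · rw [isMulCommutative_iff]
      rintro ⟨a, ha⟩ ⟨b, hb⟩
      apply Subtype.ext
      apply Subtype.ext
      rw [Subgroup.mem_subgroupOf, hmemE] at ha hb
      have h1 := (isMulCommutative_iff.mp hc) ⟨_, ha⟩ ⟨_, hb⟩
      have h2 : (g⁻¹ * (a : G) * g) * (g⁻¹ * (b : G) * g) = (g⁻¹ * (b : G) * g) * (g⁻¹ * (a : G) * g) :=
        congrArg Subtype.val h1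
      show (a : G) * (b : G) = (b : G) * (a : G)
      have h3 : (a : G) * (b : G) = g * ((g⁻¹ * (a : G) * g) * (g⁻¹ * (b : G) * g)) * g⁻¹ := by group
      have h4 : (b : G) * (a : G) = g * ((g⁻¹ * (b : G) * g) * (g⁻¹ * (a : G) * g)) * g⁻¹ := by group
      rw [h3, h4, h2]
    · intro a ha
      rw [Subgroup.mem_subgroupOf, hmemE] at ha
      have h1 := hexp _ ha
      apply Subtype.ext
      show (a : G) ^ p = 1
      have h3 : (g⁻¹ * (a : G) * g) ^ p = g⁻¹ * (a : G) ^ p * g := by
        have := conj_pow (a := g⁻¹) (b := (a : G)) (i := p)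
        rwa [inv_inv] at this
      rw [h3] at h1
      have h4 : (a : G) ^ p = g * (g⁻¹ * (a : G) ^ p * g) * g⁻¹ := by group
      rw [h4, h1]
      group
  · rw [Nat.card_congr (Subgroup.subgroupOfEquivOfLe hle).toEquiv]
    exact (Nat.card_congr (Subgroup.equivSMul (MulAut.conj g) E).toEquiv).symm

end transport

section card

variable {F : Type*} [Field F] [Fintype F]

instance finite_sp (n : ℕ) : Finite (symplecticGroup (Fin n) F) :=
  Finite.of_injective (fun g : symplecticGroup (Fin n) F =>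
    (g : Matrix (Fin n ⊕ Fin n) (Fin n ⊕ Fin n) F)) Subtype.val_injective

theorem fact_sp (hF : Odd (Fintype.card F)) (n : ℕ) :
    (Nat.card (symplecticGroup (Fin n) F)).factorization 2 =
      n * (Nat.card (SpecialLinearGroup (Fin 2) F)).factorization 2 +
        (n.factorial).factorization 2 := by
  have hq1 : 1 < Fintype.card F := Fintype.one_lt_card
  rw [Nat.factorization_def _ Nat.prime_two, Nat.factorization_def _ Nat.prime_two,
    Nat.factorization_def _ Nat.prime_two, Cfsg.Agent.Lib.Helper5.SympCard.card_symplecticGroup,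
    Cfsg.Agent.Lib.Helper4.card_SL2, v2_sp _ _ hF hq1, v2_sl2 _ hF hq1]

theorem card_sub_sp (hF : Odd (Fintype.card F)) (n : ℕ)
    (Q : Sylow 2 (SpecialLinearGroup (Fin 2) F)) (T : Sylow 2 (Equiv.Perm (Fin n))) :
    Nat.card ((spData F n).sub (Q : Subgroup _) (T : Subgroup _)) =
      2 ^ (Nat.card (symplecticGroup (Fin n) F)).factorization 2 := by
  rw [WrData.card_sub, Q.card_eq_multiplicity, T.card_eq_multiplicity, fact_sp hF n,
    Nat.card_eq_fintype_card (α := Fin n), Fintype.card_fin,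
    Nat.card_eq_fintype_card (α := Equiv.Perm (Fin n)), Fintype.card_perm, Fintype.card_fin,
    ← pow_mul, ← pow_add]
  congr 1
  ring

end card

end Cfsg.Agent.Lib.Helper6.SW
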