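import Mathlib
import Cfsg.Prelude.Def_Transfer
import Cfsg.Prelude.Def_CaseTheorems
import Cfsg.Agent.Lib.Helper6.SW4
import Cfsg.Agent.Lib.Helper4.SpRank2

set_option autoImplicit false
set_option linter.unusedSectionVars false
set_option linter.unusedVariables false
set_option linter.unusedSimpArgs false

/-! The normal 2-rank of a Sylow 2-subgroup of `Sp₂ₙ(F)`, `F` finite of odd order. -/

namespace Cfsg.Agent.Lib.Helper6.SW

open Matrix

section E

variable {F : Type*} [Field F] (n : ℕ)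

theorem cast_unit_mul_self (u : ℤˣ) : (((u : ℤˣ) : ℤ) : F) * (((u : ℤˣ) : ℤ) : F) = 1 := by
  rw [← Int.cast_mul, ← Units.val_mul, Int.units_mul_self]
  simp

/-- `±1` in `SL₂(F)` -/
def usl (F : Type*) [Field F] : ℤˣ →* SpecialLinearGroup (Fin 2) F where
  toFun u := ⟨diagonal (fun _ => (((u : ℤˣ) : ℤ) : F)), by
    rw [det_diagonal, Fin.prod_univ_two]
    exact cast_unit_mul_self u⟩
  map_one' := by
    apply Subtype.ext
    show diagonal (fun _ : Fin 2 => ((((1 : ℤˣ) : ℤˣ) : ℤ) : F)) = 1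
    simp
  map_mul' u v := by
    apply Subtype.ext
    show diagonal (fun _ : Fin 2 => ((((u * v : ℤˣ) : ℤˣ) : ℤ) : F)) =
      diagonal (fun _ : Fin 2 => (((u : ℤˣ) : ℤ) : F)) * diagonal (fun _ : Fin 2 => (((v : ℤˣ) : ℤ) : F))
    rw [diagonal_mul_diagonal]
    simp

theorem usl_val (u : ℤˣ) :
    ((usl F u : SpecialLinearGroup (Fin 2) F) : Matrix (Fin 2) (Fin 2) F) =
      diagonal (fun _ => (((u : ℤˣ) : ℤ) : F)) := rfl

theorem usl_injective (h2 : (2 : F) ≠ 0) : Function.Injective (usl F) := by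
  intro u v h
  have h1 := congrFun (congrFun (congrArg (fun g : SpecialLinearGroup (Fin 2) F =>
    (g : Matrix (Fin 2) (Fin 2) F)) h) 0) 0
  simp only [usl_val, diagonal_apply_eq] at h1
  have hne : (-1 : F) ≠ 1 := by
    intro h'
    apply h2
    linear_combination -h'
  rcases Int.units_eq_one_or u with hu | hu <;> rcases Int.units_eq_one_or v with hv | hv
  · rw [hu, hv]
  · exfalso
    rw [hu, hv] at h1
    simp at h1
    exact hne h1.symm
  · exfalso
    rw [hu, hv] at h1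
    simp at h1
    exact hne h1
  · rw [hu, hv]

theorem usl_central (u : ℤˣ) (h : SpecialLinearGroup (Fin 2) F) :
    h * usl F u * h⁻¹ = usl F u := by
  rw [mul_inv_eq_iff_eq_mul]
  apply Subtype.ext
  show (h : Matrix (Fin 2) (Fin 2) F) * diagonal (fun _ => (((u : ℤˣ) : ℤ) : F)) =
    diagonal (fun _ => (((u : ℤˣ) : ℤ) : F)) * (h : Matrix (Fin 2) (Fin 2) F)
  ext i j
  rw [mul_diagonal, diagonal_mul, mul_comm]

theorem sf₁_injective : Function.Injective (sf₁ F n) := by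
  rw [injective_iff_map_eq_one]
  intro d hd
  have : sf₁ F n d * sf₂ F n 1 = 1 := by rw [map_one, mul_one, hd]
  exact (sp_inj n d 1 this).1

/-- the sign changes of the hyperbolic planes -/
def ehom (F : Type*) [Field F] (n : ℕ) : (Fin n → ℤˣ) →* symplecticGroup (Fin n) F :=
  (sf₁ F n).comp ((usl F).compLeft (Fin n))

theorem ehom_apply (s : Fin n → ℤˣ) : ehom F n s = sf₁ F n (fun k => usl F (s k)) := rfl

theorem ehom_injective (h2 : (2 : F) ≠ 0) : Function.Injective (ehom F n) := by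
  intro s t h
  have h1 := sf₁_injective n h
  funext k
  exact usl_injective h2 (congrFun h1 k)

theorem isPGroup_usl_range : IsPGroup 2 (usl F).range := by
  rintro ⟨_, u, rfl⟩
  refine ⟨1, ?_⟩
  apply Subtype.ext
  rw [pow_one]
  show (usl F u) ^ 2 = 1
  rw [← map_pow, Int.units_sq, map_one]

end E

section main

variable {F : Type*} [Field F] [Fintype F]

theorem conj_ehom (n : ℕ) (d : Fin n → SpecialLinearGroup (Fin 2) F) (σ : Equiv.Perm (Fin n))
    (s : Fin n → ℤˣ) :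
    (sf₁ F n d * sf₂ F n σ) * ehom F n s * (sf₁ F n d * sf₂ F n σ)⁻¹ = ehom F n (s ∘ σ.symm) := by
  have h1 : (sf₁ F n d * sf₂ F n σ) * ehom F n s * (sf₁ F n d * sf₂ F n σ)⁻¹ =
      sf₁ F n d * (sf₂ F n σ * ehom F n s * (sf₂ F n σ)⁻¹) * (sf₁ F n d)⁻¹ := by
    rw [_root_.mul_inv_rev]
    simp only [mul_assoc]
  rw [h1, ehom_apply, ehom_apply, sp_compat, ← map_inv, ← map_mul, ← map_mul]
  congr 1
  funext k
  show d k * usl F (s (σ.symm k)) * (d k)⁻¹ = usl F (s (σ.symm k))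
  exact usl_central _ _

theorem isElementaryAbelian_ehom (n : ℕ) : Cfsg.IsElementaryAbelian 2 (ehom F n).range := by
  constructor
  · rw [isMulCommutative_iff]
    rintro ⟨_, s, rfl⟩ ⟨_, t, rfl⟩
    apply Subtype.ext
    show ehom F n s * ehom F n t = ehom F n t * ehom F n s
    rw [← map_mul, ← map_mul, mul_comm]
  · rintro _ ⟨s, rfl⟩
    rw [← map_pow]
    have : s ^ 2 = 1 := by
      funext k
      rw [Pi.pow_apply, Int.units_sq, Pi.one_apply]
    rw [this, map_one]

theorem card_ehom_range (h2 : (2 : F) ≠ 0) (n : ℕ) : Nat.card (ehom F n).range = 2 ^ n := by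
  rw [← Nat.card_congr (MonoidHom.ofInjective (ehom_injective n h2)).toEquiv, Nat.card_fun,
    Nat.card_eq_fintype_card (α := ℤˣ), Fintype.card_units_int, Nat.card_eq_fintype_card,
    Fintype.card_fin]

theorem ehom_range_le (n : ℕ) (Q : Subgroup (SpecialLinearGroup (Fin 2) F))
    (hQ : (usl F).range ≤ Q) (T : Subgroup (Equiv.Perm (Fin n))) :
    (ehom F n).range ≤ (spData F n).sub Q T := by
  rintro _ ⟨s, rfl⟩
  rw [ehom_apply]
  exact (spData F n).f₁_mem_sub _ _ _ (fun k => hQ ⟨s k, rfl⟩)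

theorem ehom_range_norm (n : ℕ) (Q : Subgroup (SpecialLinearGroup (Fin 2) F))
    (T : Subgroup (Equiv.Perm (Fin n))) :
    ∀ g ∈ (spData F n).sub Q T, ∀ x ∈ (ehom F n).range, g * x * g⁻¹ ∈ (ehom F n).range := by
  intro g hg x hx
  rw [WrData.mem_sub_iff] at hg
  obtain ⟨d, -, σ, -, rfl⟩ := hg
  obtain ⟨s, rfl⟩ := hx
  exact ⟨s ∘ σ.symm, (conj_ehom n d σ s).symm⟩

/-- the lower bound for the normal 2-rank -/
theorem exists_normal_elementary (hF : Odd (Fintype.card F)) (h2 : (2 : F) ≠ 0) (n : ℕ)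
    (S : Sylow 2 (symplecticGroup (Fin n) F)) :
    ∃ E : Subgroup ↥(S : Subgroup (symplecticGroup (Fin n) F)), E.Normal ∧
      Cfsg.IsElementaryAbelian 2 E ∧ 2 ^ n ≤ Nat.card ↥E := by
  obtain ⟨Q, hQ⟩ := IsPGroup.exists_le_sylow (isPGroup_usl_range (F := F))
  obtain ⟨T⟩ : Nonempty (Sylow 2 (Equiv.Perm (Fin n))) := inferInstance
  have h1 := card_sub_sp hF n Q T
  have h3 := ehom_range_le (F := F) n (Q : Subgroup (SpecialLinearGroup (Fin 2) F)) hQ
    (T : Subgroup (Equiv.Perm (Fin n)))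
  have h4 := ehom_range_norm (F := F) n (Q : Subgroup (SpecialLinearGroup (Fin 2) F))
    (T : Subgroup (Equiv.Perm (Fin n)))
  generalize (spData F n).sub (Q : Subgroup _) (T : Subgroup _) = S₀ at h1 h3 h4
  obtain ⟨P₀, hP₀⟩ := exists_sylow_eq 2 S₀ h1
  obtain ⟨E', hE1, hE2, hE3⟩ := exists_normal_of_sylow 2 P₀ (ehom F n).range
    (by rw [hP₀]; exact h3) (by rw [hP₀]; exact h4) (isElementaryAbelian_ehom n) S
  exact ⟨E', hE1, hE2, by rw [hE3, card_ehom_range h2 n]⟩

/-- the upper bound -/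
theorem card_le_of_elementary (h2 : (2 : F) ≠ 0) (n : ℕ)
    (S : Subgroup (symplecticGroup (Fin n) F)) (E : Subgroup ↥S)
    (hE : Cfsg.IsElementaryAbelian 2 E) : Nat.card ↥E ≤ 2 ^ n := by
  have hup := Cfsg.Agent.Lib.Helper4.SpRank2.upper (F := F) h2 n
  have h1 := hup (E.map S.subtype) ?_ ?_
  · rwa [Subgroup.card_map_of_injective S.subtype_injective] at h1
  · rw [isMulCommutative_iff]
    rintro ⟨_, a, ha, rfl⟩ ⟨_, b, hb, rfl⟩
    apply Subtype.ext
    show S.subtype a * S.subtype b = S.subtype b * S.subtype a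
    have := (isMulCommutative_iff.mp hE.1) ⟨a, ha⟩ ⟨b, hb⟩
    have h3 : a * b = b * a := congrArg Subtype.val this
    rw [← map_mul, ← map_mul, h3]
  · rintro _ ⟨a, ha, rfl⟩
    rw [← map_pow, hE.2 a ha, map_one]

end main

end Cfsg.Agent.Lib.Helper6.SW
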