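import Mathlib
import Cfsg.Agent.Lib.Helper6.SW4
import Cfsg.Agent.Lib.Helper6.SW6
import Cfsg.Agent.Lib.Helper6.SW8

set_option autoImplicit false
set_option linter.unusedSectionVars false
set_option linter.unusedVariables false
set_option linter.unusedSimpArgs false

/-! Sylow 2-subgroups of `Sp₂ₙ(F)`, `F` finite of odd order, have elementary abelian
abelianisation. -/

namespace Cfsg.Agent.Lib.Helper6.SW

open Matrix

variable {F : Type*} [Field F] [Fintype F]

theorem EA_sylow_sp (hodd : Odd (Fintype.card F)) (h2 : (2 : F) ≠ 0) (n : ℕ)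
    (P : Sylow 2 (symplecticGroup (Fin n) F)) :
    EA ↥(P : Subgroup (symplecticGroup (Fin n) F)) := by
  obtain ⟨Q⟩ : Nonempty (Sylow 2 (SpecialLinearGroup (Fin 2) F)) := inferInstance
  obtain ⟨T⟩ : Nonempty (Sylow 2 (Equiv.Perm (Fin n))) := inferInstance
  have hQ := EA_sylow_sl2 hodd h2 Q
  have hT := EA_sylow_perm n (Fin n) (Fintype.card_fin n) T
  have hEA := (spData F n).EA_sub (Q : Subgroup (SpecialLinearGroup (Fin 2) F))
    (T : Subgroup (Equiv.Perm (Fin n))) hQ hT
  have hcard := card_sub_sp hodd n Q T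
  generalize (spData F n).sub (Q : Subgroup (SpecialLinearGroup (Fin 2) F))
    (T : Subgroup (Equiv.Perm (Fin n))) = S₀ at hEA hcard
  obtain ⟨P₀, hP₀⟩ := exists_sylow_eq 2 S₀ hcard
  apply EA_sylow_of_one 2 P₀ _ P
  rw [hP₀]
  exact hEA

end Cfsg.Agent.Lib.Helper6.SW
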