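/-
Farm SW (S3211), unit D-out: the square roots of `a*b` in the coset `nL` of `C(j)`.
Structures from `Cfsg.Agent.Lib.Lead.SWDefs`.
-/
import Mathlib
import Cfsg.Agent.Lib.Lead.SWDefs
import Cfsg.Agent.Lib.Helper4.CentProd1

set_option autoImplicit false

namespace Cfsg.Agent.Lib.Helper6.SWDout

open Cfsg.Agent.Lib.Lead.SWD

variable {G : Type*} [Group G] {L₁ L₂ : Subgroup G} {j n : G}

theorem j_sq (S : Setting L₁ L₂ j n) : j ^ 2 = 1 := by
  have h := pow_orderOf_eq_one j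
  rwa [S.hj] at h

theorem j_mul_j (S : Setting L₁ L₂ j n) : j * j = 1 := by
  rw [← pow_two]; exact j_sq S

theorem j_inv (S : Setting L₁ L₂ j n) : j⁻¹ = j :=
  inv_eq_of_mul_eq_one_left (j_mul_j S)

theorem j_ne_one (S : Setting L₁ L₂ j n) : j ≠ 1 := by
  intro h
  have h2 := S.hj
  rw [h, orderOf_one] at h2
  omega

theorem j_mem₁ (S : Setting L₁ L₂ j n) : j ∈ L₁ := by
  have h : j ∈ L₁ ⊓ L₂ := by rw [S.hm]; exact Subgroup.mem_zpowers j
  exact h.1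

theorem j_mem₂ (S : Setting L₁ L₂ j n) : j ∈ L₂ := by
  have h : j ∈ L₁ ⊓ L₂ := by rw [S.hm]; exact Subgroup.mem_zpowers j
  exact h.2

theorem eq_one_or_j (S : Setting L₁ L₂ j n) {x : G} (h1 : x ∈ L₁) (h2 : x ∈ L₂) :
    x = 1 ∨ x = j := by
  have h : x ∈ Subgroup.zpowers j := by rw [← S.hm]; exact ⟨h1, h2⟩
  obtain ⟨k, rfl⟩ := Subgroup.mem_zpowers_iff.mp h
  rcases Int.even_or_odd' k with ⟨m, rfl | rfl⟩
  · left
    rw [zpow_mul, zpow_two, j_mul_j S, one_zpow]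
  · right
    rw [zpow_add, zpow_mul, zpow_two, j_mul_j S, one_zpow, one_mul, zpow_one]

theorem comm_j {x : G} (hx : x ∈ Subgroup.centralizer ({j} : Set G)) : j * x = x * j :=
  Subgroup.mem_centralizer_iff.mp hx j (Set.mem_singleton j)

theorem mem_H₁ (S : Setting L₁ L₂ j n) {x : G} (hx : x ∈ L₁) :
    x ∈ Subgroup.centralizer ({j} : Set G) := S.hle (Subgroup.mem_sup_left hx)

theorem mem_H₂ (S : Setting L₁ L₂ j n) {x : G} (hx : x ∈ L₂) :
    x ∈ Subgroup.centralizer ({j} : Set G) := S.hle (Subgroup.mem_sup_right hx)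

theorem n_j (S : Setting L₁ L₂ j n) : n * j * n⁻¹ = j := by
  have h := comm_j S.hn
  rw [← h]; group

theorem sigma_mem₂ (S : Setting L₁ L₂ j n) {x : G} (hx : x ∈ L₁) : n * x * n⁻¹ ∈ L₂ := by
  rw [← S.hswap]
  exact ⟨x, hx, rfl⟩

theorem sigma_sigma (S : Setting L₁ L₂ j n) {y : G}
    (hy : y ∈ Subgroup.centralizer ({j} : Set G)) : n * (n * y * n⁻¹) * n⁻¹ = y := by
  have hjy := comm_j hy
  have hnn : n * n = j := by rw [← pow_two]; exact S.hn2
  calc n * (n * y * n⁻¹) * n⁻¹ = (n * n) * y * (n * n)⁻¹ := by group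
    _ = j * y * j⁻¹ := by rw [hnn]
    _ = y := by rw [hjy]; group

theorem sigma_mem₁ (S : Setting L₁ L₂ j n) {x : G} (hx : x ∈ L₂) : n * x * n⁻¹ ∈ L₁ := by
  rw [← S.hswap] at hx
  obtain ⟨y, hy, rfl⟩ := hx
  have h : n * ((MulAut.conj n).toMonoidHom y) * n⁻¹ = y := sigma_sigma S (mem_H₁ S hy)
  rw [h]
  exact hy

theorem n_not_mem (S : Setting L₁ L₂ j n) : n ∉ L₁ ⊔ L₂ := by
  intro hn
  obtain ⟨u, hu, v, hv, hnuv⟩ :=
    Cfsg.Agent.Lib.Helper4.CentProd.exists_mul_of_mem_sup L₁ L₂ S.hc hn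
  have hL21 : ∀ y ∈ L₂, y ∈ L₁ := by
    intro y hy
    rw [← S.hswap] at hy
    obtain ⟨x, hx, rfl⟩ := hy
    show n * x * n⁻¹ ∈ L₁
    have hxv := S.hc x hx v hv
    have h : n * x * n⁻¹ = u * x * u⁻¹ := by
      rw [hnuv]
      calc u * v * x * (u * v)⁻¹ = u * (v * x) * v⁻¹ * u⁻¹ := by group
        _ = u * (x * v) * v⁻¹ * u⁻¹ := by rw [hxv]
        _ = u * x * u⁻¹ := by group
    rw [h]
    exact L₁.mul_mem (L₁.mul_mem hu hx) (L₁.inv_mem hu)
  have hn1 : n ∈ L₁ := by rw [hnuv]; exact L₁.mul_mem hu (hL21 v hv)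
  have hn2 : n ∈ L₂ := by
    have h := sigma_mem₂ S hn1
    rwa [mul_inv_cancel_right] at h
  rcases eq_one_or_j S hn1 hn2 with h | h
  · have h2 := S.hn2
    rw [h, one_pow] at h2
    exact j_ne_one S h2.symm
  · have h2 := S.hn2
    rw [h, j_sq S] at h2
    exact j_ne_one S h2.symm

theorem mul_mem_of_not_mem (S : Setting L₁ L₂ j n) {x y : G}
    (hx : x ∈ Subgroup.centralizer ({j} : Set G)) (hy : y ∈ Subgroup.centralizer ({j} : Set G))
    (hxL : x ∉ L₁ ⊔ L₂) (hyL : y ∉ L₁ ⊔ L₂) : x * y ∈ L₁ ⊔ L₂ := by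
  have hidx : ((L₁ ⊔ L₂).subgroupOf (Subgroup.centralizer ({j} : Set G))).index = 2 := S.hi
  have h := Subgroup.mul_mem_iff_of_index_two hidx
    (a := (⟨x, hx⟩ : Subgroup.centralizer ({j} : Set G))) (b := ⟨y, hy⟩)
  have h2 := h.mpr (iff_of_false (by simpa [Subgroup.mem_subgroupOf] using hxL)
    (by simpa [Subgroup.mem_subgroupOf] using hyL))
  simpa [Subgroup.mem_subgroupOf] using h2

/-- decomposition of the elements of the coset `Ln` -/
theorem exists_dec (S : Setting L₁ L₂ j n) {r : G} (hr : r * j = j * r) (hrL : r ∉ L₁ ⊔ L₂) :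
    ∃ u ∈ L₁, ∃ v ∈ L₂, r = u * v * n := by
  have hrH : r ∈ Subgroup.centralizer ({j} : Set G) := by
    rw [Subgroup.mem_centralizer_iff]
    intro y hy
    rw [Set.mem_singleton_iff.mp hy]
    exact hr.symm
  have hnH : n⁻¹ ∈ Subgroup.centralizer ({j} : Set G) := Subgroup.inv_mem _ S.hn
  have hnL : n⁻¹ ∉ L₁ ⊔ L₂ := fun h => n_not_mem S (by simpa using Subgroup.inv_mem _ h)
  obtain ⟨u, hu, v, hv, huv⟩ := Cfsg.Agent.Lib.Helper4.CentProd.exists_mul_of_mem_sup L₁ L₂ S.hc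
    (mul_mem_of_not_mem S hrH hnH hrL hnL)
  exact ⟨u, hu, v, hv, by rw [← huv]; group⟩

/-- the key computation: shape of the square roots of `a*b` in the coset `Ln` -/
theorem key (S : Setting L₁ L₂ j n) {a b u v : G} (ha : a ∈ L₁) (hb : b ∈ L₂)
    (hu : u ∈ L₁) (hv : v ∈ L₂) (hsq : (u * v * n) ^ 2 = a * b) :
    ∃ ε : G, (ε = 1 ∨ ε = j) ∧ u⁻¹ * a * u = n * b * n⁻¹ * j ∧
      u * v * n = u * (n * u * n⁻¹)⁻¹ * (n * a * n⁻¹) * ε * j * n := by
  have hnn : n * n = j := by rw [← pow_two]; exact S.hn2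
  have hsu : n * u * n⁻¹ ∈ L₂ := sigma_mem₂ S hu
  have hsv : n * v * n⁻¹ ∈ L₁ := sigma_mem₁ S hv
  have hQ : v * (n * u * n⁻¹) ∈ L₂ := L₂.mul_mem hv hsu
  have hP : u * (n * v * n⁻¹) ∈ L₁ := L₁.mul_mem hu hsv
  have e1 : (u * v * n) ^ 2 = u * (v * (n * u * n⁻¹) * (n * v * n⁻¹)) * (n * n) := by
    rw [pow_two]; group
  have hcomm : v * (n * u * n⁻¹) * (n * v * n⁻¹) = (n * v * n⁻¹) * (v * (n * u * n⁻¹)) :=
    (S.hc _ hsv _ hQ).symm
  have e2 : a * b = (u * (n * v * n⁻¹)) * (v * (n * u * n⁻¹)) * j := by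
    rw [← hsq, e1, hcomm, hnn]; group
  have hjQ : j * (v * (n * u * n⁻¹))⁻¹ = (v * (n * u * n⁻¹))⁻¹ * j :=
    comm_j (Subgroup.inv_mem _ (mem_H₂ S hQ))
  have hε : a⁻¹ * (u * (n * v * n⁻¹)) * j = b * (v * (n * u * n⁻¹))⁻¹ := by
    have h : u * (n * v * n⁻¹) = a * b * j⁻¹ * (v * (n * u * n⁻¹))⁻¹ := by rw [e2]; group
    rw [h]
    calc a⁻¹ * (a * b * j⁻¹ * (v * (n * u * n⁻¹))⁻¹) * j
        = b * j⁻¹ * ((v * (n * u * n⁻¹))⁻¹ * j) := by group
      _ = b * j⁻¹ * (j * (v * (n * u * n⁻¹))⁻¹) := by rw [hjQ]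
      _ = b * (v * (n * u * n⁻¹))⁻¹ := by group
  have hε1 : a⁻¹ * (u * (n * v * n⁻¹)) * j ∈ L₁ :=
    L₁.mul_mem (L₁.mul_mem (L₁.inv_mem ha) hP) (j_mem₁ S)
  have hε2 : a⁻¹ * (u * (n * v * n⁻¹)) * j ∈ L₂ := by
    rw [hε]; exact L₂.mul_mem hb (L₂.inv_mem hQ)
  -- sigma of Q
  have hsQ : n * (v * (n * u * n⁻¹)) * n⁻¹ = (n * v * n⁻¹) * u := by
    have h := sigma_sigma S (mem_H₁ S hu)
    calc n * (v * (n * u * n⁻¹)) * n⁻¹ = (n * v * n⁻¹) * (n * (n * u * n⁻¹) * n⁻¹) := by group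
      _ = (n * v * n⁻¹) * u := by rw [h]
  have hvv : v = n * (n * v * n⁻¹) * n⁻¹ := (sigma_sigma S (mem_H₂ S hv)).symm
  have hju : j * u = u * j := comm_j (mem_H₁ S hu)
  have hjinv := j_inv S
  have hjj := j_mul_j S
  have hnj := n_j S
  rcases eq_one_or_j S hε1 hε2 with h1 | h1
  · -- ε = 1
    have hPe : n * v * n⁻¹ = u⁻¹ * a * j := by
      have h : u * (n * v * n⁻¹) = a * j⁻¹ := by
        calc u * (n * v * n⁻¹) = a * (a⁻¹ * (u * (n * v * n⁻¹)) * j) * j⁻¹ := by group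
          _ = a * j⁻¹ := by rw [h1]; group
      rw [hjinv] at h
      calc n * v * n⁻¹ = u⁻¹ * (u * (n * v * n⁻¹)) := by group
        _ = u⁻¹ * a * j := by rw [h]; group
    have hQe : v * (n * u * n⁻¹) = b := by
      have h : b * (v * (n * u * n⁻¹))⁻¹ = 1 := by rw [← hε]; exact h1
      calc v * (n * u * n⁻¹) = (b * (v * (n * u * n⁻¹))⁻¹)⁻¹ * b := by group
        _ = b := by rw [h]; group
    refine ⟨1, Or.inl rfl, ?_, ?_⟩
    · have h : n * b * n⁻¹ = u⁻¹ * a * u * j := by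
        calc n * b * n⁻¹ = n * (v * (n * u * n⁻¹)) * n⁻¹ := by rw [hQe]
          _ = (n * v * n⁻¹) * u := hsQ
          _ = u⁻¹ * a * j * u := by rw [hPe]
          _ = u⁻¹ * a * (j * u) := by group
          _ = u⁻¹ * a * (u * j) := by rw [hju]
          _ = u⁻¹ * a * u * j := by group
      rw [h]
      calc u⁻¹ * a * u = u⁻¹ * a * u * (j * j) := by rw [hjj, mul_one]
        _ = u⁻¹ * a * u * j * j := by group
    · have hv' : v = (n * u * n⁻¹)⁻¹ * (n * a * n⁻¹) * j := by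
        calc v = n * (n * v * n⁻¹) * n⁻¹ := hvv
          _ = n * (u⁻¹ * a * j) * n⁻¹ := by rw [hPe]
          _ = (n * u * n⁻¹)⁻¹ * (n * a * n⁻¹) * (n * j * n⁻¹) := by group
          _ = (n * u * n⁻¹)⁻¹ * (n * a * n⁻¹) * j := by rw [hnj]
      calc u * v * n = u * ((n * u * n⁻¹)⁻¹ * (n * a * n⁻¹) * j) * n := by rw [← hv']
        _ = u * (n * u * n⁻¹)⁻¹ * (n * a * n⁻¹) * 1 * j * n := by group
  · -- ε = j
    have hPe : n * v * n⁻¹ = u⁻¹ * a := by
      have h : u * (n * v * n⁻¹) = a := by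
        calc u * (n * v * n⁻¹) = a * (a⁻¹ * (u * (n * v * n⁻¹)) * j) * j⁻¹ := by group
          _ = a := by rw [h1]; group
      calc n * v * n⁻¹ = u⁻¹ * (u * (n * v * n⁻¹)) := by group
        _ = u⁻¹ * a := by rw [h]
    have hQe : v * (n * u * n⁻¹) = j * b := by
      have h : b * (v * (n * u * n⁻¹))⁻¹ = j := by rw [← hε]; exact h1
      calc v * (n * u * n⁻¹) = (b * (v * (n * u * n⁻¹))⁻¹)⁻¹ * b := by group
        _ = j⁻¹ * b := by rw [h]
        _ = j * b := by rw [hjinv]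
    have hsb : n * b * n⁻¹ ∈ L₁ := sigma_mem₁ S hb
    have hjsb : j * (n * b * n⁻¹) = (n * b * n⁻¹) * j := comm_j (mem_H₁ S hsb)
    refine ⟨j, Or.inr rfl, ?_, ?_⟩
    · calc u⁻¹ * a * u = (n * v * n⁻¹) * u := by rw [hPe]
        _ = n * (v * (n * u * n⁻¹)) * n⁻¹ := hsQ.symm
        _ = n * (j * b) * n⁻¹ := by rw [hQe]
        _ = (n * j * n⁻¹) * (n * b * n⁻¹) := by group
        _ = j * (n * b * n⁻¹) := by rw [hnj]
        _ = n * b * n⁻¹ * j := hjsb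
    · have hv' : v = (n * u * n⁻¹)⁻¹ * (n * a * n⁻¹) := by
        calc v = n * (n * v * n⁻¹) * n⁻¹ := hvv
          _ = n * (u⁻¹ * a) * n⁻¹ := by rw [hPe]
          _ = (n * u * n⁻¹)⁻¹ * (n * a * n⁻¹) := by group
      calc u * v * n = u * ((n * u * n⁻¹)⁻¹ * (n * a * n⁻¹)) * n := by rw [← hv']
        _ = u * (n * u * n⁻¹)⁻¹ * (n * a * n⁻¹) * (j * j) * n := by rw [hjj]; group
        _ = u * (n * u * n⁻¹)⁻¹ * (n * a * n⁻¹) * j * j * n := by group

/-- `Φ(u·θ, ε) = Φ(u, ε)` for `θ ∈ {1, j}` -/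
theorem phi_congr (S : Setting L₁ L₂ j n) (a u θ ε : G) (hθ : θ = 1 ∨ θ = j) :
    (u * θ) * (n * (u * θ) * n⁻¹)⁻¹ * (n * a * n⁻¹) * ε * j * n =
      u * (n * u * n⁻¹)⁻¹ * (n * a * n⁻¹) * ε * j * n := by
  rcases hθ with rfl | rfl
  · rw [mul_one]
  · have hnj := n_j S
    have h : (u * θ) * (n * (u * θ) * n⁻¹)⁻¹ = u * (n * u * n⁻¹)⁻¹ := by
      calc (u * θ) * (n * (u * θ) * n⁻¹)⁻¹
          = u * θ * (n * θ * n⁻¹)⁻¹ * (n * u * n⁻¹)⁻¹ := by group
        _ = u * θ * θ⁻¹ * (n * u * n⁻¹)⁻¹ := by rw [hnj]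
        _ = u * (n * u * n⁻¹)⁻¹ := by group
    rw [h]

/-- Unit D-out of farm SW: the square roots of `a*b` in `C(j)` outside `L₁L₂`. -/
theorem upper_out [Finite G] {L₁ L₂ : Subgroup G} {j n : G} (S : Setting L₁ L₂ j n) (a b : G)
    (ha : a ∈ L₁) (hb : b ∈ L₂) (ha2 : a ^ 2 = j) (hb2 : b ^ 2 = j) :
    Nat.card {r : G // r ^ 2 = a * b ∧ r * j = j * r ∧ r ∉ L₁ ⊔ L₂} ≤
      Nat.card {x : G // x ∈ L₁ ∧ x * a = a * x} := by
  classical
  have hdata : ∀ r : {r : G // r ^ 2 = a * b ∧ r * j = j * r ∧ r ∉ L₁ ⊔ L₂},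
      ∃ u : G, ∃ ε : G, u ∈ L₁ ∧ (ε = 1 ∨ ε = j) ∧ u⁻¹ * a * u = n * b * n⁻¹ * j ∧
        (r : G) = u * (n * u * n⁻¹)⁻¹ * (n * a * n⁻¹) * ε * j * n := by
    intro r
    obtain ⟨u, hu, v, hv, hr⟩ := exists_dec S r.2.2.1 r.2.2.2
    have hsq : (u * v * n) ^ 2 = a * b := by rw [← hr]; exact r.2.1
    obtain ⟨ε, hε, h1, h2⟩ := key S ha hb hu hv hsq
    exact ⟨u, ε, hu, hε, h1, by rw [hr]; exact h2⟩
  choose U E hU hE hconj hform using hdata
  by_cases hne : Nonempty {r : G // r ^ 2 = a * b ∧ r * j = j * r ∧ r ∉ L₁ ⊔ L₂}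
  swap
  · haveI : IsEmpty {r : G // r ^ 2 = a * b ∧ r * j = j * r ∧ r ∉ L₁ ⊔ L₂} :=
      not_nonempty_iff.mp hne
    rw [Nat.card_of_isEmpty]
    exact Nat.zero_le _
  obtain ⟨r₀⟩ := hne
  have hj1 := j_ne_one S
  have hjm := j_mem₁ S
  have hδ : ∀ t : Bool, (if t then j else 1) = 1 ∨ (if t then j else 1) = j := by
    intro t; cases t <;> simp
  have hδm : ∀ t : Bool, (if t then j else (1 : G)) ∈ L₁ := by
    intro t; cases t
    · simpa using L₁.one_mem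
    · simpa using hjm
  have hmem : ∀ (r : {r : G // r ^ 2 = a * b ∧ r * j = j * r ∧ r ∉ L₁ ⊔ L₂}) (t : Bool),
      U r * (if t then j else 1) * (U r₀)⁻¹ ∈ L₁ ∧
        (U r * (if t then j else 1) * (U r₀)⁻¹) * a = a * (U r * (if t then j else 1) * (U r₀)⁻¹) := by
    intro r t
    refine ⟨L₁.mul_mem (L₁.mul_mem (hU r) (hδm t)) (L₁.inv_mem (hU r₀)), ?_⟩
    have h1 : a * U r = U r * (n * b * n⁻¹ * j) := by rw [← hconj r]; group
    have h0 : (U r₀)⁻¹ * a = (n * b * n⁻¹ * j) * (U r₀)⁻¹ := by rw [← hconj r₀]; group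
    have hsb : n * b * n⁻¹ * j ∈ L₁ := L₁.mul_mem (sigma_mem₁ S hb) hjm
    have hd : (if t then j else 1) * (n * b * n⁻¹ * j) = (n * b * n⁻¹ * j) * (if t then j else 1) := by
      cases t
      · simp
      · simpa using comm_j (mem_H₁ S hsb)
    calc (U r * (if t then j else 1) * (U r₀)⁻¹) * a
        = U r * (if t then j else 1) * ((U r₀)⁻¹ * a) := by group
      _ = U r * (if t then j else 1) * ((n * b * n⁻¹ * j) * (U r₀)⁻¹) := by rw [h0]
      _ = U r * ((if t then j else 1) * (n * b * n⁻¹ * j)) * (U r₀)⁻¹ := by group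
      _ = U r * ((n * b * n⁻¹ * j) * (if t then j else 1)) * (U r₀)⁻¹ := by rw [hd]
      _ = (U r * (n * b * n⁻¹ * j)) * (if t then j else 1) * (U r₀)⁻¹ := by group
      _ = (a * U r) * (if t then j else 1) * (U r₀)⁻¹ := by rw [h1]
      _ = a * (U r * (if t then j else 1) * (U r₀)⁻¹) := by group
  let f : {r : G // r ^ 2 = a * b ∧ r * j = j * r ∧ r ∉ L₁ ⊔ L₂} × Bool →
      {x : G // x ∈ L₁ ∧ x * a = a * x} × Bool :=
    fun x => (⟨U x.1 * (if x.2 then j else 1) * (U r₀)⁻¹, hmem x.1 x.2⟩, decide (E x.1 = 1))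
  have hf : Function.Injective f := by
    rintro ⟨r, t⟩ ⟨r', t'⟩ hff
    have h1 : U r * (if t then j else 1) * (U r₀)⁻¹ = U r' * (if t' then j else 1) * (U r₀)⁻¹ :=
      congrArg (fun z => ((z.1 : {x : G // x ∈ L₁ ∧ x * a = a * x}) : G)) hff
    have h2 : decide (E r = 1) = decide (E r' = 1) := congrArg Prod.snd hff
    have h1' : U r * (if t then j else 1) = U r' * (if t' then j else 1) := mul_right_cancel h1
    have hEE : E r = E r' := by
      have hiff : E r = 1 ↔ E r' = 1 := by simpa using h2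
      rcases hE r with h | h
      · rw [h, (hiff.mp h)]
      · rcases hE r' with h' | h'
        · exact absurd (hiff.mpr h') (by rw [h]; exact hj1)
        · rw [h, h']
    have hθ : (if t then j else 1) * (if t' then j else (1 : G))⁻¹ = 1 ∨
        (if t then j else 1) * (if t' then j else (1 : G))⁻¹ = j := by
      have hji := j_inv S
      have hjj := j_mul_j S
      cases t <;> cases t' <;> simp [hji, hjj]
    have hU' : U r' = U r * ((if t then j else 1) * (if t' then j else (1 : G))⁻¹) := by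
      calc U r' = (U r' * (if t' then j else 1)) * (if t' then j else (1 : G))⁻¹ := by group
        _ = (U r * (if t then j else 1)) * (if t' then j else (1 : G))⁻¹ := by rw [h1']
        _ = U r * ((if t then j else 1) * (if t' then j else (1 : G))⁻¹) := by group
    have hrr : (r : G) = (r' : G) := by
      rw [hform r, hform r', hU', ← hEE]
      exact (phi_congr S a (U r) _ (E r) hθ).symm
    have hrr' : r = r' := Subtype.ext hrr
    subst hrr'
    have htt : (if t then j else 1) = (if t' then j else (1 : G)) := mul_left_cancel h1'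
    have : t = t' := by
      cases t <;> cases t' <;> simp at htt ⊢
      · exact absurd htt.symm hj1
      · exact absurd htt hj1
    rw [this]
  have hcard := Nat.card_le_card_of_injective f hf
  rw [Nat.card_prod, Nat.card_prod] at hcard
  have h2 : Nat.card Bool = 2 := by simp
  rw [h2] at hcard
  exact Nat.le_of_mul_le_mul_right hcard (by norm_num)

end Cfsg.Agent.Lib.Helper6.SWDout
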