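import Mathlib
import Cfsg.Agent.S0143
import Cfsg.Agent.Lib.Helper6.Invariants

set_option autoImplicit false

namespace Cfsg.Agent.Lib.Helper6.ScA

open Cfsg.Agent.Lib.Helper6
open scoped ComplexConjugate

/-- In a nonabelian simple group, an irreducible character of prime power degree `r ^ k`
vanishes on the nonidentity elements of an abelian Sylow `r`-subgroup. -/
theorem vanish_on_abelian_sylow {G : Type*} [Group G] [Finite G] [IsSimpleGroup G]
    (hna : ∃ x y : G, x * y ≠ y * x) (r k : ℕ) (hr : r.Prime) (hk : 1 ≤ k)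
    {ψ : G → ℂ} (hψ : Cfsg.IsIrrCharacter G ψ) (hdeg : ψ 1 = ((r ^ k : ℕ) : ℂ))
    (S : Sylow r G)
    (hab : ∀ x ∈ (S : Subgroup G), ∀ y ∈ (S : Subgroup G), x * y = y * x)
    (g : G) (hgS : g ∈ (S : Subgroup G)) (hg : g ≠ 1) : ψ g = 0 := by
  classical
  haveI : Fintype G := Fintype.ofFinite G
  have : Fact r.Prime := ⟨hr⟩
  obtain ⟨n, ρ, hirr, hchar⟩ := hψ
  have := hirr
  have hn : (n : ℂ) = ((r ^ k : ℕ) : ℂ) := by
    rw [← hdeg, ← hchar, Representation.char_one]
    simp
  have hn' : n = r ^ k := by exact_mod_cast hn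
  -- the centralizer of g contains S
  have hle : (S : Subgroup G) ≤ Subgroup.centralizer ({g} : Set G) := by
    intro x hx
    rw [Subgroup.mem_centralizer_iff]
    intro y hy
    rw [Set.mem_singleton_iff] at hy
    subst hy
    exact hab y hgS x hx
  have hdvd : (Subgroup.centralizer ({g} : Set G)).index ∣ (S : Subgroup G).index :=
    Subgroup.index_dvd_of_le hle
  have hnd : ¬ r ∣ (S : Subgroup G).index := Sylow.not_dvd_index S
  have hcop : Nat.Coprime (Module.finrank ℂ (Fin n → ℂ))
      (Subgroup.centralizer ({g} : Set G)).index := by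
    rw [Module.finrank_fin_fun, hn']
    apply Nat.Coprime.pow_left
    rw [Nat.Prime.coprime_iff_not_dvd hr]
    intro h
    exact hnd (h.trans hdvd)
  rcases Cfsg.Agent.S0142.result ρ g hcop with h0 | h0
  · rw [← hchar]; exact h0
  · exfalso
    obtain ⟨ω, hω⟩ := (norm_character_eq_iff ρ g).mp h0
    obtain ⟨x, y, hxy⟩ := hna
    apply hxy
    refine Cfsg.Agent.S0143.comm_of_scalar g hg ρ ?_ ω hω x y
    intro h1
    have h2 := congrFun h1 1
    rw [Representation.char_one] at h2
    simp only [Module.finrank_fin_fun] at h2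
    have h3 : n = 1 := by exact_mod_cast h2
    rw [hn'] at h3
    have h4 : 2 ≤ r ^ k := by
      calc 2 ≤ r := hr.two_le
        _ = r ^ 1 := (pow_one r).symm
        _ ≤ r ^ k := Nat.pow_le_pow_right hr.pos hk
    omega

/-- In a nonabelian simple group with an abelian Sylow `r`-subgroup of order `r ^ n`, an
irreducible character of degree `r ^ k` (`k ≥ 1`) forces `n ≤ k`. -/
theorem exp_le_of_abelian_sylow {G : Type*} [Group G] [Finite G] [IsSimpleGroup G]
    (hna : ∃ x y : G, x * y ≠ y * x) (r k n : ℕ) (hr : r.Prime) (hk : 1 ≤ k)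
    {ψ : G → ℂ} (hψ : Cfsg.IsIrrCharacter G ψ) (hdeg : ψ 1 = ((r ^ k : ℕ) : ℂ))
    (S : Sylow r G) (hS : Nat.card S = r ^ n)
    (hab : ∀ x ∈ (S : Subgroup G), ∀ y ∈ (S : Subgroup G), x * y = y * x) : n ≤ k := by
  classical
  haveI : Fintype G := Fintype.ofFinite G
  have hvan := vanish_on_abelian_sylow hna r k hr hk hψ hdeg S hab
  obtain ⟨m, ρ, hirr, hchar⟩ := hψ
  haveI : Fintype (S : Subgroup G) := Fintype.ofFinite _
  have h1 := classInner_restrict_one ρ (S : Subgroup G)
  unfold Cfsg.classInner at h1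
  have hsum : ∑ x : (S : Subgroup G), ρ.character (x : G) * conj ((fun _ => (1 : ℂ)) x)
      = ((r ^ k : ℕ) : ℂ) := by
    rw [Finset.sum_eq_single (1 : (S : Subgroup G))]
    · simp only [Subgroup.coe_one, map_one, mul_one]
      rw [hchar, hdeg]
    · intro x _ hx
      have hx1 : (x : G) ≠ 1 := by
        intro h
        apply hx
        exact Subtype.ext h
      rw [hchar, hvan (x : G) x.2 hx1, zero_mul]
    · intro h
      exact absurd (Finset.mem_univ _) h
  rw [hsum] at h1
  have hcard : (Nat.card (S : Subgroup G) : ℂ) = ((r ^ n : ℕ) : ℂ) := by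
    have : Nat.card (S : Subgroup G) = r ^ n := hS
    rw [this]
  rw [hcard] at h1
  have hrn : ((r ^ n : ℕ) : ℂ) ≠ 0 := by
    exact_mod_cast (pow_pos hr.pos n).ne'
  set d := Module.finrank ℂ (fixedSpace ρ (S : Subgroup G)) with hd
  have h2 : ((r ^ k : ℕ) : ℂ) = ((r ^ n * d : ℕ) : ℂ) := by
    push_cast
    field_simp at h1
    push_cast at h1
    linear_combination h1
  have h3 : r ^ k = r ^ n * d := by exact_mod_cast h2
  have h4 : r ^ n ∣ r ^ k := ⟨d, h3⟩
  exact (Nat.pow_dvd_pow_iff_le_right hr.one_lt).mp h4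

end Cfsg.Agent.Lib.Helper6.ScA
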