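import Mathlib
import Cfsg.Agent.Lib.Helper6.BF4
import Cfsg.Agent.Lib.Helper7.Bt4
import Cfsg.Agent.Lib.Helper6.ScA

/-!
# S4501, case (3B2): no simple group of order `3 p^2 2^b` with `p ≥ 5`
-/

set_option autoImplicit false
set_option linter.unusedSectionVars false
set_option linter.unusedVariables false
set_option linter.style.longLine false
set_option maxHeartbeats 1600000

namespace Cfsg.Agent.Lib.Helper6.ScB

open Cfsg Cfsg.Agent.Lib.Helper6 Cfsg.Agent.Lib.Helper7.Bt Cfsg.Agent.Lib.Helper6.BF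
open scoped ComplexConjugate

/-- a divisor of `p ^ 2 * 2 ^ b` is `p ^ i * 2 ^ j` -/
theorem dvd_form {p b d : ℕ} (hp : p.Prime) (h : d ∣ p ^ 2 * 2 ^ b) :
    ∃ i j : ℕ, i ≤ 2 ∧ j ≤ b ∧ d = p ^ i * 2 ^ j := by
  obtain ⟨k1, k2, h1, h2, h3⟩ := Nat.dvd_mul.mp h
  obtain ⟨i, hi, rfl⟩ := (Nat.dvd_prime_pow hp).mp h1
  obtain ⟨j, hj, rfl⟩ := (Nat.dvd_prime_pow Nat.prime_two).mp h2
  exact ⟨i, j, hi, hj, h3.symm⟩

theorem sq_mod_four {p : ℕ} (hodd : p % 2 = 1) : p ^ 2 % 4 = 1 := by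
  have h4 : p % 4 = 1 ∨ p % 4 = 3 := by omega
  rw [Nat.pow_mod]
  rcases h4 with h | h <;> rw [h]

/-- `p ^ 2 + 1` is not a power of two for an odd `p ≥ 3` -/
theorem sq_add_one_ne {p j : ℕ} (hodd : p % 2 = 1) (hp3 : 3 ≤ p) : p ^ 2 + 1 ≠ 2 ^ j := by
  intro h
  have h1 := sq_mod_four hodd
  have hbig : 10 ≤ p ^ 2 + 1 := by nlinarith
  have hj : 2 ≤ j := by
    by_contra hj
    have : j = 0 ∨ j = 1 := by omega
    rcases this with rfl | rfl <;> omega
  obtain ⟨i, rfl⟩ : ∃ i, j = i + 2 := ⟨j - 2, by omega⟩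
  have : 2 ^ (i + 2) % 4 = 0 := by
    rw [pow_add]; omega
  omega

/-- `p ^ 2 - 1` is not a power of two for `p ≥ 5` -/
theorem sq_ne_add_one {p j : ℕ} (hp5 : 5 ≤ p) : p ^ 2 ≠ 2 ^ j + 1 := by
  intro h
  have h1 : (p - 1) * (p + 1) = 2 ^ j := by
    have : p ^ 2 = (p - 1) * (p + 1) + 1 := by
      obtain ⟨m, rfl⟩ : ∃ m, p = m + 1 := ⟨p - 1, by omega⟩
      simp only [Nat.add_sub_cancel]
      ring
    omega
  have hd1 : p - 1 ∣ 2 ^ j := ⟨p + 1, h1.symm⟩
  have hd2 : p + 1 ∣ 2 ^ j := ⟨p - 1, by rw [← h1]; ring⟩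
  obtain ⟨x, -, hx⟩ := (Nat.dvd_prime_pow Nat.prime_two).mp hd1
  obtain ⟨y, -, hy⟩ := (Nat.dvd_prime_pow Nat.prime_two).mp hd2
  have hx2 : 2 ≤ x := by
    by_contra hx2
    have : x = 0 ∨ x = 1 := by omega
    rcases this with rfl | rfl <;> omega
  have hy2 : 2 ≤ y := by
    by_contra hy2
    have : y = 0 ∨ y = 1 := by omega
    rcases this with rfl | rfl <;> omega
  obtain ⟨x', rfl⟩ : ∃ i, x = i + 2 := ⟨x - 2, by omega⟩
  obtain ⟨y', rfl⟩ : ∃ i, y = i + 2 := ⟨y - 2, by omega⟩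
  have e1 : 2 ^ (x' + 2) % 4 = 0 := by rw [pow_add]; omega
  have e2 : 2 ^ (y' + 2) % 4 = 0 := by rw [pow_add]; omega
  omega

/-- consecutive divisors `d, d + 1 ≥ 2` of `p ^ 2 * 2 ^ b`: one of them is `p` -/
theorem consec_arith {p b d : ℕ} (hp : p.Prime) (hp5 : 5 ≤ p) (hd : 2 ≤ d)
    (h1 : d ∣ p ^ 2 * 2 ^ b) (h2 : d + 1 ∣ p ^ 2 * 2 ^ b) : d = p ∨ d + 1 = p := by
  obtain ⟨i, j, hi, hj, hdij⟩ := dvd_form hp h1
  obtain ⟨i', j', hi', hj', hdij'⟩ := dvd_form hp h2
  have hpodd : p % 2 = 1 := by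
    rcases hp.eq_two_or_odd with h | h
    · omega
    · exact h
  have hcop : Nat.Coprime d (d + 1) := by
    rw [Nat.coprime_self_add_right]; exact Nat.coprime_one_right d
  -- not both divisible by `p`
  have hnp : i = 0 ∨ i' = 0 := by
    by_contra hcon
    push Not at hcon
    have e1 : p ∣ d := by
      rw [hdij]; exact Dvd.dvd.mul_right (dvd_pow_self p hcon.1) _
    have e2 : p ∣ d + 1 := by
      rw [hdij']; exact Dvd.dvd.mul_right (dvd_pow_self p hcon.2) _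
    have := Nat.dvd_gcd e1 e2
    rw [hcop] at this
    exact hp.one_lt.ne' (Nat.dvd_one.mp this)
  have hn2 : j = 0 ∨ j' = 0 := by
    by_contra hcon
    push Not at hcon
    have e1 : 2 ∣ d := by
      rw [hdij]; exact Dvd.dvd.mul_left (dvd_pow_self 2 hcon.1) _
    have e2 : 2 ∣ d + 1 := by
      rw [hdij']; exact Dvd.dvd.mul_left (dvd_pow_self 2 hcon.2) _
    omega
  rcases hnp with rfl | rfl
  · -- `d = 2 ^ j`
    rw [pow_zero, one_mul] at hdij
    have hj0 : j ≠ 0 := by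
      rintro rfl
      rw [pow_zero] at hdij; omega
    have hj'0 : j' = 0 := by
      rcases hn2 with h | h
      · exact absurd h hj0
      · exact h
    subst hj'0
    rw [pow_zero, mul_one] at hdij'
    have : i' = 0 ∨ i' = 1 ∨ i' = 2 := by omega
    rcases this with rfl | rfl | rfl
    · rw [pow_zero] at hdij'; omega
    · right; rw [hdij', pow_one]
    · exfalso
      apply sq_ne_add_one hp5 (j := j)
      rw [← hdij', hdij]
  · -- `d + 1 = 2 ^ j'`
    rw [pow_zero, one_mul] at hdij'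
    have hj'0 : j' ≠ 0 := by
      rintro rfl
      rw [pow_zero] at hdij'; omega
    have hj0 : j = 0 := by
      rcases hn2 with h | h
      · exact h
      · exact absurd h hj'0
    subst hj0
    rw [pow_zero, mul_one] at hdij
    have : i = 0 ∨ i = 1 ∨ i = 2 := by omega
    rcases this with rfl | rfl | rfl
    · rw [pow_zero] at hdij; omega
    · left; rw [hdij, pow_one]
    · exfalso
      apply sq_add_one_ne hpodd (by omega) (j := j')
      rw [← hdij', hdij]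

/-- The principal `3`-block of a nonabelian simple group with a Sylow `3`-subgroup of order `3`
contains two nonprincipal characters of consecutive degrees prime to `3`. -/
theorem exists_consecutive {G : Type*} [Group G] [Finite G] [IsSimpleGroup G]
    (hna : ∃ x y : G, x * y ≠ y * x) (P : Sylow 3 G) (hP : Nat.card P = 3) :
    ∃ ψ₁ ψ₂ : IrrCharacter G, ¬ 3 ∣ deg ψ₁ ∧ ¬ 3 ∣ deg ψ₂ ∧ 2 ≤ deg ψ₁ ∧
      deg ψ₁ + 1 = deg ψ₂ := by
  classical
  have : Fintype G := Fintype.ofFinite G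
  haveI : Fact (Nat.Prime 3) := ⟨Nat.prime_three⟩
  obtain ⟨M, hM⟩ := exists_isPModular 3
  obtain ⟨X, Y, εX, ε, D⟩ := exists_qdata 3 (by norm_num) M hM P hP
  have hperf : commutator G = ⊤ := perfect_of_simple hna
  have h3dvd : 3 ∣ Nat.card G := by
    have := Subgroup.card_subgroup_dvd_card (P : Subgroup G)
    have hP' : Nat.card (P : Subgroup G) = 3 := hP
    rwa [hP'] at this
  have hcore : ∀ K : Subgroup G, K.Normal → (Nat.card K).Coprime 3 → K = ⊥ := by
    intro K hK hcop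
    rcases IsSimpleGroup.eq_bot_or_eq_top_of_normal K hK with h | h
    · exact h
    · exfalso
      rw [h, Subgroup.card_top] at hcop
      have := Nat.dvd_gcd h3dvd (dvd_refl 3)
      rw [hcop] at this
      omega
  have hJe := (PB.prin P hM).card_J_mul_e hP hM
  rw [PB.prin_e P hM] at hJe
  set e := (Subgroup.centralizer ((P : Subgroup G) : Set G)).relIndex
    (Subgroup.normalizer ((P : Subgroup G) : Set G)) with he
  have hedvd : e ∣ 2 := ⟨Nat.card (PB.prin P hM).J, by rw [mul_comm]; omega⟩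
  have he2 : e = 2 := by
    have hle := Nat.le_of_dvd (by norm_num) hedvd
    have h0 : e ≠ 0 := by
      rintro h
      rw [h] at hedvd
      omega
    have h1 : e ≠ 1 := by
      intro h
      exact not_N_le_C hperf P hP hcore (Subgroup.relIndex_eq_one.mp h)
    omega
  have hXc : X.card = 2 := by rw [D.cardX, he2]
  have hYc : Y.card = 1 := by rw [D.cardY, he2]
  obtain ⟨χ₁, χ₂, h12, hX⟩ := Finset.card_eq_two.mp hXc
  obtain ⟨θ, hY⟩ := Finset.card_eq_one.mp hYc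
  have hχ₁ : χ₁ ∈ X := by rw [hX]; simp
  have hχ₂ : χ₂ ∈ X := by rw [hX]; simp
  have hθ : θ ∈ Y := by rw [hY]; simp
  have hrel := D.rel_deg hθ
  rw [hX, Finset.sum_pair h12] at hrel
  have hs1 := D.signX χ₁ hχ₁
  have hs2 := D.signX χ₂ hχ₂
  have hs := D.sign
  have hd1 := D.degX χ₁ hχ₁
  have hd2 := D.degX χ₂ hχ₂
  have hdθ := D.degY θ hθ
  rw [he2] at hdθ
  have hθ1 : θ ≠ χ₁ := fun h => D.disj χ₁ hχ₁ (h ▸ hθ)
  have hθ2 : θ ≠ χ₂ := fun h => D.disj χ₂ hχ₂ (h ▸ hθ)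
  have hdeg1 : ∀ χ : IrrCharacter G, χ ≠ oneIrr G → 2 ≤ deg χ := by
    intro χ hχ
    have := deg_pos χ
    by_contra h
    apply hχ
    exact eq_oneIrr_of_deg_one hperf χ (by omega)
  have hone : oneIrr G ∈ X ∨ oneIrr G ∈ Y := (D.mem_iff _).mp (oneIrr_mem_principalBlock hM)
  -- non-divisibility by 3
  have hn1 : ¬ 3 ∣ deg χ₁ := by
    unfold Int.ModEq at hd1
    rcases hs1 with h | h <;> rw [h] at hd1 <;> omega
  have hn2 : ¬ 3 ∣ deg χ₂ := by
    unfold Int.ModEq at hd2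
    rcases hs2 with h | h <;> rw [h] at hd2 <;> omega
  have hnθ : ¬ 3 ∣ deg θ := by
    unfold Int.ModEq at hdθ
    rcases hs with h | h <;> rw [h] at hdθ <;> omega
  have hpos1 := deg_pos χ₁
  have hpos2 := deg_pos χ₂
  have hposθ := deg_pos θ
  rcases hone with hone | hone
  · rw [hX] at hone
    simp only [Finset.mem_insert, Finset.mem_singleton] at hone
    rcases hone with hone | hone
    · -- χ₁ trivial
      have e1 : deg χ₁ = 1 := by rw [← hone]; exact deg_oneIrr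
      have e2 : 2 ≤ deg χ₂ := hdeg1 χ₂ (by rw [hone]; exact h12.symm)
      have e3 : 2 ≤ deg θ := hdeg1 θ (by rw [hone]; exact hθ1)
      rw [e1] at hrel
      have : deg χ₂ + 1 = deg θ ∨ deg θ + 1 = deg χ₂ := by
        rcases hs1 with a | a <;> rcases hs2 with b | b <;> rcases hs with c | c <;>
          rw [a, b, c] at hrel <;> omega
      rcases this with h | h
      · exact ⟨χ₂, θ, hn2, hnθ, e2, h⟩
      · exact ⟨θ, χ₂, hnθ, hn2, e3, h⟩
    · -- χ₂ trivial
      have e1 : deg χ₂ = 1 := by rw [← hone]; exact deg_oneIrr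
      have e2 : 2 ≤ deg χ₁ := hdeg1 χ₁ (by rw [hone]; exact h12)
      have e3 : 2 ≤ deg θ := hdeg1 θ (by rw [hone]; exact hθ2)
      rw [e1] at hrel
      have : deg χ₁ + 1 = deg θ ∨ deg θ + 1 = deg χ₁ := by
        rcases hs1 with a | a <;> rcases hs2 with b | b <;> rcases hs with c | c <;>
          rw [a, b, c] at hrel <;> omega
      rcases this with h | h
      · exact ⟨χ₁, θ, hn1, hnθ, e2, h⟩
      · exact ⟨θ, χ₁, hnθ, hn1, e3, h⟩
  · -- θ trivial
    rw [hY, Finset.mem_singleton] at hone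
    have e1 : deg θ = 1 := by rw [← hone]; exact deg_oneIrr
    have e2 : 2 ≤ deg χ₁ := hdeg1 χ₁ (by rw [hone]; exact hθ1.symm)
    have e3 : 2 ≤ deg χ₂ := hdeg1 χ₂ (by rw [hone]; exact hθ2.symm)
    rw [e1] at hrel
    have : deg χ₁ + 1 = deg χ₂ ∨ deg χ₂ + 1 = deg χ₁ := by
      rcases hs1 with a | a <;> rcases hs2 with b | b <;> rcases hs with c | c <;>
        rw [a, b, c] at hrel <;> omega
    rcases this with h | h
    · exact ⟨χ₁, χ₂, hn1, hn2, e2, h⟩
    · exact ⟨χ₂, χ₁, hn2, hn1, e3, h⟩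

/-- S4501, case (3B2): there is no nonabelian simple group of order `3 p^2 2^b`, `p ≥ 5` prime. -/
theorem case_3B2 {G : Type*} [Group G] [Finite G] [IsSimpleGroup G]
    (hna : ∃ x y : G, x * y ≠ y * x) (p b : ℕ) (hp : p.Prime) (hp5 : 5 ≤ p)
    (hG : Nat.card G = 3 * p ^ 2 * 2 ^ b) : False := by
  classical
  have : Fintype G := Fintype.ofFinite G
  haveI : Fact (Nat.Prime 3) := ⟨Nat.prime_three⟩
  haveI : Fact p.Prime := ⟨hp⟩
  have h3p : ¬ 3 ∣ p ^ 2 * 2 ^ b := by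
    intro h
    rcases (Nat.Prime.dvd_mul Nat.prime_three).mp h with h | h
    · have := (Nat.prime_dvd_prime_iff_eq Nat.prime_three hp).mp (Nat.prime_three.dvd_of_dvd_pow h)
      omega
    · have := (Nat.prime_dvd_prime_iff_eq Nat.prime_three Nat.prime_two).mp
        (Nat.prime_three.dvd_of_dvd_pow h)
      omega
  have hp32 : ¬ p ∣ 3 * 2 ^ b := by
    intro h
    rcases (Nat.Prime.dvd_mul hp).mp h with h | h
    · have := (Nat.prime_dvd_prime_iff_eq hp Nat.prime_three).mp h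
      omega
    · have := (Nat.prime_dvd_prime_iff_eq hp Nat.prime_two).mp (hp.dvd_of_dvd_pow h)
      omega
  have hm0 : p ^ 2 * 2 ^ b ≠ 0 := by positivity
  have hm0' : 3 * 2 ^ b ≠ 0 := by positivity
  have hfac3 : (Nat.card G).factorization 3 = 1 := by
    rw [hG, mul_assoc]
    have := fac_aux (k := 1) Nat.prime_three h3p hm0
    rwa [pow_one] at this
  have hfacp : (Nat.card G).factorization p = 2 := by
    have e : 3 * p ^ 2 * 2 ^ b = p ^ 2 * (3 * 2 ^ b) := by ring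
    rw [hG, e]
    exact fac_aux hp hp32 hm0'
  -- Sylow 3
  obtain ⟨P⟩ : Nonempty (Sylow 3 G) := inferInstance
  have hP : Nat.card P = 3 := by
    have := Sylow.card_eq_multiplicity P
    rw [hfac3, pow_one] at this
    exact this
  obtain ⟨ψ₁, ψ₂, hn1, hn2, h2, hcons⟩ := exists_consecutive hna P hP
  have hdvd : ∀ ψ : IrrCharacter G, ¬ 3 ∣ deg ψ → deg ψ ∣ p ^ 2 * 2 ^ b := by
    intro ψ hψ
    have h1 : deg ψ ∣ 3 * (p ^ 2 * 2 ^ b) := by
      rw [← mul_assoc, ← hG]; exact deg_dvd ψ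
    have hcop : Nat.Coprime (deg ψ) 3 :=
      ((Nat.Prime.coprime_iff_not_dvd Nat.prime_three).mpr hψ).symm
    exact hcop.dvd_of_dvd_mul_left h1
  have hd1 := hdvd ψ₁ hn1
  have hd2 := hdvd ψ₂ hn2
  rw [← hcons] at hd2
  -- Sylow p
  obtain ⟨S⟩ : Nonempty (Sylow p G) := inferInstance
  have hS : Nat.card S = p ^ 2 := by
    have := Sylow.card_eq_multiplicity S
    rw [hfacp] at this
    exact this
  have hab : ∀ x ∈ (S : Subgroup G), ∀ y ∈ (S : Subgroup G), x * y = y * x := by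
    intro x hx y hy
    have hS' : Nat.card (S : Subgroup G) = p ^ 2 := hS
    have := IsPGroup.commutative_of_card_eq_prime_sq hS' ⟨x, hx⟩ ⟨y, hy⟩
    exact congrArg Subtype.val this
  have hfin : ∀ ψ : IrrCharacter G, deg ψ = p → False := by
    intro ψ hψ
    have hdeg : (ψ : G → ℂ) 1 = ((p ^ 1 : ℕ) : ℂ) := by
      rw [apply_one ψ, hψ, pow_one]
    have := ScA.exp_le_of_abelian_sylow hna p 1 2 hp le_rfl ψ.2 hdeg S hS hab
    omega
  rcases consec_arith hp hp5 h2 hd1 hd2 with h | h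
  · exact hfin ψ₁ h
  · exact hfin ψ₂ (by rw [← hcons]; exact h)

end Cfsg.Agent.Lib.Helper6.ScB
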