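import Mathlib
import Cfsg.Agent.S0143
import Cfsg.Agent.Lib.Helper6.PB1
import Cfsg.Agent.Lib.Helper6.ABGSimple
import Cfsg.Agent.Lib.Helper6.CenterIndex
import Cfsg.Agent.Lib.Helper6.Multiplicity
import Cfsg.Agent.Lib.Helper6.Constituent

/-!
# S4501, case (4B1) with `p = 5`: group-theoretic pieces
-/

set_option autoImplicit false
set_option linter.unusedSectionVars false
set_option linter.unusedVariables false
set_option linter.style.longLine false
set_option maxHeartbeats 1600000

namespace Cfsg.Agent.Lib.Helper6.ScC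

open Cfsg Cfsg.Agent.Lib.Helper6
open scoped ComplexConjugate

/-- `2 ^ o ≡ 1 (mod 5)` forces `4 ∣ o` -/
theorem four_dvd_of_two_pow {o : ℕ} (h : 2 ^ o % 5 = 1) : 4 ∣ o := by
  have ho : o = 4 * (o / 4) + o % 4 := (Nat.div_add_mod o 4).symm
  have hr : o % 4 < 4 := Nat.mod_lt _ (by norm_num)
  have h16 : (2 ^ 4) ^ (o / 4) % 5 = 1 := by
    rw [Nat.pow_mod]
    norm_num
  have h2 : 2 ^ o % 5 = 2 ^ (o % 4) % 5 := by
    conv_lhs => rw [ho, pow_add, pow_mul, Nat.mul_mod, h16, one_mul, Nat.mod_mod]
  rw [h2] at h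
  rcases (by omega : o % 4 = 0 ∨ o % 4 = 1 ∨ o % 4 = 2 ∨ o % 4 = 3) with h0 | h0 | h0 | h0
  · exact Nat.dvd_of_mod_eq_zero h0
  · rw [h0] at h; norm_num at h
  · rw [h0] at h; norm_num at h
  · rw [h0] at h; norm_num at h

/-- If the normalizer of a Sylow `5`-subgroup of order `5` induces all four automorphisms, then the
group has an element of order `4`. -/
theorem exists_orderOf_four {G : Type*} [Group G] [Finite G] (P : Sylow 5 G)
    (hP : Nat.card P = 5)
    (he : (Subgroup.centralizer ((P : Subgroup G) : Set G)).relIndex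
      (Subgroup.normalizer ((P : Subgroup G) : Set G)) = 4) :
    ∃ h : G, orderOf h = 4 := by
  classical
  have : Fact (Nat.Prime 5) := ⟨by norm_num⟩
  obtain ⟨x, hPx, hxo⟩ := PB.exists_gen P hP
  have hx : x ∈ (P : Subgroup G) := by rw [hPx]; exact Subgroup.mem_zpowers x
  have hx1 : x ≠ 1 := by
    intro h; rw [h, orderOf_one] at hxo; omega
  set N := Subgroup.normalizer ((P : Subgroup G) : Set G) with hN
  let _ : MulAction N G := MulAction.compHom G ((MulAut.conj : G →* MulAut G).comp N.subtype)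
  have hsmul : ∀ (n : N) (g : G), n • g = (n : G) * g * (n : G)⁻¹ := by
    intro n g
    rfl
  -- the stabilizer of `x` is the centralizer
  have hstab : MulAction.stabilizer N x
      = (Subgroup.centralizer ((P : Subgroup G) : Set G)).subgroupOf N := by
    ext n
    rw [MulAction.mem_stabilizer_iff, Subgroup.mem_subgroupOf, hsmul,
      ← PB.centralizer_singleton_eq P hP hx hx1, Subgroup.mem_centralizer_singleton_iff]
    constructor
    · intro h
      calc (n : G) * x = ((n : G) * x * (n : G)⁻¹) * (n : G) := by group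
        _ = x * (n : G) := by rw [h]
    · intro h
      rw [h]; group
  have hidx := MulAction.index_stabilizer N x
  rw [hstab] at hidx
  have hcard : (MulAction.orbit N x).ncard = 4 := by
    rw [← hidx]; exact he
  -- the orbit lies in `P \ {1}`
  have hsub : MulAction.orbit N x ⊆ ((P : Subgroup G) : Set G) \ {1} := by
    intro y hy
    obtain ⟨n, rfl⟩ := MulAction.mem_orbit_iff.mp hy
    rw [hsmul]
    refine ⟨PB.conj_mem_P P n.2 hx, ?_⟩
    intro h
    rw [Set.mem_singleton_iff] at h
    apply hx1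
    have : x = (n : G)⁻¹ * ((n : G) * x * (n : G)⁻¹) * (n : G) := by group
    rw [this, h]; group
  have hPc : (((P : Subgroup G) : Set G) \ {1}).ncard = 4 := by
    rw [Set.ncard_sdiff_singleton_of_mem (Subgroup.one_mem _)]
    have : (((P : Subgroup G) : Set G)).ncard = 5 := by
      rw [← Nat.card_coe_set_eq]; exact hP
    rw [this]
  have heq : MulAction.orbit N x = ((P : Subgroup G) : Set G) \ {1} :=
    Set.eq_of_subset_of_ncard_le hsub (by rw [hPc, hcard]) (Set.toFinite _)
  have hx2 : x ^ 2 ∈ MulAction.orbit N x := by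
    rw [heq]
    refine ⟨Subgroup.pow_mem _ hx 2, ?_⟩
    intro h
    rw [Set.mem_singleton_iff] at h
    have := orderOf_dvd_of_pow_eq_one h
    rw [hxo] at this
    omega
  obtain ⟨n, hn⟩ := MulAction.mem_orbit_iff.mp hx2
  rw [hsmul] at hn
  set g : G := (n : G) with hg
  have hpow : ∀ k : ℕ, g ^ k * x * (g ^ k)⁻¹ = x ^ (2 ^ k) := by
    intro k
    induction k with
    | zero => simp
    | succ k ih =>
      have : g ^ (k + 1) * x * (g ^ (k + 1))⁻¹ = g * (g ^ k * x * (g ^ k)⁻¹) * g⁻¹ := by
        rw [pow_succ']; group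
      rw [this, ih, ← conj_pow, hn, ← pow_mul, pow_succ']
  have ho := hpow (orderOf g)
  rw [pow_orderOf_eq_one, one_mul, inv_one, mul_one] at ho
  have hmod : 2 ^ orderOf g ≡ 1 [MOD orderOf x] := by
    apply pow_eq_pow_iff_modEq.mp
    rw [pow_one]; exact ho.symm
  rw [hxo] at hmod
  have h4 : 4 ∣ orderOf g := four_dvd_of_two_pow (by
    have : 2 ^ orderOf g % 5 = 1 % 5 := hmod
    simpa using this)
  have hpos : 0 < orderOf g := orderOf_pos g
  obtain ⟨m, hm⟩ := h4
  have hm0 : m ≠ 0 := by
    rintro rfl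
    omega
  refine ⟨g ^ m, ?_⟩
  rw [orderOf_pow_of_dvd hm0 ⟨4, by rw [hm]; ring⟩, hm]
  exact Nat.mul_div_cancel _ (Nat.pos_of_ne_zero hm0)

/-- A nonabelian simple group whose Sylow `2`-subgroups have order `4` has no element of order
`4`. -/
theorem no_orderOf_four {G : Type*} [Group G] [Finite G] [IsSimpleGroup G]
    (hna : ∃ x y : G, x * y ≠ y * x) (hfac : (Nat.card G).factorization 2 = 2) (h : G)
    (hh : orderOf h = 4) : False := by
  have : Fact (Nat.Prime 2) := ⟨Nat.prime_two⟩
  have hcard : Nat.card (Subgroup.zpowers h) = 2 ^ (Nat.card G).factorization 2 := by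
    rw [Nat.card_zpowers, hh, hfac]
    norm_num
  set Q : Sylow 2 G := Sylow.ofCard (Subgroup.zpowers h) hcard with hQ
  have hQc : IsCyclic (Q : Subgroup G) := by
    rw [hQ, Sylow.coe_ofCard]
    infer_instance
  have heven : 2 ∣ Nat.card G := by
    have h1 : 2 ^ (Nat.card G).factorization 2 ∣ Nat.card G := Nat.ordProj_dvd _ _
    rw [hfac] at h1
    exact (dvd_pow_self 2 (by norm_num)).trans h1
  obtain ⟨H, hH⟩ := ABG.exists_index_two_of_cyclic_sylow Q hQc heven
  have hn : H.Normal := Subgroup.normal_of_index_eq_two hH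
  rcases IsSimpleGroup.eq_bot_or_eq_top_of_normal H hn with h0 | h0
  · rw [h0, Subgroup.index_bot] at hH
    rw [hH] at hfac
    have := Nat.Prime.factorization_self Nat.prime_two
    omega
  · rw [h0, Subgroup.index_top] at hH
    omega

/-- a character all of whose irreducible constituents on `R` are linear and which is faithful:
`R` is abelian -/
theorem comm_of_linear_constituents {G : Type*} [Group G] [Finite G] {χ : G → ℂ}
    (hχ : IsCharacter G χ) (hfaith : ∀ g : G, χ g = χ 1 → g = 1) (R : Subgroup G)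
    [Fintype R]
    (hlin : ∀ lam : IrrCharacter R, classInner (fun r : R => χ r) (lam : R → ℂ) ≠ 0 →
      charDegree (lam : R → ℂ) = 1) :
    ∀ a ∈ R, ∀ b ∈ R, a * b = b * a := by
  classical
  intro a ha b hb
  have : Fintype (IrrCharacter R) := Fintype.ofFinite _
  have hχR : IsCharacter R (fun r : R => χ r) := IsCharacter.restrict R hχ
  obtain ⟨m, hm, hmi⟩ := IsCharacter.exists_mult hχR
  have hw : a * b * a⁻¹ * b⁻¹ ∈ R :=
    R.mul_mem (R.mul_mem (R.mul_mem ha hb) (R.inv_mem ha)) (R.inv_mem hb)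
  have key : ∀ lam : IrrCharacter R, m lam ≠ 0 →
      (lam : R → ℂ) ⟨_, hw⟩ = (lam : R → ℂ) 1 := by
    intro lam hlam
    have hj := hlin lam (by rw [hmi]; exact_mod_cast hlam)
    have hl1 : (lam : R → ℂ) 1 = 1 := by
      rw [IsCharacter.apply_one_eq_charDegree (IsIrrCharacter.isCharacter lam.2), hj]; simp
    have e : (⟨_, hw⟩ : R) = ⟨a, ha⟩ * ⟨b, hb⟩ * (⟨a, ha⟩ : R)⁻¹ * (⟨b, hb⟩ : R)⁻¹ := rfl
    rw [e, IsCharacter.apply_commutator_of_apply_one_eq_one
      (IsIrrCharacter.isCharacter lam.2) hl1, hl1]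
  have e1 := congrFun hm ⟨_, hw⟩
  have e2 := congrFun hm 1
  simp only [Finset.sum_apply, Pi.smul_apply] at e1 e2
  have e3 : χ (a * b * a⁻¹ * b⁻¹) = χ 1 := by
    change χ ((⟨_, hw⟩ : R) : G) = χ ((1 : R) : G)
    rw [e1, e2]
    apply Finset.sum_congr rfl
    intro lam _
    by_cases hl : m lam = 0
    · simp [hl]
    · rw [key lam hl]
  have h4 := hfaith _ e3
  calc a * b = (a * b * a⁻¹ * b⁻¹) * (b * a) := by group
    _ = b * a := by rw [h4, one_mul]

/-- In a nonabelian simple group with an irreducible character of prime degree `r`, the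
`r`-subgroups are abelian. -/
theorem comm_of_degree_prime {G : Type*} [Group G] [Finite G] [IsSimpleGroup G]
    (hna : ∃ x y : G, x * y ≠ y * x) (r : ℕ) [hr : Fact r.Prime] {χ : G → ℂ}
    (hχ : IsIrrCharacter G χ) (hdeg : χ 1 = (r : ℂ)) (hfaith : ∀ g : G, χ g = χ 1 → g = 1)
    (R : Subgroup G) (hR : IsPGroup r R) :
    ∀ a ∈ R, ∀ b ∈ R, a * b = b * a := by
  classical
  have : Fintype G := Fintype.ofFinite G
  have : Fintype R := Fintype.ofFinite _
  have : Fintype (IrrCharacter R) := Fintype.ofFinite _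
  have hχc := IsIrrCharacter.isCharacter hχ
  have hχR : IsCharacter R (fun r : R => χ r) := IsCharacter.restrict R hχc
  have hdegχ : charDegree χ = r := by
    have := IsCharacter.apply_one_eq_charDegree hχc
    rw [hdeg] at this
    exact_mod_cast this.symm
  have hdegR : charDegree (fun r : R => χ r) = charDegree χ := by
    unfold charDegree; rfl
  apply comm_of_linear_constituents hχc hfaith R
  intro lam hlam
  have h1 : charDegree (lam : R → ℂ) ≤ r := by
    rw [← hdegχ, ← hdegR]
    exact IsCharacter.charDegree_le hχR lam.2 hlam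
  have h2 : charDegree (lam : R → ℂ) ∣ Nat.card R := IsIrrCharacter.charDegree_dvd_card lam.2
  obtain ⟨k, hk⟩ := IsPGroup.iff_card.1 hR
  rw [hk] at h2
  obtain ⟨j, _, hj⟩ := (Nat.dvd_prime_pow hr.out).1 h2
  by_cases hj0 : j = 0
  · rw [hj0, pow_zero] at hj; exact hj
  exfalso
  -- the constituent has degree `r`, so the restriction is irreducible
  have hjr : charDegree (lam : R → ℂ) = r := by
    have : r ≤ r ^ j := Nat.le_self_pow hj0 r
    omega
  obtain ⟨m, hm, hmi⟩ := IsCharacter.exists_mult hχR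
  have hmlam : m lam ≠ 0 := by
    intro h0
    apply hlam
    rw [hmi, h0]; simp
  -- evaluate at 1
  have e2 := congrFun hm 1
  simp only [Finset.sum_apply, Pi.smul_apply] at e2
  have e3 : (r : ℂ) = ∑ μ : IrrCharacter R, ((m μ * charDegree (μ : R → ℂ) : ℕ) : ℂ) := by
    have : χ ((1 : R) : G) = (r : ℂ) := by rw [Subgroup.coe_one, hdeg]
    rw [← this, e2]
    apply Finset.sum_congr rfl
    intro μ _
    rw [IsCharacter.apply_one_eq_charDegree (IsIrrCharacter.isCharacter μ.2)]
    push_cast
    rw [nsmul_eq_mul]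
  have e4 : r = ∑ μ : IrrCharacter R, m μ * charDegree (μ : R → ℂ) := by
    have : (r : ℂ) = ((∑ μ : IrrCharacter R, m μ * charDegree (μ : R → ℂ) : ℕ) : ℂ) := by
      rw [e3]; push_cast; rfl
    exact_mod_cast this
  have e5 : ∑ μ : IrrCharacter R, m μ * charDegree (μ : R → ℂ)
      = m lam * charDegree (lam : R → ℂ)
        + ∑ μ ∈ Finset.univ.erase lam, m μ * charDegree (μ : R → ℂ) :=
    (Finset.add_sum_erase _ _ (Finset.mem_univ lam)).symm
  rw [e5, hjr] at e4
  have hrpos : 0 < r := hr.out.pos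
  have hm1 : m lam = 1 := by
    have h1 : 1 ≤ m lam := Nat.one_le_iff_ne_zero.mpr hmlam
    by_contra hne
    have h2 : 2 ≤ m lam := by omega
    have : 2 * r ≤ m lam * r := Nat.mul_le_mul_right r h2
    omega
  have hrest : ∑ μ ∈ Finset.univ.erase lam, m μ * charDegree (μ : R → ℂ) = 0 := by
    rw [hm1, one_mul] at e4
    omega
  have hzero : ∀ μ : IrrCharacter R, μ ≠ lam → m μ = 0 := by
    intro μ hμ
    have := (Finset.sum_eq_zero_iff.mp hrest) μ (Finset.mem_erase.mpr ⟨hμ, Finset.mem_univ _⟩)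
    rcases Nat.mul_eq_zero.mp this with h | h
    · exact h
    · exact absurd h (IsIrrCharacter.charDegree_pos μ.2).ne'
  have hres : ∀ x : R, χ x = (lam : R → ℂ) x := by
    intro x
    have e1 := congrFun hm x
    simp only [Finset.sum_apply, Pi.smul_apply] at e1
    rw [e1, Finset.sum_eq_single lam]
    · rw [hm1, one_smul]
    · intro μ _ hμ
      rw [hzero μ hμ, zero_smul]
    · intro h; exact absurd (Finset.mem_univ _) h
  -- a nontrivial central element of `R`
  have hRnt : Nontrivial R := by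
    rw [← Finite.one_lt_card_iff_nontrivial]
    have hd : r ∣ Nat.card R := by
      have := IsIrrCharacter.charDegree_dvd_card lam.2
      rwa [hjr] at this
    have := Nat.le_of_dvd Nat.card_pos hd
    have := hr.out.two_le
    omega
  have hRp : IsPGroup r R := hR
  have := IsPGroup.center_nontrivial hRp
  obtain ⟨⟨z, hz⟩, hz1⟩ := exists_ne (1 : Subgroup.center R)
  have hz1' : z ≠ 1 := by
    intro h
    apply hz1
    exact Subtype.ext h
  obtain ⟨n, ρR, hirrR, hcharR⟩ := lam.2
  have := hirrR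
  obtain ⟨c, hc, hcc⟩ := exists_scalar_of_mem_center ρR hz
  have hnormR : ‖ρR.character z‖ = (Module.finrank ℂ (Fin n → ℂ) : ℝ) :=
    (norm_character_eq_iff ρR z).mpr ⟨c, hc⟩
  have hnr : n = r := by
    have h1 : (lam : R → ℂ) 1 = (r : ℂ) := by
      rw [IsCharacter.apply_one_eq_charDegree (IsIrrCharacter.isCharacter lam.2), hjr]
    rw [← hcharR, Representation.char_one] at h1
    simp only [Module.finrank_fin_fun] at h1
    exact_mod_cast h1
  obtain ⟨n', ρ, hirr, hchar⟩ := hχ
  have := hirr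
  have hn'r : n' = r := by
    rw [← hchar, Representation.char_one] at hdeg
    simp only [Module.finrank_fin_fun] at hdeg
    exact_mod_cast hdeg
  have hnorm : ‖ρ.character (z : G)‖ = (Module.finrank ℂ (Fin n' → ℂ) : ℝ) := by
    rw [hchar, hres z, ← hcharR, hnormR]
    simp only [Module.finrank_fin_fun]
    rw [hnr, hn'r]
  obtain ⟨ω, hω⟩ := (norm_character_eq_iff ρ (z : G)).mp hnorm
  obtain ⟨x, y, hxy⟩ := hna
  apply hxy
  have hzG : (z : G) ≠ 1 := by
    intro h
    apply hz1'
    exact Subtype.ext h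
  refine Cfsg.Agent.S0143.comm_of_scalar (z : G) hzG ρ ?_ ω hω x y
  intro h1
  have h2 := congrFun h1 1
  rw [Representation.char_one] at h2
  simp only [Module.finrank_fin_fun] at h2
  have h3 : n' = 1 := by exact_mod_cast h2
  have := hr.out.two_le
  omega

end Cfsg.Agent.Lib.Helper6.ScC
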