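import Mathlib
import Cfsg.Agent.Lib.Helper6.BF4
import Cfsg.Agent.Lib.Helper7.Bt4
import Cfsg.Agent.Lib.Helper7.BReyH
import Cfsg.Agent.Lib.Helper8.Sc2
import Cfsg.Agent.Lib.Helper6.ScA
import Cfsg.Agent.Lib.Helper6.ScC

/-!
# S4501, case (4B1) with `p = 5`: a simple group of order `20 * 3 ^ b` has `b = 1`
-/

set_option autoImplicit false
set_option linter.unusedSectionVars false
set_option linter.unusedVariables false
set_option linter.style.longLine false
set_option maxHeartbeats 1600000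

namespace Cfsg.Agent.Lib.Helper6.ScD

open Cfsg Cfsg.Agent.Lib.Helper6 Cfsg.Agent.Lib.Helper7.Bt Cfsg.Agent.Lib.Helper6.BF
open scoped ComplexConjugate

/-- a divisor of `4 * 3 ^ b` is `2 ^ i * 3 ^ j` with `i ≤ 2` -/
theorem dvd_form3 {b d : ℕ} (h : d ∣ 4 * 3 ^ b) :
    ∃ i j : ℕ, i ≤ 2 ∧ j ≤ b ∧ d = 2 ^ i * 3 ^ j := by
  have h4 : (4 : ℕ) = 2 ^ 2 := by norm_num
  rw [h4] at h
  obtain ⟨k1, k2, h1, h2, h3⟩ := Nat.dvd_mul.mp h
  obtain ⟨i, hi, rfl⟩ := (Nat.dvd_prime_pow Nat.prime_two).mp h1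
  obtain ⟨j, hj, rfl⟩ := (Nat.dvd_prime_pow Nat.prime_three).mp h2
  exact ⟨i, j, hi, hj, h3.symm⟩

/-- consecutive divisors `d, d + 1 ≥ 2` of `4 * 3 ^ b` -/
theorem consec_arith3 {b d : ℕ} (hd : 2 ≤ d) (h1 : d ∣ 4 * 3 ^ b) (h2 : d + 1 ∣ 4 * 3 ^ b) :
    d = 2 ∨ d = 3 := by
  obtain ⟨i, j, hi, hj, hdij⟩ := dvd_form3 h1
  obtain ⟨i', j', hi', hj', hdij'⟩ := dvd_form3 h2
  have hn3 : j = 0 ∨ j' = 0 := by
    by_contra hcon
    push Not at hcon
    have e1 : 3 ∣ d := by
      rw [hdij]; exact Dvd.dvd.mul_left (dvd_pow_self 3 hcon.1) _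
    have e2 : 3 ∣ d + 1 := by
      rw [hdij']; exact Dvd.dvd.mul_left (dvd_pow_self 3 hcon.2) _
    omega
  have hn2 : i = 0 ∨ i' = 0 := by
    by_contra hcon
    push Not at hcon
    have e1 : 2 ∣ d := by
      rw [hdij]; exact Dvd.dvd.mul_right (dvd_pow_self 2 hcon.1) _
    have e2 : 2 ∣ d + 1 := by
      rw [hdij']; exact Dvd.dvd.mul_right (dvd_pow_self 2 hcon.2) _
    omega
  rcases hn3 with rfl | rfl
  · -- `d = 2 ^ i`
    rw [pow_zero, mul_one] at hdij
    have : i = 0 ∨ i = 1 ∨ i = 2 := by omega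
    rcases this with rfl | rfl | rfl
    · rw [pow_zero] at hdij; omega
    · left; rw [hdij]; norm_num
    · exfalso
      have hd4 : d = 4 := by rw [hdij]; norm_num
      have hi'0 : i' = 0 := by
        rcases hn2 with h | h
        · omega
        · exact h
      rw [hi'0, pow_zero, one_mul, hd4] at hdij'
      have : j' = 0 ∨ j' = 1 ∨ 2 ≤ j' := by omega
      rcases this with rfl | rfl | h
      · norm_num at hdij'
      · norm_num at hdij'
      · have : 3 ^ 2 ≤ 3 ^ j' := Nat.pow_le_pow_right (by norm_num) h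
        omega
  · -- `d + 1 = 2 ^ i'`
    rw [pow_zero, mul_one] at hdij'
    have : i' = 0 ∨ i' = 1 ∨ i' = 2 := by omega
    rcases this with rfl | rfl | rfl
    · rw [pow_zero] at hdij'; omega
    · rw [pow_one] at hdij'; omega
    · right
      have : d + 1 = 4 := by rw [hdij']; norm_num
      omega

/-- a nonabelian simple group of order `20 * 3 ^ b` has an irreducible character of degree `3` -/
theorem exists_deg_three {G : Type*} [Group G] [Finite G] [IsSimpleGroup G]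
    (hna : ∃ x y : G, x * y ≠ y * x) (b : ℕ) (hG : Nat.card G = 20 * 3 ^ b) :
    ∃ θ : IrrCharacter G, deg θ = 3 := by
  classical
  have : Fintype G := Fintype.ofFinite G
  haveI : Fact (Nat.Prime 5) := ⟨by norm_num⟩
  have h5 : ¬ 5 ∣ 4 * 3 ^ b := by
    intro h
    rcases (Nat.Prime.dvd_mul (by norm_num : Nat.Prime 5)).mp h with h | h
    · omega
    · have := (Nat.prime_dvd_prime_iff_eq (by norm_num : Nat.Prime 5) Nat.prime_three).mp
        ((by norm_num : Nat.Prime 5).dvd_of_dvd_pow h)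
      omega
  have h2 : ¬ 2 ∣ 5 * 3 ^ b := by
    intro h
    rcases (Nat.Prime.dvd_mul Nat.prime_two).mp h with h | h
    · omega
    · have := (Nat.prime_dvd_prime_iff_eq Nat.prime_two Nat.prime_three).mp
        (Nat.prime_two.dvd_of_dvd_pow h)
      omega
  have hfac5 : (Nat.card G).factorization 5 = 1 := by
    have e : 20 * 3 ^ b = 5 ^ 1 * (4 * 3 ^ b) := by ring
    rw [hG, e]
    exact fac_aux (by norm_num) h5 (by positivity)
  have hfac2 : (Nat.card G).factorization 2 = 2 := by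
    have e : 20 * 3 ^ b = 2 ^ 2 * (5 * 3 ^ b) := by ring
    rw [hG, e]
    exact fac_aux Nat.prime_two h2 (by positivity)
  obtain ⟨P⟩ : Nonempty (Sylow 5 G) := inferInstance
  have hP : Nat.card P = 5 := by
    have := Sylow.card_eq_multiplicity P
    rw [hfac5, pow_one] at this
    exact this
  obtain ⟨M, hM⟩ := exists_isPModular 5
  obtain ⟨X, Y, εX, ε, D⟩ := exists_qdata 5 (by norm_num) M hM P hP
  have hperf : commutator G = ⊤ := perfect_of_simple hna
  have h5dvd : 5 ∣ Nat.card G := by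
    rw [hG]; exact ⟨4 * 3 ^ b, by ring⟩
  have hcore : ∀ K : Subgroup G, K.Normal → (Nat.card K).Coprime 5 → K = ⊥ := by
    intro K hK hcop
    rcases IsSimpleGroup.eq_bot_or_eq_top_of_normal K hK with h | h
    · exact h
    · exfalso
      rw [h, Subgroup.card_top] at hcop
      have := Nat.dvd_gcd h5dvd (dvd_refl 5)
      rw [hcop] at this
      omega
  have hJe := (PB.prin P hM).card_J_mul_e hP hM
  rw [PB.prin_e P hM] at hJe
  set e := (Subgroup.centralizer ((P : Subgroup G) : Set G)).relIndex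
    (Subgroup.normalizer ((P : Subgroup G) : Set G)) with he
  have hedvd : e ∣ 4 := ⟨Nat.card (PB.prin P hM).J, by rw [mul_comm]; omega⟩
  have he2 : e = 2 := by
    have hle := Nat.le_of_dvd (by norm_num) hedvd
    have h0 : e ≠ 0 := by
      rintro h
      rw [h] at hedvd
      omega
    have h1 : e ≠ 1 := by
      intro h
      exact not_N_le_C hperf P hP hcore (Subgroup.relIndex_eq_one.mp h)
    have h4 : e ≠ 4 := by
      intro h
      obtain ⟨g, hg⟩ := ScC.exists_orderOf_four P hP h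
      exact ScC.no_orderOf_four hna hfac2 g hg
    have h3 : e ≠ 3 := by
      intro h
      rw [h] at hedvd
      omega
    omega
  have hXc : X.card = 2 := by rw [D.cardX, he2]
  have hYc : Y.card = 2 := by rw [D.cardY, he2]
  obtain ⟨χ₁, χ₂, h12, hX⟩ := Finset.card_eq_two.mp hXc
  obtain ⟨θ₁, θ₂, hθ12, hY⟩ := Finset.card_eq_two.mp hYc
  have hχ₁ : χ₁ ∈ X := by rw [hX]; simp
  have hχ₂ : χ₂ ∈ X := by rw [hX]; simp
  have hθ₁ : θ₁ ∈ Y := by rw [hY]; simp
  have hθ₂ : θ₂ ∈ Y := by rw [hY]; simp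
  have hrel := D.rel_deg hθ₁
  rw [hX, Finset.sum_pair h12] at hrel
  have hs1 := D.signX χ₁ hχ₁
  have hs2 := D.signX χ₂ hχ₂
  have hs := D.sign
  have hd1 := D.degX χ₁ hχ₁
  have hd2 := D.degX χ₂ hχ₂
  have hdθ := D.degY θ₁ hθ₁
  have hdθ' := D.degY θ₂ hθ₂
  rw [he2] at hdθ hdθ'
  have hdegne : ∀ χ : IrrCharacter G, χ ≠ oneIrr G → 2 ≤ deg χ := by
    intro χ hχ
    have := deg_pos χ
    by_contra h
    apply hχ
    exact eq_oneIrr_of_deg_one hperf χ (by omega)
  have hone : oneIrr G ∈ X ∨ oneIrr G ∈ Y := (D.mem_iff _).mp (oneIrr_mem_principalBlock hM)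
  have hdvd : ∀ χ : IrrCharacter G, ¬ 5 ∣ deg χ → deg χ ∣ 4 * 3 ^ b := by
    intro χ hχ
    have h1 : deg χ ∣ 5 * (4 * 3 ^ b) := by
      have e : 5 * (4 * 3 ^ b) = 20 * 3 ^ b := by ring
      rw [e, ← hG]; exact deg_dvd χ
    have hcop : Nat.Coprime (deg χ) 5 :=
      ((Nat.Prime.coprime_iff_not_dvd (by norm_num : Nat.Prime 5)).mpr hχ).symm
    exact hcop.dvd_of_dvd_mul_left h1
  have hθ1ne : θ₁ ≠ oneIrr G := by
    intro h
    rw [h] at hdθ
    unfold Int.ModEq at hdθ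
    rw [deg_oneIrr] at hdθ
    rcases hs with c | c <;> rw [c] at hdθ <;> omega
  have hθ2ne : θ₂ ≠ oneIrr G := by
    intro h
    rw [h] at hdθ'
    unfold Int.ModEq at hdθ'
    rw [deg_oneIrr] at hdθ'
    rcases hs with c | c <;> rw [c] at hdθ' <;> omega
  have hoX : oneIrr G ∈ X := by
    rcases hone with h | h
    · exact h
    · exfalso
      rw [hY] at h
      simp only [Finset.mem_insert, Finset.mem_singleton] at h
      rcases h with h | h
      · exact hθ1ne h.symm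
      · exact hθ2ne h.symm
  have hn5θ : ¬ 5 ∣ deg θ₁ := by
    unfold Int.ModEq at hdθ
    rcases hs with c | c <;> rw [c] at hdθ <;> omega
  have e3 : 2 ≤ deg θ₁ := hdegne θ₁ hθ1ne
  have hθdvd := hdvd θ₁ hn5θ
  -- the generic step
  have main : ∀ (χ χ' : IrrCharacter G), χ = oneIrr G → χ' ≠ oneIrr G →
      (εX χ = 1 ∨ εX χ = -1) → (εX χ' = 1 ∨ εX χ' = -1) →
      (deg χ : ℤ) ≡ εX χ [ZMOD ((5 : ℕ) : ℤ)] → (deg χ' : ℤ) ≡ εX χ' [ZMOD ((5 : ℕ) : ℤ)] →
      εX χ * (deg χ : ℤ) + εX χ' * (deg χ' : ℤ) = ε * (deg θ₁ : ℤ) → deg θ₁ = 3 := by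
    intro χ χ' hχ hχ' s s' c c' hr
    have e1 : deg χ = 1 := by rw [hχ]; exact deg_oneIrr
    have e2 : 2 ≤ deg χ' := hdegne χ' hχ'
    rw [e1] at hr c
    unfold Int.ModEq at c c' hdθ
    have hn5 : ¬ 5 ∣ deg χ' := by
      rcases s' with a | a <;> rw [a] at c' <;> omega
    have hχdvd := hdvd χ' hn5
    have hcons : deg χ' + 1 = deg θ₁ ∨ deg θ₁ + 1 = deg χ' := by
      rcases s with a | a <;> rcases s' with a' | a' <;> rcases hs with a'' | a'' <;>
        rw [a, a', a''] at hr <;> rw [a] at c <;> omega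
    rcases hcons with hc | hc
    · exfalso
      rw [← hc] at hθdvd
      rcases consec_arith3 e2 hχdvd hθdvd with h | h <;>
        rcases s' with a | a <;> rw [a, h] at c' <;> omega
    · rw [← hc] at hχdvd
      rcases consec_arith3 e3 hθdvd hχdvd with h | h
      · exfalso
        have : deg χ' = 3 := by omega
        rcases s' with a | a <;> rw [a, this] at c' <;> omega
      · exact h
  rw [hX] at hoX
  simp only [Finset.mem_insert, Finset.mem_singleton] at hoX
  rcases hoX with ho | ho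
  · exact ⟨θ₁, main χ₁ χ₂ ho.symm (by rw [ho]; exact h12.symm) hs1 hs2 hd1 hd2 hrel⟩
  · refine ⟨θ₁, main χ₂ χ₁ ho.symm (by rw [ho]; exact h12) hs2 hs1 hd2 hd1 ?_⟩
    rw [add_comm]; exact hrel

/-- S4501, case (4B1) with `p = 5`: a nonabelian simple group of order `20 * 3 ^ b` has `b = 1`. -/
theorem case_4B1_five {G : Type*} [Group G] [Finite G] [IsSimpleGroup G]
    (hna : ∃ x y : G, x * y ≠ y * x) (b : ℕ) (hG : Nat.card G = 20 * 3 ^ b) : b = 1 := by
  classical
  have : Fintype G := Fintype.ofFinite G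
  haveI : Fact (Nat.Prime 3) := ⟨Nat.prime_three⟩
  obtain ⟨θ, hθ⟩ := exists_deg_three hna b hG
  have hne : θ ≠ oneIrr G := by
    intro h
    rw [h, deg_oneIrr] at hθ
    omega
  have hfaith := Cfsg.Agent.Lib.Helper7.BReyH.faithful_of_simple θ hne
  have hdeg : (θ : G → ℂ) 1 = ((3 : ℕ) : ℂ) := by rw [apply_one θ, hθ]
  have h3 : ¬ 3 ∣ 20 := by omega
  have hfac3 : (Nat.card G).factorization 3 = b := by
    have e : 20 * 3 ^ b = 3 ^ b * 20 := by ring
    rw [hG, e]
    exact fac_aux Nat.prime_three h3 (by norm_num)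
  obtain ⟨T⟩ : Nonempty (Sylow 3 G) := inferInstance
  have hT : Nat.card T = 3 ^ b := by
    have := Sylow.card_eq_multiplicity T
    rw [hfac3] at this
    exact this
  have hab := ScC.comm_of_degree_prime hna 3 θ.2 hdeg hfaith (T : Subgroup G) T.isPGroup'
  have hdeg' : (θ : G → ℂ) 1 = ((3 ^ 1 : ℕ) : ℂ) := by rw [hdeg, pow_one]
  have hle := ScA.exp_le_of_abelian_sylow hna 3 1 b Nat.prime_three le_rfl θ.2 hdeg' T hT hab
  have hb0 : b ≠ 0 := by
    rintro rfl
    rw [pow_zero, mul_one] at hG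
    have := Cfsg.Agent.Lib.Helper8.Sc.small_order hna (by rw [hG]; norm_num)
    rw [hG] at this
    omega
  omega

end Cfsg.Agent.Lib.Helper6.ScD
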