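import Mathlib
import Cfsg.Prelude.Def_Characters
import Cfsg.Agent.Lib.Helper3.GallagherDecomp
import Cfsg.Agent.Lib.Helper3.GaloisFix
import Cfsg.Agent.Lib.Helper6.OddOrder
import Cfsg.Agent.Lib.Helper6.BlkReal
import Cfsg.Agent.Lib.Helper6.GaloisPerm
import Cfsg.Agent.Lib.Helper6.Auto

set_option autoImplicit false
set_option linter.unusedSectionVars false

/-!
# Characters fixed by the Galois automorphism inverting odd roots of unity

`SigData G k e` packages the hypotheses on the exponent `k`: coprime to `|G|`, of `2`-power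
multiplicative order modulo `|G|`, inverting the elements of odd order.  The main result of
this file: if `N ⊴ G` has odd index and the `σ`-fixed `θ ∈ Irr(N)` extends to `G`, then it
has a unique `σ`-fixed extension, which is the only `σ`-fixed irreducible character over `θ`.
-/

namespace Cfsg.Agent.Lib.Helper6.SigFix

open Cfsg Cfsg.Agent.Lib.Helper6 Cfsg.Agent.Lib.Helper3
open scoped ComplexConjugate

/-- hypotheses on the exponent `k` defining the Galois automorphism -/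
structure SigData (G : Type*) [Group G] (k e : ℕ) : Prop where
  cop : Nat.Coprime k (Nat.card G)
  pow : k ^ (2 ^ e) ≡ 1 [MOD Nat.card G]
  inv : ∀ g : G, Odd (orderOf g) → g ^ k = g⁻¹

theorem SigData.subgroup {G : Type*} [Group G] [Finite G] {k e : ℕ} (h : SigData G k e)
    (H : Subgroup G) : SigData H k e where
  cop := Nat.Coprime.coprime_dvd_right (Subgroup.card_subgroup_dvd_card H) h.cop
  pow := Nat.ModEq.of_dvd (Subgroup.card_subgroup_dvd_card H) h.pow
  inv := by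
    intro g hg
    apply Subtype.ext
    rw [Subgroup.coe_pow, Subgroup.coe_inv]
    apply h.inv
    rwa [Subgroup.orderOf_coe]

/-- in a quotient of odd order the `k`-th power map is inversion -/
theorem SigData.quotient_pow {G : Type*} [Group G] [Finite G] {k e : ℕ} (h : SigData G k e)
    (N : Subgroup G) [N.Normal] (hodd : Odd N.index) (q : G ⧸ N) : q ^ k = q⁻¹ := by
  obtain ⟨g, rfl⟩ := QuotientGroup.mk_surjective q
  have hn : orderOf g ≠ 0 := (orderOf_pos g).ne'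
  obtain ⟨s, r, hr, hsr⟩ := Nat.exists_eq_two_pow_mul_odd hn
  have hu : (g ^ (2 ^ s)) ^ r = 1 := by
    rw [← pow_mul, ← hsr, pow_orderOf_eq_one]
  have hodd_u : Odd (orderOf (g ^ (2 ^ s))) := Odd.of_dvd_nat hr (orderOf_dvd_of_pow_eq_one hu)
  have h1 := h.inv _ hodd_u
  have h2 : g ^ (2 ^ s * (k + 1)) = 1 := by
    rw [pow_mul, pow_succ, h1, inv_mul_cancel]
  have h3 : (QuotientGroup.mk g : G ⧸ N) ^ (2 ^ s * (k + 1)) = 1 := by
    rw [← QuotientGroup.mk_pow, h2, QuotientGroup.mk_one]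
  have h4 : orderOf (QuotientGroup.mk g : G ⧸ N) ∣ 2 ^ s * (k + 1) := orderOf_dvd_of_pow_eq_one h3
  have h5 : orderOf (QuotientGroup.mk g : G ⧸ N) ∣ N.index := by
    rw [Subgroup.index_eq_card]
    exact orderOf_dvd_natCard _
  have h6 : Nat.Coprime (orderOf (QuotientGroup.mk g : G ⧸ N)) (2 ^ s) := by
    apply Nat.Coprime.pow_right
    have : Odd (orderOf (QuotientGroup.mk g : G ⧸ N)) := Odd.of_dvd_nat hodd h5
    exact Nat.Coprime.symm (Nat.coprime_two_left.mpr this)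
  have h7 : orderOf (QuotientGroup.mk g : G ⧸ N) ∣ k + 1 := h6.dvd_of_dvd_mul_left h4
  have h8 : (QuotientGroup.mk g : G ⧸ N) ^ (k + 1) = 1 := orderOf_dvd_iff_pow_eq_one.mp h7
  rw [pow_succ] at h8
  exact eq_inv_of_mul_eq_one_left h8

section fixedext

variable {G : Type*} [Group G] [Fintype G] (N : Subgroup G) [hN : N.Normal] [Fintype N]

/-- the set of linear characters of a group of odd order has odd cardinality -/
theorem odd_card_linear {H : Type*} [Group H] [Fintype H] (hodd : Odd (Nat.card H)) :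
    ¬ 2 ∣ Nat.card {β : Cfsg.IrrCharacter H // (β : H → ℂ) 1 = 1} := by
  classical
  have : Fintype (Cfsg.IrrCharacter H) := Fintype.ofFinite _
  let L := {β : Cfsg.IrrCharacter H // (β : H → ℂ) 1 = 1}
  have : Fintype L := Fintype.ofFinite _
  let F : Function.End L := fun β => ⟨cjIrr β.1, by
    change conj ((β.1 : H → ℂ) 1) = 1
    rw [β.2, map_one]⟩
  have hF : F ^ 2 ^ 1 = 1 := by
    funext β
    apply Subtype.ext
    change cjIrr (cjIrr β.1) = β.1
    exact cjIrr_cjIrr _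
  have h1 := Equiv.Perm.card_fixedPoints_modEq (p := 2) hF
  have htriv : Cfsg.IsIrrCharacter H (fun _ => (1 : ℂ)) := isIrrCharacter_one
  let β₁ : L := ⟨⟨fun _ => 1, htriv⟩, rfl⟩
  have hfix : ∀ β : L, F β = β → β = β₁ := by
    intro β hβ
    apply Subtype.ext
    apply Subtype.ext
    have h2 : ∀ g : H, ((β.1 : H → ℂ) g).im = 0 := by
      intro g
      have h3 := congrArg (fun x : L => (x.1 : H → ℂ) g) hβ
      change conj ((β.1 : H → ℂ) g) = (β.1 : H → ℂ) g at h3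
      exact Complex.conj_eq_iff_im.mp h3
    exact eq_one_of_real_of_odd hodd _ β.1.2 h2
  have hcard : Fintype.card (Function.fixedPoints F) = 1 := by
    rw [Fintype.card_eq_one_iff]
    refine ⟨⟨β₁, ?_⟩, ?_⟩
    · change F β₁ = β₁
      apply Subtype.ext
      apply Subtype.ext
      funext g
      change conj (1 : ℂ) = 1
      exact map_one _
    · rintro ⟨β, hβ⟩
      apply Subtype.ext
      exact hfix β hβ
  rw [hcard, Fintype.card_eq_nat_card] at h1
  intro h2
  have h3 : Nat.card L % 2 = 0 := Nat.mod_eq_zero_of_dvd h2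
  have h4 : Nat.card L % 2 = 1 % 2 := h1
  omega

end fixedext

section fixedext2

variable {G : Type*} [Group G] [Fintype G] (N : Subgroup G) [hN : N.Normal] [Fintype N]

/-- **Claim F.** If the `σ`-fixed `θ ∈ Irr(N)` extends to `G` and `|G : N|` is odd, then `θ` has
a `σ`-fixed extension, which is the only `σ`-fixed irreducible character of `G` over `θ`. -/
theorem sigma_fixed_extension (hodd : Odd N.index) {k e : ℕ} (hs : SigData G k e)
    (θ : N → ℂ) (hθ : Cfsg.IsIrrCharacter N θ) (hθk : ∀ n : N, θ (n ^ k) = θ n)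
    (χ₀ : G → ℂ) (hχ₀ : Cfsg.IsIrrCharacter G χ₀) (hext : ∀ n : N, χ₀ n = θ n) :
    ∃ χ : G → ℂ, Cfsg.IsIrrCharacter G χ ∧ (∀ n : N, χ n = θ n) ∧ (∀ g, χ (g ^ k) = χ g) ∧
      ∀ χ' : G → ℂ, Cfsg.IsIrrCharacter G χ' →
        Cfsg.classInner (fun n : N => χ' n) θ ≠ 0 → (∀ g, χ' (g ^ k) = χ' g) → χ' = χ := by
  classical
  have : Fintype (G ⧸ N) := Fintype.ofFinite _
  have : Fintype (Cfsg.IrrCharacter (G ⧸ N)) := Fintype.ofFinite _
  have : Fintype (Cfsg.IrrCharacter G) := Fintype.ofFinite _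
  have hoddQ : Odd (Nat.card (G ⧸ N)) := by rwa [← Subgroup.index_eq_card]
  have hχ₀N : Cfsg.IsIrrCharacter N (fun n : N => χ₀ n) := by
    have : (fun n : N => χ₀ n) = θ := funext hext
    rw [this]; exact hθ
  have hθθ : Cfsg.classInner θ θ = 1 := by
    rw [classInner_isIrrCharacter hθ hθ, if_pos rfl]
  -- the set of extensions
  let Ext : Set (Cfsg.IrrCharacter G) := {χ | ∀ n : N, (χ : G → ℂ) n = θ n}
  let L := {β : Cfsg.IrrCharacter (G ⧸ N) // (β : G ⧸ N → ℂ) 1 = 1}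
  have hmk1 : ∀ n : N, (QuotientGroup.mk (n : G) : G ⧸ N) = 1 :=
    fun n => (QuotientGroup.eq_one_iff (n : G)).mpr n.2
  let Φ : L → Ext := fun β => ⟨⟨(fun t : G => (β.1 : G ⧸ N → ℂ) (QuotientGroup.mk t)) * χ₀,
      GallagherDecomp.isIrrCharacter_infl_mul N hχ₀ hχ₀N β.1⟩, by
    intro n
    change (β.1 : G ⧸ N → ℂ) (QuotientGroup.mk (n : G)) * χ₀ n = θ n
    rw [hmk1, β.2, one_mul, hext]⟩
  have hΦinj : Function.Injective Φ := by
    intro β β' h
    have h1 : (fun t : G => (β.1 : G ⧸ N → ℂ) (QuotientGroup.mk t)) * χ₀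
        = (fun t : G => (β'.1 : G ⧸ N → ℂ) (QuotientGroup.mk t)) * χ₀ :=
      congrArg (fun x : Ext => (x.1 : G → ℂ)) h
    have h2 := GallagherDecomp.mul_infl_injective N hχ₀ hχ₀N _ _ h1
    exact Subtype.ext (Subtype.ext h2)
  have hover_of_ext : ∀ χ : G → ℂ, (∀ n : N, χ n = θ n) →
      Cfsg.classInner (fun n : N => χ n) (fun n : N => χ₀ n) ≠ 0 := by
    intro χ hχ
    have e1 : (fun n : N => χ n) = θ := funext hχ
    have e2 : (fun n : N => χ₀ n) = θ := funext hext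
    rw [e1, e2, hθθ]
    exact one_ne_zero
  have hχ₀1 : χ₀ 1 ≠ 0 := IsIrrCharacter.apply_one_ne_zero hχ₀
  have hΦsurj : Function.Surjective Φ := by
    rintro ⟨χ, hχ⟩
    obtain ⟨β, hβ⟩ := GallagherDecomp.exists_infl_of_over N hχ₀ hχ₀N χ.2 (hover_of_ext _ hχ)
    have hβ1 : (β : G ⧸ N → ℂ) 1 = 1 := by
      have h1 := congrFun hβ 1
      change (χ : G → ℂ) 1 = (β : G ⧸ N → ℂ) (QuotientGroup.mk (1 : G)) * χ₀ 1 at h1
      have h2 : (χ : G → ℂ) 1 = χ₀ 1 := by
        have := hχ 1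
        have h3 := hext 1
        rw [Subgroup.coe_one] at this h3
        rw [this, h3]
      rw [h2, QuotientGroup.mk_one] at h1
      have h4 : ((β : G ⧸ N → ℂ) 1 - 1) * χ₀ 1 = 0 := by
        rw [sub_mul, one_mul, ← h1, sub_self]
      rcases mul_eq_zero.mp h4 with h5 | h5
      · exact sub_eq_zero.mp h5
      · exact absurd h5 hχ₀1
    refine ⟨⟨β, hβ1⟩, ?_⟩
    apply Subtype.ext
    apply Subtype.ext
    exact hβ.symm
  have hcard : Nat.card Ext = Nat.card L :=
    (Nat.card_congr (Equiv.ofBijective Φ ⟨hΦinj, hΦsurj⟩)).symm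
  have hoddExt : ¬ 2 ∣ Nat.card Ext := by
    rw [hcard]
    exact odd_card_linear hoddQ
  have hstab : ∀ χ ∈ Ext, powIrr k hs.cop χ ∈ Ext := by
    intro χ hχ n
    rw [powIrr_apply]
    have h1 := hχ (n ^ k)
    rw [Subgroup.coe_pow] at h1
    rw [h1, hθk]
  obtain ⟨χ₁, hχ₁E, hχ₁fix⟩ := GaloisFix.exists_powIrr_fixed 2 k e hs.cop hs.pow Ext hstab hoddExt
  have hχ₁k : ∀ g, (χ₁ : G → ℂ) (g ^ k) = (χ₁ : G → ℂ) g := by
    intro g
    have := congrArg (fun x : Cfsg.IrrCharacter G => (x : G → ℂ) g) hχ₁fix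
    exact this
  have hχ₁N : Cfsg.IsIrrCharacter N (fun n : N => (χ₁ : G → ℂ) n) := by
    have : (fun n : N => (χ₁ : G → ℂ) n) = θ := funext hχ₁E
    rw [this]; exact hθ
  refine ⟨χ₁, χ₁.2, hχ₁E, hχ₁k, ?_⟩
  intro χ' hχ' hover hχ'k
  have hover' : Cfsg.classInner (fun n : N => χ' n) (fun n : N => (χ₁ : G → ℂ) n) ≠ 0 := by
    have : (fun n : N => (χ₁ : G → ℂ) n) = θ := funext hχ₁E
    rw [this]; exact hover
  obtain ⟨β, hβ⟩ := GallagherDecomp.exists_infl_of_over N χ₁.2 hχ₁N hχ' hover'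
  -- `β` is real
  have hβk : (fun q : G ⧸ N => (β : G ⧸ N → ℂ) (q ^ k)) = (β : G ⧸ N → ℂ) := by
    apply GallagherDecomp.mul_infl_injective N χ₁.2 hχ₁N
    funext g
    change (β : G ⧸ N → ℂ) ((QuotientGroup.mk g : G ⧸ N) ^ k) * (χ₁ : G → ℂ) g
      = (β : G ⧸ N → ℂ) (QuotientGroup.mk g) * (χ₁ : G → ℂ) g
    have h1 := congrFun hβ (g ^ k)
    have h2 := congrFun hβ g
    change χ' (g ^ k) = (β : G ⧸ N → ℂ) (QuotientGroup.mk (g ^ k)) * (χ₁ : G → ℂ) (g ^ k) at h1
    change χ' g = (β : G ⧸ N → ℂ) (QuotientGroup.mk g) * (χ₁ : G → ℂ) g at h2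
    rw [hχ'k, hχ₁k, QuotientGroup.mk_pow] at h1
    rw [← h1, h2]
  have hβreal : ∀ q : G ⧸ N, ((β : G ⧸ N → ℂ) q).im = 0 := by
    intro q
    have h1 := congrFun hβk q
    change (β : G ⧸ N → ℂ) (q ^ k) = (β : G ⧸ N → ℂ) q at h1
    rw [hs.quotient_pow N hodd q, IsCharacter.apply_inv (IsIrrCharacter.isCharacter β.2)] at h1
    exact Complex.conj_eq_iff_im.mp h1
  have hβ1 := eq_one_of_real_of_odd hoddQ _ β.2 hβreal
  rw [hβ, hβ1]
  funext g
  change (1 : ℂ) * (χ₁ : G → ℂ) g = (χ₁ : G → ℂ) g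
  rw [one_mul]

end fixedext2

end Cfsg.Agent.Lib.Helper6.SigFix
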