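import Mathlib
import Cfsg.Prelude.Def_Characters
import Cfsg.Agent.Lib.Helper6.SigFix1
import Cfsg.Agent.Lib.Helper6.Ramified
import Cfsg.Agent.Lib.Helper6.BlkCover3
import Cfsg.Agent.Lib.Helper6.CharMisc
import Cfsg.Agent.Lib.Helper3.GoingDown2
import Cfsg.Agent.Lib.Helper3.CharTriple3
import Cfsg.Agent.Lib.Helper3.SolvIndex
import Cfsg.Agent.S0888

set_option autoImplicit false
set_option linter.unusedSectionVars false

/-!
# Extension of `σ`-fixed invariant characters over normal subgroups of odd index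
-/

namespace Cfsg.Agent.Lib.Helper6.SigFix

open Cfsg Cfsg.Agent.Lib.Helper6 Cfsg.Agent.Lib.Helper3
open scoped ComplexConjugate

universe u

/-- if `χ_N = e φ` with `χ`, `φ` irreducible then `e² ≤ |G : N|` -/
theorem sq_le_index_of_restrict {G : Type*} [Group G] [Fintype G] (N : Subgroup G) [Fintype N]
    {χ : G → ℂ} (hχ : Cfsg.IsIrrCharacter G χ) {φ : N → ℂ} (hφ : Cfsg.IsIrrCharacter N φ)
    (e : ℕ) (h : (fun n : N => χ n) = (e : ℂ) • φ) : e ^ 2 ≤ N.index := by
  classical
  have h1 := sum_norm_sq_split N hχ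
  have hφφ : ∑ n : N, φ n * conj (φ n) = (Nat.card N : ℂ) := by
    have h2 := classInner_isIrrCharacter hφ hφ
    rw [if_pos rfl] at h2
    unfold Cfsg.classInner at h2
    have hN0 := card_ne_zero_complex N
    field_simp at h2
    rw [h2]
  have h3 : ∑ n : N, χ n * conj (χ n) = ((e ^ 2 * Nat.card N : ℕ) : ℂ) := by
    have h4 : ∀ n : N, χ n * conj (χ n) = (e : ℂ) ^ 2 * (φ n * conj (φ n)) := by
      intro n
      have := congrFun h n
      simp only [Pi.smul_apply, smul_eq_mul] at this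
      rw [this, map_mul, Complex.conj_natCast]
      ring
    rw [Finset.sum_congr rfl (fun n _ => h4 n), ← Finset.mul_sum, hφφ]
    push_cast
    ring
  have h5 : ∑ g ∈ Finset.univ.filter (fun g : G => g ∉ N), χ g * conj (χ g)
      = ((∑ g ∈ Finset.univ.filter (fun g : G => g ∉ N), Complex.normSq (χ g) : ℝ) : ℂ) := by
    push_cast
    apply Finset.sum_congr rfl
    intro g _
    exact Complex.mul_conj _
  rw [h3, h5] at h1
  have h6 : ((e ^ 2 * Nat.card N : ℕ) : ℝ)
      + (∑ g ∈ Finset.univ.filter (fun g : G => g ∉ N), Complex.normSq (χ g)) = (Nat.card G : ℝ) := by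
    apply Complex.ofReal_injective
    push_cast
    push_cast at h1
    exact h1
  have h7 : (0 : ℝ) ≤ ∑ g ∈ Finset.univ.filter (fun g : G => g ∉ N), Complex.normSq (χ g) :=
    Finset.sum_nonneg (fun g _ => Complex.normSq_nonneg _)
  have h8 : ((e ^ 2 * Nat.card N : ℕ) : ℝ) ≤ (Nat.card G : ℝ) := by linarith
  have h9 : e ^ 2 * Nat.card N ≤ Nat.card G := by exact_mod_cast h8
  rw [← Subgroup.index_mul_card N] at h9
  exact Nat.le_of_mul_le_mul_right h9 Nat.card_pos

/-- transport of the hypotheses to an intermediate subgroup: induction step interface -/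
theorem exists_extension_sub (k e : ℕ) (m : ℕ)
    (ih : ∀ m' < m, ∀ (G : Type u) [Group G] [Fintype G] (N : Subgroup G) [hN : N.Normal]
      [Fintype N], N.index = m' → Odd N.index → SigData G k e →
      ∀ θ : N → ℂ, Cfsg.IsIrrCharacter N θ →
      (∀ (g : G) (n : N), θ ⟨g * n * g⁻¹, hN.conj_mem (n : G) n.2 g⟩ = θ n) →
      (∀ n : N, θ (n ^ k) = θ n) →
      ∃ χ₀ : G → ℂ, Cfsg.IsIrrCharacter G χ₀ ∧ ∀ n : N, χ₀ n = θ n)
    {G : Type u} [Group G] [Fintype G] (N : Subgroup G) [hN : N.Normal] [Fintype N]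
    (hidx : N.index = m) (hodd : Odd N.index) (hs : SigData G k e)
    (θ : N → ℂ) (hθ : Cfsg.IsIrrCharacter N θ)
    (hinv : ∀ (g : G) (n : N), θ ⟨g * n * g⁻¹, hN.conj_mem (n : G) n.2 g⟩ = θ n)
    (hθk : ∀ n : N, θ (n ^ k) = θ n)
    (P : Subgroup G) (hNP : N ≤ P) (hPtop : P ≠ ⊤) :
    ∃ η : P → ℂ, Cfsg.IsIrrCharacter P η ∧ ∀ n : N, η ⟨n, hNP n.2⟩ = θ n := by
  classical
  haveI : Fintype P := Fintype.ofFinite _
  haveI hK : (N.subgroupOf P).Normal := hN.subgroupOf P
  haveI : Fintype (N.subgroupOf P) := Fintype.ofFinite _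
  let ee : (N.subgroupOf P) ≃* N := Subgroup.subgroupOfEquivOfLe hNP
  have hee : ∀ x : N.subgroupOf P, ((ee x : N) : G) = ((x : P) : G) := fun x => rfl
  have h1 : N.relIndex P * P.index = N.index := Subgroup.relIndex_mul_index hNP
  have hlt : (N.subgroupOf P).index < m := by
    have h2 : P.index ≠ 1 := fun h => hPtop (Subgroup.index_eq_one.mp h)
    have h3 : P.index ≠ 0 := Subgroup.index_ne_zero_of_finite
    have h4 : N.relIndex P ≠ 0 := by
      intro h0
      rw [h0, zero_mul] at h1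
      exact (Subgroup.index_ne_zero_of_finite (H := N)) h1.symm
    change N.relIndex P < m
    rw [← hidx, ← h1]
    have h5 : 2 ≤ P.index := by omega
    nlinarith [Nat.pos_of_ne_zero h4]
  have hodd' : Odd (N.subgroupOf P).index := by
    apply Odd.of_dvd_nat hodd
    change N.relIndex P ∣ N.index
    exact Dvd.intro _ h1
  have hinv' : ∀ (g : P) (x : N.subgroupOf P),
      θ (ee ⟨g * x * g⁻¹, hK.conj_mem (x : P) x.2 g⟩) = θ (ee x) := by
    intro g x
    have h2 := hinv (g : G) (ee x)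
    rw [← h2]
    congr 1
  have hθk' : ∀ x : N.subgroupOf P, θ (ee (x ^ k)) = θ (ee x) := by
    intro x
    rw [map_pow, hθk]
  obtain ⟨η, hη, hηN⟩ := ih _ hlt P (N.subgroupOf P) rfl hodd' (hs.subgroup P)
    (fun x => θ (ee x)) (IsIrrCharacter.comp_mulEquiv ee hθ) hinv' hθk'
  refine ⟨η, hη, ?_⟩
  intro n
  have h2 := hηN (ee.symm n)
  rw [ee.apply_symm_apply] at h2
  rw [← h2]
  congr 1

end Cfsg.Agent.Lib.Helper6.SigFix
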