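import Mathlib
import Cfsg.Prelude.Def_Characters
import Cfsg.Agent.Lib.Helper6.SigFix2

set_option autoImplicit false
set_option linter.unusedSectionVars false

/-!
# Extension of `σ`-fixed invariant characters over normal subgroups of odd index (main)
-/

namespace Cfsg.Agent.Lib.Helper6.SigFix

open Cfsg Cfsg.Agent.Lib.Helper6 Cfsg.Agent.Lib.Helper3
open scoped ComplexConjugate

universe u

/-- the prime index step: an invariant `σ`-fixed... any irreducible character over an invariant
irreducible character of a normal subgroup of prime index restricts irreducibly -/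
theorem restrict_eq_of_prime_index {G : Type u} [Group G] [Fintype G] (M : Subgroup G)
    [hM : M.Normal] [Fintype M] {r : ℕ} (hr : r.Prime) (hMi : M.index = r)
    (ψ : M → ℂ) (hψ : Cfsg.IsIrrCharacter M ψ)
    (hinv : ∀ (g : G) (x : M), ψ ⟨g * x * g⁻¹, hM.conj_mem (x : G) x.2 g⟩ = ψ x)
    (χ : G → ℂ) (hχ : Cfsg.IsIrrCharacter G χ)
    (hc : Cfsg.classInner (fun x : M => χ x) ψ ≠ 0) : ∀ x : M, χ x = ψ x := by
  classical
  have hinv' : ∀ g : G, conjFun M hM ψ g = ψ := fun g => funext (fun x => hinv g x)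
  obtain ⟨e, he, -⟩ := GoingDown.exists_nat_smul_of_invariant M hM hχ hψ hinv' hc
  have hsq := sq_le_index_of_restrict M hχ hψ e he
  obtain ⟨e', he', hdvd⟩ := CharTriple.degree_ratio_dvd_index_of_invariant M χ hχ ψ hψ hinv hc
  have h1 : χ 1 = (e : ℂ) * ψ 1 := by
    have := congrFun he 1
    simpa using this
  rw [IsCharacter.apply_one_eq_charDegree (IsIrrCharacter.isCharacter hχ),
    IsCharacter.apply_one_eq_charDegree (IsIrrCharacter.isCharacter hψ)] at h1
  have h2 : Cfsg.charDegree χ = e * Cfsg.charDegree ψ := by exact_mod_cast h1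
  have hpos : 0 < Cfsg.charDegree ψ := IsIrrCharacter.charDegree_pos hψ
  have hee : e = e' := by
    rw [he'] at h2
    exact (Nat.eq_of_mul_eq_mul_right hpos h2).symm
  rw [hMi] at hdvd hsq
  have he1 : e = 1 := by
    rw [← hee] at hdvd
    rcases (Nat.dvd_prime hr).mp hdvd with h | h
    · exact h
    · exfalso
      rw [h] at hsq
      have := hr.two_le
      nlinarith
  intro x
  have := congrFun he x
  simp only [Pi.smul_apply, smul_eq_mul] at this
  rw [this, he1, Nat.cast_one, one_mul]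

/-- **Claim E.** A `σ`-fixed invariant irreducible character of a normal subgroup of odd index
extends. -/
theorem exists_extension (k e : ℕ) : ∀ (m : ℕ) (G : Type u) [Group G] [Fintype G]
    (N : Subgroup G) [hN : N.Normal] [Fintype N],
    N.index = m → Odd N.index → SigData G k e →
    ∀ θ : N → ℂ, Cfsg.IsIrrCharacter N θ →
    (∀ (g : G) (n : N), θ ⟨g * n * g⁻¹, hN.conj_mem (n : G) n.2 g⟩ = θ n) →
    (∀ n : N, θ (n ^ k) = θ n) →
    ∃ χ₀ : G → ℂ, Cfsg.IsIrrCharacter G χ₀ ∧ ∀ n : N, χ₀ n = θ n := by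
  intro m
  induction m using Nat.strong_induction_on with
  | _ m ih =>
  intro G _ _ N hN _ hidx hodd hs θ hθ hinv hθk
  classical
  have hsub := exists_extension_sub k e m ih N hidx hodd hs θ hθ hinv hθk
  by_cases htop : N = ⊤
  · -- trivial case
    have hmem : ∀ g : G, g ∈ N := fun g => htop ▸ Subgroup.mem_top g
    let α : G ≃* N :=
      { toFun := fun g => ⟨g, hmem g⟩
        invFun := fun n => n
        left_inv := fun g => rfl
        right_inv := fun n => rfl
        map_mul' := fun a b => rfl }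
    exact ⟨fun g => θ (α g), IsIrrCharacter.comp_mulEquiv α hθ, fun n => rfl⟩
  by_cases hp : ∃ p : ℕ, p.Prime ∧ IsPGroup p (G ⧸ N)
  · -- the quotient is a `p`-group
    obtain ⟨p, hpp, hpG⟩ := hp
    haveI : Fact p.Prime := ⟨hpp⟩
    haveI : Nontrivial (G ⧸ N) := by
      rw [← Finite.one_lt_card_iff_nontrivial, ← Subgroup.index_eq_card]
      have h1 : N.index ≠ 1 := fun h => htop (Subgroup.index_eq_one.mp h)
      have h2 : N.index ≠ 0 := Subgroup.index_ne_zero_of_finite
      omega
    haveI : Group.IsNilpotent (G ⧸ N) := hpG.isNilpotent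
    obtain ⟨r, Mbar, hr, hMn, hMidx⟩ :=
      SolvIndex.exists_normal_index_prime_of_solvable (Q := G ⧸ N)
    let M : Subgroup G := Mbar.comap (QuotientGroup.mk' N)
    haveI hM : M.Normal := hMn.comap _
    have hNM : N ≤ M := by
      intro x hx
      change QuotientGroup.mk' N x ∈ Mbar
      rw [QuotientGroup.mk'_apply, (QuotientGroup.eq_one_iff x).mpr hx]
      exact Mbar.one_mem
    have hMi : M.index = r := by
      rw [Subgroup.index_comap_of_surjective _ (QuotientGroup.mk'_surjective N)]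
      exact hMidx
    have hMtop : M ≠ ⊤ := by
      intro h
      rw [h, Subgroup.index_top] at hMi
      exact hr.one_lt.ne hMi
    obtain ⟨ψ₀, hψ₀, hψ₀N⟩ := hsub M hNM hMtop
    haveI : Fintype M := Fintype.ofFinite _
    haveI hK : (N.subgroupOf M).Normal := hN.subgroupOf M
    haveI : Fintype (N.subgroupOf M) := Fintype.ofFinite _
    let ee : (N.subgroupOf M) ≃* N := Subgroup.subgroupOfEquivOfLe hNM
    have hθ' : Cfsg.IsIrrCharacter (N.subgroupOf M) (fun x => θ (ee x)) :=
      IsIrrCharacter.comp_mulEquiv ee hθ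
    have hodd' : Odd (N.subgroupOf M).index := by
      apply Odd.of_dvd_nat hodd
      change N.relIndex M ∣ N.index
      exact Dvd.intro _ (Subgroup.relIndex_mul_index hNM)
    have hθk' : ∀ x : N.subgroupOf M, θ (ee (x ^ k)) = θ (ee x) := by
      intro x
      rw [map_pow, hθk]
    have hψ₀' : ∀ x : N.subgroupOf M, ψ₀ x = θ (ee x) := by
      intro x
      have := hψ₀N (ee x)
      rw [← this]
      congr 1
    obtain ⟨ψ₁, hψ₁, hψ₁N, hψ₁k, hψ₁u⟩ := sigma_fixed_extension (N.subgroupOf M) hodd'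
      (hs.subgroup M) (fun x => θ (ee x)) hθ' hθk' ψ₀ hψ₀ hψ₀'
    have hψ₁N' : ∀ n : N, ψ₁ ⟨n, hNM n.2⟩ = θ n := by
      intro n
      have h2 := hψ₁N (ee.symm n)
      rw [ee.apply_symm_apply] at h2
      rw [← h2]
      congr 1
    have hθθ' : Cfsg.classInner (fun x : N.subgroupOf M => θ (ee x)) (fun x => θ (ee x)) = 1 := by
      rw [classInner_isIrrCharacter hθ' hθ', if_pos rfl]
    -- `ψ₁` is `G`-invariant
    have hψ₁inv : ∀ (g : G) (x : M), ψ₁ ⟨g * x * g⁻¹, hM.conj_mem (x : G) x.2 g⟩ = ψ₁ x := by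
      intro g x
      have h3 : conjFun M hM ψ₁ g = ψ₁ := by
        apply hψ₁u _ (IsIrrCharacter.conjFun M hM hψ₁ g)
        · have h4 : (fun y : N.subgroupOf M => conjFun M hM ψ₁ g y) = fun y => θ (ee y) := by
            funext y
            rw [conjFun_apply]
            have h5 := hψ₁N' ⟨g * (ee y : N) * g⁻¹, hN.conj_mem _ (ee y).2 g⟩
            have h6 := hinv g (ee y)
            rw [← h6, ← h5]
            congr 1
          rw [h4, hθθ']
          exact one_ne_zero
        · intro y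
          rw [conjFun_apply, conjFun_apply]
          have h5 : (⟨g * ((y ^ k : M) : G) * g⁻¹, hM.conj_mem _ (y ^ k).2 g⟩ : M)
              = (⟨g * (y : G) * g⁻¹, hM.conj_mem _ y.2 g⟩ : M) ^ k := by
            apply Subtype.ext
            simp only [Subgroup.coe_pow, conj_pow]
          rw [h5, hψ₁k]
      have := congrFun h3 x
      rw [conjFun_apply] at this
      exact this
    obtain ⟨χ, hχ⟩ := exists_irr_over M ⟨ψ₁, hψ₁⟩
    have hres := restrict_eq_of_prime_index M hr hMi ψ₁ hψ₁ hψ₁inv χ χ.2 hχ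
    refine ⟨χ, χ.2, ?_⟩
    intro n
    have := hres ⟨n, hNM n.2⟩
    rw [hψ₁N'] at this
    exact this
  · -- general case: all Sylow preimages are proper
    push Not at hp
    apply Cfsg.Agent.S0888.result' N θ hθ hinv
    intro p hpp
    haveI : Fact p.Prime := ⟨hpp⟩
    let S : Sylow p (G ⧸ N) := default
    let P : Subgroup G := (S : Subgroup (G ⧸ N)).comap (QuotientGroup.mk' N)
    have hNP : N ≤ P := by
      intro x hx
      change QuotientGroup.mk' N x ∈ (S : Subgroup (G ⧸ N))
      rw [QuotientGroup.mk'_apply, (QuotientGroup.eq_one_iff x).mpr hx]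
      exact (S : Subgroup (G ⧸ N)).one_mem
    have hPi : P.index = (S : Subgroup (G ⧸ N)).index :=
      Subgroup.index_comap_of_surjective _ (QuotientGroup.mk'_surjective N)
    have hPtop : P ≠ ⊤ := by
      intro h
      apply hp p hpp
      have h1 : (S : Subgroup (G ⧸ N)) = ⊤ := by
        rw [← Subgroup.index_eq_one, ← hPi, h, Subgroup.index_top]
      have h2 := S.isPGroup'
      rw [h1] at h2
      exact h2.of_equiv Subgroup.topEquiv
    obtain ⟨η, hη, hηN⟩ := hsub P hNP hPtop
    refine ⟨P, hNP, η, ?_, ?_, hη, hηN⟩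
    · rw [hPi]
      exact (Nat.Prime.coprime_iff_not_dvd hpp).mpr S.not_dvd_index |>.symm
    · obtain ⟨j, hj⟩ := (IsPGroup.iff_card.mp S.isPGroup')
      refine ⟨j, ?_⟩
      have h1 : N.relIndex P * P.index = N.index := Subgroup.relIndex_mul_index hNP
      have h2 : Nat.card (S : Subgroup (G ⧸ N)) * (S : Subgroup (G ⧸ N)).index
          = Nat.card (G ⧸ N) := Subgroup.card_mul_index _
      rw [hPi, Subgroup.index_eq_card N, ← h2] at h1
      have h3 : (S : Subgroup (G ⧸ N)).index ≠ 0 := Subgroup.index_ne_zero_of_finite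
      have h4 := Nat.eq_of_mul_eq_mul_right (Nat.pos_of_ne_zero h3) h1
      rw [h4, hj]

/-- **Theorem X.** -/
theorem sigma_fixed_invariant {G : Type u} [Group G] [Fintype G] (N : Subgroup G)
    [hN : N.Normal] [Fintype N] (hodd : Odd N.index) {k e : ℕ} (hs : SigData G k e)
    (θ : N → ℂ) (hθ : Cfsg.IsIrrCharacter N θ)
    (hinv : ∀ (g : G) (n : N), θ ⟨g * n * g⁻¹, hN.conj_mem (n : G) n.2 g⟩ = θ n)
    (hθk : ∀ n : N, θ (n ^ k) = θ n) :
    ∃ χ : G → ℂ, Cfsg.IsIrrCharacter G χ ∧ (∀ n : N, χ n = θ n) ∧ (∀ g, χ (g ^ k) = χ g) ∧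
      ∀ χ' : G → ℂ, Cfsg.IsIrrCharacter G χ' →
        Cfsg.classInner (fun n : N => χ' n) θ ≠ 0 → (∀ g, χ' (g ^ k) = χ' g) → χ' = χ := by
  obtain ⟨χ₀, hχ₀, hext⟩ := exists_extension k e N.index G N rfl hodd hs θ hθ hinv hθk
  exact sigma_fixed_extension N hodd hs θ hθ hθk χ₀ hχ₀ hext

end Cfsg.Agent.Lib.Helper6.SigFix
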