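import Mathlib
import Cfsg.Prelude.Def_Blocks
import Cfsg.Agent.Lib.Helper6.SigFix3
import Cfsg.Agent.Lib.Helper6.BlkCenter
import Cfsg.Agent.Lib.Helper6.BlkInd
import Cfsg.Agent.Lib.Helper6.BlkPrincipal
import Cfsg.Agent.Lib.Helper6.BlkPrincipalQuot
import Cfsg.Agent.Lib.Helper6.BlkReal
import Cfsg.Agent.Lib.Helper6.BlkKer
import Cfsg.Agent.Lib.Helper6.BlkNormalP
import Cfsg.Agent.Lib.Helper6.CliffordDeg
import Cfsg.Agent.Lib.Helper6.OddOrder

set_option autoImplicit false
set_option linter.unusedSectionVars false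

/-!
# `σ`-fixed characters in the principal `2`-block over a normal subgroup of odd index

If `N ⊴ G` has odd index and the `σ`-fixed `θ ∈ Irr(N)` lies in the principal `2`-block of `N`,
then some `σ`-fixed irreducible character of `G` over `θ` lies in the principal `2`-block of `G`.
The proof evaluates the central characters of `θ` and `1_N` on the restriction to `N` of the
block idempotent of `B₀(G)` and counts modulo `2`.
-/

namespace Cfsg.Agent.Lib.Helper6.SigFix

open Cfsg Cfsg.Agent.Lib.Helper6 Cfsg.Agent.Lib.Helper3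
open scoped ComplexConjugate

section

variable {G : Type*} [Group G] [Fintype G] [DecidableEq G]
variable (N : Subgroup G) [Fintype N]

/-- the central character of `N` at `φ` on the restricted idempotent of a set of characters -/
theorem index_mul_cOmega_resMat_blockMat [Fintype (Cfsg.IrrCharacter G)]
    (B : Set (Cfsg.IrrCharacter G)) [DecidablePred (· ∈ B)] (φ : N → ℂ) (hφ : φ 1 ≠ 0) :
    (N.index : ℂ) * cOmega φ (resMat N (blockMat B)) * φ 1
      = ∑ χ ∈ Finset.univ.filter (· ∈ B),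
          (χ : G → ℂ) 1 * Cfsg.classInner φ (fun n : N => (χ : G → ℂ) n) := by
  have hN0 : (Nat.card N : ℂ) ≠ 0 := card_ne_zero_complex N
  have hG0 : (Nat.card G : ℂ) ≠ 0 := card_ne_zero_complex G
  have hidx : (N.index : ℂ) * (Nat.card N : ℂ) = (Nat.card G : ℂ) := by
    have := N.index_mul_card
    exact_mod_cast this
  unfold resMat
  rw [cOmega_regMat]
  have h1 : ∀ n : N, resFun N (fun g => blockMat B g 1) n
      = ∑ χ ∈ Finset.univ.filter (· ∈ B), idemFun (χ : G → ℂ) n := by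
    intro n
    change Cfsg.blockCoeff B ((n : G) * 1⁻¹) = _
    rw [inv_one, mul_one, blockCoeff_eq_sum]
  have h2 : ∑ n : N, resFun N (fun g => blockMat B g 1) n * φ n
      = ∑ χ ∈ Finset.univ.filter (· ∈ B), (Nat.card G : ℂ)⁻¹ * (Nat.card N : ℂ) *
          ((χ : G → ℂ) 1 * Cfsg.classInner φ (fun n : N => (χ : G → ℂ) n)) := by
    simp only [h1, Finset.sum_mul]
    rw [Finset.sum_comm]
    apply Finset.sum_congr rfl
    intro χ _
    have h3 : ∀ n : N, idemFun (χ : G → ℂ) n * φ n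
        = (Nat.card G : ℂ)⁻¹ * (χ : G → ℂ) 1 * (φ n * conj ((χ : G → ℂ) n)) := by
      intro n
      unfold idemFun
      ring
    rw [Finset.sum_congr rfl (fun n _ => h3 n), ← Finset.mul_sum]
    unfold Cfsg.classInner
    field_simp
  rw [h2, ← Finset.mul_sum, mul_assoc, div_mul_cancel₀ _ hφ, ← mul_assoc, ← mul_assoc,
    mul_comm (N.index : ℂ), mul_assoc _ (N.index : ℂ), hidx, inv_mul_cancel₀ hG0, one_mul]

end

section

variable {G : Type*} [Group G] [Fintype G] [DecidableEq G]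
variable (N : Subgroup G) [Fintype N]
variable {M : Ideal Cfsg.AlgInt}

/-- modulo `2`, only the principal character contributes to the sum of `χ(1)[χ_N, 1_N]` over the
principal `2`-block when `|G : N|` is odd -/
theorem sum_principal_over_one_sub_one (hM : Cfsg.IsPModular 2 M) [hN : N.Normal]
    (hidx : Odd N.index) [Fintype (Cfsg.IrrCharacter G)]
    [DecidablePred (· ∈ Cfsg.principalBlock M G)] :
    Cfsg.MemLocalIdeal M ((∑ χ ∈ Finset.univ.filter (· ∈ Cfsg.principalBlock M G),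
      (χ : G → ℂ) 1 * Cfsg.classInner (fun _ : N => (1 : ℂ)) (fun n : N => (χ : G → ℂ) n)) - 1) := by
  classical
  obtain ⟨f, hf⟩ : ∃ f : Cfsg.IrrCharacter G → ℂ, f = fun χ : Cfsg.IrrCharacter G =>
      (χ : G → ℂ) 1 * Cfsg.classInner (fun _ : N => (1 : ℂ)) (fun n : N => (χ : G → ℂ) n) :=
    ⟨_, rfl⟩
  have hfa : ∀ χ : Cfsg.IrrCharacter G, f χ
      = (χ : G → ℂ) 1 * Cfsg.classInner (fun _ : N => (1 : ℂ)) (fun n : N => (χ : G → ℂ) n) := by
    intro χ
    rw [hf]
  have hfnat : ∀ χ, ∃ n : ℕ, f χ = n := by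
    intro χ
    have hχc := IsIrrCharacter.isCharacter χ.2
    obtain ⟨a, ha⟩ := IsCharacter.classInner_nat (isCharacter_one (G := N))
      (IsCharacter.restrict N hχc)
    refine ⟨Cfsg.charDegree (χ : G → ℂ) * a, ?_⟩
    rw [hfa, ha, IsCharacter.apply_one_eq_charDegree hχc]
    push_cast
    rfl
  have hfcj : ∀ χ, f (cjIrr χ) = f χ := by
    intro χ
    obtain ⟨n, hn⟩ := hfnat χ
    have h1 : f (cjIrr χ) = conj (f χ) := by
      rw [hfa, hfa]
      change conj ((χ : G → ℂ) 1) * Cfsg.classInner (fun _ : N => (1 : ℂ))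
          (fun n : N => conj ((χ : G → ℂ) n))
        = conj ((χ : G → ℂ) 1 * Cfsg.classInner (fun _ : N => (1 : ℂ))
          (fun n : N => (χ : G → ℂ) n))
      rw [map_mul, ← classInner_conj_conj]
      simp only [map_one]
    rw [h1, hn, Complex.conj_natCast]
  have hsum : ∑ χ ∈ Finset.univ.filter (· ∈ Cfsg.principalBlock M G),
      (χ : G → ℂ) 1 * Cfsg.classInner (fun _ : N => (1 : ℂ)) (fun n : N => (χ : G → ℂ) n)
      = ∑ χ ∈ Finset.univ.filter (· ∈ Cfsg.principalBlock M G), f χ := by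
    apply Finset.sum_congr rfl
    intro χ _
    rw [hfa]
  rw [hsum, ← Finset.sum_filter_ne_zero]
  have h11 : Cfsg.classInner (fun _ : N => (1 : ℂ)) (fun _ : N => (1 : ℂ)) = 1 := by
    rw [classInner_isIrrCharacter isIrrCharacter_one isIrrCharacter_one, if_pos rfl]
  have hf1 : f (oneIrr G) = 1 := by
    rw [hfa]
    change (1 : ℂ) * Cfsg.classInner (fun _ : N => (1 : ℂ)) (fun _ : N => (1 : ℂ)) = 1
    rw [h11, one_mul]
  have hmem1 : oneIrr G ∈ (Finset.univ.filter (· ∈ Cfsg.principalBlock M G)).filter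
      (fun χ => f χ ≠ 0) := by
    rw [Finset.mem_filter, Finset.mem_filter]
    refine ⟨⟨Finset.mem_univ _, ?_⟩, ?_⟩
    · exact sameBlock_refl hM _
    · rw [hf1]
      exact one_ne_zero
  rw [← Finset.add_sum_erase _ f hmem1, hf1, add_sub_cancel_left]
  have hodd : Odd (Nat.card (G ⧸ N)) := by
    rw [← Subgroup.index_eq_card]
    exact hidx
  -- a real member with nonzero term is principal
  have hreal : ∀ a : Cfsg.IrrCharacter G, f a ≠ 0 → cjIrr a = a → a = oneIrr G := by
    intro a ha hcj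
    have hc : Cfsg.classInner (fun n : N => (a : G → ℂ) n) (fun _ : N => (1 : ℂ)) ≠ 0 := by
      intro h0
      apply ha
      rw [hfa, ← classInner_conj_symm, h0, map_zero, mul_zero]
    have hconst := const_of_classInner_restrict_one_ne_zero (N := N) a.2 hc
    obtain ⟨β, hβ⟩ := IsIrrCharacter.exists_deflation N a hconst
    haveI : Fintype (G ⧸ N) := Fintype.ofFinite _
    have hβreal : ∀ q : G ⧸ N, ((β : G ⧸ N → ℂ) q).im = 0 := by
      intro q
      obtain ⟨g, rfl⟩ := QuotientGroup.mk_surjective q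
      have h1 : (β : G ⧸ N → ℂ) (QuotientGroup.mk g) = (a : G → ℂ) g := (congrFun hβ g).symm
      rw [h1]
      have h2 := congrArg (fun x : Cfsg.IrrCharacter G => (x : G → ℂ) g) hcj
      change conj ((a : G → ℂ) g) = (a : G → ℂ) g at h2
      exact Complex.conj_eq_iff_im.mp h2
    have hβ1 := eq_one_of_real_of_odd hodd _ β.2 hβreal
    apply Subtype.ext
    rw [hβ, hβ1]
    rfl
  apply memLocalIdeal_sum_involution hM _ f cjIrr
  · intro a ha
    rw [Finset.mem_erase, Finset.mem_filter, Finset.mem_filter] at ha ⊢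
    refine ⟨?_, ⟨Finset.mem_univ _, ?_⟩, ?_⟩
    · intro h1
      apply ha.1
      rw [← cjIrr_cjIrr a, h1]
      apply Subtype.ext
      funext g
      change conj (1 : ℂ) = 1
      exact map_one _
    · exact conj_mem_principalBlock a ha.2.1.2
    · rw [hfcj]
      exact ha.2.2
  · intro a _
    exact cjIrr_cjIrr a
  · intro a ha hcj
    rw [Finset.mem_erase, Finset.mem_filter, Finset.mem_filter] at ha
    exact ha.1 (hreal a ha.2.2 hcj)
  · intro a _
    rw [hfcj]
    obtain ⟨n, hn⟩ := hfnat a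
    rw [hn]
    have : ((n : ℂ) + (n : ℂ)) = ((2 * n : ℕ) : ℂ) := by
      push_cast
      ring
    rw [this, memLocalIdeal_natCast_iff hM]
    exact Dvd.intro _ rfl

/-- **Principal block going up.**  If `|G : N|` is odd and the `σ`-fixed `θ ∈ Irr(N)` lies in
the principal `2`-block of `N`, some `σ`-fixed irreducible character of `G` over `θ` lies in the
principal `2`-block of `G`. -/
theorem exists_sigma_fixed_mem_principalBlock (hM : Cfsg.IsPModular 2 M) [hN : N.Normal]
    (hidx : Odd N.index) {k e : ℕ} (hs : SigData G k e)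
    (θ : Cfsg.IrrCharacter N) (hθk : ∀ n : N, (θ : N → ℂ) (n ^ k) = (θ : N → ℂ) n)
    (hθB : θ ∈ Cfsg.principalBlock M N) :
    ∃ χ : Cfsg.IrrCharacter G, χ ∈ Cfsg.principalBlock M G ∧
      Cfsg.classInner (fun n : N => (χ : G → ℂ) n) (θ : N → ℂ) ≠ 0 ∧
      ∀ g : G, (χ : G → ℂ) (g ^ k) = (χ : G → ℂ) g := by
  classical
  haveI : Fact (Nat.Prime 2) := ⟨Nat.prime_two⟩
  haveI : Fintype (Cfsg.IrrCharacter G) := Fintype.ofFinite _
  have hm : ∀ χ : Cfsg.IrrCharacter G, ∃ n : ℕ,
      Cfsg.classInner (fun n : N => (χ : G → ℂ) n) (θ : N → ℂ) = n := fun χ =>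
    IsCharacter.classInner_irr_nat (IsCharacter.restrict N (IsIrrCharacter.isCharacter χ.2)) θ.2
  choose m hm using hm
  obtain ⟨q, hq⟩ : ∃ q : Cfsg.IrrCharacter G → ℕ, q = fun χ : Cfsg.IrrCharacter G =>
      Cfsg.charDegree (χ : G → ℂ) / Cfsg.charDegree (θ : N → ℂ) := ⟨_, rfl⟩
  obtain ⟨w, hw⟩ : ∃ w : Cfsg.IrrCharacter G → ℕ, w = fun χ => m χ * q χ := ⟨_, rfl⟩
  have hθ1 : (θ : N → ℂ) 1 ≠ 0 := IsIrrCharacter.apply_one_ne_zero θ.2
  have hθd : (θ : N → ℂ) 1 = (Cfsg.charDegree (θ : N → ℂ) : ℂ) :=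
    IsCharacter.apply_one_eq_charDegree (IsIrrCharacter.isCharacter θ.2)
  have hθpos : 0 < Cfsg.charDegree (θ : N → ℂ) := IsIrrCharacter.charDegree_pos θ.2
  have hterm : ∀ χ : Cfsg.IrrCharacter G,
      (χ : G → ℂ) 1 * Cfsg.classInner (θ : N → ℂ) (fun n : N => (χ : G → ℂ) n)
        = (w χ : ℂ) * (θ : N → ℂ) 1 := by
    intro χ
    have h1 : Cfsg.classInner (θ : N → ℂ) (fun n : N => (χ : G → ℂ) n) = (m χ : ℂ) := by
      rw [← classInner_conj_symm, hm χ, Complex.conj_natCast]
    rw [h1, hw]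
    by_cases h0 : m χ = 0
    · simp [h0]
    · have hne : Cfsg.classInner (fun n : N => (χ : G → ℂ) n) (θ : N → ℂ) ≠ 0 := by
        rw [hm χ]
        exact_mod_cast h0
      obtain ⟨c, hc⟩ := charDegree_dvd_of_constituent N hN χ θ hne
      have hqc : q χ = c := by
        rw [hq]
        change Cfsg.charDegree (χ : G → ℂ) / Cfsg.charDegree (θ : N → ℂ) = c
        rw [hc]
        exact Nat.mul_div_cancel_left c hθpos
      rw [IsCharacter.apply_one_eq_charDegree (IsIrrCharacter.isCharacter χ.2), hθd, hc]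
      change _ = ((m χ * q χ : ℕ) : ℂ) * _
      rw [hqc]
      push_cast
      ring
  have hX1 := blockMat_mem_centerAlg (Cfsg.principalBlock M G)
  have hX2 : blockMat (Cfsg.principalBlock M G) ∈ sMat hM G := blockMat_mem_sMat hM (oneIrr G)
  have hY1 := resMat_mem_centerAlg N hX1
  have hY2 := resMat_mem_sMat N hM hX2
  have hdiff := cOmega_sub_memLocalIdeal hM θ.2 (isIrrCharacter_one (G := N))
    (SameBlock.symm' hθB) hY1 hY2
  have hA := index_mul_cOmega_resMat_blockMat N (Cfsg.principalBlock M G) (θ : N → ℂ) hθ1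
  have hA1 := index_mul_cOmega_resMat_blockMat N (Cfsg.principalBlock M G)
    (fun _ : N => (1 : ℂ)) one_ne_zero
  have hodd1 := sum_principal_over_one_sub_one N hM hidx (G := G)
  rw [← hA1, mul_one] at hodd1
  have hAw : (N.index : ℂ) * cOmega (θ : N → ℂ) (resMat N (blockMat (Cfsg.principalBlock M G)))
      = ((∑ χ ∈ Finset.univ.filter (· ∈ Cfsg.principalBlock M G), w χ : ℕ) : ℂ) := by
    apply mul_right_cancel₀ hθ1
    rw [hA, Nat.cast_sum, Finset.sum_mul]
    apply Finset.sum_congr rfl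
    intro χ _
    exact hterm χ
  have hcong : Cfsg.MemLocalIdeal M
      (((∑ χ ∈ Finset.univ.filter (· ∈ Cfsg.principalBlock M G), w χ : ℕ) : ℂ) - 1) := by
    rw [← hAw]
    have h1 := MemLocalIdeal.mul_left hM (memLocalRing_natCast hM N.index) hdiff
    have h2 := MemLocalIdeal.add hM h1 hodd1
    have e : (N.index : ℂ) * (cOmega (θ : N → ℂ) (resMat N (blockMat (Cfsg.principalBlock M G)))
        - cOmega (fun _ : N => (1 : ℂ)) (resMat N (blockMat (Cfsg.principalBlock M G))))
        + ((N.index : ℂ) * cOmega (fun _ : N => (1 : ℂ))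
          (resMat N (blockMat (Cfsg.principalBlock M G))) - 1)
        = (N.index : ℂ) * cOmega (θ : N → ℂ) (resMat N (blockMat (Cfsg.principalBlock M G)))
          - 1 := by ring
    rw [e] at h2
    exact h2
  have hoddw : Odd (∑ χ ∈ Finset.univ.filter (· ∈ Cfsg.principalBlock M G), w χ) := by
    have h1 : (((∑ χ ∈ Finset.univ.filter (· ∈ Cfsg.principalBlock M G), w χ : ℕ) : ℤ) - 1 : ℤ)
        = (((∑ χ ∈ Finset.univ.filter (· ∈ Cfsg.principalBlock M G), w χ : ℕ) : ℤ) - 1 : ℤ) := rfl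
    have h2 : ((((∑ χ ∈ Finset.univ.filter (· ∈ Cfsg.principalBlock M G), w χ : ℕ) : ℤ) - 1 : ℤ) : ℂ)
        = ((∑ χ ∈ Finset.univ.filter (· ∈ Cfsg.principalBlock M G), w χ : ℕ) : ℂ) - 1 := by
      push_cast
      ring
    rw [← h2, memLocalIdeal_intCast_iff hM] at hcong
    rw [Nat.odd_iff]
    omega
  -- the members of odd weight
  obtain ⟨S, hS⟩ : ∃ S : Set (Cfsg.IrrCharacter G),
      S = {χ | χ ∈ Cfsg.principalBlock M G ∧ Odd (w χ)} := ⟨_, rfl⟩
  have hcard : ¬ 2 ∣ Nat.card S := by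
    rw [Finset.odd_sum_iff_odd_card_odd, Finset.filter_filter] at hoddw
    have h1 : Nat.card S = (Finset.univ.filter
        (fun χ : Cfsg.IrrCharacter G => χ ∈ Cfsg.principalBlock M G ∧ Odd (w χ))).card := by
      rw [hS, Nat.card_eq_fintype_card]
      exact Fintype.card_subtype _
    rw [h1]
    intro h2
    rw [Nat.odd_iff] at hoddw
    omega
  have hcopN : Nat.Coprime k (Nat.card N) := (hs.subgroup N).cop
  have hstab : ∀ χ ∈ S, powIrr k hs.cop χ ∈ S := by
    intro χ hχ
    rw [hS] at hχ ⊢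
    refine ⟨powIrr_mem_principalBlock hM k hs.cop χ hχ.1, ?_⟩
    have hmm : m (powIrr k hs.cop χ) = m χ := by
      have h1 : (m (powIrr k hs.cop χ) : ℂ) = (m χ : ℂ) := by
        rw [← hm, ← hm]
        have h2 := GaloisFix.classInner_comp_pow k hcopN (fun n : N => (χ : G → ℂ) n) (θ : N → ℂ)
        rw [← h2]
        congr 1
        funext n
        exact (hθk n).symm
      exact_mod_cast h1
    have hqq : q (powIrr k hs.cop χ) = q χ := by
      rw [hq]
      change Cfsg.charDegree ((powIrr k hs.cop χ : Cfsg.IrrCharacter G) : G → ℂ) / _ = _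
      rw [charDegree_powIrr]
    have hww : w (powIrr k hs.cop χ) = w χ := by
      rw [hw]
      change m (powIrr k hs.cop χ) * q (powIrr k hs.cop χ) = m χ * q χ
      rw [hmm, hqq]
    rw [hww]
    exact hχ.2
  haveI : Finite S := Subtype.finite
  obtain ⟨χ, hχS, hχfix⟩ := GaloisFix.exists_powIrr_fixed 2 k e hs.cop hs.pow S hstab hcard
  rw [hS] at hχS
  refine ⟨χ, hχS.1, ?_, ?_⟩
  · rw [hm χ]
    have hw0 : w χ ≠ 0 := by
      intro h0
      have := hχS.2
      rw [h0] at this
      exact Nat.not_odd_zero this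
    rw [hw] at hw0
    have hm0 : m χ ≠ 0 := by
      intro h0
      apply hw0
      change m χ * q χ = 0
      rw [h0, zero_mul]
    exact_mod_cast hm0
  · intro g
    have h1 := congrArg (fun x : Cfsg.IrrCharacter G => (x : G → ℂ) g) hχfix
    exact h1

end

end Cfsg.Agent.Lib.Helper6.SigFix
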