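import Mathlib

set_option autoImplicit false
set_option linter.unusedSectionVars false
set_option linter.unusedVariables false
set_option linter.unusedSimpArgs false

/-! Derived length: transport along homomorphisms, extensions, products, the lower bound for a
wreath product with a group of order two, and a tower step inside an ambient group. -/

namespace Cfsg.Agent.Lib.Helper6.SpDL

open scoped commutatorElement

section basic

variable {G G' : Type*} [Group G] [Group G']

theorem dl_of_injective (f : G →* G') (hf : Function.Injective f) (s : ℕ)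
    (h : derivedSeries G' s = ⊥) : derivedSeries G s = ⊥ := by
  have h1 := map_derivedSeries_le_derivedSeries f s
  rw [h, le_bot_iff] at h1
  exact (Subgroup.map_eq_bot_iff_of_injective _ hf).mp h1

theorem dl_of_surjective (f : G →* G') (hf : Function.Surjective f) (s : ℕ)
    (h : derivedSeries G s = ⊥) : derivedSeries G' s = ⊥ := by
  rw [← map_derivedSeries_eq hf s, h, Subgroup.map_bot]

theorem ndl_of_injective (f : G →* G') (hf : Function.Injective f) (s : ℕ)
    (h : derivedSeries G s ≠ ⊥) : derivedSeries G' s ≠ ⊥ :=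
  fun h' => h (dl_of_injective f hf s h')

theorem dl_mulEquiv (e : G ≃* G') (s : ℕ) :
    derivedSeries G s = ⊥ ↔ derivedSeries G' s = ⊥ :=
  ⟨dl_of_surjective e.toMonoidHom e.surjective s, dl_of_injective e.toMonoidHom e.injective s⟩

/-- the derived length of an extension -/
theorem dl_ext {G T N : Type*} [Group G] [Group T] [Group N] (f : G →* T) (g : N →* G)
    (h : f.ker ≤ g.range) (a b : ℕ) (hT : derivedSeries T a = ⊥) (hN : derivedSeries N b = ⊥) :
    derivedSeries G (a + b) = ⊥ := by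
  have h1 : derivedSeries G a ≤ f.ker := by
    have := map_derivedSeries_le_derivedSeries f a
    rw [hT, le_bot_iff] at this
    exact (Subgroup.map_eq_bot_iff _).mp this
  have h2 : ∀ b, derivedSeries G (a + b) ≤ (derivedSeries N b).map g := by
    intro b
    induction b with
    | zero =>
      rw [derivedSeries_zero, ← MonoidHom.range_eq_map]
      exact h1.trans h
    | succ b ih =>
      rw [← add_assoc, derivedSeries_succ, derivedSeries_succ, Subgroup.map_commutator]
      exact Subgroup.commutator_mono ih ih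
  rw [eq_bot_iff]
  refine (h2 b).trans ?_
  rw [hN, Subgroup.map_bot]

theorem dl_semidirect {N T : Type*} [Group N] [Group T] (φ : T →* MulAut N) (a b : ℕ)
    (hT : derivedSeries T a = ⊥) (hN : derivedSeries N b = ⊥) :
    derivedSeries (N ⋊[φ] T) (a + b) = ⊥ :=
  dl_ext SemidirectProduct.rightHom SemidirectProduct.inl
    (le_of_eq SemidirectProduct.range_inl_eq_ker_rightHom.symm) a b hT hN

theorem dl_pi {κ : Type*} {Q : Type*} [Group Q] (s : ℕ) (h : derivedSeries Q s = ⊥) :
    derivedSeries (κ → Q) s = ⊥ := by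
  rw [eq_bot_iff]
  intro x hx
  rw [Subgroup.mem_bot]
  funext k
  have h1 := map_derivedSeries_le_derivedSeries (Pi.evalMonoidHom (fun _ : κ => Q) k) s
  have h2 : Pi.evalMonoidHom (fun _ : κ => Q) k x ∈ derivedSeries Q s := h1 ⟨x, hx, rfl⟩
  rw [h, Subgroup.mem_bot] at h2
  exact h2

end basic

section wreath

/-- the lower bound for the derived length of a wreath product with a group of order two -/
theorem ndl_wreath {A X : Type*} [Group A] [Group X] (Φ : A × A →* X)
    (hΦ : Function.Injective Φ) (τ : X) (hτ : ∀ a, τ * Φ (a, 1) * τ⁻¹ = Φ (1, a)) (s : ℕ)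
    (h : derivedSeries A s ≠ ⊥) : derivedSeries X (s + 1) ≠ ⊥ := by
  have key : ∀ s, derivedSeries A s ≤
      ((derivedSeries X (s + 1)).comap Φ).map (MonoidHom.fst A A) := by
    intro s
    induction s with
    | zero =>
      intro a _
      refine ⟨(a, a⁻¹), ?_, rfl⟩
      have h0 : Φ (a, a⁻¹) = ⁅Φ (a, 1), τ⁆ := by
        rw [commutatorElement_def]
        have h1 : τ * (Φ (a, 1))⁻¹ * τ⁻¹ = Φ (1, a⁻¹) := by
          rw [← map_inv, Prod.inv_mk, inv_one, hτ]
        rw [mul_assoc (Φ (a, 1)), mul_assoc (Φ (a, 1)), h1, ← map_mul]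
        simp
      show Φ (a, a⁻¹) ∈ derivedSeries X (0 + 1)
      rw [derivedSeries_succ, derivedSeries_zero, h0]
      exact Subgroup.commutator_mem_commutator (Subgroup.mem_top _) (Subgroup.mem_top _)
    | succ s ih =>
      rw [derivedSeries_succ]
      refine (Subgroup.commutator_mono ih ih).trans ?_
      rw [← Subgroup.map_commutator]
      apply Subgroup.map_mono
      rw [← Subgroup.map_le_iff_le_comap, Subgroup.map_commutator, derivedSeries_succ X (s + 1)]
      exact Subgroup.commutator_mono (Subgroup.map_comap_le _ _) (Subgroup.map_comap_le _ _)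
  obtain ⟨a, ha⟩ := (Subgroup.ne_bot_iff_exists_ne_one).mp h
  obtain ⟨⟨a', b⟩, hab, hfst⟩ := key s a.2
  have ha' : a' = (a : A) := hfst
  intro hbot
  have h1 : Φ (a', b) ∈ derivedSeries X (s + 1) := hab
  rw [hbot, Subgroup.mem_bot] at h1
  have h2 : (a', b) = 1 := hΦ (by rw [h1, map_one])
  have h3 : a' = 1 := congrArg Prod.fst h2
  apply ha
  apply Subtype.ext
  rw [← ha', h3]
  rfl

end wreath

section sylow

variable {G : Type*} [Group G] [Finite G]

theorem ndl_sylow_of_pgroup (p : ℕ) [Fact p.Prime] (P : Subgroup G) (hP : IsPGroup p P) (s : ℕ)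
    (h : derivedSeries ↥P s ≠ ⊥) (R : Sylow p G) :
    derivedSeries ↥(R : Subgroup G) s ≠ ⊥ := by
  obtain ⟨R', hR'⟩ := hP.exists_le_sylow
  have e := R'.equiv R
  have h1 := ndl_of_injective (Subgroup.inclusion hR') (Subgroup.inclusion_injective hR') s h
  exact ndl_of_injective e.toMonoidHom e.injective s h1

theorem dl_sylow_of_one (p : ℕ) [Fact p.Prime] (P₀ : Sylow p G) (s : ℕ)
    (h : derivedSeries ↥(P₀ : Subgroup G) s = ⊥) (R : Sylow p G) :
    derivedSeries ↥(R : Subgroup G) s = ⊥ :=
  (dl_mulEquiv (P₀.equiv R) s).mp h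

end sylow

section tower

variable {X : Type*} [Group X]

/-- one step of a tower of `2`-subgroups: adjoining an involution `τ` whose conjugate of `P`
commutes with `P` and meets it trivially raises the derived length -/
theorem tower_step (P : Subgroup X) (hP : IsPGroup 2 P) (τ : X) (hτ : τ * τ = 1)
    (hc : ∀ a ∈ P, ∀ b ∈ P, Commute a (τ * b * τ⁻¹))
    (ht : ∀ a ∈ P, ∀ b ∈ P, a * (τ * b * τ⁻¹) = 1 → a = 1) (s : ℕ)
    (h : derivedSeries ↥P s ≠ ⊥) :
    ∃ P' : Subgroup X, IsPGroup 2 P' ∧ P ≤ P' ∧ τ ∈ P' ∧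
      (∀ K : Subgroup X, P ≤ K → τ ∈ K → P' ≤ K) ∧ derivedSeries ↥P' (s + 1) ≠ ⊥ := by
  let c : X →* X := (MulAut.conj τ).toMonoidHom
  have hcdef : ∀ x, c x = τ * x * τ⁻¹ := fun x => rfl
  have hτinv : τ⁻¹ = τ := inv_eq_of_mul_eq_one_left hτ
  have hcc : ∀ x, c (c x) = x := by
    intro x
    rw [hcdef, hcdef, hτinv]
    calc τ * (τ * x * τ) * τ = (τ * τ) * x * (τ * τ) := by group
      _ = x := by rw [hτ, one_mul, mul_one]
  let P₂ : Subgroup X := P.map c
  have hP₂ : IsPGroup 2 P₂ := hP.map c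
  have hmapP₂ : P₂.map c = P := by
    ext x
    constructor
    · rintro ⟨_, ⟨y, hy, rfl⟩, rfl⟩
      rw [hcc]
      exact hy
    · intro hx
      exact ⟨c x, ⟨x, hx, rfl⟩, hcc x⟩
  have hnorm : P ≤ Subgroup.normalizer (P₂ : Set X) := by
    intro a ha
    rw [Subgroup.mem_normalizer_iff]
    intro y
    constructor
    · rintro ⟨b, hb, rfl⟩
      have h1 : a * c b * a⁻¹ = c b := by
        have := hc a ha b hb
        rw [← hcdef] at this
        rw [this.eq, mul_inv_cancel_right]
      rw [h1]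
      exact ⟨b, hb, rfl⟩
    · rintro ⟨b, hb, hb'⟩
      have h1 : a⁻¹ * c b * a = c b := by
        have := hc a⁻¹ (P.inv_mem ha) b hb
        rw [← hcdef] at this
        rw [this.eq, mul_assoc, inv_mul_cancel, mul_one]
      have h2 : y = a⁻¹ * (a * y * a⁻¹) * a := by group
      rw [h2, ← hb', h1]
      exact ⟨b, hb, rfl⟩
  have hK : IsPGroup 2 (P ⊔ P₂ : Subgroup X) := hP.to_sup_of_normal_right' hP₂ hnorm
  have hmapK : (P ⊔ P₂).map c = P ⊔ P₂ := by
    rw [Subgroup.map_sup, hmapP₂, sup_comm]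
  have hτnorm : τ ∈ Subgroup.normalizer ((P ⊔ P₂ : Subgroup X) : Set X) := by
    rw [Subgroup.mem_normalizer_iff]
    intro y
    constructor
    · intro hy
      have : c y ∈ (P ⊔ P₂).map c := ⟨y, hy, rfl⟩
      rwa [hmapK] at this
    · intro hy
      have : c (c y) ∈ (P ⊔ P₂).map c := ⟨c y, hy, rfl⟩
      rwa [hmapK, hcc] at this
  have hZ : IsPGroup 2 (Subgroup.zpowers τ) := by
    rintro ⟨_, k, rfl⟩
    refine ⟨1, ?_⟩
    apply Subtype.ext
    show (τ ^ k) ^ (2 ^ 1) = 1
    rw [pow_one, ← zpow_natCast, ← zpow_mul, mul_comm, zpow_mul, zpow_natCast, pow_two, hτ,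
      one_zpow]
  have hZnorm : Subgroup.zpowers τ ≤ Subgroup.normalizer ((P ⊔ P₂ : Subgroup X) : Set X) := by
    rw [Subgroup.zpowers_le]
    exact hτnorm
  let P' : Subgroup X := Subgroup.zpowers τ ⊔ (P ⊔ P₂)
  have hP' : IsPGroup 2 P' := hZ.to_sup_of_normal_right' hK hZnorm
  have hPP' : P ≤ P' := le_sup_left.trans le_sup_right
  have hP₂P' : P₂ ≤ P' := le_sup_right.trans le_sup_right
  have hτP' : τ ∈ P' := (le_sup_left : Subgroup.zpowers τ ≤ P') (Subgroup.mem_zpowers τ)
  refine ⟨P', hP', hPP', hτP', ?_, ?_⟩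
  · intro K hPK hτK
    refine sup_le ?_ (sup_le hPK ?_)
    · rw [Subgroup.zpowers_le]
      exact hτK
    · rintro _ ⟨b, hb, rfl⟩
      rw [hcdef]
      exact K.mul_mem (K.mul_mem hτK (hPK hb)) (K.inv_mem hτK)
  · -- the wreath product structure
    let f : ↥P →* ↥P' := Subgroup.inclusion hPP'
    let g : ↥P →* ↥P' := (c.comp P.subtype).codRestrict P' (fun a => hP₂P' ⟨a, a.2, rfl⟩)
    have hfg : ∀ m n, Commute (f m) (g n) := by
      intro m n
      apply Subtype.ext
      exact (hc m m.2 n n.2).eq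
    let Φ : ↥P × ↥P →* ↥P' := f.noncommCoprod g hfg
    have hΦval : ∀ a b : ↥P, ((Φ (a, b) : ↥P') : X) = (a : X) * (τ * (b : X) * τ⁻¹) := by
      intro a b
      rfl
    have hΦinj : Function.Injective Φ := by
      rw [injective_iff_map_eq_one]
      rintro ⟨a, b⟩ hab
      have h1 : (a : X) * (τ * (b : X) * τ⁻¹) = 1 := by
        rw [← hΦval, hab]
        rfl
      have ha1 : (a : X) = 1 := ht a a.2 b b.2 h1
      rw [ha1, one_mul] at h1
      have hb1 : (b : X) = 1 := by
        have : (b : X) = τ⁻¹ * (τ * (b : X) * τ⁻¹) * τ := by group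
        rw [this, h1]
        group
      have ha2 : a = 1 := Subtype.ext ha1
      have hb2 : b = 1 := Subtype.ext hb1
      rw [ha2, hb2]
      rfl
    refine ndl_wreath Φ hΦinj ⟨τ, hτP'⟩ ?_ s h
    intro a
    apply Subtype.ext
    show τ * ((Φ (a, 1) : ↥P') : X) * τ⁻¹ = ((Φ (1, a) : ↥P') : X)
    rw [hΦval, hΦval]
    simp

end tower

end Cfsg.Agent.Lib.Helper6.SpDL
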