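import Mathlib
import Cfsg.Agent.Lib.Helper6.SW8
import Cfsg.Agent.Lib.Helper6.SpDL1

set_option autoImplicit false
set_option linter.unusedSectionVars false
set_option linter.unusedVariables false
set_option linter.unusedSimpArgs false

/-! The Sylow 2-subgroups of `SL₂(F)`, `F` finite of odd order, have derived length exactly 2. -/

namespace Cfsg.Agent.Lib.Helper6.SpDL

open Matrix Cfsg.Agent.Lib.Helper6.SW
open scoped commutatorElement

section entries

variable {F : Type*} [Field F]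

local notation "SL2" => Matrix.SpecialLinearGroup (Fin 2) F
local notation "Mt" => Matrix (Fin 2) (Fin 2) F

theorem IsRot.comm {M M' : SL2} (h : IsRot M) (h' : IsRot M') : M * M' = M' * M := by
  obtain ⟨h1, h2⟩ := h
  obtain ⟨h1', h2'⟩ := h'
  apply sl2_ext
  · rw [sl2_mul_00, sl2_mul_00]; simp only [h1, h1', h2, h2']; ring
  · rw [sl2_mul_01, sl2_mul_01]; simp only [h1, h1', h2, h2']; ring
  · rw [sl2_mul_10, sl2_mul_10]; simp only [h1, h1', h2, h2']; ring
  · rw [sl2_mul_11, sl2_mul_11]; simp only [h1, h1', h2, h2']; ring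

theorem isRot_commutator {a b : SL2} (ha : a ∈ torusN F) (hb : b ∈ torusN F) :
    IsRot (a * b * a⁻¹ * b⁻¹) := by
  rcases ha with ha | ha <;> rcases hb with hb | hb
  · exact ((ha.mul hb).mul ha.inv).mul hb.inv
  · exact ((ha.mul_ref hb).mul_rot ha.inv).mul hb.inv
  · exact ((ha.mul_rot hb).mul ha.inv).mul hb.inv
  · exact ((ha.mul hb).mul_ref ha.inv).mul hb.inv

/-- subgroups of the torus normaliser have derived length at most 2 -/
theorem dl_le_torusN (Q : Subgroup SL2) (hQ : Q ≤ torusN F) : derivedSeries ↥Q 2 = ⊥ := by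
  have h1 : derivedSeries ↥Q 1 ≤ (torus F).subgroupOf Q := by
    rw [derivedSeries_succ, derivedSeries_zero, Subgroup.commutator_le]
    intro a _ b _
    rw [Subgroup.mem_subgroupOf]
    show IsRot ((a : SL2) * (b : SL2) * (a : SL2)⁻¹ * (b : SL2)⁻¹)
    exact isRot_commutator (hQ a.2) (hQ b.2)
  rw [derivedSeries_succ, eq_bot_iff]
  refine (Subgroup.commutator_mono h1 h1).trans ?_
  rw [Subgroup.commutator_le]
  intro a ha b hb
  rw [Subgroup.mem_bot, commutatorElement_eq_one_iff_mul_comm]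
  apply Subtype.ext
  rw [Subgroup.mem_subgroupOf] at ha hb
  exact IsRot.comm ha hb

theorem rquart_sq_ne_one (h2 : (2 : F) ≠ 0) : rquart F * rquart F ≠ 1 := by
  intro h
  have h1 : ((rquart F * rquart F : SL2) : Mt) 0 0 = ((1 : SL2) : Mt) 0 0 := by rw [h]
  rw [sl2_mul_00] at h1
  simp [rquart] at h1
  apply h2
  linear_combination -h1

/-- a subgroup containing the quarter turn and a reflection-type element is not abelian -/
theorem ndl_of_mem (h2 : (2 : F) ≠ 0) (Q : Subgroup SL2) (hr : rquart F ∈ Q) (g : SL2)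
    (hgQ : g ∈ Q) (hg : IsRef g) : derivedSeries ↥Q 1 ≠ ⊥ := by
  intro hbot
  have h1 : ⁅(⟨g, hgQ⟩ : ↥Q), ⟨rquart F, hr⟩⁆ ∈ derivedSeries ↥Q 1 := by
    rw [derivedSeries_succ, derivedSeries_zero]
    exact Subgroup.commutator_mem_commutator (Subgroup.mem_top _) (Subgroup.mem_top _)
  rw [hbot, Subgroup.mem_bot] at h1
  have h3 : g * rquart F * g⁻¹ * (rquart F)⁻¹ = 1 := congrArg Subtype.val h1
  rw [hg.conj_rot isRot_rquart] at h3
  apply rquart_sq_ne_one h2
  have h4 : rquart F * rquart F = ((rquart F)⁻¹ * (rquart F)⁻¹)⁻¹ := by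
    rw [_root_.mul_inv_rev, inv_inv]
  rw [h4, h3, inv_one]

end entries

section sylow

variable {F : Type*} [Field F] [Fintype F]

local notation "SL2" => Matrix.SpecialLinearGroup (Fin 2) F
local notation "Mt" => Matrix (Fin 2) (Fin 2) F

/-- a Sylow 2-subgroup of `SL₂(F)` inside the torus normaliser -/
theorem exists_good_sylow (hodd : Odd (Fintype.card F)) (h2 : (2 : F) ≠ 0) :
    ∃ P : Sylow 2 SL2, (P : Subgroup SL2) ≤ torusN F ∧ rquart F ∈ (P : Subgroup SL2) ∧
      ∃ g ∈ (P : Subgroup SL2), IsRef g := by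
  let rN : ↥(torusN F) := ⟨rquart F, Or.inl isRot_rquart⟩
  have hrN : IsPGroup 2 (Subgroup.zpowers rN) := by
    rintro ⟨_, k, rfl⟩
    refine ⟨2, ?_⟩
    apply Subtype.ext
    apply Subtype.ext
    show ((rquart F) ^ k) ^ (2 ^ 2) = 1
    rw [← zpow_natCast, ← _root_.zpow_mul, mul_comm, _root_.zpow_mul, zpow_natCast]
    have : (2 : ℕ) ^ 2 = 4 := by norm_num
    rw [this, rquart_pow_four, _root_.one_zpow]
  obtain ⟨Q₀, hQ₀⟩ := IsPGroup.exists_le_sylow hrN
  let Q : Subgroup SL2 := (Q₀ : Subgroup ↥(torusN F)).map (torusN F).subtype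
  have hQle : Q ≤ torusN F := by
    rintro _ ⟨x, _, rfl⟩
    exact x.2
  have hrQ : rquart F ∈ Q := ⟨rN, hQ₀ (Subgroup.mem_zpowers rN), rfl⟩
  have hcardQ : Nat.card Q = 2 ^ (Nat.card SL2).factorization 2 := by
    rw [Subgroup.card_map_of_injective (torusN F).subtype_injective, Q₀.card_eq_multiplicity,
      fact_torusN hodd h2]
  have hex : ∃ g ∈ Q, IsRef g := by
    by_contra hno
    push Not at hno
    have hle : (Q₀ : Subgroup ↥(torusN F)) ≤ (torus F).subgroupOf (torusN F) := by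
      intro x hx
      rw [Subgroup.mem_subgroupOf]
      have hxQ : (x : SL2) ∈ Q := ⟨x, hx, rfl⟩
      rcases x.2 with h | h
      · exact h
      · exact absurd h (hno _ hxQ)
    have hdvd := Subgroup.card_dvd_of_le hle
    rw [Q₀.card_eq_multiplicity, Nat.card_congr (Subgroup.subgroupOfEquivOfLe torus_le).toEquiv,
      card_torusN hodd h2, Nat.card_congr (torusEquiv F)] at hdvd
    set c := Nat.card {p : F × F // p.1 ^ 2 + p.2 ^ 2 = 1} with hc
    have hcpos : c ≠ 0 := by
      rw [hc, ← Nat.card_congr (torusEquiv F)]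
      exact Nat.card_pos.ne'
    have h3 : (2 * c).factorization 2 = c.factorization 2 + 1 := by
      rw [Nat.factorization_mul (by norm_num) hcpos]
      simp [Nat.Prime.factorization_self Nat.prime_two]
      ring
    rw [h3] at hdvd
    exact Nat.pow_succ_factorization_not_dvd hcpos Nat.prime_two hdvd
  obtain ⟨P₀, hP₀⟩ := exists_sylow_eq 2 Q hcardQ
  refine ⟨P₀, ?_, ?_, ?_⟩
  · rw [hP₀]; exact hQle
  · rw [hP₀]; exact hrQ
  · rw [hP₀]; exact hex

theorem dl_sylow_sl2 (hodd : Odd (Fintype.card F)) (h2 : (2 : F) ≠ 0) (P : Sylow 2 SL2) :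
    derivedSeries ↥(P : Subgroup SL2) 2 = ⊥ ∧ derivedSeries ↥(P : Subgroup SL2) 1 ≠ ⊥ := by
  obtain ⟨P₀, hle, hr, g, hg, hgref⟩ := exists_good_sylow hodd h2
  have e := P₀.equiv P
  constructor
  · exact (dl_mulEquiv e 2).mp (dl_le_torusN _ hle)
  · exact ndl_of_injective e.toMonoidHom e.injective 1 (ndl_of_mem h2 _ hr g hg hgref)

end sylow

end Cfsg.Agent.Lib.Helper6.SpDL
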