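import Mathlib
import Cfsg.Agent.Lib.Helper6.SW4
import Cfsg.Agent.Lib.Helper6.SpDL2
import Cfsg.Agent.Lib.Helper4.SylSym2

set_option autoImplicit false
set_option linter.unusedSectionVars false
set_option linter.unusedVariables false
set_option linter.unusedSimpArgs false

/-! The upper bound for the derived length of the Sylow 2-subgroups of `Sp₂ₙ(F)`. -/

namespace Cfsg.Agent.Lib.Helper6.SpDL

open Matrix Cfsg.Agent.Lib.Helper6.SW

section wr

variable {G : Type*} [Group G] {H : Type*} [Group H] {κ : Type*}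

theorem dl_sub (W : WrData G H κ) (Q : Subgroup H) (T : Subgroup (Equiv.Perm κ)) (a b : ℕ)
    (hT : derivedSeries ↥T a = ⊥) (hQ : derivedSeries ↥Q b = ⊥) :
    derivedSeries ↥(W.sub Q T) (a + b) = ⊥ :=
  (dl_mulEquiv (MonoidHom.ofInjective (W.lam_injective Q T)) (a + b)).mp
    (dl_semidirect _ a b hT (dl_pi b hQ))

end wr

variable {F : Type*} [Field F] [Fintype F]

theorem dl_sylow_sp (hodd : Odd (Fintype.card F)) (h2 : (2 : F) ≠ 0) (n : ℕ)
    (P : Sylow 2 (symplecticGroup (Fin n) F)) :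
    derivedSeries ↥(P : Subgroup (symplecticGroup (Fin n) F)) (Nat.log 2 n + 2) = ⊥ := by
  obtain ⟨Q⟩ : Nonempty (Sylow 2 (SpecialLinearGroup (Fin 2) F)) := inferInstance
  obtain ⟨T⟩ : Nonempty (Sylow 2 (Equiv.Perm (Fin n))) := inferInstance
  have hQ := (dl_sylow_sl2 hodd h2 Q).1
  have hT := (Cfsg.Agent.Lib.Helper4.SylSym.derivedLength_sylow_perm T).1
  rw [Nat.card_fin] at hT
  have hdl := dl_sub (spData F n) (Q : Subgroup (SpecialLinearGroup (Fin 2) F))
    (T : Subgroup (Equiv.Perm (Fin n))) _ _ hT hQ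
  have hcard := card_sub_sp hodd n Q T
  generalize (spData F n).sub (Q : Subgroup (SpecialLinearGroup (Fin 2) F))
    (T : Subgroup (Equiv.Perm (Fin n))) = S₀ at hdl hcard
  obtain ⟨P₀, hP₀⟩ := exists_sylow_eq 2 S₀ hcard
  apply dl_sylow_of_one 2 P₀ _ _ P
  rw [hP₀]
  exact hdl

end Cfsg.Agent.Lib.Helper6.SpDL
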