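import Mathlib
import Cfsg.Agent.Lib.Helper6.SW1
import Cfsg.Agent.Lib.Helper6.SpDL1

set_option autoImplicit false
set_option linter.unusedSectionVars false
set_option linter.unusedVariables false
set_option linter.unusedSimpArgs false

/-! Supports in the wreath product `H ≀ Sym(κ)` and a tower of `2`-subgroups of growing derived
length. -/

namespace Cfsg.Agent.Lib.Helper6.SpDL

open Cfsg.Agent.Lib.Helper6.SW

section supp

variable {H : Type*} [Group H] {κ : Type*}

/-- the full wreath product `H ≀ Sym(κ)` -/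
abbrev WrTop (H : Type*) [Group H] (κ : Type*) : Type _ :=
  (κ → H) ⋊[permAut H κ] Equiv.Perm κ

theorem symm_apply_of_fix (σ : Equiv.Perm κ) (k : κ) (h : σ k = k) : σ.symm k = k := by
  rw [Equiv.symm_apply_eq]
  exact h.symm

/-- the elements supported in `S` -/
def Supp (H : Type*) [Group H] {κ : Type*} (S : Set κ) : Subgroup (WrTop H κ) where
  carrier := {x | (∀ k, k ∉ S → x.left k = 1) ∧ (∀ k, k ∉ S → x.right k = k)}
  one_mem' := ⟨fun k _ => rfl, fun k _ => rfl⟩
  mul_mem' := by
    rintro x y ⟨hx1, hx2⟩ ⟨hy1, hy2⟩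
    refine ⟨fun k hk => ?_, fun k hk => ?_⟩
    · rw [SemidirectProduct.mul_left]
      show x.left k * (permAut H κ x.right y.left) k = 1
      rw [permAut_apply, Function.comp_apply, symm_apply_of_fix _ _ (hx2 k hk), hx1 k hk,
        hy1 k hk, one_mul]
    · rw [SemidirectProduct.mul_right, Equiv.Perm.mul_apply, hy2 k hk, hx2 k hk]
  inv_mem' := by
    rintro x ⟨hx1, hx2⟩
    refine ⟨fun k hk => ?_, fun k hk => ?_⟩
    · rw [SemidirectProduct.inv_left, permAut_apply, Function.comp_apply]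
      show (x.left⁻¹) (x.right k) = 1
      rw [hx2 k hk, Pi.inv_apply, hx1 k hk, inv_one]
    · rw [SemidirectProduct.inv_right]
      exact symm_apply_of_fix _ _ (hx2 k hk)

theorem Supp_mono {S S' : Set κ} (h : S ⊆ S') : Supp H S ≤ Supp H S' := by
  rintro x ⟨h1, h2⟩
  exact ⟨fun k hk => h1 k (fun hk' => hk (h hk')), fun k hk => h2 k (fun hk' => hk (h hk'))⟩

theorem Supp_stable {S : Set κ} {x : WrTop H κ} (hx : x ∈ Supp H S) (k : κ) (hk : k ∈ S) :
    x.right.symm k ∈ S := by
  by_contra h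
  have h1 := hx.2 _ h
  rw [Equiv.apply_symm_apply] at h1
  exact h (h1 ▸ hk)

theorem Supp_stable' {S : Set κ} {x : WrTop H κ} (hx : x ∈ Supp H S) (k : κ) (hk : k ∈ S) :
    x.right k ∈ S := by
  by_contra h
  have h1 := hx.2 _ h
  have h3 : x.right k = k := x.right.injective h1
  rw [h3] at h
  exact h hk

theorem Supp_left_comp {S S' : Set κ} (hd : Disjoint S S') {x y : WrTop H κ}
    (hx : x ∈ Supp H S) (hy : y ∈ Supp H S') (k : κ) : y.left (x.right.symm k) = y.left k := by
  by_cases hk : k ∈ S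
  · have h1 := Supp_stable hx k hk
    rw [hy.1 _ (Set.disjoint_left.mp hd h1), hy.1 _ (Set.disjoint_left.mp hd hk)]
  · rw [symm_apply_of_fix _ _ (hx.2 k hk)]

theorem Supp_right_comm {S S' : Set κ} (hd : Disjoint S S') {x y : WrTop H κ}
    (hx : x ∈ Supp H S) (hy : y ∈ Supp H S') (k : κ) (hk : k ∈ S) :
    x.right (y.right k) = y.right (x.right k) := by
  have h1 : y.right k = k := hy.2 k (Set.disjoint_left.mp hd hk)
  have h2 : x.right k ∈ S := Supp_stable' hx k hk
  rw [h1, hy.2 _ (Set.disjoint_left.mp hd h2)]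

theorem Supp_commute {S S' : Set κ} (hd : Disjoint S S') {x y : WrTop H κ}
    (hx : x ∈ Supp H S) (hy : y ∈ Supp H S') : x * y = y * x := by
  apply SemidirectProduct.ext
  · funext k
    rw [SemidirectProduct.mul_left, SemidirectProduct.mul_left]
    show x.left k * y.left (x.right.symm k) = y.left k * x.left (y.right.symm k)
    rw [Supp_left_comp hd hx hy k, Supp_left_comp hd.symm hy hx k]
    by_cases hk : k ∈ S
    · rw [hy.1 k (Set.disjoint_left.mp hd hk), one_mul, mul_one]
    · rw [hx.1 k hk, one_mul, mul_one]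
  · ext k
    rw [SemidirectProduct.mul_right, SemidirectProduct.mul_right]
    show x.right (y.right k) = y.right (x.right k)
    by_cases hk : k ∈ S
    · exact Supp_right_comm hd hx hy k hk
    · by_cases hk' : k ∈ S'
      · exact (Supp_right_comm hd.symm hy hx k hk').symm
      · rw [hy.2 k hk', hx.2 k hk, hy.2 k hk']

theorem Supp_inter {S S' : Set κ} (hd : Disjoint S S') {x : WrTop H κ}
    (hx : x ∈ Supp H S) (hx' : x ∈ Supp H S') : x = 1 := by
  apply SemidirectProduct.ext
  · funext k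
    by_cases hk : k ∈ S
    · exact hx'.1 k (Set.disjoint_left.mp hd hk)
    · exact hx.1 k hk
  · ext k
    by_cases hk : k ∈ S
    · exact hx'.2 k (Set.disjoint_left.mp hd hk)
    · exact hx.2 k hk

theorem Supp_conj {S S' : Set κ} (σ : Equiv.Perm κ) (h : ∀ k, k ∉ S' → σ.symm k ∉ S)
    {x : WrTop H κ} (hx : x ∈ Supp H S) :
    (SemidirectProduct.inr σ : WrTop H κ) * x * (SemidirectProduct.inr σ)⁻¹ ∈ Supp H S' := by
  have e : (SemidirectProduct.inr σ : WrTop H κ) * x * (SemidirectProduct.inr σ)⁻¹ =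
      ⟨x.left ∘ σ.symm, σ * x.right * σ⁻¹⟩ := by
    rw [← map_inv]
    apply SemidirectProduct.ext
    · simp only [SemidirectProduct.mul_left, SemidirectProduct.left_inr,
        SemidirectProduct.right_inr, map_one, mul_one, one_mul, SemidirectProduct.mul_right]
      rfl
    · simp only [SemidirectProduct.mul_right, SemidirectProduct.right_inr]
  rw [e]
  constructor
  · intro k hk
    show x.left (σ.symm k) = 1
    exact hx.1 _ (h k hk)
  · intro k hk
    show σ (x.right (σ.symm k)) = k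
    rw [hx.2 _ (h k hk), Equiv.apply_symm_apply]

theorem inr_mem_Supp {S : Set κ} (σ : Equiv.Perm κ) (h : ∀ k, k ∉ S → σ k = k) :
    (SemidirectProduct.inr σ : WrTop H κ) ∈ Supp H S :=
  ⟨fun k _ => rfl, h⟩

/-- the embedding of `H` in the coordinate `k₀` -/
def coordHom [DecidableEq κ] (k₀ : κ) : H →* WrTop H κ :=
  (SemidirectProduct.inl).comp (MonoidHom.mulSingle (fun _ : κ => H) k₀)

theorem coordHom_injective [DecidableEq κ] (k₀ : κ) :
    Function.Injective (coordHom (H := H) k₀) := by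
  intro a b hab
  have h1 : Pi.mulSingle (M := fun _ : κ => H) k₀ a = Pi.mulSingle k₀ b :=
    SemidirectProduct.inl_injective hab
  exact Pi.mulSingle_injective k₀ h1

theorem coordHom_mem_Supp [DecidableEq κ] (k₀ : κ) (a : H) :
    coordHom (κ := κ) k₀ a ∈ Supp H ({k₀} : Set κ) := by
  constructor
  · intro k hk
    show Pi.mulSingle (M := fun _ : κ => H) k₀ a k = 1
    exact Pi.mulSingle_eq_of_ne (M := fun _ : κ => H) (fun h => hk (Set.mem_singleton_iff.mpr h)) a
  · intro k hk
    rfl

end supp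

section swap

variable {κ : Type*} [DecidableEq κ] (S S₂ : Finset κ) (e : {x // x ∈ S} ≃ {x // x ∈ S₂})

/-- the involution swapping `S` and `S₂` along `e` -/
def swapFun (k : κ) : κ :=
  if h : k ∈ S then (e ⟨k, h⟩ : κ) else if h' : k ∈ S₂ then (e.symm ⟨k, h'⟩ : κ) else k

theorem swapFun_invol (hd : Disjoint S S₂) : Function.Involutive (swapFun S S₂ e) := by
  intro k
  unfold swapFun
  by_cases h : k ∈ S
  · have h1 : (e ⟨k, h⟩ : κ) ∉ S := Finset.disjoint_right.mp hd (e ⟨k, h⟩).2
    have h2 : (e ⟨k, h⟩ : κ) ∈ S₂ := (e ⟨k, h⟩).2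
    rw [dif_pos h, dif_neg h1, dif_pos h2]
    simp
  · by_cases h' : k ∈ S₂
    · rw [dif_neg h, dif_pos h', dif_pos (e.symm ⟨k, h'⟩).2]
      simp
    · rw [dif_neg h, dif_neg h', dif_neg h, dif_neg h']

/-- the involution as a permutation -/
def swapPerm (hd : Disjoint S S₂) : Equiv.Perm κ := (swapFun_invol S S₂ e hd).toPerm _

theorem swapPerm_apply (hd : Disjoint S S₂) (k : κ) :
    swapPerm S S₂ e hd k = swapFun S S₂ e k := rfl

theorem swapPerm_mul_self (hd : Disjoint S S₂) :
    swapPerm S S₂ e hd * swapPerm S S₂ e hd = 1 := by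
  ext k
  rw [Equiv.Perm.mul_apply, swapPerm_apply, swapPerm_apply, swapFun_invol S S₂ e hd k]
  rfl

theorem swapPerm_symm (hd : Disjoint S S₂) :
    (swapPerm S S₂ e hd).symm = swapPerm S S₂ e hd :=
  Function.Involutive.toPerm_symm _

theorem swapPerm_mem (hd : Disjoint S S₂) (k : κ) (hk : k ∈ S) : swapPerm S S₂ e hd k ∈ S₂ := by
  rw [swapPerm_apply, swapFun, dif_pos hk]
  exact (e ⟨k, hk⟩).2

theorem swapPerm_mem₂ (hd : Disjoint S S₂) (k : κ) (hk : k ∈ S₂) : swapPerm S S₂ e hd k ∈ S := by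
  have h : k ∉ S := Finset.disjoint_right.mp hd hk
  rw [swapPerm_apply, swapFun, dif_neg h, dif_pos hk]
  exact (e.symm ⟨k, hk⟩).2

theorem swapPerm_fix (hd : Disjoint S S₂) (k : κ) (hk : k ∉ S) (hk' : k ∉ S₂) :
    swapPerm S S₂ e hd k = k := by
  rw [swapPerm_apply, swapFun, dif_neg hk, dif_neg hk']

end swap

section tower

variable {H : Type*} [Group H] {κ : Type*} [Fintype κ] [DecidableEq κ]

/-- a tower of `2`-subgroups of `H ≀ Sym(κ)` of growing derived length -/
theorem exists_tower (Q : Subgroup H) (hQ : IsPGroup 2 Q) (s₀ : ℕ)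
    (hΛ : derivedSeries ↥Q s₀ ≠ ⊥) :
    ∀ i : ℕ, 2 ^ i ≤ Fintype.card κ → ∃ S : Finset κ, S.card = 2 ^ i ∧
      ∃ P : Subgroup (WrTop H κ), IsPGroup 2 P ∧ P ≤ Supp H (S : Set κ) ∧
        derivedSeries ↥P (s₀ + i) ≠ ⊥ := by
  intro i
  induction i with
  | zero =>
    intro h0
    have hpos : 0 < Fintype.card κ := by
      rw [pow_zero] at h0
      omega
    obtain ⟨k₀⟩ := Fintype.card_pos_iff.mp hpos
    refine ⟨{k₀}, by simp, Q.map (coordHom k₀), hQ.map _, ?_, ?_⟩
    · rintro _ ⟨q, hq, rfl⟩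
      have := coordHom_mem_Supp (H := H) k₀ q
      simpa using this
    · exact ndl_of_injective (Q.equivMapOfInjective _ (coordHom_injective k₀)).toMonoidHom
        (Q.equivMapOfInjective _ (coordHom_injective k₀)).injective s₀ hΛ
  | succ i ih =>
    intro hi
    have hpow : 2 ^ (i + 1) = 2 * 2 ^ i := by ring
    have hi' : 2 ^ i ≤ Fintype.card κ := by omega
    obtain ⟨S, hS, P, hP, hPS, hΛP⟩ := ih hi'
    have hcompl : 2 ^ i ≤ (Sᶜ).card := by
      rw [Finset.card_compl, hS]
      omega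
    obtain ⟨S₂, hS₂sub, hS₂card⟩ := Finset.exists_subset_card_eq hcompl
    have hd : Disjoint S S₂ := by
      rw [Finset.disjoint_left]
      intro k hk hk2
      have := hS₂sub hk2
      rw [Finset.mem_compl] at this
      exact this hk
    have hdset : Disjoint (S : Set κ) (S₂ : Set κ) := by
      rw [Finset.disjoint_coe]
      exact hd
    let e : {x // x ∈ S} ≃ {x // x ∈ S₂} := Finset.equivOfCardEq (hS.trans hS₂card.symm)
    let σ : Equiv.Perm κ := swapPerm S S₂ e hd
    let τ : WrTop H κ := SemidirectProduct.inr σ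
    have hττ : τ * τ = 1 := by
      show (SemidirectProduct.inr σ : WrTop H κ) * SemidirectProduct.inr σ = 1
      rw [← map_mul, swapPerm_mul_self, map_one]
    have hσ : ∀ k, k ∉ (S₂ : Set κ) → σ.symm k ∉ (S : Set κ) := by
      intro k hk hk'
      rw [swapPerm_symm] at hk'
      rw [Finset.mem_coe] at hk hk'
      by_cases h : k ∈ S
      · exact Finset.disjoint_left.mp hd hk' (swapPerm_mem S S₂ e hd k h)
      · rw [swapPerm_fix S S₂ e hd k h hk] at hk'
        exact h hk'
    have hconj : ∀ b ∈ P, τ * b * τ⁻¹ ∈ Supp H (S₂ : Set κ) :=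
      fun b hb => Supp_conj σ hσ (hPS hb)
    obtain ⟨P', hP', hPP', hτP', hmin, hΛ'⟩ := tower_step P hP τ hττ
      (fun a ha b hb => Supp_commute hdset (hPS ha) (hconj b hb))
      (fun a ha b hb h => by
        have h1 : a = (τ * b * τ⁻¹)⁻¹ := eq_inv_of_mul_eq_one_left h
        have h2 : a ∈ Supp H (S₂ : Set κ) := by
          rw [h1]
          exact (Supp H (S₂ : Set κ)).inv_mem (hconj b hb)
        exact Supp_inter hdset (hPS ha) h2)
      (s₀ + i) hΛP
    refine ⟨S ∪ S₂, ?_, P', hP', ?_, ?_⟩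
    · rw [Finset.card_union_of_disjoint hd, hS, hS₂card]
      ring
    · apply hmin
      · refine hPS.trans (Supp_mono ?_)
        intro k hk
        rw [Finset.mem_coe] at hk ⊢
        exact Finset.mem_union_left _ hk
      · apply inr_mem_Supp
        intro k hk
        rw [Finset.mem_coe, Finset.mem_union, not_or] at hk
        exact swapPerm_fix S S₂ e hd k hk.1 hk.2
    · rw [← add_assoc]
      exact hΛ'

end tower

end Cfsg.Agent.Lib.Helper6.SpDL
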