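import Mathlib
import Cfsg.Agent.Lib.Helper6.SpDL3
import Cfsg.Agent.Lib.Helper6.SpDL4

set_option autoImplicit false
set_option linter.unusedSectionVars false
set_option linter.unusedVariables false
set_option linter.unusedSimpArgs false

/-! The derived length of the Sylow 2-subgroups of `Sp₂ₙ(F)`, `F` finite of odd order. -/

namespace Cfsg.Agent.Lib.Helper6.SpDL

open Matrix Cfsg.Agent.Lib.Helper6.SW

section lamTop

variable {G : Type*} [Group G] {H : Type*} [Group H] {κ : Type*} (W : WrData G H κ)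

/-- the map `H ≀ Sym(κ) → G` -/
def lamTop : WrTop H κ →* G :=
  SemidirectProduct.lift W.f₁ W.f₂ (by
    intro g
    ext d
    show W.f₁ (permAut H κ g d) = W.f₂ g * W.f₁ d * (W.f₂ g)⁻¹
    rw [W.compat]
    rfl)

theorem lamTop_apply (x : WrTop H κ) : lamTop W x = W.f₁ x.left * W.f₂ x.right := rfl

theorem lamTop_injective : Function.Injective (lamTop W) := by
  rw [injective_iff_map_eq_one]
  intro x hx
  rw [lamTop_apply] at hx
  obtain ⟨h1, h2⟩ := W.inj _ _ hx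
  exact SemidirectProduct.ext h1 h2

end lamTop

variable {F : Type*} [Field F] [Fintype F]

theorem ndl_sylow_sp (hodd : Odd (Fintype.card F)) (h2 : (2 : F) ≠ 0) (n : ℕ) (hn : 1 ≤ n)
    (P : Sylow 2 (symplecticGroup (Fin n) F)) :
    derivedSeries ↥(P : Subgroup (symplecticGroup (Fin n) F)) (Nat.log 2 n + 1) ≠ ⊥ := by
  obtain ⟨Q⟩ : Nonempty (Sylow 2 (SpecialLinearGroup (Fin 2) F)) := inferInstance
  have hQ := (dl_sylow_sl2 hodd h2 Q).2
  have hpow : 2 ^ Nat.log 2 n ≤ Fintype.card (Fin n) := by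
    rw [Fintype.card_fin]
    exact Nat.pow_log_le_self 2 (by omega)
  obtain ⟨S, -, P₁, hP₁, -, hΛ⟩ := exists_tower (κ := Fin n)
    (Q : Subgroup (SpecialLinearGroup (Fin 2) F)) Q.isPGroup' 1 hQ (Nat.log 2 n) hpow
  have hinj := lamTop_injective (spData F n)
  have hP₂ : IsPGroup 2 (P₁.map (lamTop (spData F n))) := hP₁.map _
  have hΛ₂ : derivedSeries ↥(P₁.map (lamTop (spData F n))) (1 + Nat.log 2 n) ≠ ⊥ :=
    ndl_of_injective (P₁.equivMapOfInjective _ hinj).toMonoidHom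
      (P₁.equivMapOfInjective _ hinj).injective _ hΛ
  have := ndl_sylow_of_pgroup 2 (P₁.map (lamTop (spData F n))) hP₂ _ hΛ₂ P
  rwa [add_comm] at this

/-- the derived length of a Sylow 2-subgroup of `Sp₂ₙ(F)` is `⌊log₂ (2n)⌋ + 1` -/
theorem dl_sp_main (hodd : Odd (Fintype.card F)) (h2 : (2 : F) ≠ 0) (n : ℕ) (hn : 1 ≤ n)
    (R : Sylow 2 (symplecticGroup (Fin n) F)) :
    derivedSeries ↥(R : Subgroup (symplecticGroup (Fin n) F)) (Nat.log 2 (2 * n) + 1) = ⊥ ∧
      derivedSeries ↥(R : Subgroup (symplecticGroup (Fin n) F)) (Nat.log 2 (2 * n)) ≠ ⊥ := by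
  have hlog : Nat.log 2 (2 * n) = Nat.log 2 n + 1 := by
    rw [mul_comm, Nat.log_mul_base (by norm_num) (by omega)]
  rw [hlog]
  exact ⟨dl_sylow_sp hodd h2 n R, ndl_sylow_sp hodd h2 n hn R⟩

end Cfsg.Agent.Lib.Helper6.SpDL
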