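import Mathlib
import Cfsg.Agent.Lib.Helper2.SpUDefs

/-!
# S2316 farm, piece G4: the two instances `spData`, `affData` of `FitData`
-/

set_option autoImplicit false
set_option linter.style.haveILetI false

namespace Cfsg.Agent.Lib.Helper6.SpUG4

open Matrix Cfsg.Agent.Lib.Helper2.SpU

variable {F : Type*} [Field F]

/-- block criterion for membership in the symplectic group -/
theorem bd_mem_sp_iff (k l : ℕ) (P : Mat F k) (S : Mat F l) :
    bd k l P S ∈ Matrix.symplecticGroup (Fin (k + l)) F ↔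
      P ∈ Matrix.symplecticGroup (Fin k) F ∧ S ∈ Matrix.symplecticGroup (Fin l) F := by
  constructor
  · intro h
    rw [SymplecticGroup.mem_iff'] at h
    rw [← bd_J, bd_transpose, ← bd_mul, ← bd_mul] at h
    obtain ⟨h1, h2⟩ := bd_injective k l _ _ _ _ h
    exact ⟨(SymplecticGroup.mem_iff').2 h1, (SymplecticGroup.mem_iff').2 h2⟩
  · rintro ⟨h1, h2⟩
    exact Cfsg.Agent.Lib.Helper5.SympBlock.blockDiag_mem k l h1 h2

theorem transpose_J_of_mem {n : ℕ} {A : Mat F n} (hA : A ∈ Matrix.symplecticGroup (Fin n) F) :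
    Aᵀ * Matrix.J (Fin n) F * A = Matrix.J (Fin n) F :=
  (SymplecticGroup.mem_iff').1 hA

/-- for symplectic `x` with inverse `y`: `J x = yᵀ J` -/
theorem J_mul_coe {n : ℕ} (x : Sp F n) :
    Matrix.J (Fin n) F * (x : Mat F n) = ((x⁻¹ : Sp F n) : Mat F n)ᵀ * Matrix.J (Fin n) F := by
  have h := transpose_J_of_mem (x⁻¹).2
  calc Matrix.J (Fin n) F * (x : Mat F n)
      = (((x⁻¹ : Sp F n) : Mat F n)ᵀ * Matrix.J (Fin n) F * ((x⁻¹ : Sp F n) : Mat F n)) *
          (x : Mat F n) := by rw [h]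
    _ = ((x⁻¹ : Sp F n) : Mat F n)ᵀ * Matrix.J (Fin n) F *
          (((x⁻¹ : Sp F n) : Mat F n) * (x : Mat F n)) := by simp only [Matrix.mul_assoc]
    _ = _ := by rw [coe_inv_mul, Matrix.mul_one]

/-- for symplectic `x` with inverse `y`: `xᵀ J = J y` -/
theorem transpose_mul_J {n : ℕ} (x : Sp F n) :
    (x : Mat F n)ᵀ * Matrix.J (Fin n) F = Matrix.J (Fin n) F * ((x⁻¹ : Sp F n) : Mat F n) := by
  have h := transpose_J_of_mem x.2
  calc (x : Mat F n)ᵀ * Matrix.J (Fin n) F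
      = (x : Mat F n)ᵀ * Matrix.J (Fin n) F * ((x : Mat F n) * ((x⁻¹ : Sp F n) : Mat F n)) := by
        rw [coe_mul_inv, Matrix.mul_one]
    _ = ((x : Mat F n)ᵀ * Matrix.J (Fin n) F * (x : Mat F n)) * ((x⁻¹ : Sp F n) : Mat F n) := by
        simp only [Matrix.mul_assoc]
    _ = _ := by rw [h]

theorem cj_mem_aff {n : ℕ} (x : Sp F n) (B : Mat F n) (hB : B ∈ Aff F n) : cj x B ∈ Aff F n := by
  change Matrix.J (Fin n) F * B + Bᵀ * Matrix.J (Fin n) F = Matrix.J (Fin n) F at hB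
  change Matrix.J (Fin n) F * cj x B + (cj x B)ᵀ * Matrix.J (Fin n) F = Matrix.J (Fin n) F
  unfold cj
  have h1 : Matrix.J (Fin n) F * ((x : Mat F n) * B * ((x⁻¹ : Sp F n) : Mat F n)) =
      ((x⁻¹ : Sp F n) : Mat F n)ᵀ * (Matrix.J (Fin n) F * B) * ((x⁻¹ : Sp F n) : Mat F n) := by
    rw [Matrix.mul_assoc (x : Mat F n), ← Matrix.mul_assoc (Matrix.J (Fin n) F), J_mul_coe x]
    simp only [Matrix.mul_assoc]
  have h2 : ((x : Mat F n) * B * ((x⁻¹ : Sp F n) : Mat F n))ᵀ * Matrix.J (Fin n) F =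
      ((x⁻¹ : Sp F n) : Mat F n)ᵀ * (Bᵀ * Matrix.J (Fin n) F) * ((x⁻¹ : Sp F n) : Mat F n) := by
    rw [Matrix.transpose_mul, Matrix.transpose_mul]
    rw [Matrix.mul_assoc, Matrix.mul_assoc, transpose_mul_J x]
    simp only [Matrix.mul_assoc]
  rw [h1, h2, ← Matrix.add_mul, ← Matrix.mul_add, hB]
  exact transpose_J_of_mem (x⁻¹).2

theorem aff_left {n : ℕ} {B : Mat F n} (hB : B ∈ Aff F n) :
    Bᵀ * Matrix.J (Fin n) F = Matrix.J (Fin n) F * (1 - B) := by
  change Matrix.J (Fin n) F * B + Bᵀ * Matrix.J (Fin n) F = Matrix.J (Fin n) F at hB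
  rw [Matrix.mul_sub, Matrix.mul_one]
  exact eq_sub_of_add_eq' hB

theorem aff_right {n : ℕ} {B : Mat F n} (hB : B ∈ Aff F n) :
    (1 - B)ᵀ * Matrix.J (Fin n) F = Matrix.J (Fin n) F * B := by
  rw [Matrix.transpose_sub, Matrix.transpose_one, Matrix.sub_mul, Matrix.one_mul, aff_left hB,
    Matrix.mul_sub, Matrix.mul_one]
  abel

theorem bd_mem_aff_iff (k l : ℕ) (M₁ : Mat F k) (M₂ : Mat F l) :
    bd k l M₁ M₂ ∈ Aff F (k + l) ↔ M₁ ∈ Aff F k ∧ M₂ ∈ Aff F l := by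
  change Matrix.J (Fin (k + l)) F * bd k l M₁ M₂ + (bd k l M₁ M₂)ᵀ * Matrix.J (Fin (k + l)) F =
      Matrix.J (Fin (k + l)) F ↔
    (Matrix.J (Fin k) F * M₁ + M₁ᵀ * Matrix.J (Fin k) F = Matrix.J (Fin k) F) ∧
    (Matrix.J (Fin l) F * M₂ + M₂ᵀ * Matrix.J (Fin l) F = Matrix.J (Fin l) F)
  rw [← bd_J, bd_transpose, ← bd_mul, ← bd_mul, ← bd_add]
  constructor
  · intro h
    exact bd_injective k l _ _ _ _ h
  · rintro ⟨h1, h2⟩
    rw [h1, h2]

/-- G4a -/
noncomputable def spData (F : Type*) [Field F] : FitData F where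
  X n := (Matrix.symplecticGroup (Fin n) F : Set (Mat F n))
  φ n A := A - 1
  conj_mem := by
    intro n x A hA
    exact cj_mem_sp x A hA
  φ_conj := by
    intro n x A
    rw [cj_sub, cj_one]
  block_mem := by
    intro k l M₁ M₂
    exact bd_mem_sp_iff k l M₁ M₂
  φ_block := by
    intro k l M₁ M₂
    rw [bd_sub, bd_one]
  adj := by
    intro n A hA
    change ∃ C : Mat F n, C * (A - 1) = (A - 1) * C ∧
      (A - 1)ᵀ * Matrix.J (Fin n) F = Matrix.J (Fin n) F * C * (A - 1)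
    set x : Sp F n := ⟨A, hA⟩ with hx
    set y : Mat F n := ((x⁻¹ : Sp F n) : Mat F n) with hy
    have hAy : A * y = 1 := coe_mul_inv x
    have hyA : y * A = 1 := coe_inv_mul x
    refine ⟨-y, ?_, ?_⟩
    · rw [Matrix.neg_mul, Matrix.mul_neg, Matrix.mul_sub, Matrix.sub_mul, hyA, hAy,
        Matrix.mul_one, Matrix.one_mul]
    · have h1 : Aᵀ * Matrix.J (Fin n) F = Matrix.J (Fin n) F * y := transpose_mul_J x
      rw [Matrix.transpose_sub, Matrix.transpose_one, Matrix.sub_mul, Matrix.one_mul, h1,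
        Matrix.mul_neg, Matrix.neg_mul, Matrix.mul_assoc, Matrix.mul_sub, hyA, Matrix.mul_one,
        Matrix.mul_sub, Matrix.mul_one]
      abel
  comm := by
    intro n A _
    rw [Matrix.mul_sub, Matrix.sub_mul, Matrix.mul_one, Matrix.one_mul]

/-- G4b -/
noncomputable def affData (F : Type*) [Field F] : FitData F where
  X n := Aff F n
  φ n B := B * (1 - B)
  conj_mem := by
    intro n x A hA
    exact cj_mem_aff x A hA
  φ_conj := by
    intro n x A
    change cj x A * (1 - cj x A) = cj x (A * (1 - A))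
    rw [cj_mul, cj_sub, cj_one]
  block_mem := by
    intro k l M₁ M₂
    exact bd_mem_aff_iff k l M₁ M₂
  φ_block := by
    intro k l M₁ M₂
    change bd k l M₁ M₂ * (1 - bd k l M₁ M₂) = bd k l (M₁ * (1 - M₁)) (M₂ * (1 - M₂))
    rw [bd_mul, bd_sub, bd_one]
  adj := by
    intro n B hB
    change ∃ C : Mat F n, C * (B * (1 - B)) = (B * (1 - B)) * C ∧
      (B * (1 - B))ᵀ * Matrix.J (Fin n) F = Matrix.J (Fin n) F * C * (B * (1 - B))
    refine ⟨1, by rw [Matrix.one_mul, Matrix.mul_one], ?_⟩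
    rw [Matrix.transpose_mul, Matrix.mul_assoc, aff_left hB, ← Matrix.mul_assoc, aff_right hB,
      Matrix.mul_one, Matrix.mul_assoc]
  comm := by
    intro n B _
    change B * (B * (1 - B)) = (B * (1 - B)) * B
    rw [Matrix.mul_sub, Matrix.mul_one, Matrix.mul_sub, Matrix.sub_mul, Matrix.mul_assoc]

end Cfsg.Agent.Lib.Helper6.SpUG4
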