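import Mathlib
import Cfsg.Agent.Lib.Helper2.SpUDefs
import Cfsg.Agent.Lib.Helper6.SpUG4

/-!
# S2316 farm, piece P4: the Cayley transform `g ↦ (1 - g)⁻¹`
-/

set_option autoImplicit false
set_option linter.style.haveILetI false

namespace Cfsg.Agent.Lib.Helper6.SpUP4

open Matrix Cfsg.Agent.Lib.Helper2.SpU Cfsg.Agent.Lib.Helper6.SpUG4

variable {F : Type*} [Field F]

theorem isUnit_one_sub_of {n : ℕ} {g : Mat F n} (h : IsUnit (g - 1)) : IsUnit (1 - g) := by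
  have : (1 : Mat F n) - g = -(g - 1) := by abel
  rw [this]
  exact h.neg

theorem inv_mul_self' {n : ℕ} {D : Mat F n} (h : IsUnit D) : D⁻¹ * D = 1 :=
  Matrix.nonsing_inv_mul D ((Matrix.isUnit_iff_isUnit_det D).1 h)

theorem mul_inv_self' {n : ℕ} {D : Mat F n} (h : IsUnit D) : D * D⁻¹ = 1 :=
  Matrix.mul_nonsing_inv D ((Matrix.isUnit_iff_isUnit_det D).1 h)

theorem isUnit_inv' {n : ℕ} {D : Mat F n} (h : IsUnit D) : IsUnit D⁻¹ := by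
  rw [Matrix.isUnit_iff_isUnit_det] at h ⊢
  exact Matrix.isUnit_nonsing_inv_det D h

theorem inv_inv'' {n : ℕ} {D : Mat F n} (h : IsUnit D) : D⁻¹⁻¹ = D :=
  Matrix.nonsing_inv_nonsing_inv D ((Matrix.isUnit_iff_isUnit_det D).1 h)

theorem isUnit_of_mem_sp {n : ℕ} {g : Mat F n} (hg : g ∈ Matrix.symplecticGroup (Fin n) F) :
    IsUnit g := by
  rw [Matrix.isUnit_iff_isUnit_det]
  exact SymplecticGroup.symplectic_det hg

/-- forward direction: `(1 - g)⁻¹ ∈ Aff` -/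
theorem cayley_mem_aff {n : ℕ} {g : Mat F n} (hg : g ∈ Matrix.symplecticGroup (Fin n) F)
    (hu : IsUnit (1 - g)) : (1 - g)⁻¹ ∈ Aff F n := by
  have hg' : gᵀ * Matrix.J (Fin n) F * g = Matrix.J (Fin n) F := transpose_J_of_mem hg
  have key : (1 - g)ᵀ * Matrix.J (Fin n) F * (1 - g) =
      (1 - g)ᵀ * Matrix.J (Fin n) F + Matrix.J (Fin n) F * (1 - g) := by
    simp only [Matrix.transpose_sub, Matrix.transpose_one, Matrix.sub_mul, Matrix.mul_sub,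
      Matrix.one_mul, Matrix.mul_one]
    rw [hg']
    abel
  have h1 : ((1 - g)⁻¹)ᵀ * (1 - g)ᵀ = 1 := by
    rw [← Matrix.transpose_mul, mul_inv_self' hu, Matrix.transpose_one]
  have h2 : (1 - g) * (1 - g)⁻¹ = 1 := mul_inv_self' hu
  change Matrix.J (Fin n) F * (1 - g)⁻¹ + ((1 - g)⁻¹)ᵀ * Matrix.J (Fin n) F = Matrix.J (Fin n) F
  calc Matrix.J (Fin n) F * (1 - g)⁻¹ + ((1 - g)⁻¹)ᵀ * Matrix.J (Fin n) F
      = (((1 - g)⁻¹)ᵀ * (1 - g)ᵀ) * Matrix.J (Fin n) F * (1 - g)⁻¹ +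
          ((1 - g)⁻¹)ᵀ * Matrix.J (Fin n) F * ((1 - g) * (1 - g)⁻¹) := by
        rw [h1, h2, Matrix.one_mul, Matrix.mul_one]
    _ = ((1 - g)⁻¹)ᵀ * ((1 - g)ᵀ * Matrix.J (Fin n) F + Matrix.J (Fin n) F * (1 - g)) *
          (1 - g)⁻¹ := by
        simp only [Matrix.mul_add, Matrix.add_mul, Matrix.mul_assoc]
    _ = ((1 - g)⁻¹)ᵀ * ((1 - g)ᵀ * Matrix.J (Fin n) F * (1 - g)) * (1 - g)⁻¹ := by rw [key]
    _ = (((1 - g)⁻¹)ᵀ * (1 - g)ᵀ) * Matrix.J (Fin n) F * ((1 - g) * (1 - g)⁻¹) := by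
        simp only [Matrix.mul_assoc]
    _ = Matrix.J (Fin n) F := by rw [h1, h2, Matrix.one_mul, Matrix.mul_one]

theorem cayley_isUnit {n : ℕ} {g : Mat F n} (hg : g ∈ Matrix.symplecticGroup (Fin n) F)
    (hu : IsUnit (1 - g)) : IsUnit ((1 - g)⁻¹ * (1 - (1 - g)⁻¹)) := by
  have h1 : (1 : Mat F n) - (1 - g)⁻¹ = (1 - g)⁻¹ * (-g) := by
    have : (-g : Mat F n) = (1 - g) - 1 := by abel
    rw [this, Matrix.mul_sub, inv_mul_self' hu, Matrix.mul_one]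
  rw [h1]
  exact (isUnit_inv' hu).mul ((isUnit_inv' hu).mul (isUnit_of_mem_sp hg).neg)

theorem isUnit_of_mul {n : ℕ} {B : Mat F n} (h : IsUnit (B * (1 - B))) :
    IsUnit B ∧ IsUnit (1 - B) := by
  rw [Matrix.isUnit_iff_isUnit_det, Matrix.det_mul, IsUnit.mul_iff] at h
  exact ⟨(Matrix.isUnit_iff_isUnit_det B).2 h.1, (Matrix.isUnit_iff_isUnit_det (1 - B)).2 h.2⟩

/-- backward direction: `1 - B⁻¹` is symplectic -/
theorem uncayley_mem_sp {n : ℕ} {B : Mat F n} (hB : B ∈ Aff F n) (hu : IsUnit B) :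
    1 - B⁻¹ ∈ Matrix.symplecticGroup (Fin n) F := by
  rw [SymplecticGroup.mem_iff']
  have hg : (1 : Mat F n) - B⁻¹ = -((1 - B) * B⁻¹) := by
    rw [Matrix.sub_mul, Matrix.one_mul, mul_inv_self' hu]
    abel
  have hcomm : B * (1 - B) = (1 - B) * B := by
    rw [Matrix.mul_sub, Matrix.sub_mul, Matrix.mul_one, Matrix.one_mul]
  have h1 : (B⁻¹)ᵀ * Bᵀ = 1 := by
    rw [← Matrix.transpose_mul, mul_inv_self' hu, Matrix.transpose_one]
  rw [hg, Matrix.transpose_neg, Matrix.neg_mul, Matrix.neg_mul, Matrix.mul_neg, neg_neg,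
    Matrix.transpose_mul]
  calc (B⁻¹)ᵀ * (1 - B)ᵀ * Matrix.J (Fin n) F * ((1 - B) * B⁻¹)
      = (B⁻¹)ᵀ * ((1 - B)ᵀ * Matrix.J (Fin n) F) * ((1 - B) * B⁻¹) := by
        simp only [Matrix.mul_assoc]
    _ = (B⁻¹)ᵀ * (Matrix.J (Fin n) F * B) * ((1 - B) * B⁻¹) := by rw [aff_right hB]
    _ = (B⁻¹)ᵀ * Matrix.J (Fin n) F * (B * (1 - B)) * B⁻¹ := by simp only [Matrix.mul_assoc]
    _ = (B⁻¹)ᵀ * Matrix.J (Fin n) F * ((1 - B) * B) * B⁻¹ := by rw [hcomm]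
    _ = (B⁻¹)ᵀ * (Matrix.J (Fin n) F * (1 - B)) * (B * B⁻¹) := by simp only [Matrix.mul_assoc]
    _ = (B⁻¹)ᵀ * (Bᵀ * Matrix.J (Fin n) F) * (B * B⁻¹) := by rw [aff_left hB]
    _ = ((B⁻¹)ᵀ * Bᵀ) * Matrix.J (Fin n) F * (B * B⁻¹) := by simp only [Matrix.mul_assoc]
    _ = Matrix.J (Fin n) F := by rw [h1, mul_inv_self' hu, Matrix.one_mul, Matrix.mul_one]

theorem uncayley_isUnit {n : ℕ} {B : Mat F n} (hu : IsUnit B) : IsUnit ((1 - B⁻¹) - 1) := by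
  have : (1 : Mat F n) - B⁻¹ - 1 = -B⁻¹ := by abel
  rw [this]
  exact (isUnit_inv' hu).neg

/-- P4: Cayley transform. -/
theorem card_cayley [Fintype F] (l : ℕ) :
    Nat.card {g : Mat F l // g ∈ Matrix.symplecticGroup (Fin l) F ∧ IsUnit (g - 1)} =
      Nat.card {B : Mat F l // B ∈ Aff F l ∧ IsUnit (B * (1 - B))} := by
  refine Nat.card_congr
    { toFun := fun g => ⟨(1 - g.1)⁻¹, cayley_mem_aff g.2.1 (isUnit_one_sub_of g.2.2),
        cayley_isUnit g.2.1 (isUnit_one_sub_of g.2.2)⟩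
      invFun := fun B => ⟨1 - B.1⁻¹, uncayley_mem_sp B.2.1 (isUnit_of_mul B.2.2).1,
        uncayley_isUnit (isUnit_of_mul B.2.2).1⟩
      left_inv := ?_
      right_inv := ?_ }
  · rintro ⟨g, hg, hu⟩
    apply Subtype.ext
    change 1 - ((1 - g)⁻¹)⁻¹ = g
    rw [inv_inv'' (isUnit_one_sub_of hu)]
    abel
  · rintro ⟨B, hB, hu⟩
    apply Subtype.ext
    change (1 - (1 - B⁻¹))⁻¹ = B
    rw [sub_sub_cancel, inv_inv'' (isUnit_of_mul hu).1]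

end Cfsg.Agent.Lib.Helper6.SpUP4
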