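import Mathlib
import Cfsg.Agent.Lib.Helper1.Nilpotent
import Cfsg.Agent.Lib.Helper3.ConjCover

set_option autoImplicit false
open scoped commutatorElement Pointwise

namespace Cfsg.Agent.Lib.Helper6.SqF

/-- In a finite `p`-group that is not elementary abelian there is a nontrivial central element
lying in every subgroup of index dividing `p`. -/
theorem exists_central_in_all_index_p {Q : Type*} [Group Q] [Finite Q] {p : ℕ} [hp : Fact p.Prime]
    (hQ : IsPGroup p Q)
    (hne : ¬ ((∀ a b : Q, a * b = b * a) ∧ ∀ a : Q, a ^ p = 1)) :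
    ∃ z : Q, z ≠ 1 ∧ z ∈ Subgroup.center Q ∧ ∀ T : Subgroup Q, T.index ∣ p → z ∈ T := by
  classical
  -- facts about subgroups of index p
  have hidx : ∀ T : Subgroup Q, T.index = p →
      commutator Q ≤ T ∧ ∀ w : Q, w ^ p ∈ T := by
    intro T hT
    have hcard : Nat.card Q ≠ 1 := by
      intro hc1
      have : T.index ∣ Nat.card Q := Subgroup.index_dvd_card _
      rw [hT, hc1] at this
      exact hp.out.one_lt.ne' (Nat.dvd_one.mp this)
    obtain ⟨k, hk⟩ := hQ.exists_card_eq
    have hk0 : k ≠ 0 := by
      rintro rfl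
      rw [pow_zero] at hk
      exact hcard hk
    have hmin : (Nat.card Q).minFac = p := by
      rw [hk, hp.out.pow_minFac hk0]
    haveI hn : T.Normal := Subgroup.normal_of_index_eq_minFac_card (hT.trans hmin.symm)
    have hq : Nat.card (Q ⧸ T) = p := hT
    haveI : IsCyclic (Q ⧸ T) := isCyclic_of_prime_card hq
    constructor
    · apply Subgroup.Normal.quotient_commutative_iff_commutator_le.mp
      exact ⟨⟨fun a b => (IsCyclic.commGroup (α := Q ⧸ T)).mul_comm a b⟩⟩
    · intro w
      have h1 : ((w : Q) : Q ⧸ T) ^ p = 1 := by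
        rw [← hq]; exact pow_card_eq_one'
      rw [← QuotientGroup.mk_pow] at h1
      exact (QuotientGroup.eq_one_iff _).mp h1
  by_cases hcomm : ∀ a b : Q, a * b = b * a
  · -- abelian with an element y, y^p ≠ 1
    have hex : ∃ y : Q, y ^ p ≠ 1 := by
      by_contra hcon
      push Not at hcon
      exact hne ⟨hcomm, hcon⟩
    obtain ⟨y, hy⟩ := hex
    obtain ⟨k, hk⟩ := (IsPGroup.iff_orderOf.mp hQ) y
    have hk2 : 2 ≤ k := by
      by_contra hlt
      push Not at hlt
      apply hy
      have : orderOf y ∣ p := by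
        rw [hk]
        interval_cases k
        · simp
        · simp
      exact orderOf_dvd_iff_pow_eq_one.mp this
    refine ⟨(y ^ p ^ (k - 2)) ^ p, ?_, ?_, ?_⟩
    · intro h1
      rw [← pow_mul, ← pow_succ] at h1
      have h2 : orderOf y ∣ p ^ (k - 2 + 1) := orderOf_dvd_of_pow_eq_one h1
      rw [hk] at h2
      have h3 := (Nat.pow_dvd_pow_iff_le_right hp.out.one_lt).mp h2
      omega
    · rw [Subgroup.mem_center_iff]
      intro g
      exact hcomm _ _
    · intro T hT
      rcases (Nat.dvd_prime hp.out).mp hT with h1 | h1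
      · rw [Subgroup.index_eq_one.mp h1]; trivial
      · exact (hidx T h1).2 _
  · -- nonabelian
    haveI : Group.IsNilpotent Q := hQ.isNilpotent
    have hN : commutator Q ≠ ⊥ := by
      intro hbot
      apply hcomm
      intro a b
      have h1 : ⁅a, b⁆ ∈ commutator Q := by
        rw [commutator_def]
        exact Subgroup.commutator_mem_commutator (Subgroup.mem_top a) (Subgroup.mem_top b)
      rw [hbot, Subgroup.mem_bot, commutatorElement_eq_one_iff_mul_comm] at h1
      exact h1
    have hmeet := Cfsg.Agent.Lib.Helper1.normal_inf_center_ne_bot (commutator Q) hN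
    obtain ⟨z, hz1⟩ := (Subgroup.ne_bot_iff_exists_ne_one).mp hmeet
    obtain ⟨hzN, hzZ⟩ := Subgroup.mem_inf.mp z.2
    refine ⟨z.1, ?_, hzZ, ?_⟩
    · intro h; apply hz1; exact Subtype.ext h
    · intro T hT
      rcases (Nat.dvd_prime hp.out).mp hT with h1 | h1
      · rw [Subgroup.index_eq_one.mp h1]; trivial
      · exact (hidx T h1).1 hzN

/-- (PA) If `p ^ 2` divides no class size and a Sylow `p`-subgroup is not elementary abelian, then
it contains a nontrivial central element of `G`. -/
theorem exists_central_of_not_elemAb {G : Type*} [Group G] [Finite G] {p : ℕ} [hp : Fact p.Prime]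
    (P : Sylow p G)
    (h : ∀ x : G, ¬ p ^ 2 ∣ (Subgroup.centralizer ({x} : Set G)).index)
    (hP : ¬ ((∀ a ∈ (P : Subgroup G), ∀ b ∈ (P : Subgroup G), a * b = b * a) ∧
      ∀ a ∈ (P : Subgroup G), a ^ p = 1)) :
    ∃ z ∈ (P : Subgroup G), z ≠ 1 ∧ z ∈ Subgroup.center G := by
  classical
  have hne : ¬ ((∀ a b : (P : Subgroup G), a * b = b * a) ∧ ∀ a : (P : Subgroup G), a ^ p = 1) := by
    rintro ⟨h1, h2⟩
    apply hP
    refine ⟨fun a ha b hb => congrArg Subtype.val (h1 ⟨a, ha⟩ ⟨b, hb⟩), fun a ha => ?_⟩
    have := congrArg Subtype.val (h2 ⟨a, ha⟩)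
    simpa using this
  obtain ⟨z, hz1, hzc, hzT⟩ := exists_central_in_all_index_p P.isPGroup' hne
  refine ⟨z.1, z.2, fun h1 => hz1 (Subtype.ext h1), ?_⟩
  -- covering
  have hcover : ∀ y : G, ∃ c : G, c⁻¹ * y * c ∈ Subgroup.centralizer ({(z : G)} : Set G) := by
    intro y
    set C := Subgroup.centralizer ({y} : Set G) with hC
    obtain S : Sylow p C := default
    set T' : Subgroup G := (S : Subgroup C).map C.subtype with hT'
    have hT'p : IsPGroup p T' := S.isPGroup'.map C.subtype
    obtain ⟨P', hP'⟩ := hT'p.exists_le_sylow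
    obtain ⟨g, hg⟩ := MulAction.exists_smul_eq G P' P
    have hPP' : MulAut.conj g • (P' : Subgroup G) = (P : Subgroup G) := by
      rw [← hg]; rfl
    set T : Subgroup G := T'.map (MulAut.conj g).toMonoidHom with hT
    have hTP : T ≤ (P : Subgroup G) := by
      rintro _ ⟨x, hx, rfl⟩
      rw [← hPP']
      exact Subgroup.smul_mem_pointwise_smul x (MulAut.conj g) _ (hP' hx)
    -- cardinalities
    have hcT : Nat.card T = Nat.card S := by
      rw [hT, Subgroup.card_map_of_injective (MulAut.conj g).injective, hT',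
        Subgroup.card_map_of_injective C.subtype_injective]
    have hcS : Nat.card S = p ^ (Nat.card C).factorization p := S.card_eq_multiplicity
    have hcP : Nat.card P = p ^ (Nat.card G).factorization p := P.card_eq_multiplicity
    have hmulC : Nat.card C * C.index = Nat.card G := Subgroup.card_mul_index C
    have hidx0 : C.index ≠ 0 := Subgroup.index_ne_zero_of_finite
    have hfac : (Nat.card G).factorization p =
        (Nat.card C).factorization p + (C.index).factorization p := by
      rw [← hmulC, Nat.factorization_mul Nat.card_pos.ne' hidx0]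
      rfl
    have he : (C.index).factorization p ≤ 1 := by
      by_contra hlt
      push Not at hlt
      exact h y ((hp.out.pow_dvd_iff_le_factorization hidx0).mpr hlt)
    have hrel : Nat.card T * T.relIndex (P : Subgroup G) = Nat.card P := by
      have h1 := Subgroup.relIndex_mul_relIndex (⊥ : Subgroup G) T (P : Subgroup G) bot_le hTP
      rwa [Subgroup.relIndex_bot_left, Subgroup.relIndex_bot_left] at h1
    have hreldvd : T.relIndex (P : Subgroup G) ∣ p := by
      rw [hcT, hcS, hcP, hfac, pow_add] at hrel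
      have h2 : T.relIndex (P : Subgroup G) = p ^ (C.index).factorization p :=
        Nat.eq_of_mul_eq_mul_left (pow_pos hp.out.pos _) hrel
      rw [h2]
      interval_cases hh : (C.index).factorization p
      · simp
      · simp
    have hzmem : z ∈ T.subgroupOf (P : Subgroup G) := hzT _ hreldvd
    rw [Subgroup.mem_subgroupOf] at hzmem
    obtain ⟨x, hx, hxz⟩ := hzmem
    obtain ⟨x', hx', rfl⟩ := hx
    have hxC : (x' : G) ∈ Subgroup.centralizer ({y} : Set G) := x'.2
    rw [Subgroup.mem_centralizer_iff] at hxC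
    have hcomm : y * (x' : G) = (x' : G) * y := hxC y (Set.mem_singleton y)
    have hxz' : g * (x' : G) * g⁻¹ = (z : G) := by
      simpa using hxz
    refine ⟨g⁻¹, ?_⟩
    rw [Subgroup.mem_centralizer_iff]
    intro w hw
    rw [Set.mem_singleton_iff] at hw
    subst hw
    rw [inv_inv, ← hxz']
    calc g * ↑x' * g⁻¹ * (g * y * g⁻¹) = g * (↑x' * y) * g⁻¹ := by group
      _ = g * (y * ↑x') * g⁻¹ := by rw [hcomm]
      _ = g * y * g⁻¹ * (g * ↑x' * g⁻¹) := by group
  have htop := Cfsg.Agent.Lib.Helper3.eq_top_of_conj_cover _ hcover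
  rw [Subgroup.mem_center_iff]
  intro g
  have hg : g ∈ Subgroup.centralizer ({(z : G)} : Set G) := by rw [htop]; trivial
  rw [Subgroup.mem_centralizer_iff] at hg
  exact (hg z (Set.mem_singleton _)).symm

end Cfsg.Agent.Lib.Helper6.SqF
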