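import Mathlib

set_option autoImplicit false

namespace Cfsg.Agent.Lib.Helper6.SqF

/-- (PD1) For a normal subgroup `N`, the size of the `N`-class of `x` divides the size of the
`G`-class of `x`. -/
theorem relIndex_centralizer_dvd_index {G : Type*} [Group G] [Finite G] (N : Subgroup G) [N.Normal]
    (x : G) : (Subgroup.centralizer ({x} : Set G)).relIndex N ∣
      (Subgroup.centralizer ({x} : Set G)).index := by
  set C := Subgroup.centralizer ({x} : Set G) with hC
  have h1 : (C ⊓ N).relIndex C * C.relIndex (C ⊔ N) = (C ⊓ N).relIndex (C ⊔ N) :=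
    Subgroup.relIndex_mul_relIndex _ _ _ inf_le_left le_sup_left
  have h2 : (C ⊓ N).relIndex N * N.relIndex (C ⊔ N) = (C ⊓ N).relIndex (C ⊔ N) :=
    Subgroup.relIndex_mul_relIndex _ _ _ inf_le_right le_sup_right
  have h3 : N.relIndex (C ⊔ N) = N.relIndex C := Subgroup.relIndex_sup_right C N
  have h4 : (C ⊓ N).relIndex C = N.relIndex C := Subgroup.inf_relIndex_left C N
  have h5 : (C ⊓ N).relIndex N = C.relIndex N := Subgroup.inf_relIndex_right C N
  have h0 : N.relIndex C ≠ 0 := by
    rw [Subgroup.relIndex]
    exact Subgroup.index_ne_zero_of_finite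
  have h6 : C.relIndex (C ⊔ N) = C.relIndex N := by
    rw [h4] at h1
    rw [h3, h5] at h2
    have : N.relIndex C * C.relIndex (C ⊔ N) = N.relIndex C * C.relIndex N := by
      rw [h1, ← h2, mul_comm]
    exact Nat.eq_of_mul_eq_mul_left (Nat.pos_of_ne_zero h0) this
  rw [← h6]
  exact Subgroup.relIndex_dvd_index_of_le le_sup_left

/-- (PD2) Squarefree class sizes pass to normal subgroups. -/
theorem squarefree_index_subgroup {G : Type*} [Group G] [Finite G]
    (h : ∀ x : G, Squarefree (Subgroup.centralizer ({x} : Set G)).index)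
    (N : Subgroup G) [N.Normal] :
    ∀ x : N, Squarefree (Subgroup.centralizer ({x} : Set N)).index := by
  intro x
  have heq : Subgroup.centralizer ({x} : Set N) =
      (Subgroup.centralizer ({(x : G)} : Set G)).subgroupOf N := by
    ext y
    simp only [Subgroup.mem_centralizer_iff, Set.mem_singleton_iff, forall_eq,
      Subgroup.mem_subgroupOf]
    constructor
    · intro hy
      exact congrArg Subtype.val hy
    · intro hy
      exact Subtype.ext hy
  rw [heq]
  exact Squarefree.squarefree_of_dvd (relIndex_centralizer_dvd_index N (x : G)) (h x)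

/-- (PD3) Squarefree class sizes pass to quotients. -/
theorem squarefree_index_quotient {G : Type*} [Group G] [Finite G]
    (h : ∀ x : G, Squarefree (Subgroup.centralizer ({x} : Set G)).index)
    (N : Subgroup G) [N.Normal] :
    ∀ x : G ⧸ N, Squarefree (Subgroup.centralizer ({x} : Set (G ⧸ N))).index := by
  intro x
  obtain ⟨g, rfl⟩ := QuotientGroup.mk_surjective x
  have hle : (Subgroup.centralizer ({g} : Set G)).map (QuotientGroup.mk' N) ≤
      Subgroup.centralizer ({(g : G ⧸ N)} : Set (G ⧸ N)) := by
    rintro _ ⟨y, hy, rfl⟩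
    rw [SetLike.mem_coe, Subgroup.mem_centralizer_iff] at hy
    rw [Subgroup.mem_centralizer_iff]
    intro z hz
    rw [Set.mem_singleton_iff] at hz
    subst hz
    have := hy g (Set.mem_singleton g)
    change ((g : G ⧸ N)) * ((y : G) : G ⧸ N) = ((y : G) : G ⧸ N) * (g : G ⧸ N)
    rw [← QuotientGroup.mk_mul, ← QuotientGroup.mk_mul, this]
  have h1 := Subgroup.index_dvd_of_le hle
  have h2 : ((Subgroup.centralizer ({g} : Set G)).map (QuotientGroup.mk' N)).index ∣
      (Subgroup.centralizer ({g} : Set G)).index :=
    Subgroup.index_map_dvd _ (QuotientGroup.mk'_surjective N)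
  exact Squarefree.squarefree_of_dvd (h1.trans h2) (h g)

end Cfsg.Agent.Lib.Helper6.SqF
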