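import Mathlib
import Cfsg.Agent.Lib.Helper6.SqfA
import Cfsg.Agent.Lib.Helper6.SqfD
import Cfsg.Agent.Lib.Helper9.SqfB
import Cfsg.Agent.Lib.Helper1.AbelianSylow

set_option autoImplicit false
open scoped commutatorElement

namespace Cfsg.Agent.Lib.Helper6.SqF


universe u

/-- A nonabelian finite simple group has a class size that is not squarefree. -/
theorem false_of_simple {G : Type u} [Group G] [Finite G] [IsSimpleGroup G]
    (hna : ∃ a b : G, a * b ≠ b * a)
    (h : ∀ x : G, Squarefree (Subgroup.centralizer ({x} : Set G)).index) : False := by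
  classical
  have hcard : Nat.card G ≠ 1 := by
    intro h1
    obtain ⟨a, b, hab⟩ := hna
    have : Subsingleton G := (Nat.card_eq_one_iff_unique.mp h1).1
    exact hab (Subsingleton.elim _ _)
  have hp : (Nat.card G).minFac.Prime := Nat.minFac_prime hcard
  haveI : Fact (Nat.card G).minFac.Prime := ⟨hp⟩
  set p := (Nat.card G).minFac with hpdef
  have hpdvd : p ∣ Nat.card G := Nat.minFac_dvd _
  obtain P : Sylow p G := default
  have hP1 : (P : Subgroup G) ≠ ⊥ := by
    intro hbot
    have hcardP : Nat.card (P : Subgroup G) = 1 := by rw [hbot]; exact Subgroup.card_bot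
    have h2 : p ∣ Nat.card (P : Subgroup G) := by
      rw [Sylow.card_eq_multiplicity]
      exact dvd_pow_self p (by
        have := (Nat.factorization_def (Nat.card G) hp)
        intro h0
        have hpos : 0 < (Nat.card G).factorization p :=
          hp.factorization_pos_of_dvd Nat.card_pos.ne' hpdvd
        omega)
    rw [hcardP] at h2
    exact hp.one_lt.ne' (Nat.dvd_one.mp h2)
  have h' : ∀ x : G, ¬ p ^ 2 ∣ (Subgroup.centralizer ({x} : Set G)).index := by
    intro x hdvd
    have := (Nat.squarefree_iff_prime_squarefree.mp (h x)) p hp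
    exact this (by rwa [← pow_two])
  have hcenter : Subgroup.center G = ⊥ := by
    rcases (inferInstance : (Subgroup.center G).Normal).eq_bot_or_eq_top with hc | hc
    · exact hc
    · exfalso
      obtain ⟨a, b, hab⟩ := hna
      have ha : a ∈ Subgroup.center G := by rw [hc]; trivial
      exact hab ((Subgroup.mem_center_iff.mp ha b).symm)
  by_cases hP : ((∀ a ∈ (P : Subgroup G), ∀ b ∈ (P : Subgroup G), a * b = b * a) ∧
      ∀ a ∈ (P : Subgroup G), a ^ p = 1)
  · -- elementary abelian case
    have hcomm : IsMulCommutative (P : Subgroup G) :=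
      ⟨⟨fun a b => Subtype.ext (hP.1 a a.2 b b.2)⟩⟩
    have hdec := (Cfsg.Agent.Lib.Helper1.abelian_sylow_decomposition P hcomm).1
    have hcomtop : commutator G = ⊤ := by
      rcases (inferInstance : (commutator G).Normal).eq_bot_or_eq_top with hc | hc
      · exfalso
        obtain ⟨a, b, hab⟩ := hna
        have hmem : ⁅a, b⁆ ∈ commutator G :=
          Subgroup.commutator_mem_commutator (Subgroup.mem_top a) (Subgroup.mem_top b)
        rw [hc, Subgroup.mem_bot, commutatorElement_eq_one_iff_mul_comm] at hmem
        exact hab hmem
      · exact hc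
    rw [hcomtop, top_inf_eq, inf_assoc, inf_comm (Subgroup.centralizer _), ← inf_assoc,
      inf_idem] at hdec
    refine Cfsg.Agent.Lib.Helper9.SqF.false_of_elemAb_sylow P h' ?_ hP1 hP.1 hP.2 hdec
    intro r hr hrd
    exact Nat.minFac_le_of_dvd hr.two_le hrd
  · obtain ⟨z, _, hz1, hzc⟩ := exists_central_of_not_elemAb P h' hP
    rw [hcenter, Subgroup.mem_bot] at hzc
    exact hz1 hzc

theorem isSolvable_aux : ∀ (n : ℕ) (G : Type u) [Group G] [Finite G], Nat.card G = n →
    (∀ x : G, Squarefree (Subgroup.centralizer ({x} : Set G)).index) → Group.IsSolvable G := by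
  intro n
  induction n using Nat.strong_induction_on with
  | _ n ih =>
    intro G _ _ hn h
    classical
    by_cases hex : ∃ N : Subgroup G, N.Normal ∧ N ≠ ⊥ ∧ N ≠ ⊤
    · obtain ⟨N, hNn, hNb, hNt⟩ := hex
      have hmul : Nat.card N * N.index = Nat.card G := Subgroup.card_mul_index N
      have hidx1 : N.index ≠ 1 := fun h1 => hNt (Subgroup.index_eq_one.mp h1)
      have hidx0 : N.index ≠ 0 := Subgroup.index_ne_zero_of_finite
      have hcN1 : 1 < Nat.card N := (Subgroup.one_lt_card_iff_ne_bot (H := N)).mpr hNb
      have hcN : Nat.card N < n := by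
        rw [← hn, ← hmul]
        have : 2 ≤ N.index := by omega
        nlinarith
      have hcQ : Nat.card (G ⧸ N) < n := by
        rw [← hn, ← hmul]
        have : Nat.card (G ⧸ N) = N.index := rfl
        rw [this]
        have : 0 < N.index := Nat.pos_of_ne_zero hidx0
        nlinarith
      have hsN : Group.IsSolvable N :=
        ih _ hcN N rfl (squarefree_index_subgroup h N)
      have hsQ : Group.IsSolvable (G ⧸ N) :=
        ih _ hcQ (G ⧸ N) rfl (squarefree_index_quotient h N)
      refine Group.isSolvable_of_ker_le_range N.subtype (QuotientGroup.mk' N) ?_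
      rw [QuotientGroup.ker_mk', Subgroup.range_subtype]
    · by_cases hsub : Subsingleton G
      · exact isSolvable_of_comm (fun a b => Subsingleton.elim _ _)
      · rw [not_subsingleton_iff_nontrivial] at hsub
        haveI : IsSimpleGroup G :=
          { exists_pair_ne := hsub.exists_pair_ne
            eq_bot_or_eq_top_of_normal := by
              intro N hN
              by_contra hcon
              push Not at hcon
              exact hex ⟨N, hN, hcon.1, hcon.2⟩ }
        by_cases hcomm : ∀ a b : G, a * b = b * a
        · exact isSolvable_of_comm hcomm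
        · exfalso
          push Not at hcomm
          exact false_of_simple hcomm h

theorem isSolvable_of_squarefree_index {G : Type u} [Group G] [Finite G]
    (h : ∀ x : G, Squarefree (Subgroup.centralizer ({x} : Set G)).index) :
    Group.IsSolvable G := isSolvable_aux _ G rfl h

end Cfsg.Agent.Lib.Helper6.SqF
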