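import Mathlib
import Cfsg.Agent.Lib.Helper6.SqfSolv
import Cfsg.Agent.Lib.Helper4.SqfE
import Cfsg.Agent.Lib.Helper1.MaxSubgroupSolvable
import Cfsg.Agent.Lib.Helper1.Supersolvable
import Cfsg.Agent.Lib.Helper1.SupersolvableBasic

set_option autoImplicit false

namespace Cfsg.Agent.Lib.Helper6.SqF


universe u

/-- a squarefree divisor of a prime power divides the prime -/
theorem dvd_prime_of_squarefree_of_dvd_pow {q m k : ℕ} (hq : q.Prime) (hm : Squarefree m)
    (hd : m ∣ q ^ k) : m ∣ q := by
  obtain ⟨j, _, rfl⟩ := (Nat.dvd_prime_pow hq).mp hd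
  rcases j with _ | _ | j
  · simp
  · simp
  · exfalso
    have h1 : q * q ∣ q ^ (j + 1 + 1) := ⟨q ^ j, by ring⟩
    have := hm q h1
    exact hq.one_lt.ne' (Nat.isUnit_iff.mp this)

theorem isSupersolvable_aux : ∀ (n : ℕ) (G : Type u) [Group G] [Finite G], Nat.card G = n →
    (∀ x : G, Squarefree (Subgroup.centralizer ({x} : Set G)).index) →
    Cfsg.IsSupersolvable G := by
  intro n
  induction n using Nat.strong_induction_on with
  | _ n ih =>
    intro G _ _ hn h
    classical
    by_cases hsub : Subsingleton G
    · exact Cfsg.Agent.Lib.Helper1.isSupersolvable_of_subsingleton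
    · rw [not_subsingleton_iff_nontrivial] at hsub
      haveI : Group.IsSolvable G := isSolvable_of_squarefree_index h
      obtain ⟨N, hNn, hN1, hmin⟩ := Cfsg.Agent.Lib.Helper1.exists_minimal_normal (G := G)
      haveI := hNn
      obtain ⟨hNc, q, hq, hNq⟩ := Cfsg.Agent.Lib.Helper1.minimal_normal_of_solvable N hN1 hmin
      haveI : Fact q.Prime := ⟨hq⟩
      have hNp : IsPGroup q N := by
        intro x
        refine ⟨1, ?_⟩
        rw [pow_one]
        exact Subtype.ext (by simpa using hNq x.1 x.2)
      obtain ⟨k, hk⟩ := hNp.exists_card_eq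
      have hidx : ∀ x : G, (Subgroup.centralizer ({x} : Set G)).relIndex N ∣ q := by
        intro x
        apply dvd_prime_of_squarefree_of_dvd_pow hq
          (Squarefree.squarefree_of_dvd (relIndex_centralizer_dvd_index N x) (h x)) (k := k)
        rw [← hk]
        exact Subgroup.index_dvd_card _
      have hcard : Nat.card N = q :=
        Cfsg.Agent.Lib.Helper4.SqF.card_eq_prime_of_minimal_normal N hN1 hmin
          (fun a ha b hb => congrArg Subtype.val (hNc.is_comm.comm ⟨a, ha⟩ ⟨b, hb⟩)) hNq hidx
      haveI : IsCyclic N := isCyclic_of_prime_card hcard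
      have hmul : Nat.card N * N.index = Nat.card G := Subgroup.card_mul_index N
      have hcQ : Nat.card (G ⧸ N) < n := by
        rw [← hn, ← hmul]
        have h1 : Nat.card (G ⧸ N) = N.index := rfl
        rw [h1, hcard]
        have h2 : 0 < N.index := Nat.pos_of_ne_zero Subgroup.index_ne_zero_of_finite
        have := hq.two_le
        nlinarith
      have hQ := ih _ hcQ (G ⧸ N) rfl (squarefree_index_quotient h N)
      exact Cfsg.Agent.Lib.Helper1.isSupersolvable_of_quotient_cyclic N hQ

theorem isSupersolvable_of_squarefree_index {G : Type u} [Group G] [Finite G]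
    (h : ∀ x : G, Squarefree (Subgroup.centralizer ({x} : Set G)).index) :
    Cfsg.IsSupersolvable G := isSupersolvable_aux _ G rfl h

end Cfsg.Agent.Lib.Helper6.SqF
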