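import Mathlib
import Cfsg.Agent.Lib.Helper6.SqfSuper
import Cfsg.Agent.Lib.Helper1.SqfIb
import Cfsg.Agent.Lib.Helper1.PCore
import Cfsg.Agent.Lib.Helper1.Fitting
import Cfsg.Agent.Lib.Helper1.FittingCentralizer
import Cfsg.Agent.Lib.Helper1.SupersolvableDerived
import Cfsg.Agent.Lib.Helper8.K7a

set_option autoImplicit false
open scoped commutatorElement

namespace Cfsg.Agent.Lib.Helper6.SqF


universe u

theorem normal_of_commutator_le {G : Type*} [Group G] (H : Subgroup G) (h : commutator G ≤ H) :
    H.Normal := by
  refine ⟨fun x hx g => ?_⟩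
  have h1 : ⁅g, x⁆ ∈ H :=
    h (Subgroup.commutator_mem_commutator (Subgroup.mem_top g) (Subgroup.mem_top x))
  have h2 : g * x * g⁻¹ = ⁅g, x⁆ * x := by
    rw [commutatorElement_def]; group
  rw [h2]
  exact H.mul_mem h1 hx

theorem commutator_quotient {G : Type*} [Group G] (N : Subgroup G) [N.Normal] :
    commutator (G ⧸ N) = (commutator G).map (QuotientGroup.mk' N) := by
  rw [commutator_def, commutator_def, Subgroup.map_commutator,
    Subgroup.map_top_of_surjective _ (QuotientGroup.mk'_surjective N)]

theorem squarefree_card_commutator_aux : ∀ (n : ℕ) (G : Type u) [Group G] [Finite G],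
    Nat.card G = n →
    (∀ x : G, Squarefree (Subgroup.centralizer ({x} : Set G)).index) →
    Squarefree (Nat.card (commutator G)) := by
  intro n
  induction n using Nat.strong_induction_on with
  | _ n ih =>
    intro G _ _ hn h
    classical
    rw [Nat.squarefree_iff_prime_squarefree]
    intro q hq hdvd
    haveI : Fact q.Prime := ⟨hq⟩
    -- Step 1
    have step1 : ∀ N : Subgroup G, N.Normal → N ≠ ⊥ →
        q ∣ Nat.card ↥(commutator G ⊓ N) := by
      intro N hNn hN1
      haveI := hNn
      by_contra hnd
      have hmul := Cfsg.Agent.Lib.Helper8.K7.card_eq_inf_mul_map (commutator G) N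
      have hcop : Nat.Coprime (q * q) (Nat.card ↥(commutator G ⊓ N)) := by
        apply Nat.Coprime.mul_left <;> exact (hq.coprime_iff_not_dvd).mpr hnd
      rw [hmul] at hdvd
      have hd2 : q * q ∣ Nat.card ↥((commutator G).map (QuotientGroup.mk' N)) :=
        hcop.dvd_of_dvd_mul_left hdvd
      have hmulN : Nat.card N * N.index = Nat.card G := Subgroup.card_mul_index N
      have hcN1 : 1 < Nat.card N := (Subgroup.one_lt_card_iff_ne_bot (H := N)).mpr hN1
      have hcQ : Nat.card (G ⧸ N) < n := by
        rw [← hn, ← hmulN]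
        have h1 : Nat.card (G ⧸ N) = N.index := rfl
        rw [h1]
        have h2 : 0 < N.index := Nat.pos_of_ne_zero Subgroup.index_ne_zero_of_finite
        nlinarith
      have hsq := ih _ hcQ (G ⧸ N) rfl (squarefree_index_quotient h N)
      rw [commutator_quotient, Nat.squarefree_iff_prime_squarefree] at hsq
      exact hsq q hq hd2
    -- Step 2
    have step2 : Cfsg.pPrimeCore q G = ⊥ := by
      rw [Cfsg.pPrimeCore, sSup_eq_bot]
      rintro N ⟨hNn, hNc⟩
      by_contra hN1
      have h1 := step1 N hNn hN1
      have h2 : Nat.card ↥(commutator G ⊓ N) ∣ Nat.card N :=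
        Subgroup.card_dvd_of_le inf_le_right
      have h3 : q ∣ Nat.card N := h1.trans h2
      have := Nat.Coprime.eq_one_of_dvd hNc.symm h3
      exact hq.one_lt.ne' this
    -- Step 3
    have hss := isSupersolvable_of_squarefree_index h
    have hnil := Cfsg.Agent.Lib.Helper1.isNilpotent_commutator_of_isSupersolvable G hss
    have hF := Cfsg.Agent.Lib.Helper1.fittingSubgroup_eq_pCore_of_pPrimeCore_eq_bot q step2
    have hle : commutator G ≤ Cfsg.pCore q G := by
      rw [← hF]
      exact Cfsg.Agent.Lib.Helper1.le_fittingSubgroup (inferInstance : (commutator G).Normal) hnil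
    obtain Q : Sylow q G := default
    have hab : commutator G ≤ (Q : Subgroup G) :=
      hle.trans (Cfsg.Agent.Lib.Helper1.pCore_le_sylow q Q)
    have hQn : (Q : Subgroup G).Normal := normal_of_commutator_le _ hab
    exact Cfsg.Agent.Lib.Helper1.SqF.not_sq_dvd_card_commutator_of_normal_sylow h Q hQn hab (by rwa [pow_two])

theorem squarefree_card_commutator {G : Type u} [Group G] [Finite G]
    (h : ∀ x : G, Squarefree (Subgroup.centralizer ({x} : Set G)).index) :
    Squarefree (Nat.card (commutator G)) := squarefree_card_commutator_aux _ G rfl h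

end Cfsg.Agent.Lib.Helper6.SqF
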