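import Mathlib
import Cfsg.Agent.Lib.Helper1.Fitting
import Cfsg.Agent.Lib.Helper1.FittingMinimalNormal

set_option autoImplicit false
open scoped commutatorElement

namespace Cfsg.Agent.Lib.Helper6.SqF

universe u

/-- A normal cyclic subgroup of squarefree order is centralized by the Fitting subgroup. -/
theorem fitting_le_centralizer_of_cyclic_squarefree {G : Type u} [Group G] [Finite G]
    (D : Subgroup G) [hDn : D.Normal] (hcyc : IsCyclic D) (hsq : Squarefree (Nat.card D)) :
    Cfsg.fittingSubgroup G ≤ Subgroup.centralizer (D : Set G) := by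
  classical
  set F := Cfsg.fittingSubgroup G with hF
  -- H := elements of D centralized by F
  have key : (Subgroup.centralizer (F : Set G)).subgroupOf D = ⊤ := by
    apply Cfsg.Agent.Lib.Helper1.eq_top_of_forall_sylow_le
    intro p hp
    obtain P : Sylow p D := default
    refine ⟨P, ?_⟩
    -- the subgroup D_p of elements of D of order dividing p
    have hDc : ∀ a ∈ D, ∀ b ∈ D, a * b = b * a := by
      intro a ha b hb
      have := (IsCyclic.commGroup (α := D)).mul_comm ⟨a, ha⟩ ⟨b, hb⟩
      exact congrArg Subtype.val this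
    let Dp : Subgroup G :=
      { carrier := {x | x ∈ D ∧ x ^ p = 1}
        one_mem' := ⟨D.one_mem, one_pow p⟩
        mul_mem' := by
          rintro a b ⟨ha, ha1⟩ ⟨hb, hb1⟩
          refine ⟨D.mul_mem ha hb, ?_⟩
          rw [(show Commute a b from hDc a ha b hb).mul_pow, ha1, hb1, one_mul]
        inv_mem' := by
          rintro a ⟨ha, ha1⟩
          exact ⟨D.inv_mem ha, by rw [inv_pow, ha1, inv_one]⟩ }
    have hDpn : Dp.Normal := by
      refine ⟨fun x hx g => ?_⟩
      obtain ⟨hxD, hx1⟩ := hx
      refine ⟨hDn.conj_mem x hxD g, ?_⟩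
      rw [conj_pow, hx1, mul_one, mul_inv_cancel]
    have hDpD : Dp ≤ D := fun x hx => hx.1
    -- card Dp ≤ p
    have hcardDp : Nat.card Dp ≤ p := by
      have h1 : Nat.card Dp = Nat.card {x : D // x ^ p = 1} := by
        apply Nat.card_congr
        refine ⟨fun x => ⟨⟨x.1, x.2.1⟩, Subtype.ext x.2.2⟩,
          fun x => ⟨x.1.1, ⟨x.1.2, congrArg Subtype.val x.2⟩⟩, fun x => rfl, fun x => rfl⟩
      rw [h1]
      haveI : Fintype D := Fintype.ofFinite D
      have h2 := IsCyclic.card_pow_eq_one_le (α := D) hp.out.pos
      rw [Nat.card_eq_fintype_card, Fintype.card_subtype]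
      exact h2
    -- P ≤ Dp (as subgroups of D): all elements of P have p-th power 1
    have hPcard : Nat.card P ∣ p := by
      obtain ⟨k, hk⟩ := P.2.exists_card_eq
      have hdvd : Nat.card P ∣ Nat.card D := Subgroup.card_subgroup_dvd_card _
      have hsqP : Squarefree (Nat.card P) := Squarefree.squarefree_of_dvd hdvd hsq
      rw [hk] at hsqP ⊢
      rcases k with _ | _ | k
      · simp
      · simp
      · exfalso
        have h1 : p * p ∣ p ^ (k + 1 + 1) := ⟨p ^ k, by ring⟩
        exact hp.out.one_lt.ne' (Nat.isUnit_iff.mp (hsqP p h1))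
    intro x hx
    rw [Subgroup.mem_subgroupOf]
    have hxp : (x : G) ^ p = 1 := by
      have h1 : (⟨x, hx⟩ : P) ^ Nat.card P = 1 := pow_card_eq_one'
      obtain ⟨m, hm⟩ := hPcard
      have h2 : (⟨x, hx⟩ : P) ^ p = 1 := by
        have : (⟨x, hx⟩ : P) ^ (Nat.card P * m) = 1 := by rw [pow_mul, h1, one_pow]
        rwa [← hm] at this
      have h3 := congrArg (fun y : P => ((y : D) : G)) h2
      simpa using h3
    have hxDp : (x : G) ∈ Dp := ⟨x.2, hxp⟩
    -- F centralizes Dp
    by_cases hDp1 : Dp = ⊥
    · rw [hDp1, Subgroup.mem_bot] at hxDp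
      rw [hxDp]
      exact Subgroup.one_mem _
    · have hmin : ∀ K : Subgroup G, K.Normal → K ≤ Dp → K = ⊥ ∨ K = Dp := by
        intro K _ hK
        have hcDp : Nat.card Dp = p := by
          have hpg : IsPGroup p Dp := by
            intro y
            exact ⟨1, by rw [pow_one]; exact Subtype.ext y.2.2⟩
          obtain ⟨k, hk⟩ := hpg.exists_card_eq
          rcases k with _ | _ | k
          · exfalso
            rw [pow_zero] at hk
            exact hDp1 (Subgroup.card_eq_one.mp hk)
          · rwa [pow_one] at hk
          · exfalso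
            rw [hk] at hcardDp
            have : p ^ (k + 1 + 1) = p * (p * p ^ k) := by ring
            rw [this] at hcardDp
            have h2 := hp.out.two_le
            have h3 : 0 < p ^ k := pow_pos hp.out.pos k
            have h4 : p * 1 < p * (p * p ^ k) := by
              apply Nat.mul_lt_mul_of_pos_left _ hp.out.pos
              nlinarith
            omega
        have hKd : Nat.card K ∣ p := hcDp ▸ Subgroup.card_dvd_of_le hK
        rcases (Nat.dvd_prime hp.out).mp hKd with h1 | h1
        · left; exact Subgroup.card_eq_one.mp h1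
        · right
          apply Subgroup.eq_of_le_of_card_ge hK
          rw [h1, hcDp]
      have hle := Cfsg.Agent.Lib.Helper1.fittingSubgroup_le_centralizer_minimal_normal Dp hDp1 hmin
      rw [Subgroup.mem_centralizer_iff]
      intro f hf
      have := hle hf
      rw [Subgroup.mem_centralizer_iff] at this
      exact (this (x : G) hxDp).symm
  intro f hf
  rw [Subgroup.mem_centralizer_iff]
  intro d hd
  have hmem : (⟨d, hd⟩ : D) ∈ (Subgroup.centralizer (F : Set G)).subgroupOf D := by
    rw [key]; trivial
  rw [Subgroup.mem_subgroupOf, Subgroup.mem_centralizer_iff] at hmem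
  exact (hmem f hf).symm

end Cfsg.Agent.Lib.Helper6.SqF
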