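import Mathlib
import Cfsg.Agent.Lib.Helper8.FS2
import Cfsg.Agent.Lib.Helper5.AltForm
import Cfsg.Agent.Lib.Helper6.Invariants

set_option autoImplicit false

/-!
# Symplectic irreducible characters have even-dimensional fixed spaces

If an irreducible complex representation has Frobenius–Schur indicator `-1` then the fixed space
of every subgroup has even dimension (the invariant alternating form restricts to a
non-degenerate alternating form on the fixed space).
-/

namespace Cfsg.Agent.Lib.Helper6.SrZ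

open Cfsg Cfsg.Agent.Lib.Helper6 Cfsg.Agent.Lib.Helper8.FS Module
open scoped ComplexConjugate
open Matrix

variable {G : Type*} [Group G] [Fintype G] {n : ℕ}

/-- the bilinear form of an invariant matrix is invariant -/
theorem toBilin_inv {ρ : Representation ℂ G (Fin n → ℂ)} {M : Matrix (Fin n) (Fin n) ℂ}
    (hM : IsInv ρ M) (g : G) (v w : Fin n → ℂ) :
    Matrix.toBilin' M (ρ g v) (ρ g w) = Matrix.toBilin' M v w := by
  have h := Matrix.toBilin'_comp M (mat ρ g) (mat ρ g)
  rw [hM g, toLin'_mat] at h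
  have h2 := congrArg (fun B : LinearMap.BilinForm ℂ (Fin n → ℂ) => B v w) h
  simp only [LinearMap.BilinForm.comp_apply] at h2
  exact h2

/-- a skew-symmetric matrix gives an alternating form -/
theorem toBilin_alt {M : Matrix (Fin n) (Fin n) ℂ} (hT : Mᵀ = -M) (v : Fin n → ℂ) :
    Matrix.toBilin' M v v = 0 := by
  rw [Matrix.toBilin'_apply']
  have h1 : v ⬝ᵥ M *ᵥ v = -(v ⬝ᵥ M *ᵥ v) := by
    calc v ⬝ᵥ M *ᵥ v = (M *ᵥ v) ⬝ᵥ v := dotProduct_comm _ _
      _ = (v ᵥ* Mᵀ) ⬝ᵥ v := by rw [Matrix.vecMul_transpose]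
      _ = v ⬝ᵥ Mᵀ *ᵥ v := (dotProduct_mulVec _ _ _).symm
      _ = v ⬝ᵥ (-M) *ᵥ v := by rw [hT]
      _ = -(v ⬝ᵥ M *ᵥ v) := by rw [Matrix.neg_mulVec, dotProduct_neg]
  have h2 : (2 : ℂ) * (v ⬝ᵥ M *ᵥ v) = 0 := by linear_combination h1
  rcases mul_eq_zero.mp h2 with h | h
  · norm_num at h
  · exact h

/-- the form of an invertible matrix is non-degenerate -/
theorem eq_zero_of_toBilin {M : Matrix (Fin n) (Fin n) ℂ} (hU : IsUnit M) (w : Fin n → ℂ)
    (h : ∀ v, Matrix.toBilin' M w v = 0) : w = 0 := by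
  have hdet : M.det ≠ 0 := ((Matrix.isUnit_iff_isUnit_det M).mp hU).ne_zero
  apply Matrix.eq_zero_of_vecMul_eq_zero hdet
  apply dotProduct_eq_zero
  intro v
  rw [← dotProduct_mulVec, ← Matrix.toBilin'_apply']
  exact h v

/-- **Symplectic type forces even fixed spaces.** -/
theorem even_finrank_fixedSpace (ρ : Representation ℂ G (Fin n → ℂ)) [ρ.IsIrreducible]
    (hfs : fsInd ρ.character = -1) (P : Subgroup G) :
    Even (finrank ℂ (fixedSpace ρ P)) := by
  classical
  haveI : Fintype P := Fintype.ofFinite P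
  have hreal : ∀ g : G, conj (ρ.character g) = ρ.character g := by
    by_contra hcon
    push Not at hcon
    have h0 := fsInd_eq_zero_of_not_real (ρ := ρ) hcon
    rw [h0] at hfs
    norm_num at hfs
  obtain ⟨M, hM0, hM⟩ := exists_isInv_of_real hreal
  have hT : Mᵀ = -M := by
    rw [transpose_eq_of_isInv hM, hfs, neg_one_smul]
  have hU : IsUnit M := hM.isUnit hM0
  have hcard : (Nat.card P : ℂ) ≠ 0 := card_ne_zero_complex P
  -- averaging
  have havg : ∀ v : Fin n → ℂ,
      ((Nat.card P : ℂ)⁻¹ • ∑ h : P, ρ (h : G) v) ∈ fixedSpace ρ P := by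
    intro v
    rw [mem_fixedSpace]
    intro x hx
    rw [map_smul, map_sum]
    congr 1
    have hstep : ∀ h : P, ρ x (ρ (h : G) v) = ρ (((⟨x, hx⟩ : P) * h : P) : G) v := by
      intro h
      rw [Subgroup.coe_mul, map_mul]
      rfl
    rw [Finset.sum_congr rfl (fun h _ => hstep h)]
    exact Fintype.sum_bijective (fun h : P => (⟨x, hx⟩ : P) * h) (Group.mulLeft_bijective _)
      _ _ (fun _ => rfl)
  have hBavg : ∀ (w : Fin n → ℂ), w ∈ fixedSpace ρ P → ∀ v : Fin n → ℂ,
      Matrix.toBilin' M w ((Nat.card P : ℂ)⁻¹ • ∑ h : P, ρ (h : G) v)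
        = Matrix.toBilin' M w v := by
    intro w hw v
    rw [mem_fixedSpace] at hw
    rw [map_smul, map_sum]
    have hstep : ∀ h : P, Matrix.toBilin' M w (ρ (h : G) v) = Matrix.toBilin' M w v := by
      intro h
      have h1 := toBilin_inv hM (h : G) w v
      rw [hw (h : G) h.2] at h1
      exact h1
    rw [Finset.sum_congr rfl (fun h _ => hstep h), Finset.sum_const, Finset.card_univ,
      smul_eq_mul, nsmul_eq_mul, ← Nat.card_eq_fintype_card, ← mul_assoc,
      inv_mul_cancel₀ hcard, one_mul]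
  have hAlt : ((Matrix.toBilin' M).restrict (fixedSpace ρ P)).IsAlt := by
    intro w
    show Matrix.toBilin' M (w : Fin n → ℂ) (w : Fin n → ℂ) = 0
    exact toBilin_alt hT (w : Fin n → ℂ)
  have hker : LinearMap.ker ((Matrix.toBilin' M).restrict (fixedSpace ρ P)) = ⊥ := by
    rw [LinearMap.ker_eq_bot']
    intro w hw
    have h1 : ∀ w' : fixedSpace ρ P,
        Matrix.toBilin' M (w : Fin n → ℂ) (w' : Fin n → ℂ) = 0 := by
      intro w'
      exact LinearMap.congr_fun hw w'
    have h2 : (w : Fin n → ℂ) = 0 := by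
      apply eq_zero_of_toBilin hU
      intro v
      rw [← hBavg (w : Fin n → ℂ) w.2 v]
      exact h1 ⟨_, havg v⟩
    exact Subtype.ext h2
  obtain ⟨m, e, f, -, -, -, hm⟩ :=
    Cfsg.Agent.Lib.Helper5.AltForm.exists_hyp_family (F := ℂ) (finrank ℂ (fixedSpace ρ P))
      ((Matrix.toBilin' M).restrict (fixedSpace ρ P)) hAlt rfl
  rw [hker, finrank_bot, add_zero] at hm
  exact ⟨m, by omega⟩

end Cfsg.Agent.Lib.Helper6.SrZ
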