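import Mathlib
import Cfsg.Agent.Lib.Helper6.SrZ1
import Cfsg.Agent.Lib.Helper6.BlkNormalDef
import Cfsg.Agent.Lib.Helper6.CliffordDeg
import Cfsg.Agent.Lib.Helper6.Multiplicity
import Cfsg.Agent.Lib.Helper6.Norm
import Cfsg.Agent.S0887
import Cfsg.Agent.S0146

set_option autoImplicit false
set_option linter.unusedSectionVars false

/-!
# A strongly real character over a real-orbit character of 2-defect zero

`N ⊴ G` with `G/N` a 2-group, `φ ∈ Irr(N)` of 2-defect zero whose complex conjugate is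
`G`-conjugate to `φ`.  Counting `∑_χ [χ_N, φ]·[χ_P, 1_P]` (P a Sylow 2-subgroup) gives an odd
number; non-real characters cancel in pairs and symplectic characters contribute even numbers.
-/

namespace Cfsg.Agent.Lib.Helper6.SrZ

open Cfsg Cfsg.Agent.Lib.Helper6 Cfsg.Agent.Lib.Helper8.FS Module
open scoped ComplexConjugate

section

variable {H : Type*} [Group H] [Fintype H]

theorem classInner_conj_left (f g : H → ℂ) :
    Cfsg.classInner (fun x => conj (f x)) g
      = conj (Cfsg.classInner f (fun x => conj (g x))) := by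
  unfold Cfsg.classInner
  rw [map_mul, map_inv₀, Complex.conj_natCast, map_sum]
  congr 1
  apply Finset.sum_congr rfl
  intro x _
  rw [map_mul, Complex.conj_conj]

end

variable {G : Type*} [Group G] [Fintype G]
variable (N : Subgroup G) [Fintype N] [hN : N.Normal]

/-- the induced character of a 2-defect zero character summed over a 2-subgroup -/
theorem sum_indFun_two_subgroup (φ : Cfsg.IrrCharacter N)
    (hdef : 2 ^ (Nat.card N).factorization 2 ∣ Cfsg.charDegree (φ : N → ℂ))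
    (P : Subgroup G) (hP : IsPGroup 2 P) [Fintype P] :
    ∑ h : P, Cfsg.indFun N (φ : N → ℂ) (h : G) = (N.index : ℂ) * (φ : N → ℂ) 1 := by
  classical
  rw [← indFun_one N (φ : N → ℂ)]
  rw [Finset.sum_eq_single (1 : P)]
  · rfl
  · intro h _ hne
    by_cases hmem : (h : G) ∈ N
    · have h1 := indFun_apply_of_normal N hN (φ : N → ℂ) ⟨(h : G), hmem⟩
      have h2 : Cfsg.indFun N (φ : N → ℂ) (h : G)
          = (Nat.card N : ℂ)⁻¹ * ∑ x : G, conjFun N hN (φ : N → ℂ) x ⟨(h : G), hmem⟩ := h1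
      rw [h2, Finset.sum_eq_zero, mul_zero]
      intro x _
      rw [conjFun_apply]
      apply IsIrrCharacter.eq_zero_of_defect_zero φ.2 2 _ Nat.prime_two (Nat.ordProj_dvd _ _)
        (Nat.pow_succ_factorization_not_dvd (Nat.card_pos.ne') Nat.prime_two) hdef
      rw [Subgroup.orderOf_mk]
      have h3 : x * (h : G) * x⁻¹ = MulAut.conj x (h : G) := (MulAut.conj_apply x _).symm
      rw [h3, MulEquiv.orderOf_eq, Subgroup.orderOf_coe]
      obtain ⟨k, hk⟩ := (IsPGroup.iff_orderOf.mp hP) h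
      rw [hk]
      have hk0 : k ≠ 0 := by
        rintro rfl
        rw [pow_zero, orderOf_eq_one_iff] at hk
        exact hne hk
      exact dvd_pow_self 2 hk0
    · exact indFun_apply_of_not_mem N hN _ hmem
  · intro h
    exact absurd (Finset.mem_univ _) h

/-- expansion of the same sum through the irreducible characters of `G` -/
theorem sum_indFun_eq_sum_mult [Fintype (Cfsg.IrrCharacter G)] (φ : Cfsg.IrrCharacter N)
    (P : Subgroup G) [Fintype P] (e a : Cfsg.IrrCharacter G → ℕ)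
    (he : ∀ χ : Cfsg.IrrCharacter G,
      Cfsg.classInner (fun n : N => (χ : G → ℂ) n) (φ : N → ℂ) = e χ)
    (ha : ∀ χ : Cfsg.IrrCharacter G,
      Cfsg.classInner (fun h : P => (χ : G → ℂ) h) (fun _ => (1 : ℂ)) = a χ) :
    ∑ h : P, Cfsg.indFun N (φ : N → ℂ) (h : G)
      = (Nat.card P : ℂ) * ∑ χ : Cfsg.IrrCharacter G, (e χ : ℂ) * (a χ : ℂ) := by
  classical
  have hA : Cfsg.IsCharacter G (Cfsg.indFun N (φ : N → ℂ)) :=
    IsCharacter.indFun N (IsIrrCharacter.isCharacter φ.2)
  have h1 := classFunction_eq_sum (Cfsg.indFun N (φ : N → ℂ)) (IsCharacter.isClassFunction hA)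
  have hcoef : ∀ χ : Cfsg.IrrCharacter G,
      Cfsg.classInner (Cfsg.indFun N (φ : N → ℂ)) (χ : G → ℂ) = e χ := by
    intro χ
    rw [Cfsg.Agent.S0146.result N (φ : N → ℂ) (χ : G → ℂ) (IsIrrCharacter.isClassFunction χ.2),
      ← classInner_conj_symm, he χ, Complex.conj_natCast]
  have hval : ∀ g : G, Cfsg.indFun N (φ : N → ℂ) g
      = ∑ χ : Cfsg.IrrCharacter G, (e χ : ℂ) * (χ : G → ℂ) g := by
    intro g
    have h2 := congrFun h1 g
    simp only [Finset.sum_apply, Pi.smul_apply, smul_eq_mul] at h2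
    rw [h2]
    apply Finset.sum_congr rfl
    intro χ _
    rw [hcoef χ]
  have hP0 : (Nat.card P : ℂ) ≠ 0 := card_ne_zero_complex P
  have hsumP : ∀ χ : Cfsg.IrrCharacter G,
      ∑ h : P, (χ : G → ℂ) (h : G) = (Nat.card P : ℂ) * (a χ : ℂ) := by
    intro χ
    have h3 := ha χ
    unfold Cfsg.classInner at h3
    simp only [map_one, mul_one] at h3
    rw [← h3, ← mul_assoc, mul_inv_cancel₀ hP0, one_mul]
  have hstep : ∑ h : P, Cfsg.indFun N (φ : N → ℂ) (h : G)
      = ∑ h : P, ∑ χ : Cfsg.IrrCharacter G, (e χ : ℂ) * (χ : G → ℂ) (h : G) :=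
    Finset.sum_congr rfl (fun h _ => hval (h : G))
  rw [hstep, Finset.sum_comm, Finset.mul_sum]
  apply Finset.sum_congr rfl
  intro χ _
  rw [← Finset.mul_sum, hsumP χ]
  ring

/-- an odd multiplicity over a normal subgroup of 2-power index is one -/
theorem mult_eq_one_of_odd (k : ℕ) (hidx : N.index = 2 ^ k) (χ : Cfsg.IrrCharacter G)
    (φ : Cfsg.IrrCharacter N) (e : ℕ)
    (he : Cfsg.classInner (fun n : N => (χ : G → ℂ) n) (φ : N → ℂ) = e) (hodd : Odd e) :
    e = 1 := by
  classical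
  haveI : Fintype (Cfsg.IrrCharacter N) := Fintype.ofFinite _
  have he0 : e ≠ 0 := by
    rintro rfl
    exact (Nat.not_odd_iff_even.mpr (by decide : Even 0)) hodd
  have hc : Cfsg.classInner (fun n : N => (χ : G → ℂ) n) (φ : N → ℂ) ≠ 0 := by
    rw [he]
    exact_mod_cast he0
  have hχ1 := IsCharacter.apply_one_eq_charDegree (IsIrrCharacter.isCharacter χ.2)
  have hφ1 := IsCharacter.apply_one_eq_charDegree (IsIrrCharacter.isCharacter φ.2)
  obtain ⟨hdvd, hquot⟩ := Cfsg.Agent.S0887.result N (χ : G → ℂ) χ.2 (φ : N → ℂ) φ.2 hc _ _ hχ1 hφ1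
  -- the degree formula
  have h := restrict_apply_one_eq_sum N (IsIrrCharacter.isCharacter χ.2)
  have hterm : ∀ ψ : Cfsg.IrrCharacter N, ∃ m : ℕ,
      (ψ : N → ℂ) 1 * Cfsg.classInner (fun n : N => (χ : G → ℂ) n) (ψ : N → ℂ)
        = (φ : N → ℂ) 1 * ((e * m : ℕ) : ℂ) := by
    intro ψ
    by_cases h0 : Cfsg.classInner (fun n : N => (χ : G → ℂ) n) (ψ : N → ℂ) = 0
    · exact ⟨0, by rw [h0]; simp⟩
    · obtain ⟨g, hg⟩ := exists_conjFun_eq_of_constituents N hN χ.2 φ.2 ψ.2 hc h0
      refine ⟨1, ?_⟩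
      rw [hg, conjFun_apply_one,
        classInner_restrict_conjFun N hN (IsIrrCharacter.isClassFunction χ.2), he, mul_one]
  choose m hm using hterm
  rw [Finset.sum_congr rfl (fun ψ _ => hm ψ), ← Finset.mul_sum, hχ1, hφ1, ← Nat.cast_sum,
    ← Nat.cast_mul] at h
  have h' : Cfsg.charDegree (χ : G → ℂ)
      = Cfsg.charDegree (φ : N → ℂ) * ∑ ψ, e * m ψ := by exact_mod_cast h
  have hdpos : 0 < Cfsg.charDegree (φ : N → ℂ) := IsIrrCharacter.charDegree_pos φ.2
  have hq : Cfsg.charDegree (χ : G → ℂ) / Cfsg.charDegree (φ : N → ℂ) = e * ∑ ψ, m ψ := by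
    rw [h', Nat.mul_div_cancel_left _ hdpos, Finset.mul_sum]
  rw [hq, hidx] at hquot
  have hedvd : e ∣ 2 ^ k := dvd_trans (dvd_mul_right e _) hquot
  obtain ⟨j, -, hj⟩ := (Nat.dvd_prime_pow Nat.prime_two).mp hedvd
  rcases j with _ | j
  · rw [hj, pow_zero]
  · exfalso
    rw [hj] at hodd
    exact (Nat.not_odd_iff_even.mpr (Nat.even_pow.mpr ⟨even_two, Nat.succ_ne_zero j⟩)) hodd

/-- **Main theorem.** -/
theorem exists_strongly_real_over (h2 : IsPGroup 2 (G ⧸ N)) (φ : Cfsg.IrrCharacter N)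
    (hdef : 2 ^ (Nat.card N).factorization 2 ∣ Cfsg.charDegree (φ : N → ℂ))
    (hconj : ∃ g : G, conjFun N hN (φ : N → ℂ) g = fun n => conj ((φ : N → ℂ) n)) :
    ∃ χ : Cfsg.IrrCharacter G, fsInd (χ : G → ℂ) = 1 ∧
      Cfsg.classInner (fun n : N => (χ : G → ℂ) n) (φ : N → ℂ) = 1 := by
  classical
  haveI : Fintype (Cfsg.IrrCharacter G) := Fintype.ofFinite _
  obtain ⟨g₀, hg₀⟩ := hconj
  let P : Sylow 2 G := default
  haveI : Fintype (P : Subgroup G) := Fintype.ofFinite _
  have hE : ∀ χ : Cfsg.IrrCharacter G, ∃ e : ℕ,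
      Cfsg.classInner (fun n : N => (χ : G → ℂ) n) (φ : N → ℂ) = e :=
    fun χ => IsCharacter.classInner_irr_nat
      (IsCharacter.restrict N (IsIrrCharacter.isCharacter χ.2)) φ.2
  have hA : ∀ χ : Cfsg.IrrCharacter G, ∃ a : ℕ,
      Cfsg.classInner (fun h : (P : Subgroup G) => (χ : G → ℂ) h) (fun _ => (1 : ℂ)) = a :=
    fun χ => IsCharacter.classInner_irr_nat
      (IsCharacter.restrict (P : Subgroup G) (IsIrrCharacter.isCharacter χ.2)) isIrrCharacter_one
  choose e he using hE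
  choose a ha using hA
  -- the counting identity
  have hkey : (∑ χ : Cfsg.IrrCharacter G, e χ * a χ) * Nat.card (P : Subgroup G)
      = N.index * Cfsg.charDegree (φ : N → ℂ) := by
    have h1 := sum_indFun_two_subgroup N φ hdef (P : Subgroup G) P.isPGroup'
    have h3 := sum_indFun_eq_sum_mult N φ (P : Subgroup G) e a he ha
    rw [h1, IsCharacter.apply_one_eq_charDegree (IsIrrCharacter.isCharacter φ.2)] at h3
    have h4 : ((N.index * Cfsg.charDegree (φ : N → ℂ) : ℕ) : ℂ)
        = (((∑ χ : Cfsg.IrrCharacter G, e χ * a χ) * Nat.card (P : Subgroup G) : ℕ) : ℂ) := by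
      push_cast
      rw [h3]
      ring
    exact (Nat.cast_injective h4).symm
  -- arithmetic
  obtain ⟨k, hk⟩ : ∃ k : ℕ, N.index = 2 ^ k := by
    obtain ⟨k, hk⟩ := IsPGroup.iff_card.mp h2
    exact ⟨k, by rw [Subgroup.index_eq_card, hk]⟩
  have hNpos : Nat.card N ≠ 0 := Nat.card_pos.ne'
  have hfac : (Nat.card G).factorization 2 = (Nat.card N).factorization 2 + k := by
    rw [← Subgroup.card_mul_index N, hk, Nat.factorization_mul hNpos (by positivity),
      Nat.Prime.factorization_pow Nat.prime_two]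
    simp
  have hPcard : Nat.card (P : Subgroup G) = 2 ^ ((Nat.card N).factorization 2 + k) := by
    rw [P.card_eq_multiplicity, hfac]
  obtain ⟨m', hm'⟩ := hdef
  have hm'odd : Odd m' := by
    rw [← Nat.not_even_iff_odd]
    rintro ⟨r, hr⟩
    apply Nat.pow_succ_factorization_not_dvd hNpos Nat.prime_two
    apply dvd_trans _ (IsIrrCharacter.charDegree_dvd_card φ.2)
    rw [hm', hr, pow_succ]
    exact ⟨r, by ring⟩
  have hsum : ∑ χ : Cfsg.IrrCharacter G, e χ * a χ = m' := by
    rw [hPcard, hk, hm'] at hkey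
    have hpos : 0 < 2 ^ ((Nat.card N).factorization 2 + k) := by positivity
    apply Nat.eq_of_mul_eq_mul_right hpos
    rw [hkey, pow_add]
    ring
  -- complex conjugation on the irreducible characters
  let c : Cfsg.IrrCharacter G → Cfsg.IrrCharacter G :=
    fun χ => ⟨fun g => conj ((χ : G → ℂ) g), IsIrrCharacter.conj χ.2⟩
  have hcc : ∀ χ, c (c χ) = χ := by
    intro χ
    apply Subtype.ext
    funext g
    show conj (conj ((χ : G → ℂ) g)) = (χ : G → ℂ) g
    exact Complex.conj_conj _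
  have hec : ∀ χ, e (c χ) = e χ := by
    intro χ
    have h1 : ((e (c χ) : ℕ) : ℂ) = ((e χ : ℕ) : ℂ) := by
      calc ((e (c χ) : ℕ) : ℂ)
          = Cfsg.classInner (fun n : N => conj ((χ : G → ℂ) n)) (φ : N → ℂ) := (he (c χ)).symm
        _ = conj (Cfsg.classInner (fun n : N => (χ : G → ℂ) n)
              (fun n => conj ((φ : N → ℂ) n))) :=
            classInner_conj_left (fun n : N => (χ : G → ℂ) n) (φ : N → ℂ)
        _ = conj (Cfsg.classInner (fun n : N => (χ : G → ℂ) n) (φ : N → ℂ)) := by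
            rw [← hg₀, classInner_restrict_conjFun N hN (IsIrrCharacter.isClassFunction χ.2)]
        _ = ((e χ : ℕ) : ℂ) := by rw [he χ, Complex.conj_natCast]
    exact Nat.cast_injective h1
  have hac : ∀ χ, a (c χ) = a χ := by
    intro χ
    have h1 : ((a (c χ) : ℕ) : ℂ) = ((a χ : ℕ) : ℂ) := by
      calc ((a (c χ) : ℕ) : ℂ)
          = Cfsg.classInner (fun h : (P : Subgroup G) => conj ((χ : G → ℂ) h))
              (fun _ => (1 : ℂ)) := (ha (c χ)).symm
        _ = conj (Cfsg.classInner (fun h : (P : Subgroup G) => (χ : G → ℂ) h)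
              (fun _ => conj (1 : ℂ))) :=
            classInner_conj_left (fun h : (P : Subgroup G) => (χ : G → ℂ) h) (fun _ => (1 : ℂ))
        _ = ((a χ : ℕ) : ℂ) := by rw [map_one, ha χ, Complex.conj_natCast]
    exact Nat.cast_injective h1
  -- parity
  have hpar : ∑ χ : Cfsg.IrrCharacter G, ((e χ * a χ : ℕ) : ZMod 2) = 1 := by
    rw [← Nat.cast_sum, hsum]
    exact ZMod.natCast_eq_one_iff_odd.mpr hm'odd
  have hnonreal : ∑ χ ∈ Finset.univ.filter
      (fun χ : Cfsg.IrrCharacter G => ¬ ∀ g : G, conj ((χ : G → ℂ) g) = (χ : G → ℂ) g),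
      ((e χ * a χ : ℕ) : ZMod 2) = 0 := by
    apply Finset.sum_involution (fun χ _ => c χ)
    · intro χ _
      rw [hec χ, hac χ]
      exact CharTwo.add_self_eq_zero _
    · intro χ hχ _ heq
      rw [Finset.mem_filter] at hχ
      apply hχ.2
      intro g
      have := congrArg (fun ψ : Cfsg.IrrCharacter G => (ψ : G → ℂ) g) heq
      exact this
    · intro χ hχ
      rw [Finset.mem_filter] at hχ ⊢
      refine ⟨Finset.mem_univ _, ?_⟩
      intro hreal
      apply hχ.2
      intro g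
      have h1 : conj (conj ((χ : G → ℂ) g)) = conj ((χ : G → ℂ) g) := hreal g
      rw [Complex.conj_conj] at h1
      exact h1.symm
    · intro χ _
      exact hcc χ
  have hrealsum : ∑ χ ∈ Finset.univ.filter
      (fun χ : Cfsg.IrrCharacter G => ∀ g : G, conj ((χ : G → ℂ) g) = (χ : G → ℂ) g),
      ((e χ * a χ : ℕ) : ZMod 2) = 1 := by
    have h1 := Finset.sum_filter_add_sum_filter_not (Finset.univ : Finset (Cfsg.IrrCharacter G))
      (fun χ : Cfsg.IrrCharacter G => ∀ g : G, conj ((χ : G → ℂ) g) = (χ : G → ℂ) g)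
      (fun χ => ((e χ * a χ : ℕ) : ZMod 2))
    rw [hnonreal, add_zero, hpar] at h1
    exact h1
  obtain ⟨χ, hχmem, hχne⟩ := Finset.exists_ne_zero_of_sum_ne_zero
    (by rw [hrealsum]; exact one_ne_zero)
  rw [Finset.mem_filter] at hχmem
  have hreal := hχmem.2
  have hoddea : Odd (e χ * a χ) := by
    rw [← Nat.not_even_iff_odd]
    intro hev
    exact hχne (ZMod.natCast_eq_zero_iff_even.mpr hev)
  obtain ⟨hoe, hoa⟩ := Nat.odd_mul.mp hoddea
  refine ⟨χ, ?_, ?_⟩
  · rcases fsInd_irr_of_real χ hreal with h | h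
    · exact h
    · exfalso
      obtain ⟨n, ρ, hirr, hρ⟩ := χ.2
      haveI := hirr
      have hev := even_finrank_fixedSpace ρ (by rw [hρ]; exact h) (P : Subgroup G)
      have h5 := classInner_restrict_one ρ (P : Subgroup G)
      rw [hρ, ha χ] at h5
      have h6 : a χ = finrank ℂ (fixedSpace ρ (P : Subgroup G)) := Nat.cast_injective h5
      rw [← h6] at hev
      exact (Nat.not_even_iff_odd.mpr hoa) hev
  · have h7 := mult_eq_one_of_odd N k hk χ φ (e χ) (he χ) hoe
    rw [he χ, h7, Nat.cast_one]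

end Cfsg.Agent.Lib.Helper6.SrZ
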