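import Mathlib
import Cfsg.Agent.Lib.Helper6.StarSect
import Cfsg.Agent.Lib.Helper6.BLLin
import Cfsg.Agent.Lib.Helper6.Mult
import Cfsg.Agent.Lib.Helper6.GaloisConj
import Cfsg.Agent.Lib.Helper6.BlkPReg
import Cfsg.Agent.Lib.Helper6.Orthogonality
import Cfsg.Agent.Lib.Helper6.Constituent
import Cfsg.Agent.Lib.Helper6.BlkCover3
import Cfsg.Agent.Lib.Helper6.BlkLocal

set_option autoImplicit false
set_option linter.unusedSectionVars false
set_option maxHeartbeats 1600000

/-!
Norms and composition of the star construction; the action of linear characters.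
-/

open Cfsg

namespace Cfsg.Agent.Lib.Helper6.Star

open Cfsg.Agent.Lib.Helper6
open scoped ComplexConjugate

section count

/-- an action all of whose stabilizers lie in `S` has all orbit lengths divisible by the index
of `S` -/
theorem index_dvd_card_of_act {Λ X : Type*} [Group Λ] [Finite X] (act : Λ → X → X)
    (h1 : ∀ x, act 1 x = x) (hmul : ∀ a b x, act (a * b) x = act a (act b x))
    (S : Subgroup Λ) (hS : ∀ a x, act a x = x → a ∈ S) : S.index ∣ Nat.card X := by
  classical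
  letI : MulAction Λ X := { smul := act, one_smul := h1, mul_smul := hmul }
  haveI : Fintype X := Fintype.ofFinite X
  haveI : Fintype (MulAction.orbitRel.Quotient Λ X) := Fintype.ofFinite _
  have key : ∀ x : X, S.index ∣ Nat.card (MulAction.orbit Λ x) := by
    intro x
    have hle : MulAction.stabilizer Λ x ≤ S := fun a ha => hS a x ha
    have h2 : S.index ∣ (MulAction.stabilizer Λ x).index := Subgroup.index_dvd_of_le hle
    have h3 : (MulAction.stabilizer Λ x).index = Nat.card (MulAction.orbit Λ x) := by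
      rw [MulAction.index_stabilizer, Nat.card_coe_set_eq]
    rwa [h3] at h2
  have hcard : Nat.card X
      = ∑ ω : MulAction.orbitRel.Quotient Λ X, Nat.card (MulAction.orbit Λ ω.out) := by
    rw [Nat.card_congr (MulAction.selfEquivSigmaOrbits Λ X), Nat.card_sigma]
  rw [hcard]
  exact Finset.dvd_sum (fun ω _ => key ω.out)

end count

section norm

variable {G : Type*} [Group G] [Fintype G] [DecidableEq G] {p : ℕ} [hp : Fact p.Prime]
  {M : Ideal Cfsg.AlgInt} {B : Set (IrrCharacter G)}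

theorem sum_eq_sum_ppEl (F : G → ℂ) :
    ∑ g : G, F g = ∑ u : G, ∑ g : G, if ppEl p g = u then F g else 0 := by
  rw [Finset.sum_comm]
  apply Finset.sum_congr rfl
  intro g _
  rw [Finset.sum_ite_eq]
  simp

/-- the star construction with a family of unit modulus preserves the norm -/
theorem classInner_starFun_self (hM : IsPModular p M) (hB : IsPBlock M B) (m : BrauerPairIdx G)
    (η : G → ℂ) (χ : IrrCharacter G) (hχ : χ ∈ B)
    (hunit : ∀ (u : G), (∃ k : ℕ, orderOf u = p ^ k) →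
      ∀ b ∈ inducingBlocks M
        (Subgroup.centralizer ((Subgroup.zpowers u : Subgroup G) : Set G)) B,
        etaFam p M m η ⟨Subgroup.zpowers u, b⟩ u
          * conj (etaFam p M m η ⟨Subgroup.zpowers u, b⟩ u) = 1) :
    classInner (starFun p M B m η (χ : G → ℂ)) (starFun p M B m η (χ : G → ℂ))
      = classInner (χ : G → ℂ) (χ : G → ℂ) := by
  classical
  have hχcf := IsIrrCharacter.isClassFunction χ.2
  unfold classInner
  congr 1
  rw [sum_eq_sum_ppEl (p := p)
      (fun g => starFun p M B m η (χ : G → ℂ) g * conj (starFun p M B m η (χ : G → ℂ) g)),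
    sum_eq_sum_ppEl (p := p) (fun g => (χ : G → ℂ) g * conj ((χ : G → ℂ) g))]
  apply Finset.sum_congr rfl
  intro u _
  by_cases hu : ∃ k : ℕ, orderOf u = p ^ k
  · haveI : Fintype (Subgroup.centralizer ((Subgroup.zpowers u : Subgroup G) : Set G)) :=
      Fintype.ofFinite _
    have hH := centralizer_zpowers_eq u
    rw [sum_ppEl_eq u hu _ hH, sum_ppEl_eq u hu _ hH]
    have horth : ∀ b ∈ inducingBlocks M
        (Subgroup.centralizer ((Subgroup.zpowers u : Subgroup G) : Set G)) B,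
        ∀ b' ∈ inducingBlocks M
          (Subgroup.centralizer ((Subgroup.zpowers u : Subgroup G) : Set G)) B, b ≠ b' →
        ∑ y ∈ Finset.univ.filter (fun y : Subgroup.centralizer
            ((Subgroup.zpowers u : Subgroup G) : Set G) => ¬ p ∣ orderOf y),
          blockPart b (fun c' : Subgroup.centralizer
              ((Subgroup.zpowers u : Subgroup G) : Set G) => (χ : G → ℂ) (u * (c' : G))) y
            * conj (blockPart b' (fun c' : Subgroup.centralizer
              ((Subgroup.zpowers u : Subgroup G) : Set G) => (χ : G → ℂ) (u * (c' : G))) y) = 0 := by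
      intro b hb b' hb' hne
      obtain ⟨ξ, rfl⟩ := ((mem_inducingBlocks _ _ _).mp hb).1
      obtain ⟨ξ', rfl⟩ := ((mem_inducingBlocks _ _ _).mp hb').1
      exact sum_blockPart_mul_conj_blockPart_of_ne hM ξ ξ' hne _ _
    have e1 : ∀ y ∈ Finset.univ.filter (fun y : Subgroup.centralizer
        ((Subgroup.zpowers u : Subgroup G) : Set G) => ¬ p ∣ orderOf y),
        starFun p M B m η (χ : G → ℂ) (u * (y : G))
          * conj (starFun p M B m η (χ : G → ℂ) (u * (y : G)))
        = (∑ b ∈ inducingBlocks M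
            (Subgroup.centralizer ((Subgroup.zpowers u : Subgroup G) : Set G)) B,
            etaFam p M m η ⟨Subgroup.zpowers u, b⟩ u
              * blockPart b (fun c' : Subgroup.centralizer
                ((Subgroup.zpowers u : Subgroup G) : Set G) => (χ : G → ℂ) (u * (c' : G))) y)
          * conj (∑ b ∈ inducingBlocks M
            (Subgroup.centralizer ((Subgroup.zpowers u : Subgroup G) : Set G)) B,
            etaFam p M m η ⟨Subgroup.zpowers u, b⟩ u
              * blockPart b (fun c' : Subgroup.centralizer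
                ((Subgroup.zpowers u : Subgroup G) : Set G) => (χ : G → ℂ) (u * (c' : G))) y) := by
      intro y hy
      rw [starFun_apply_shift hM m η (χ : G → ℂ) hχcf u hu y (Finset.mem_filter.mp hy).2]
    have e2 : ∀ y ∈ Finset.univ.filter (fun y : Subgroup.centralizer
        ((Subgroup.zpowers u : Subgroup G) : Set G) => ¬ p ∣ orderOf y),
        (χ : G → ℂ) (u * (y : G)) * conj ((χ : G → ℂ) (u * (y : G)))
        = (∑ b ∈ inducingBlocks M
            (Subgroup.centralizer ((Subgroup.zpowers u : Subgroup G) : Set G)) B,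
            (1 : ℂ) * blockPart b (fun c' : Subgroup.centralizer
                ((Subgroup.zpowers u : Subgroup G) : Set G) => (χ : G → ℂ) (u * (c' : G))) y)
          * conj (∑ b ∈ inducingBlocks M
            (Subgroup.centralizer ((Subgroup.zpowers u : Subgroup G) : Set G)) B,
            (1 : ℂ) * blockPart b (fun c' : Subgroup.centralizer
                ((Subgroup.zpowers u : Subgroup G) : Set G) => (χ : G → ℂ) (u * (c' : G))) y) := by
      intro y hy
      simp only [one_mul]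
      rw [← apply_shift_eq_sum_inducingBlocks hM u hu _ hH B hB χ hχ y (Finset.mem_filter.mp hy).2]
    rw [Finset.sum_congr rfl e1, Finset.sum_congr rfl e2,
      sum_comb_mul_conj _ _ _ _ horth, sum_comb_mul_conj _ _ _ _ horth]
    apply Finset.sum_congr rfl
    intro b hb
    rw [hunit u hu b hb]
    simp
  · have hz : ∀ (F : G → ℂ), ∑ g : G, (if ppEl p g = u then F g else 0) = 0 := by
      intro F
      apply Finset.sum_eq_zero
      intro g _
      rw [if_neg]
      intro h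
      apply hu
      rw [← h]
      exact orderOf_ppEl g
    rw [hz, hz]

/-- composition of star constructions -/
theorem starFun_starFun (hM : IsPModular p M) (m : BrauerPairIdx G)
    (hmax : IsMaximalBrauerPair p M B m.1 m.2) (η η' η'' : G → ℂ) (hη' : IsStableFn p M m η')
    (hmul : ∀ (u : G), (∃ k : ℕ, orderOf u = p ^ k) →
      ∀ b ∈ inducingBlocks M
        (Subgroup.centralizer ((Subgroup.zpowers u : Subgroup G) : Set G)) B,
        etaFam p M m η'' ⟨Subgroup.zpowers u, b⟩ u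
          = etaFam p M m η ⟨Subgroup.zpowers u, b⟩ u * etaFam p M m η' ⟨Subgroup.zpowers u, b⟩ u)
    (χ : G → ℂ) (hχ : IsClassFunction G χ) :
    starFun p M B m η (starFun p M B m η' χ) = starFun p M B m η'' χ := by
  classical
  funext g
  have hu := orderOf_ppEl (p := p) g
  have hs : prEl p g ∈ Subgroup.centralizer
      ((Subgroup.zpowers (ppEl p g) : Subgroup G) : Set G) := by
    rw [centralizer_zpowers_eq, mem_centralizer_singleton_iff]
    exact (commute_ppEl_prEl g).eq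
  have hsreg : ¬ p ∣ orderOf (⟨prEl p g, hs⟩ : Subgroup.centralizer
      ((Subgroup.zpowers (ppEl p g) : Subgroup G) : Set G)) := by
    rw [Subgroup.orderOf_mk]; exact prEl_pRegular g
  show (∑ᶠ 𝔰 ∈ pairsAt p M B (ppEl p g), etaFam p M m η 𝔰 (ppEl p g)
      * sect p (starFun p M B m η' χ) 𝔰 (ppEl p g) (prEl p g))
    = ∑ᶠ 𝔰 ∈ pairsAt p M B (ppEl p g), etaFam p M m η'' 𝔰 (ppEl p g)
      * sect p χ 𝔰 (ppEl p g) (prEl p g)
  rw [finsum_pairsAt hM _ hu, finsum_pairsAt hM _ hu]
  apply Finset.sum_congr rfl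
  intro b hb
  have h1 := sect_starFun hM m hmax η' hη' χ hχ (ppEl p g) hu b hb ⟨prEl p g, hs⟩ hsreg
  rw [h1, hmul _ hu b hb]
  ring

end norm

section linear

variable {G : Type*} [Group G] [Fintype G] [DecidableEq G] {p : ℕ} [hp : Fact p.Prime]
  {M : Ideal Cfsg.AlgInt} {B : Set (IrrCharacter G)}
variable (P : Subgroup G) (N : Subgroup ↥P) [N.Normal]

/-- a linear character of `P / N`, as a function on the whole group (zero off `P`) -/
noncomputable def etaOf (lam : (↥P ⧸ N) →* ℂˣ) : G → ℂ := fun g => by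
  classical
  exact dite (g ∈ P) (fun h => ((lam (QuotientGroup.mk ⟨g, h⟩) : ℂˣ) : ℂ)) (fun _ => 0)

theorem etaOf_of_mem (lam : (↥P ⧸ N) →* ℂˣ) {g : G} (h : g ∈ P) :
    etaOf P N lam g = ((lam (QuotientGroup.mk ⟨g, h⟩) : ℂˣ) : ℂ) := by
  unfold etaOf
  rw [dif_pos h]

/-- the fusion of the subpairs of `m` is controlled modulo `N` -/
def FusControl (p : ℕ) (M : Ideal Cfsg.AlgInt) (m : BrauerPairIdx G) : Prop :=
  ∀ (b : BrauerPairIdx G), Relation.ReflTransGen (NormalSubpairRel p M) b m →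
    ∀ y : G, Relation.ReflTransGen (NormalSubpairRel p M) (conjPair y b) m →
      ∀ u ∈ b.1, ∀ (h1 : u ∈ P) (h2 : y * u * y⁻¹ ∈ P),
        (⟨u, h1⟩ : ↥P)⁻¹ * ⟨y * u * y⁻¹, h2⟩ ∈ N

variable {P N}

theorem isStableFn_etaOf {m : BrauerPairIdx G} (hmP : m.1 = P) (hfus : FusControl P N p M m)
    (lam : (↥P ⧸ N) →* ℂˣ) : IsStableFn p M m (etaOf P N lam) := by
  intro b hb y hy u hu
  have h1 : u ∈ P := by rw [← hmP]; exact le_of_chain b m hb hu
  have h2 : y * u * y⁻¹ ∈ P := by
    rw [← hmP]; exact le_of_chain _ _ hy (conj_mem_map_conj b.1 y hu)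
  rw [etaOf_of_mem P N lam h2, etaOf_of_mem P N lam h1]
  have h3 : (QuotientGroup.mk (⟨u, h1⟩ : ↥P) : ↥P ⧸ N) = QuotientGroup.mk ⟨y * u * y⁻¹, h2⟩ :=
    QuotientGroup.eq.mpr (hfus b hb y hy u hu h1 h2)
  rw [h3]

theorem isCharacter_etaOf (lam : (↥P ⧸ N) →* ℂˣ) :
    IsCharacter ↥P (fun u : ↥P => etaOf P N lam (u : G)) := by
  have h := IsIrrCharacter.isCharacter (isIrrCharacter_of_hom (lam.comp (QuotientGroup.mk' N)))
  convert h using 1
  funext u
  rw [etaOf_of_mem P N lam u.2]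
  rfl

/-- the attached functions of `etaOf lam` are values of `lam` -/
theorem exists_etaFam_etaOf {m : BrauerPairIdx G} (hmP : m.1 = P) (hfus : FusControl P N p M m)
    {𝔰 : BrauerPairIdx G}
    (h𝔰 : ∃ x : G, Relation.ReflTransGen (NormalSubpairRel p M) (conjPair x 𝔰) m) {t : G}
    (ht : t ∈ 𝔰.1) :
    ∃ w : ↥P, ∀ lam : (↥P ⧸ N) →* ℂˣ,
      etaFam p M m (etaOf P N lam) 𝔰 t = ((lam (QuotientGroup.mk w) : ℂˣ) : ℂ) := by
  obtain ⟨x, hx⟩ := h𝔰
  have h2 : x * t * x⁻¹ ∈ P := by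
    rw [← hmP]; exact le_of_chain _ _ hx (conj_mem_map_conj 𝔰.1 x ht)
  refine ⟨⟨x * t * x⁻¹, h2⟩, ?_⟩
  intro lam
  rw [etaFam_eq (isStableFn_etaOf hmP hfus lam) hx ht, etaOf_of_mem P N lam h2]

theorem unit_mul_conj {A : Type*} [Group A] [Finite A] (ψ : A →* ℂˣ) (a : A) :
    ((ψ a : ℂˣ) : ℂ) * conj ((ψ a : ℂˣ) : ℂ) = 1 := by
  rw [hom_conj, ← Units.val_mul, ← map_mul, mul_inv_cancel, map_one, Units.val_one]

theorem ppEl_one : ppEl p (1 : G) = 1 := by
  have h := ppEl_mul_of_commute (p := p) (u := (1 : G)) (k := (1 : G)) ⟨0, by simp⟩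
    (by rw [orderOf_one]; exact hp.out.one_lt.ne' ∘ Nat.dvd_one.mp) (Commute.one_left 1)
  rwa [one_mul] at h

theorem ppEl_of_pRegular {g : G} (hg : ¬ p ∣ orderOf g) : ppEl p g = 1 := by
  have h := ppEl_mul_of_commute (p := p) (u := (1 : G)) (k := g) ⟨0, by simp⟩ hg
    (Commute.one_left g)
  rwa [one_mul] at h

/-- the action of the linear characters of `P / N` on the characters of `B` of a given height -/
theorem exists_act (hM : IsPModular p M) (e : Set (IrrCharacter (Subgroup.centralizer (P : Set G))))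
    (hmax : IsMaximalBrauerPair p M B P e) (hfus : FusControl P N p M ⟨P, e⟩) (h : ℕ) :
    ∃ act : ((↥P ⧸ N) →* ℂˣ) →
        {χ : IrrCharacter G // χ ∈ B ∧ blockHeight p B (χ : G → ℂ) = h} →
        {χ : IrrCharacter G // χ ∈ B ∧ blockHeight p B (χ : G → ℂ) = h},
      (∀ x, act 1 x = x) ∧ (∀ a b x, act (a * b) x = act a (act b x)) ∧
      ∀ a x, ((act a x).1 : G → ℂ) = starFun p M B ⟨P, e⟩ (etaOf P N a) ((x.1 : IrrCharacter G) : G → ℂ) := by
  classical
  have hB : IsPBlock M B := hmax.1.2.1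
  have hpair : ∀ (u : G), (∃ k : ℕ, orderOf u = p ^ k) →
      ∀ b ∈ inducingBlocks M
        (Subgroup.centralizer ((Subgroup.zpowers u : Subgroup G) : Set G)) B,
      ∃ w : ↥P, ∀ lam : (↥P ⧸ N) →* ℂˣ,
        etaFam p M ⟨P, e⟩ (etaOf P N lam) ⟨Subgroup.zpowers u, b⟩ u
          = ((lam (QuotientGroup.mk w) : ℂˣ) : ℂ) := by
    intro u hu b hb
    haveI : Fintype (Subgroup.centralizer ((Subgroup.zpowers u : Subgroup G) : Set G)) :=
      Fintype.ofFinite _
    have hBP : IsBrauerPairOf p M B (Subgroup.zpowers u) b :=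
      (isBrauerPairOf_iff_isInducedBlock hM _ (isPGroup_zpowers u hu) b B).mpr
        ((mem_inducingBlocks _ _ _).mp hb)
    exact exists_etaFam_etaOf (m := ⟨P, e⟩) rfl hfus
      (exists_conj_le hM B ⟨P, e⟩ hmax ⟨Subgroup.zpowers u, b⟩ hBP) (Subgroup.mem_zpowers u)
  -- values at elements with trivial p-part
  have hval : ∀ (lam : (↥P ⧸ N) →* ℂˣ) (χ : IrrCharacter G), χ ∈ B → ∀ g : G, ¬ p ∣ orderOf g →
      starFun p M B ⟨P, e⟩ (etaOf P N lam) (χ : G → ℂ) g = (χ : G → ℂ) g := by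
    intro lam χ hχ g hg
    rw [starFun_apply_of_const hM hB ⟨P, e⟩ (etaOf P N lam) χ hχ g 1, one_mul]
    intro 𝔰 h𝔰
    rw [ppEl_of_pRegular hg] at h𝔰 ⊢
    obtain ⟨x, hx⟩ := exists_conj_le hM B ⟨P, e⟩ hmax 𝔰 h𝔰.2
    have h1mem : (1 : G) ∈ 𝔰.1 := 𝔰.1.one_mem
    rw [etaFam_eq (isStableFn_etaOf (m := ⟨P, e⟩) rfl hfus lam) hx h1mem]
    have h2 : x * 1 * x⁻¹ = (1 : G) := by group
    rw [h2, etaOf_of_mem P N lam P.one_mem]
    have h3 : (QuotientGroup.mk (⟨1, P.one_mem⟩ : ↥P) : ↥P ⧸ N) = 1 := rfl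
    rw [h3, map_one, Units.val_one]
  have hone : ¬ p ∣ orderOf (1 : G) := by
    rw [orderOf_one]; exact hp.out.one_lt.ne' ∘ Nat.dvd_one.mp
  have hex : ∀ (lam : (↥P ⧸ N) →* ℂˣ)
      (χ : {χ : IrrCharacter G // χ ∈ B ∧ blockHeight p B (χ : G → ℂ) = h}),
      ∃ χ' : {χ : IrrCharacter G // χ ∈ B ∧ blockHeight p B (χ : G → ℂ) = h},
        ((χ'.1 : IrrCharacter G) : G → ℂ)
          = starFun p M B ⟨P, e⟩ (etaOf P N lam) ((χ.1 : IrrCharacter G) : G → ℂ) := by
    intro lam χ
    have hgen := starFun_isGeneralizedCharacter hM ⟨P, e⟩ hmax (etaOf P N lam)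
      (isStableFn_etaOf (m := ⟨P, e⟩) rfl hfus lam)
      (IsCharacter.isGeneralizedCharacter (isCharacter_etaOf lam)) (χ.1 : G → ℂ)
      (IsIrrCharacter.isCharacter χ.1.2)
    have hnorm : classInner (starFun p M B ⟨P, e⟩ (etaOf P N lam) (χ.1 : G → ℂ))
        (starFun p M B ⟨P, e⟩ (etaOf P N lam) (χ.1 : G → ℂ)) = 1 := by
      rw [classInner_starFun_self hM hB ⟨P, e⟩ (etaOf P N lam) χ.1 χ.2.1]
      · rw [classInner_irrCharacter, if_pos rfl]
      · intro u hu b hb
        obtain ⟨w, hw⟩ := hpair u hu b hb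
        rw [hw lam]
        exact unit_mul_conj lam _
    have h1 : starFun p M B ⟨P, e⟩ (etaOf P N lam) (χ.1 : G → ℂ) 1 = (χ.1 : G → ℂ) 1 :=
      hval lam χ.1 χ.2.1 1 hone
    have hpos : 0 < (starFun p M B ⟨P, e⟩ (etaOf P N lam) (χ.1 : G → ℂ) 1).re := by
      rw [h1]
      rw [IsCharacter.apply_one_eq_charDegree (IsIrrCharacter.isCharacter χ.1.2)]
      have := IsIrrCharacter.charDegree_pos χ.1.2
      simpa using this
    have hirr := IsGeneralizedCharacter.isIrrCharacter_of_norm_one hgen hnorm hpos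
    have hsame : SameBlock M ((χ.1 : IrrCharacter G) : G → ℂ)
        (starFun p M B ⟨P, e⟩ (etaOf P N lam) (χ.1 : G → ℂ)) := by
      apply sameBlock_of_forall_pRegular hM χ.1 ⟨_, hirr⟩
      intro g hg
      unfold centralChar
      show MemLocalIdeal M (_ - _ * starFun p M B ⟨P, e⟩ (etaOf P N lam) (χ.1 : G → ℂ) g
        / starFun p M B ⟨P, e⟩ (etaOf P N lam) (χ.1 : G → ℂ) 1)
      rw [hval lam χ.1 χ.2.1 g hg, h1, sub_self]
      exact memLocalIdeal_zero hM
    have hmemB : (⟨_, hirr⟩ : IrrCharacter G) ∈ B := by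
      obtain ⟨χ₀, hχ₀⟩ := hB
      have hχB : χ.1 ∈ blockOf M χ₀ := hχ₀ ▸ χ.2.1
      have h2 : (⟨_, hirr⟩ : IrrCharacter G) ∈ blockOf M χ.1 := hsame
      rw [← blockOf_eq_of_mem hM hχB] at h2
      exact hχ₀ ▸ h2
    refine ⟨⟨⟨_, hirr⟩, hmemB, ?_⟩, rfl⟩
    have hh := χ.2.2
    unfold blockHeight charDegree at hh ⊢
    show (⌊(starFun p M B ⟨P, e⟩ (etaOf P N lam) (χ.1 : G → ℂ) 1).re⌋₊).factorization p - _ = h
    rw [h1]
    exact hh
  choose act hact using hex
  refine ⟨act, ?_, ?_, hact⟩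
  · intro x
    apply Subtype.ext
    apply Subtype.ext
    rw [hact]
    funext g
    rw [starFun_apply_of_const hM hB ⟨P, e⟩ _ x.1 x.2.1 g 1, one_mul]
    intro 𝔰 h𝔰
    obtain ⟨w, hw⟩ := exists_etaFam_etaOf (N := N) (m := ⟨P, e⟩) rfl hfus
      (exists_conj_le hM B ⟨P, e⟩ hmax 𝔰 h𝔰.2)
      (show ppEl p g ∈ 𝔰.1 by rw [h𝔰.1]; exact Subgroup.mem_zpowers _)
    rw [hw 1]
    simp
  · intro a b x
    apply Subtype.ext
    apply Subtype.ext
    rw [hact, hact, hact]
    symm
    apply starFun_starFun hM ⟨P, e⟩ hmax _ _ _ (isStableFn_etaOf (m := ⟨P, e⟩) rfl hfus b)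
    · intro u hu b' hb'
      obtain ⟨w, hw⟩ := hpair u hu b' hb'
      rw [hw, hw, hw, MonoidHom.mul_apply, Units.val_mul]
    · exact IsIrrCharacter.isClassFunction x.1.2

end linear

end Cfsg.Agent.Lib.Helper6.Star
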