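import Mathlib
import Cfsg.Agent.Lib.Helper6.StarAct
import Cfsg.Agent.Lib.Helper6.BrSat1
import Cfsg.Agent.Lib.Helper6.BrFull
import Cfsg.Agent.Lib.Helper6.BrMax5
import Cfsg.Agent.Lib.Helper6.BlkMajor
import Cfsg.Agent.Lib.Helper6.BlkSubsection
import Cfsg.Agent.Lib.Helper6.SubContribVal
import Cfsg.Agent.S0908
import Cfsg.Prelude.Def_BlockFusion

set_option autoImplicit false
set_option linter.unusedSectionVars false
set_option maxHeartbeats 1600000

/-!
Robinson's divisibility theorems for the number of characters of a given height in a block,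
via the action of the linear characters of the defect group modulo the focal subgroup.
-/

open Cfsg

namespace Cfsg.Agent.Lib.Helper6.Star

open Cfsg.Agent.Lib.Helper6
open scoped ComplexConjugate

section focal

variable {G : Type*} [Group G] {P : Subgroup G} (F : FusionSystem P)

theorem inv_mul_map_mem_focal {Q : Subgroup G} {φ : Q →* G} (hφ : φ ∈ F.Hom Q) (x : Q) :
    (x : G)⁻¹ * φ x ∈ F.focalSubgroup :=
  Subgroup.subset_closure ⟨Q, φ, x, hφ, rfl⟩

theorem focalSubgroup_le : F.focalSubgroup ≤ P := by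
  unfold FusionSystem.focalSubgroup
  rw [Subgroup.closure_le]
  rintro y ⟨Q, φ, x, hφ, rfl⟩
  obtain ⟨h1, h2⟩ := F.le_of_mem hφ
  exact P.mul_mem (P.inv_mem (h1 x.2)) (h2 x)

theorem inv_mul_conj_mem_focal {a x : G} (ha : a ∈ P) (hx : x ∈ P) :
    x⁻¹ * (a * x * a⁻¹) ∈ F.focalSubgroup :=
  inv_mul_map_mem_focal F (F.conj_mem (le_refl P) ha) ⟨x, hx⟩

theorem focal_normal : (F.focalSubgroup.subgroupOf P).Normal := by
  constructor
  intro n hn a
  rw [Subgroup.mem_subgroupOf] at hn ⊢
  have h1 := inv_mul_conj_mem_focal F a.2 n.2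
  have h2 : ((a * n * a⁻¹ : ↥P) : G)
      = (n : G) * ((n : G)⁻¹ * ((a : G) * (n : G) * (a : G)⁻¹)) := by
    push_cast; group
  rw [h2]
  exact Subgroup.mul_mem _ hn h1

theorem focal_comm [hN : (F.focalSubgroup.subgroupOf P).Normal] :
    IsMulCommutative (↥P ⧸ F.focalSubgroup.subgroupOf P) := by
  refine ⟨⟨?_⟩⟩
  intro a b
  induction a using QuotientGroup.induction_on with
  | _ a =>
    induction b using QuotientGroup.induction_on with
    | _ b =>
      rw [← QuotientGroup.mk_mul, ← QuotientGroup.mk_mul]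
      apply QuotientGroup.eq.mpr
      rw [Subgroup.mem_subgroupOf]
      have h1 := inv_mul_conj_mem_focal F (P.inv_mem a.2) b.2
      have h2 : (((a * b)⁻¹ * (b * a) : ↥P) : G)
          = (b : G)⁻¹ * ((a : G)⁻¹ * (b : G) * ((a : G)⁻¹)⁻¹) := by
        push_cast; group
      rw [h2]; exact h1

end focal

section dual

open scoped IsMulCommutative in
/-- the linear characters trivial on a subgroup `Z` of a finite abelian group form a subgroup of
index `|Z|` of the dual group -/
theorem exists_dual_subgroup {A : Type*} [Group A] [Finite A] (hA : IsMulCommutative A)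
    (Z : Subgroup A) :
    ∃ S : Subgroup (A →* ℂˣ), (∀ lam : A →* ℂˣ, (∀ z ∈ Z, lam z = 1) → lam ∈ S) ∧
      S.index = Nat.card Z := by
  have hne : NeZero (Monoid.exponent A : ℂ) :=
    ⟨by exact_mod_cast Monoid.exponent_ne_zero_of_finite⟩
  refine ⟨(MonoidHom.domRestrictHom Z ℂˣ).ker, ?_, ?_⟩
  · intro lam h
    rw [MonoidHom.mem_ker]
    ext z
    rw [MonoidHom.domRestrictHom_apply]
    simp [h z z.2]
  · rw [Subgroup.index_ker,
      MonoidHom.range_eq_top.mpr (MonoidHom.domRestrict_surjective ℂ Z), Subgroup.card_top]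
    have : NeZero (Monoid.exponent Z : ℂ) :=
      ⟨by exact_mod_cast Monoid.exponent_ne_zero_of_finite⟩
    exact CommGroup.card_monoidHom_of_hasEnoughRootsOfUnity Z ℂ

end dual

section main

variable {G : Type*} [Group G] [Fintype G] [DecidableEq G] {p : ℕ} [hp : Fact p.Prime]
  {M : Ideal Cfsg.AlgInt} {B : Set (IrrCharacter G)}
variable {P : Subgroup G}

theorem fusControl_of_blockFusion
    {e : Set (IrrCharacter (Subgroup.centralizer (P : Set G)))} (F : FusionSystem P)
    (hF : IsBlockFusionSystemOn p M B P e F) :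
    FusControl P (F.focalSubgroup.subgroupOf P) p M ⟨P, e⟩ := by
  intro b hb y hy u hu h1 h2
  rw [Subgroup.mem_subgroupOf]
  have hφ : conjHom b.1 y ∈ F.Hom b.1 := by
    rw [hF.2]
    exact ⟨le_of_chain b ⟨P, e⟩ hb, y, fun _ => rfl, le_of_chain _ _ hy, b.2, hb, hy⟩
  exact inv_mul_map_mem_focal F hφ ⟨u, hu⟩

variable {N : Subgroup ↥P} [N.Normal]

/-- if the twist by `lam` fixes `χ` and the subsection of `χ` at `w ∈ P` does not vanish, then
`lam` is trivial at `w` -/
theorem lam_eq_one_of_fixed (hM : IsPModular p M)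
    (e : Set (IrrCharacter (Subgroup.centralizer (P : Set G))))
    (hmax : IsMaximalBrauerPair p M B P e) (hfus : FusControl P N p M ⟨P, e⟩)
    (lam : (↥P ⧸ N) →* ℂˣ) (χ : IrrCharacter G)
    (hfix : starFun p M B ⟨P, e⟩ (etaOf P N lam) (χ : G → ℂ) = (χ : G → ℂ))
    (u : G) (huP : u ∈ P)
    (hnv : ∀ f : Set (IrrCharacter
        (Subgroup.centralizer ((Subgroup.zpowers u : Subgroup G) : Set G))),
      IsPBlock M f → SubpairLE p M (Subgroup.zpowers u) f P e →
      IsInducedBlock M (Subgroup.centralizer ((Subgroup.zpowers u : Subgroup G) : Set G)) f B →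
      ∃ y : Subgroup.centralizer ((Subgroup.zpowers u : Subgroup G) : Set G),
        ¬ p ∣ orderOf y ∧
        blockPart f (fun c : Subgroup.centralizer ((Subgroup.zpowers u : Subgroup G) : Set G) =>
          (χ : G → ℂ) (u * (c : G))) y ≠ 0) :
    lam (QuotientGroup.mk ⟨u, huP⟩) = 1 := by
  classical
  have hB : IsPBlock M B := hmax.1.2.1
  have hPe : IsBrauerPair p M P e := hmax.1.1
  have hu : ∃ k : ℕ, orderOf u = p ^ k := by
    obtain ⟨k, hk⟩ := (IsPGroup.iff_orderOf.mp hPe.1) ⟨u, huP⟩
    exact ⟨k, by rw [← hk, Subgroup.orderOf_mk]⟩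
  have hle : Subgroup.zpowers u ≤ P := by
    rw [Subgroup.zpowers_le]; exact huP
  obtain ⟨f, hf, hchain⟩ := exists_subpair hM hPe hle
  haveI : Fintype (Subgroup.centralizer ((Subgroup.zpowers u : Subgroup G) : Set G)) :=
    Fintype.ofFinite _
  have hBP : IsBrauerPairOf p M B (Subgroup.zpowers u) f :=
    (isBrauerPairOf_iff_of_chain hM B hB ⟨Subgroup.zpowers u, f⟩ ⟨P, e⟩ hchain).mp hmax.1
  have hind : IsInducedBlock M
      (Subgroup.centralizer ((Subgroup.zpowers u : Subgroup G) : Set G)) f B :=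
    (isBrauerPairOf_iff_isInducedBlock hM _ (isPGroup_zpowers u hu) f B).mp hBP
  obtain ⟨y, hyreg, hy⟩ := hnv f hf hchain hind
  have hη := isStableFn_etaOf (N := N) (m := (⟨P, e⟩ : BrauerPairIdx G)) rfl hfus lam
  have h1 := sect_starFun hM ⟨P, e⟩ hmax (etaOf P N lam) hη
    (χ : G → ℂ) (IsIrrCharacter.isClassFunction χ.2) u hu f
    ((mem_inducingBlocks _ _ _).mpr hind) y hyreg
  rw [hfix, sect_eq_blockPart hM u hu f hf (χ : G → ℂ) (IsIrrCharacter.isClassFunction χ.2) y
    hyreg] at h1
  have h2 : etaFam p M ⟨P, e⟩ (etaOf P N lam) ⟨Subgroup.zpowers u, f⟩ u = 1 := by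
    have h3 : (1 - etaFam p M ⟨P, e⟩ (etaOf P N lam) ⟨Subgroup.zpowers u, f⟩ u)
        * blockPart f (fun c : Subgroup.centralizer
            ((Subgroup.zpowers u : Subgroup G) : Set G) => (χ : G → ℂ) (u * (c : G))) y = 0 := by
      rw [sub_mul, one_mul, ← h1, sub_self]
    rcases mul_eq_zero.mp h3 with h | h
    · exact (sub_eq_zero.mp h).symm
    · exact absurd h hy
  have hconj : Relation.ReflTransGen (NormalSubpairRel p M)
      (conjPair 1 (⟨Subgroup.zpowers u, f⟩ : BrauerPairIdx G)) ⟨P, e⟩ := by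
    rw [conjPair_one]; exact hchain
  rw [etaFam_eq hη hconj (Subgroup.mem_zpowers u)] at h2
  have h3 : (1 : G) * u * (1 : G)⁻¹ = u := by group
  rw [h3, etaOf_of_mem P N lam huP] at h2
  apply Units.ext
  rw [Units.val_one, ← h2]

/-- the block of the centralizer of a central element of `P` below `(P, e)` has full defect -/
theorem blockDefect_eq_of_center (hM : IsPModular p M)
    (e : Set (IrrCharacter (Subgroup.centralizer (P : Set G))))
    (hmax : IsMaximalBrauerPair p M B P e) (u : G) (huP : u ∈ P)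
    (hcen : u ∈ Subgroup.centralizer (P : Set G))
    (f : Set (IrrCharacter (Subgroup.centralizer ((Subgroup.zpowers u : Subgroup G) : Set G))))
    (hf : IsPBlock M f) (hchain : SubpairLE p M (Subgroup.zpowers u) f P e)
    (hind : IsInducedBlock M
      (Subgroup.centralizer ((Subgroup.zpowers u : Subgroup G) : Set G)) f B) :
    blockDefect p f = blockDefect p B := by
  classical
  have hB : IsPBlock M B := hmax.1.2.1
  have hPe : IsBrauerPair p M P e := hmax.1.1
  have hle : Subgroup.zpowers u ≤ P := by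
    rw [Subgroup.zpowers_le]; exact huP
  haveI : Fintype (Subgroup.centralizer ((Subgroup.zpowers u : Subgroup G) : Set G)) :=
    Fintype.ofFinite _
  obtain ⟨D, hD, hDge⟩ :=
    exists_isDefectGroup_ge_centralizerIn hM P (Subgroup.zpowers u) e f hPe hle hf hchain
  have cardD : Nat.card D = p ^ blockDefect p f := Cfsg.Agent.S0908.result p M hM f hf D hD
  have cardP : Nat.card P = p ^ blockDefect p B :=
    Cfsg.Agent.S0908.result p M hM B hB P (isDefectGroup_of_isMaximalBrauerPair hM B P e hmax)
  have hPC : P ≤ Subgroup.centralizer ((Subgroup.zpowers u : Subgroup G) : Set G) :=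
    Subgroup.le_centralizer_iff.mp ((Subgroup.zpowers_le).mpr hcen)
  have hinf : P ⊓ Subgroup.centralizer ((Subgroup.zpowers u : Subgroup G) : Set G) = P :=
    inf_eq_left.mpr hPC
  have hc1 : Nat.card ((P ⊓ Subgroup.centralizer
      ((Subgroup.zpowers u : Subgroup G) : Set G)).subgroupOf
      (Subgroup.centralizer ((Subgroup.zpowers u : Subgroup G) : Set G))) = Nat.card P := by
    rw [Nat.card_congr (Subgroup.subgroupOfEquivOfLe inf_le_right).toEquiv, hinf]
  have hc2 := Subgroup.card_le_of_le hDge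
  rw [hc1, cardD, cardP] at hc2
  have h1 : blockDefect p B ≤ blockDefect p f :=
    (Nat.pow_le_pow_iff_right hp.out.one_lt).mp hc2
  have h2 : blockDefect p f ≤ blockDefect p B :=
    IsInducedBlock.blockDefect_le hM _ hind
  exact le_antisymm h2 h1

/-- major subsections of any character of the block do not vanish -/
theorem exists_blockPart_ne_zero_of_center (hM : IsPModular p M)
    (e : Set (IrrCharacter (Subgroup.centralizer (P : Set G))))
    (hmax : IsMaximalBrauerPair p M B P e) (u : G) (huP : u ∈ P)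
    (hcen : u ∈ Subgroup.centralizer (P : Set G))
    (f : Set (IrrCharacter (Subgroup.centralizer ((Subgroup.zpowers u : Subgroup G) : Set G))))
    (hf : IsPBlock M f) (hchain : SubpairLE p M (Subgroup.zpowers u) f P e)
    (hind : IsInducedBlock M
      (Subgroup.centralizer ((Subgroup.zpowers u : Subgroup G) : Set G)) f B)
    (χ : IrrCharacter G) (hχ : χ ∈ B) :
    ∃ y : Subgroup.centralizer ((Subgroup.zpowers u : Subgroup G) : Set G),
      ¬ p ∣ orderOf y ∧
      blockPart f (fun c : Subgroup.centralizer ((Subgroup.zpowers u : Subgroup G) : Set G) =>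
        (χ : G → ℂ) (u * (c : G))) y ≠ 0 := by
  classical
  have hPe : IsBrauerPair p M P e := hmax.1.1
  have hu : ∃ k : ℕ, orderOf u = p ^ k := by
    obtain ⟨k, hk⟩ := (IsPGroup.iff_orderOf.mp hPe.1) ⟨u, huP⟩
    exact ⟨k, by rw [← hk, Subgroup.orderOf_mk]⟩
  haveI : Fintype (Subgroup.centralizer ((Subgroup.zpowers u : Subgroup G) : Set G)) :=
    Fintype.ofFinite _
  have hdef := blockDefect_eq_of_center hM e hmax u huP hcen f hf hchain hind
  obtain ⟨r, hr, hsub⟩ := exists_pos_subContrib_self hM u hu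
    (Subgroup.centralizer ((Subgroup.zpowers u : Subgroup G) : Set G))
    (centralizer_zpowers_eq u) hind hdef χ hχ
  by_contra hcon
  push Not at hcon
  have h0 : subContrib p u (Subgroup.centralizer ((Subgroup.zpowers u : Subgroup G) : Set G)) f
      (χ : G → ℂ) (χ : G → ℂ) = 0 := by
    unfold subContrib
    rw [Finset.sum_eq_zero, mul_zero]
    intro s hs
    rw [hcon s (Finset.mem_filter.mp hs).2, zero_mul]
  rw [h0] at hsub
  have : (r : ℂ) = 0 := hsub.symm
  exact hr.ne' (by exact_mod_cast this)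

/-- **Robinson**: the number of height zero characters is divisible by the index of the focal
subgroup -/
theorem card_height_zero_dvd (hM : IsPModular p M)
    (e : Set (IrrCharacter (Subgroup.centralizer (P : Set G))))
    (hmax : IsMaximalBrauerPair p M B P e) (F : FusionSystem P)
    (hF : IsBlockFusionSystemOn p M B P e F) :
    (F.focalSubgroup.subgroupOf P).index ∣
      Nat.card {χ : IrrCharacter G // χ ∈ B ∧ blockHeight p B (χ : G → ℂ) = 0} := by
  classical
  haveI : (F.focalSubgroup.subgroupOf P).Normal := focal_normal F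
  have hfus := fusControl_of_blockFusion F hF
  obtain ⟨act, h1, hmul, hact⟩ := exists_act hM e hmax hfus 0
  have hfree : ∀ a x, act a x = x →
      a ∈ (⊥ : Subgroup ((↥P ⧸ F.focalSubgroup.subgroupOf P) →* ℂˣ)) := by
    intro a x hax
    rw [Subgroup.mem_bot]
    have hfix : starFun p M B ⟨P, e⟩ (etaOf P (F.focalSubgroup.subgroupOf P) a)
        ((x.1 : IrrCharacter G) : G → ℂ) = ((x.1 : IrrCharacter G) : G → ℂ) := by
      rw [← hact a x, hax]
    apply MonoidHom.ext
    intro q
    induction q using QuotientGroup.induction_on with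
    | _ w =>
      have h2 := lam_eq_one_of_fixed hM e hmax hfus a x.1 hfix (w : G) w.2 (by
        intro f hf hchain hind
        have hPe : IsBrauerPair p M P e := hmax.1.1
        have hu : ∃ k : ℕ, orderOf (w : G) = p ^ k := by
          obtain ⟨k, hk⟩ := (IsPGroup.iff_orderOf.mp hPe.1) w
          exact ⟨k, by rw [← hk, Subgroup.orderOf_coe]⟩
        haveI : Fintype (Subgroup.centralizer
          ((Subgroup.zpowers (w : G) : Subgroup G) : Set G)) := Fintype.ofFinite _
        exact subsection_nonvanishing hM (w : G) hu _ (centralizer_zpowers_eq (w : G)) hind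
          x.1 x.2.1 x.2.2)
      rw [show (QuotientGroup.mk w : ↥P ⧸ F.focalSubgroup.subgroupOf P)
        = QuotientGroup.mk ⟨(w : G), w.2⟩ from rfl, h2]
      rfl
  have hdvd := index_dvd_card_of_act act h1 hmul ⊥ hfree
  rw [Subgroup.index_bot, card_homs_of_comm (focal_comm F), ← Subgroup.index_eq_card] at hdvd
  exact hdvd

/-- **Robinson**: the number of characters of any given height is divisible by
`|Z(P) : Z(P) ∩ foc|` -/
theorem card_height_dvd (hM : IsPModular p M)
    (e : Set (IrrCharacter (Subgroup.centralizer (P : Set G))))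
    (hmax : IsMaximalBrauerPair p M B P e) (F : FusionSystem P)
    (hF : IsBlockFusionSystemOn p M B P e F) (h : ℕ) :
    ((P ⊓ Subgroup.centralizer (P : Set G) ⊓ F.focalSubgroup).subgroupOf
        (P ⊓ Subgroup.centralizer (P : Set G))).index ∣
      Nat.card {χ : IrrCharacter G // χ ∈ B ∧ blockHeight p B (χ : G → ℂ) = h} := by
  classical
  haveI : (F.focalSubgroup.subgroupOf P).Normal := focal_normal F
  have hfus := fusControl_of_blockFusion F hF
  obtain ⟨act, h1, hmul, hact⟩ := exists_act hM e hmax hfus h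
  let φ : ↥(P ⊓ Subgroup.centralizer (P : Set G)) →* (↥P ⧸ F.focalSubgroup.subgroupOf P) :=
    (QuotientGroup.mk' (F.focalSubgroup.subgroupOf P)).comp
      (Subgroup.inclusion (inf_le_left : P ⊓ Subgroup.centralizer (P : Set G) ≤ P))
  obtain ⟨S, hS1, hS2⟩ := exists_dual_subgroup (focal_comm F) φ.range
  have hstab : ∀ a x, act a x = x → a ∈ S := by
    intro a x hax
    apply hS1
    rintro z ⟨w, rfl⟩
    have hfix : starFun p M B ⟨P, e⟩ (etaOf P (F.focalSubgroup.subgroupOf P) a)
        ((x.1 : IrrCharacter G) : G → ℂ) = ((x.1 : IrrCharacter G) : G → ℂ) := by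
      rw [← hact a x, hax]
    have hwP : (w : G) ∈ P := (Subgroup.mem_inf.mp w.2).1
    have hwC : (w : G) ∈ Subgroup.centralizer (P : Set G) := (Subgroup.mem_inf.mp w.2).2
    have h2 := lam_eq_one_of_fixed hM e hmax hfus a x.1 hfix (w : G) hwP (by
      intro f hf hchain hind
      exact exists_blockPart_ne_zero_of_center hM e hmax (w : G) hwP hwC f hf hchain hind
        x.1 x.2.1)
    exact h2
  have hdvd := index_dvd_card_of_act act h1 hmul S hstab
  have hker : φ.ker = (P ⊓ Subgroup.centralizer (P : Set G) ⊓ F.focalSubgroup).subgroupOf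
      (P ⊓ Subgroup.centralizer (P : Set G)) := by
    ext w
    rw [MonoidHom.mem_ker, Subgroup.mem_subgroupOf, Subgroup.mem_inf]
    show (QuotientGroup.mk (Subgroup.inclusion
      (inf_le_left : P ⊓ Subgroup.centralizer (P : Set G) ≤ P) w) :
        ↥P ⧸ F.focalSubgroup.subgroupOf P) = 1 ↔ _
    rw [QuotientGroup.eq_one_iff, Subgroup.mem_subgroupOf]
    constructor
    · intro hw; exact ⟨w.2, hw⟩
    · intro hw; exact hw.2
  rw [hS2, ← Subgroup.index_ker, hker] at hdvd
  exact hdvd

end main

end Cfsg.Agent.Lib.Helper6.Star
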