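import Mathlib
import Cfsg.Agent.Lib.Helper6.StarAct
import Cfsg.Agent.Lib.Helper6.IrrBasis

set_option autoImplicit false
set_option linter.unusedSectionVars false
set_option maxHeartbeats 1600000

/-!
Linearity of the star construction in the function on the defect group, and the adjunction
formula for inner products.
-/

open Cfsg

namespace Cfsg.Agent.Lib.Helper6.Star

open Cfsg.Agent.Lib.Helper6
open scoped ComplexConjugate

section general

/-- bilinear orthogonal expansion -/
theorem sum_comb_mul_conj₂ {ι Y : Type*} [DecidableEq ι] (s : Finset ι) (R : Finset Y)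
    (a a' : ι → ℂ) (P P' : ι → Y → ℂ)
    (horth : ∀ i ∈ s, ∀ j ∈ s, i ≠ j → ∑ y ∈ R, P i y * conj (P' j y) = 0) :
    ∑ y ∈ R, (∑ i ∈ s, a i * P i y) * conj (∑ j ∈ s, a' j * P' j y)
      = ∑ i ∈ s, a i * conj (a' i) * ∑ y ∈ R, P i y * conj (P' i y) := by
  have h1 : ∀ y ∈ R, (∑ i ∈ s, a i * P i y) * conj (∑ j ∈ s, a' j * P' j y)
      = ∑ i ∈ s, ∑ j ∈ s, a i * conj (a' j) * (P i y * conj (P' j y)) := by
    intro y _
    rw [map_sum, Finset.sum_mul]
    apply Finset.sum_congr rfl
    intro i _
    rw [Finset.mul_sum]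
    apply Finset.sum_congr rfl
    intro j _
    rw [map_mul]
    ring
  rw [Finset.sum_congr rfl h1, Finset.sum_comm]
  apply Finset.sum_congr rfl
  intro i hi
  rw [Finset.sum_comm]
  rw [Finset.sum_eq_single i]
  · rw [Finset.mul_sum]
  · intro j hj hji
    rw [← Finset.mul_sum, horth i hi j hj (fun h => hji h.symm), mul_zero]
  · intro h
    exact absurd hi h

end general

section lin

variable {G : Type*} [Group G] [Fintype G] [DecidableEq G] {p : ℕ} [hp : Fact p.Prime]
  {M : Ideal Cfsg.AlgInt} {B : Set (IrrCharacter G)}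

theorem etaFam_of_exists {m : BrauerPairIdx G} {η : G → ℂ} {𝔰 : BrauerPairIdx G} {t : G}
    (hex : ∃ x : G, Relation.ReflTransGen (NormalSubpairRel p M) (conjPair x 𝔰) m) :
    etaFam p M m η 𝔰 t = η (hex.choose * t * hex.choose⁻¹) := by
  unfold etaFam
  rw [dif_pos hex]

theorem etaFam_of_not_exists {m : BrauerPairIdx G} {η : G → ℂ} {𝔰 : BrauerPairIdx G} {t : G}
    (hex : ¬ ∃ x : G, Relation.ReflTransGen (NormalSubpairRel p M) (conjPair x 𝔰) m) :
    etaFam p M m η 𝔰 t = 0 := by
  unfold etaFam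
  rw [dif_neg hex]

theorem etaFam_sum (m : BrauerPairIdx G) {ι : Type*} (s : Finset ι) (c : ι → ℂ)
    (η : ι → G → ℂ) (𝔰 : BrauerPairIdx G) (t : G) :
    etaFam p M m (fun g => ∑ i ∈ s, c i * η i g) 𝔰 t
      = ∑ i ∈ s, c i * etaFam p M m (η i) 𝔰 t := by
  by_cases hex : ∃ x : G, Relation.ReflTransGen (NormalSubpairRel p M) (conjPair x 𝔰) m
  · rw [etaFam_of_exists hex]
    apply Finset.sum_congr rfl
    intro i _
    rw [etaFam_of_exists hex]
  · rw [etaFam_of_not_exists hex]
    symm
    apply Finset.sum_eq_zero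
    intro i _
    rw [etaFam_of_not_exists hex, mul_zero]

theorem etaFam_mul_conj (m : BrauerPairIdx G) (η η' : G → ℂ) (𝔰 : BrauerPairIdx G) (t : G) :
    etaFam p M m (fun g => η g * conj (η' g)) 𝔰 t * conj (etaFam p M m (fun _ => 1) 𝔰 t)
      = etaFam p M m η 𝔰 t * conj (etaFam p M m η' 𝔰 t) := by
  by_cases hex : ∃ x : G, Relation.ReflTransGen (NormalSubpairRel p M) (conjPair x 𝔰) m
  · rw [etaFam_of_exists hex, etaFam_of_exists hex, etaFam_of_exists hex, etaFam_of_exists hex]
    simp
  · rw [etaFam_of_not_exists hex, etaFam_of_not_exists (η := η) hex]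
    simp

theorem etaFam_one {m : BrauerPairIdx G} {𝔰 : BrauerPairIdx G} {t : G}
    (hex : ∃ x : G, Relation.ReflTransGen (NormalSubpairRel p M) (conjPair x 𝔰) m) :
    etaFam p M m (fun _ => 1) 𝔰 t = 1 := by
  rw [etaFam_of_exists hex]

/-- the star construction is linear in the function on the defect group -/
theorem starFun_sum (hM : IsPModular p M) (m : BrauerPairIdx G) {ι : Type*} (s : Finset ι)
    (c : ι → ℂ) (η : ι → G → ℂ) (χ : G → ℂ) :
    starFun p M B m (fun g => ∑ i ∈ s, c i * η i g) χ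
      = ∑ i ∈ s, c i • starFun p M B m (η i) χ := by
  funext g
  have hu := orderOf_ppEl (p := p) g
  rw [Finset.sum_apply]
  have h1 : ∀ η' : G → ℂ, starFun p M B m η' χ g
      = ∑ b ∈ inducingBlocks M
          (Subgroup.centralizer ((Subgroup.zpowers (ppEl p g) : Subgroup G) : Set G)) B,
          etaFam p M m η' ⟨Subgroup.zpowers (ppEl p g), b⟩ (ppEl p g)
            * sect p χ ⟨Subgroup.zpowers (ppEl p g), b⟩ (ppEl p g) (prEl p g) := by
    intro η'
    exact finsum_pairsAt hM (ppEl p g) hu
      (fun 𝔰 => etaFam p M m η' 𝔰 (ppEl p g) * sect p χ 𝔰 (ppEl p g) (prEl p g))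
  rw [h1]
  have h2 : ∀ i ∈ s, (c i • starFun p M B m (η i) χ) g
      = ∑ b ∈ inducingBlocks M
          (Subgroup.centralizer ((Subgroup.zpowers (ppEl p g) : Subgroup G) : Set G)) B,
          c i * (etaFam p M m (η i) ⟨Subgroup.zpowers (ppEl p g), b⟩ (ppEl p g)
            * sect p χ ⟨Subgroup.zpowers (ppEl p g), b⟩ (ppEl p g) (prEl p g)) := by
    intro i _
    rw [Pi.smul_apply, smul_eq_mul, h1, Finset.mul_sum]
  rw [Finset.sum_congr rfl h2, Finset.sum_comm]
  apply Finset.sum_congr rfl
  intro b _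
  rw [etaFam_sum, Finset.sum_mul]
  apply Finset.sum_congr rfl
  intro i _
  ring

theorem sum_ppEl_eq_zero_of_not (u : G) (hu : ¬ ∃ k : ℕ, orderOf u = p ^ k) (F : G → ℂ) :
    ∑ g : G, (if ppEl p g = u then F g else 0) = 0 := by
  apply Finset.sum_eq_zero
  intro g _
  rw [if_neg]
  intro h
  apply hu
  rw [← h]
  exact orderOf_ppEl g

/-- the contribution of one `p`-section to an inner product of two star constructions -/
theorem sum_ppEl_starFun_mul_conj (hM : IsPModular p M) (m : BrauerPairIdx G)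
    (η η' χ₁ χ₂ : G → ℂ) (h₁ : IsClassFunction G χ₁) (h₂ : IsClassFunction G χ₂) (u : G)
    (hu : ∃ k : ℕ, orderOf u = p ^ k)
    [Fintype (Subgroup.centralizer ((Subgroup.zpowers u : Subgroup G) : Set G))] :
    ∑ g : G, (if ppEl p g = u then
        starFun p M B m η χ₁ g * conj (starFun p M B m η' χ₂ g) else 0)
      = ∑ b ∈ inducingBlocks M
          (Subgroup.centralizer ((Subgroup.zpowers u : Subgroup G) : Set G)) B,
          etaFam p M m η ⟨Subgroup.zpowers u, b⟩ u
            * conj (etaFam p M m η' ⟨Subgroup.zpowers u, b⟩ u)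
          * ∑ y ∈ Finset.univ.filter (fun y : Subgroup.centralizer
              ((Subgroup.zpowers u : Subgroup G) : Set G) => ¬ p ∣ orderOf y),
              blockPart b (fun c : Subgroup.centralizer
                ((Subgroup.zpowers u : Subgroup G) : Set G) => χ₁ (u * (c : G))) y
              * conj (blockPart b (fun c : Subgroup.centralizer
                ((Subgroup.zpowers u : Subgroup G) : Set G) => χ₂ (u * (c : G))) y) := by
  classical
  have hH := centralizer_zpowers_eq u
  rw [sum_ppEl_eq u hu _ hH]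
  have horth : ∀ b ∈ inducingBlocks M
      (Subgroup.centralizer ((Subgroup.zpowers u : Subgroup G) : Set G)) B,
      ∀ b' ∈ inducingBlocks M
        (Subgroup.centralizer ((Subgroup.zpowers u : Subgroup G) : Set G)) B, b ≠ b' →
      ∑ y ∈ Finset.univ.filter (fun y : Subgroup.centralizer
          ((Subgroup.zpowers u : Subgroup G) : Set G) => ¬ p ∣ orderOf y),
        blockPart b (fun c' : Subgroup.centralizer
            ((Subgroup.zpowers u : Subgroup G) : Set G) => χ₁ (u * (c' : G))) y
          * conj (blockPart b' (fun c' : Subgroup.centralizer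
            ((Subgroup.zpowers u : Subgroup G) : Set G) => χ₂ (u * (c' : G))) y) = 0 := by
    intro b hb b' hb' hne
    obtain ⟨ξ, rfl⟩ := ((mem_inducingBlocks _ _ _).mp hb).1
    obtain ⟨ξ', rfl⟩ := ((mem_inducingBlocks _ _ _).mp hb').1
    exact sum_blockPart_mul_conj_blockPart_of_ne hM ξ ξ' hne _ _
  have e1 : ∀ y ∈ Finset.univ.filter (fun y : Subgroup.centralizer
      ((Subgroup.zpowers u : Subgroup G) : Set G) => ¬ p ∣ orderOf y),
      starFun p M B m η χ₁ (u * (y : G)) * conj (starFun p M B m η' χ₂ (u * (y : G)))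
      = (∑ b ∈ inducingBlocks M
          (Subgroup.centralizer ((Subgroup.zpowers u : Subgroup G) : Set G)) B,
          etaFam p M m η ⟨Subgroup.zpowers u, b⟩ u
            * blockPart b (fun c' : Subgroup.centralizer
              ((Subgroup.zpowers u : Subgroup G) : Set G) => χ₁ (u * (c' : G))) y)
        * conj (∑ b ∈ inducingBlocks M
          (Subgroup.centralizer ((Subgroup.zpowers u : Subgroup G) : Set G)) B,
          etaFam p M m η' ⟨Subgroup.zpowers u, b⟩ u
            * blockPart b (fun c' : Subgroup.centralizer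
              ((Subgroup.zpowers u : Subgroup G) : Set G) => χ₂ (u * (c' : G))) y) := by
    intro y hy
    rw [starFun_apply_shift hM m η χ₁ h₁ u hu y (Finset.mem_filter.mp hy).2,
      starFun_apply_shift hM m η' χ₂ h₂ u hu y (Finset.mem_filter.mp hy).2]
  rw [Finset.sum_congr rfl e1, sum_comb_mul_conj₂ _ _ _ _ _ _ horth]

/-- adjunction: the inner product of two star constructions -/
theorem classInner_starFun_starFun (hM : IsPModular p M) (m : BrauerPairIdx G)
    (η η' χ₁ χ₂ : G → ℂ) (h₁ : IsClassFunction G χ₁) (h₂ : IsClassFunction G χ₂) :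
    classInner (starFun p M B m η χ₁) (starFun p M B m η' χ₂)
      = classInner (starFun p M B m (fun g => η g * conj (η' g)) χ₁)
          (starFun p M B m (fun _ => 1) χ₂) := by
  classical
  unfold classInner
  congr 1
  rw [sum_eq_sum_ppEl (p := p)
      (fun g => starFun p M B m η χ₁ g * conj (starFun p M B m η' χ₂ g)),
    sum_eq_sum_ppEl (p := p)
      (fun g => starFun p M B m (fun g => η g * conj (η' g)) χ₁ g
        * conj (starFun p M B m (fun _ => 1) χ₂ g))]
  apply Finset.sum_congr rfl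
  intro u _
  by_cases hu : ∃ k : ℕ, orderOf u = p ^ k
  · haveI : Fintype (Subgroup.centralizer ((Subgroup.zpowers u : Subgroup G) : Set G)) :=
      Fintype.ofFinite _
    rw [sum_ppEl_starFun_mul_conj hM m η η' χ₁ χ₂ h₁ h₂ u hu,
      sum_ppEl_starFun_mul_conj hM m _ _ χ₁ χ₂ h₁ h₂ u hu]
    apply Finset.sum_congr rfl
    intro b _
    rw [etaFam_mul_conj]
  · rw [sum_ppEl_eq_zero_of_not u hu, sum_ppEl_eq_zero_of_not u hu]

/-- the star construction with the constant function one is the identity on the block -/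
theorem starFun_one (hM : IsPModular p M) (hB : IsPBlock M B) (m : BrauerPairIdx G)
    (hmax : IsMaximalBrauerPair p M B m.1 m.2) (χ : IrrCharacter G) (hχ : χ ∈ B) :
    starFun p M B m (fun _ => 1) (χ : G → ℂ) = (χ : G → ℂ) := by
  funext g
  rw [starFun_apply_of_const hM hB m _ χ hχ g 1, one_mul]
  intro 𝔰 h𝔰
  exact etaFam_one (exists_conj_le hM B m hmax 𝔰 h𝔰.2)

end lin

end Cfsg.Agent.Lib.Helper6.Star
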