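import Mathlib
import Cfsg.Agent.Lib.Helper6.GaloisRat
import Cfsg.Agent.Lib.Helper6.GenCharOps

set_option autoImplicit false
set_option linter.unusedSectionVars false
set_option maxHeartbeats 1600000

/-!
A generalized character with positive real values and mean one is the trivial character
(the argument of Brauer through the arithmetic and geometric means of Galois conjugates).
-/

open Cfsg

namespace Cfsg.Agent.Lib.Helper6.Star

open Cfsg.Agent.Lib.Helper6
open Polynomial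
open scoped ComplexConjugate

set_option backward.isDefEq.respectTransparency false in
/-- the product over all power maps `k ∈ (ℤ/n)ˣ` of a difference of two power sums of `n`-th
roots of unity is a rational integer -/
theorem exists_int_prod_units_sub {ι κ : Type*} [Fintype ι] [Fintype κ] (n : ℕ) [NeZero n]
    (μ : ι → ℂ) (ν : κ → ℂ) (hμ : ∀ i, μ i ^ n = 1) (hν : ∀ j, ν j ^ n = 1) :
    ∃ z : ℤ, ∏ k : (ZMod n)ˣ,
      (∑ i, μ i ^ (k : ZMod n).val - ∑ j, ν j ^ (k : ZMod n).val) = (z : ℂ) := by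
  have hn : 0 < n := Nat.pos_of_ne_zero (NeZero.ne n)
  have hζ : IsPrimitiveRoot (IsCyclotomicExtension.zeta n ℚ (CyclotomicField n ℚ)) n :=
    IsCyclotomicExtension.zeta_spec n ℚ (CyclotomicField n ℚ)
  set ζ := IsCyclotomicExtension.zeta n ℚ (CyclotomicField n ℚ) with hζdef
  have : FiniteDimensional ℚ (CyclotomicField n ℚ) :=
    IsCyclotomicExtension.finiteDimensional {n} ℚ (CyclotomicField n ℚ)
  have : IsGalois ℚ (CyclotomicField n ℚ) :=
    IsCyclotomicExtension.isGalois {n} ℚ (CyclotomicField n ℚ)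
  let φ : (CyclotomicField n ℚ) →ₐ[ℚ] ℂ := IsAlgClosed.lift
  have hφinj : Function.Injective φ := φ.toRingHom.injective
  have hξ : IsPrimitiveRoot (φ ζ) n := hζ.map_of_injective hφinj
  have ha : ∀ i, ∃ a < n, (φ ζ) ^ a = μ i := fun i => hξ.eq_pow_of_pow_eq_one (hμ i)
  have hb : ∀ j, ∃ b < n, (φ ζ) ^ b = ν j := fun j => hξ.eq_pow_of_pow_eq_one (hν j)
  choose a han ha using ha
  choose b hbn hb using hb
  set α : (CyclotomicField n ℚ) := ∑ i, ζ ^ a i - ∑ j, ζ ^ b j with hα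
  have hirr : Irreducible (cyclotomic n ℚ) := cyclotomic.irreducible_rat hn
  have hσ : ∀ σ : (CyclotomicField n ℚ) ≃ₐ[ℚ] (CyclotomicField n ℚ), φ (σ α) =
      ∑ i, μ i ^ ((IsCyclotomicExtension.autEquivPow (CyclotomicField n ℚ) hirr σ :
        (ZMod n)ˣ) : ZMod n).val
      - ∑ j, ν j ^ ((IsCyclotomicExtension.autEquivPow (CyclotomicField n ℚ) hirr σ :
        (ZMod n)ˣ) : ZMod n).val := by
    intro σ
    have h1 : σ ζ = ζ ^ ((IsCyclotomicExtension.autEquivPow (CyclotomicField n ℚ) hirr σ :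
        (ZMod n)ˣ) : ZMod n).val := by
      have := hζ.autToPow_spec ℚ σ
      rw [← this]
      rfl
    simp only [hα, map_sub, map_sum, map_pow, h1]
    congr 1
    · refine Finset.sum_congr rfl fun i _ => ?_
      rw [← ha i, ← pow_mul, ← pow_mul, mul_comm]
    · refine Finset.sum_congr rfl fun j _ => ?_
      rw [← hb j, ← pow_mul, ← pow_mul, mul_comm]
  have hnorm := Algebra.norm_eq_prod_automorphisms ℚ α
  have hprod : ∏ k : (ZMod n)ˣ,
      (∑ i, μ i ^ (k : ZMod n).val - ∑ j, ν j ^ (k : ZMod n).val)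
      = φ (∏ σ : (CyclotomicField n ℚ) ≃ₐ[ℚ] (CyclotomicField n ℚ), σ α) := by
    rw [map_prod]
    symm
    apply Fintype.prod_equiv
      (IsCyclotomicExtension.autEquivPow (CyclotomicField n ℚ) hirr).toEquiv
    intro σ
    rw [hσ σ]
    rfl
  have h1 : ∏ k : (ZMod n)ˣ,
      (∑ i, μ i ^ (k : ZMod n).val - ∑ j, ν j ^ (k : ZMod n).val)
      = ((Algebra.norm ℚ α : ℚ) : ℂ) := by
    rw [hprod, ← hnorm, AlgHom.commutes]
    rfl
  have h2 : IsIntegral ℤ ((Algebra.norm ℚ α : ℚ) : ℂ) := by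
    rw [← h1]
    apply IsIntegral.prod
    intro k _
    apply IsIntegral.sub
    · apply IsIntegral.sum
      intro i _
      apply IsIntegral.pow
      apply IsIntegral.of_pow hn
      rw [hμ i]
      exact isIntegral_one
    · apply IsIntegral.sum
      intro j _
      apply IsIntegral.pow
      apply IsIntegral.of_pow hn
      rw [hν j]
      exact isIntegral_one
  obtain ⟨m, hm⟩ := int_of_isIntegral_ratCast h2
  refine ⟨m, ?_⟩
  rw [h1, ← hm]
  simp

/-- positive reals with product at least one have sum at least their number, with equality only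
when all of them are one -/
theorem amgm_real {K : Type*} [Fintype K] (x : K → ℝ) (hx : ∀ k, 0 < x k)
    (hprod : 1 ≤ ∏ k, x k) :
    (Fintype.card K : ℝ) ≤ ∑ k, x k ∧ (∑ k, x k = (Fintype.card K : ℝ) → ∀ k, x k = 1) := by
  have hlog : ∀ k, Real.log (x k) ≤ x k - 1 := fun k => Real.log_le_sub_one_of_pos (hx k)
  have hsumlog : 0 ≤ ∑ k, Real.log (x k) := by
    rw [← Real.log_prod (fun k _ => (hx k).ne')]
    exact Real.log_nonneg hprod
  have hsum1 : ∑ k, (x k - 1) = ∑ k, x k - (Fintype.card K : ℝ) := by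
    rw [Finset.sum_sub_distrib]
    simp
  constructor
  · have := Finset.sum_le_sum (fun k (_ : k ∈ Finset.univ) => hlog k)
    linarith
  · intro heq k
    have hz : ∑ k, (x k - 1 - Real.log (x k)) = - ∑ k, Real.log (x k) := by
      rw [Finset.sum_sub_distrib, hsum1, heq]
      ring
    have hnn : ∀ k ∈ Finset.univ, 0 ≤ x k - 1 - Real.log (x k) := fun k _ => by
      linarith [hlog k]
    have hle : ∑ k, (x k - 1 - Real.log (x k)) ≤ 0 := by
      rw [hz]; linarith
    have h0 : ∑ k, (x k - 1 - Real.log (x k)) = 0 := le_antisymm hle (Finset.sum_nonneg hnn)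
    have hk := (Finset.sum_eq_zero_iff_of_nonneg hnn).mp h0 k (Finset.mem_univ k)
    by_contra hne
    have := Real.log_lt_sub_one_of_pos (hx k) hne
    linarith

/-- a generalized character all of whose values are positive reals and whose mean is one is the
trivial character -/
theorem genChar_eq_one_of_pos {H : Type*} [Group H] [Fintype H] (ψ : H → ℂ)
    (hψ : IsGeneralizedCharacter H ψ) (hpos : ∀ v, ∃ r : ℝ, 0 < r ∧ ψ v = r)
    (hmean : ∑ v, ψ v = (Nat.card H : ℂ)) : ∀ v, ψ v = 1 := by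
  classical
  choose r hr0 hr using hpos
  obtain ⟨n, hn⟩ : ∃ n, n = 2 * Nat.card H := ⟨_, rfl⟩
  have hcardpos : 0 < Nat.card H := Nat.card_pos
  have hn0 : 0 < n := by omega
  have hn1 : n ≠ 1 := by omega
  haveI : NeZero n := ⟨hn0.ne'⟩
  have hpown : ∀ x : H, x ^ n = 1 := by
    intro x
    rw [hn, mul_comm, pow_mul, pow_card_eq_one', one_pow]
  have hcop : ∀ k : (ZMod n)ˣ, Nat.Coprime (Nat.card H) (k : ZMod n).val := by
    intro k
    have h1 := ZMod.val_coe_unit_coprime k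
    have hdvd : Nat.card H ∣ n := ⟨2, by rw [hn, mul_comm]⟩
    exact (Nat.Coprime.coprime_dvd_right hdvd h1).symm
  obtain ⟨χ₁, χ₂, h₁, h₂, rfl⟩ := hψ
  have hnorm : ∀ v : H, ∃ z : ℤ,
      ∏ k : (ZMod n)ˣ, ((χ₁ - χ₂) (v ^ (k : ZMod n).val)) = (z : ℂ) := by
    intro v
    obtain ⟨m₁, μ, hμ, hμv⟩ := IsCharacter.exists_eigen_pow h₁ v n hn0 (hpown v)
    obtain ⟨m₂, ν, hν, hνv⟩ := IsCharacter.exists_eigen_pow h₂ v n hn0 (hpown v)
    obtain ⟨z, hz⟩ := exists_int_prod_units_sub n μ ν hμ hν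
    refine ⟨z, ?_⟩
    rw [← hz]
    apply Finset.prod_congr rfl
    intro k _
    rw [Pi.sub_apply, hμv, hνv]
  have hN : ∀ v : H, 1 ≤ ∏ k : (ZMod n)ˣ, r (v ^ (k : ZMod n).val) := by
    intro v
    obtain ⟨z, hz⟩ := hnorm v
    have h1 : ((∏ k : (ZMod n)ˣ, r (v ^ (k : ZMod n).val) : ℝ) : ℂ) = (z : ℂ) := by
      rw [← hz]
      push_cast
      apply Finset.prod_congr rfl
      intro k _
      rw [← hr]
    have h2 : (∏ k : (ZMod n)ˣ, r (v ^ (k : ZMod n).val) : ℝ) = (z : ℝ) := by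
      exact_mod_cast h1
    have h3 : 0 < ∏ k : (ZMod n)ˣ, r (v ^ (k : ZMod n).val) :=
      Finset.prod_pos (fun k _ => hr0 _)
    rw [h2] at h3 ⊢
    have h4 : 0 < z := by exact_mod_cast h3
    have h5 : 1 ≤ z := h4
    exact_mod_cast h5
  have hsum_ge : ∀ v : H, (Fintype.card (ZMod n)ˣ : ℝ) ≤ ∑ k : (ZMod n)ˣ, r (v ^ (k : ZMod n).val) :=
    fun v => (amgm_real _ (fun k => hr0 _) (hN v)).1
  have hR : ∑ v : H, r v = (Nat.card H : ℝ) := by
    have h1 : ((∑ v : H, r v : ℝ) : ℂ) = (Nat.card H : ℂ) := by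
      rw [← hmean]
      push_cast
      exact Finset.sum_congr rfl (fun v _ => (hr v).symm)
    exact_mod_cast h1
  have htotal : ∑ v : H, ∑ k : (ZMod n)ˣ, r (v ^ (k : ZMod n).val)
      = (Nat.card H : ℝ) * (Fintype.card (ZMod n)ˣ : ℝ) := by
    rw [Finset.sum_comm]
    have h1 : ∀ k : (ZMod n)ˣ, ∑ v : H, r (v ^ (k : ZMod n).val) = (Nat.card H : ℝ) := by
      intro k
      have hb := (powCoprime (hcop k)).sum_comp r
      rw [← hR, ← hb]
      rfl
    rw [Finset.sum_congr rfl (fun k _ => h1 k)]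
    simp [mul_comm]
  have heq : ∀ v : H, ∑ k : (ZMod n)ˣ, r (v ^ (k : ZMod n).val) = (Fintype.card (ZMod n)ˣ : ℝ) := by
    have h0 : ∑ v : H, (∑ k : (ZMod n)ˣ, r (v ^ (k : ZMod n).val)
        - (Fintype.card (ZMod n)ˣ : ℝ)) = 0 := by
      rw [Finset.sum_sub_distrib, htotal]
      simp [Nat.card_eq_fintype_card]
    have h1 := (Finset.sum_eq_zero_iff_of_nonneg
      (fun v _ => sub_nonneg.mpr (hsum_ge v))).mp h0
    intro v
    have := h1 v (Finset.mem_univ v)
    linarith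
  intro v
  have h1 := (amgm_real _ (fun k => hr0 _) (hN v)).2 (heq v) (1 : (ZMod n)ˣ)
  have hval : (((1 : (ZMod n)ˣ) : ZMod n)).val = 1 := by
    rw [Units.val_one]
    exact ZMod.val_one'' hn1
  rw [hval, pow_one] at h1
  rw [hr v, h1]
  simp

end Cfsg.Agent.Lib.Helper6.Star
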