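import Mathlib
import Cfsg.Agent.Lib.Helper6.StarLin
import Cfsg.Agent.Lib.Helper6.StarNorm
import Cfsg.Agent.Lib.Helper6.StarFocal
import Cfsg.Agent.Lib.Helper6.ClassFun
import Cfsg.Agent.Lib.Helper6.Norm
import Cfsg.Agent.Lib.Helper6.BlkContrib
import Cfsg.Agent.Lib.Helper6.BlkTilde
import Cfsg.Agent.Lib.Helper6.BlkIdem
import Cfsg.Agent.S4686

set_option autoImplicit false
set_option linter.unusedSectionVars false
set_option maxHeartbeats 1600000

/-!
The theorem of Broué and Puig on nilpotent blocks: the star construction with a character of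
height zero is a bijection from the irreducible characters of a defect group onto the block.
-/

open Cfsg

namespace Cfsg.Agent.Lib.Helper6.Star

open Cfsg.Agent.Lib.Helper6
open scoped ComplexConjugate

section ext

variable {G : Type*} [Group G] [Fintype G] [DecidableEq G] {p : ℕ} [hp : Fact p.Prime]
  {M : Ideal Cfsg.AlgInt} {B : Set (IrrCharacter G)} {P : Subgroup G}

/-- extension by zero of a function on the subgroup `P` -/
noncomputable def extP (P : Subgroup G) (θ : ↥P → ℂ) : G → ℂ := fun g => by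
  classical
  exact dite (g ∈ P) (fun h => θ ⟨g, h⟩) (fun _ => 0)

theorem extP_of_mem (θ : ↥P → ℂ) {g : G} (h : g ∈ P) : extP P θ g = θ ⟨g, h⟩ := by
  unfold extP
  rw [dif_pos h]

theorem extP_of_not_mem (θ : ↥P → ℂ) {g : G} (h : g ∉ P) : extP P θ g = 0 := by
  unfold extP
  rw [dif_neg h]

theorem extP_coe (θ : ↥P → ℂ) : (fun u : ↥P => extP P θ (u : G)) = θ := by
  funext u
  rw [extP_of_mem θ u.2]

theorem extP_sum {ι : Type*} (s : Finset ι) (c : ι → ℂ) (θ : ι → ↥P → ℂ) :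
    extP P (fun v => ∑ i ∈ s, c i * θ i v) = fun g => ∑ i ∈ s, c i * extP P (θ i) g := by
  funext g
  by_cases h : g ∈ P
  · rw [extP_of_mem _ h]
    apply Finset.sum_congr rfl
    intro i _
    rw [extP_of_mem _ h]
  · rw [extP_of_not_mem _ h]
    symm
    apply Finset.sum_eq_zero
    intro i _
    rw [extP_of_not_mem _ h, mul_zero]

theorem extP_mul_conj (θ θ' : ↥P → ℂ) :
    (fun g => extP P θ g * conj (extP P θ' g)) = extP P (fun v => θ v * conj (θ' v)) := by
  funext g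
  by_cases h : g ∈ P
  · rw [extP_of_mem _ h, extP_of_mem _ h, extP_of_mem _ h]
  · rw [extP_of_not_mem θ h, extP_of_not_mem (fun v => θ v * conj (θ' v)) h, zero_mul]

theorem orderOf_of_mem_pGroup (hP : IsPGroup p P) {u : G} (huP : u ∈ P) :
    ∃ k : ℕ, orderOf u = p ^ k := by
  obtain ⟨k, hk⟩ := (IsPGroup.iff_orderOf.mp hP) ⟨u, huP⟩
  exact ⟨k, by rw [← hk, Subgroup.orderOf_mk]⟩

theorem ppEl_eq_one_iff (g : G) : ppEl p g = 1 ↔ ¬ p ∣ orderOf g := by
  constructor
  · intro h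
    have h1 := ppEl_mul_prEl p g
    rw [h, one_mul] at h1
    rw [← h1]
    exact prEl_pRegular g
  · intro h
    exact ppEl_of_pRegular h

/-- under nilpotency every class function of `P` is stable -/
theorem isStableFn_extP (hM : IsPModular p M) (hnil : IsNilpotentBlock p M B)
    (e : Set (IrrCharacter (Subgroup.centralizer (P : Set G))))
    (hmax : IsMaximalBrauerPair p M B P e) (θ : ↥P → ℂ) (hθ : IsClassFunction ↥P θ) :
    IsStableFn p M ⟨P, e⟩ (extP P θ) := by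
  obtain ⟨F, hF⟩ := exists_blockFusionSystem hM B P e hmax
  have hinner := (Cfsg.Agent.S4686.result p M hM B P e hmax F hF).mp hnil
  intro b hb y hy u hu
  have hφ : conjHom b.1 y ∈ F.Hom b.1 := by
    rw [hF.2]
    exact ⟨le_of_chain b ⟨P, e⟩ hb, y, fun _ => rfl, le_of_chain _ _ hy, b.2, hb, hy⟩
  rw [hinner b.1] at hφ
  obtain ⟨_, g, hgP, hg⟩ := hφ
  have h1 : y * u * y⁻¹ = g * u * g⁻¹ := hg ⟨u, hu⟩
  have huP : u ∈ P := le_of_chain b ⟨P, e⟩ hb hu
  rw [h1, extP_of_mem θ (P.mul_mem (P.mul_mem hgP huP) (P.inv_mem hgP)), extP_of_mem θ huP]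
  exact hθ ⟨u, huP⟩ ⟨g, hgP⟩

end ext

section nil

variable {G : Type*} [Group G] [Fintype G] [DecidableEq G] {p : ℕ} [hp : Fact p.Prime]
  {M : Ideal Cfsg.AlgInt} {B : Set (IrrCharacter G)} {P : Subgroup G}
  [Fintype ↥P] [Fintype (IrrCharacter ↥P)]

theorem classInner_starFun_extP_sum (hM : IsPModular p M) (m : BrauerPairIdx G) {ι : Type*}
    (s : Finset ι) (c : ι → ℂ) (θ : ι → ↥P → ℂ) (χ β : G → ℂ) :
    classInner (starFun p M B m (extP P (fun v => ∑ i ∈ s, c i * θ i v)) χ) β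
      = ∑ i ∈ s, c i * classInner (starFun p M B m (extP P (θ i)) χ) β := by
  rw [extP_sum, starFun_sum hM m s c (fun i => extP P (θ i)) χ, classInner_sum_left]
  apply Finset.sum_congr rfl
  intro i _
  rw [classInner_smul_left]

theorem classInner_starFun_extP_expand (hM : IsPModular p M) (m : BrauerPairIdx G)
    (ψ : ↥P → ℂ) (hψ : IsClassFunction ↥P ψ) (χ β : G → ℂ) :
    classInner (starFun p M B m (extP P ψ) χ) β
      = ∑ θ : IrrCharacter ↥P, classInner ψ (θ : ↥P → ℂ)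
          * classInner (starFun p M B m (extP P (θ : ↥P → ℂ)) χ) β := by
  have h := classFunction_eq_sum ψ hψ
  have h2 : ψ = fun v => ∑ θ : IrrCharacter ↥P,
      classInner ψ (θ : ↥P → ℂ) * (θ : ↥P → ℂ) v := by
    funext v
    conv_lhs => rw [h]
    rw [Finset.sum_apply]
    rfl
  conv_lhs => rw [h2]
  exact classInner_starFun_extP_sum hM m Finset.univ _ _ χ β

theorem classInner_T_T (hM : IsPModular p M)
    (e : Set (IrrCharacter (Subgroup.centralizer (P : Set G))))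
    (hmax : IsMaximalBrauerPair p M B P e) (χ : IrrCharacter G) (hχ : χ ∈ B)
    (θ θ' : ↥P → ℂ) :
    classInner (starFun p M B ⟨P, e⟩ (extP P θ) (χ : G → ℂ))
        (starFun p M B ⟨P, e⟩ (extP P θ') (χ : G → ℂ))
      = classInner (starFun p M B ⟨P, e⟩ (extP P (fun v => θ v * conj (θ' v))) (χ : G → ℂ))
          (χ : G → ℂ) := by
  have hcf := IsIrrCharacter.isClassFunction χ.2
  rw [classInner_starFun_starFun hM ⟨P, e⟩ _ _ _ _ hcf hcf, extP_mul_conj,
    starFun_one hM hmax.1.2.1 ⟨P, e⟩ hmax χ hχ]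

/-- the generalized character `mm` of the defect group -/
theorem exists_mFun (hM : IsPModular p M) (hnil : IsNilpotentBlock p M B)
    (e : Set (IrrCharacter (Subgroup.centralizer (P : Set G))))
    (hmax : IsMaximalBrauerPair p M B P e) (χ : IrrCharacter G) :
    ∃ mm : ↥P → ℂ, IsGeneralizedCharacter ↥P mm ∧
      ∀ ψ : ↥P → ℂ, IsClassFunction ↥P ψ →
        classInner (starFun p M B ⟨P, e⟩ (extP P ψ) (χ : G → ℂ)) (χ : G → ℂ)
          = (Nat.card ↥P : ℂ)⁻¹ * ∑ v : ↥P, ψ v * mm v := by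
  classical
  have hint : ∀ θ : IrrCharacter ↥P, ∃ z : ℤ,
      classInner (starFun p M B ⟨P, e⟩ (extP P (θ : ↥P → ℂ)) (χ : G → ℂ)) (χ : G → ℂ) = z := by
    intro θ
    apply classInner_genChar_char_int _ (IsIrrCharacter.isCharacter χ.2)
    apply starFun_isGeneralizedCharacter hM ⟨P, e⟩ hmax _
      (isStableFn_extP hM hnil e hmax θ (IsIrrCharacter.isClassFunction θ.2)) _ _
      (IsIrrCharacter.isCharacter χ.2)
    show IsGeneralizedCharacter ↥P (fun u : ↥P => extP P (θ : ↥P → ℂ) (u : G))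
    rw [extP_coe]
    exact IsCharacter.isGeneralizedCharacter (IsIrrCharacter.isCharacter θ.2)
  choose z hz using hint
  refine ⟨∑ θ : IrrCharacter ↥P, (z θ : ℂ) • (fun v => conj ((θ : ↥P → ℂ) v)), ?_, ?_⟩
  · apply IsGeneralizedCharacter.sum
    intro θ _
    apply IsGeneralizedCharacter.intCast_smul
    exact IsCharacter.isGeneralizedCharacter
      (IsCharacter.conj (IsIrrCharacter.isCharacter θ.2))
  · intro ψ hψ
    rw [classInner_starFun_extP_expand hM ⟨P, e⟩ ψ hψ (χ : G → ℂ) (χ : G → ℂ)]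
    have h1 : ∀ v : ↥P, ψ v * (∑ θ : IrrCharacter ↥P,
        (z θ : ℂ) • (fun v => conj ((θ : ↥P → ℂ) v))) v
        = ∑ θ : IrrCharacter ↥P, (z θ : ℂ) * (ψ v * conj ((θ : ↥P → ℂ) v)) := by
      intro v
      rw [Finset.sum_apply, Finset.mul_sum]
      apply Finset.sum_congr rfl
      intro θ _
      rw [Pi.smul_apply, smul_eq_mul]
      ring
    rw [Finset.sum_congr rfl (fun v _ => h1 v), Finset.sum_comm, Finset.mul_sum]
    apply Finset.sum_congr rfl
    intro θ _
    rw [hz θ, ← Finset.mul_sum]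
    unfold classInner
    ring

theorem starFun_extP_one (hM : IsPModular p M)
    (e : Set (IrrCharacter (Subgroup.centralizer (P : Set G))))
    (hmax : IsMaximalBrauerPair p M B P e) (χ : IrrCharacter G) (hχ : χ ∈ B) :
    starFun p M B ⟨P, e⟩ (extP P (fun _ => 1)) (χ : G → ℂ) = (χ : G → ℂ) := by
  funext g
  rw [starFun_apply_of_const hM hmax.1.2.1 ⟨P, e⟩ _ χ hχ g 1, one_mul]
  intro 𝔰 h𝔰
  have hex := exists_conj_le hM B ⟨P, e⟩ hmax 𝔰 h𝔰.2
  rw [etaFam_of_exists hex]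
  have hmem : hex.choose * ppEl p g * hex.choose⁻¹ ∈ P :=
    le_of_chain _ _ hex.choose_spec
      (conj_mem_map_conj 𝔰.1 _ (by rw [h𝔰.1]; exact Subgroup.mem_zpowers _))
  rw [extP_of_mem _ hmem]

theorem starFun_extP_apply_pRegular (hM : IsPModular p M)
    (e : Set (IrrCharacter (Subgroup.centralizer (P : Set G))))
    (hmax : IsMaximalBrauerPair p M B P e) (χ : IrrCharacter G) (hχ : χ ∈ B)
    (θ : ↥P → ℂ) (g : G) (hg : ¬ p ∣ orderOf g) :
    starFun p M B ⟨P, e⟩ (extP P θ) (χ : G → ℂ) g = θ 1 * (χ : G → ℂ) g := by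
  rw [starFun_apply_of_const hM hmax.1.2.1 ⟨P, e⟩ _ χ hχ g (θ 1)]
  intro 𝔰 h𝔰
  have hex := exists_conj_le hM B ⟨P, e⟩ hmax 𝔰 h𝔰.2
  rw [etaFam_of_exists hex, ppEl_of_pRegular hg]
  have h2 : hex.choose * 1 * hex.choose⁻¹ = (1 : G) := by group
  rw [h2, extP_of_mem _ P.one_mem]
  rfl

open scoped ComplexOrder in
theorem mul_conj_nonneg' (z : ℂ) : 0 ≤ z * conj z := by
  rw [Complex.mul_conj]
  exact Complex.zero_le_real.mpr (Complex.normSq_nonneg z)

open scoped ComplexOrder in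
theorem mul_conj_pos' {z : ℂ} (hz : z ≠ 0) : 0 < z * conj z := by
  rw [Complex.mul_conj]
  exact Complex.zero_lt_real.mpr (Complex.normSq_pos.mpr hz)

open scoped ComplexOrder in
/-- positivity of the inner product against a nonnegative class function -/
theorem classInner_pos (hM : IsPModular p M) (hnil : IsNilpotentBlock p M B)
    (e : Set (IrrCharacter (Subgroup.centralizer (P : Set G))))
    (hmax : IsMaximalBrauerPair p M B P e) (χ : IrrCharacter G) (hχ : χ ∈ B)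
    (h0 : blockHeight p B (χ : G → ℂ) = 0) (u : G) (huP : u ∈ P)
    (γ : ↥P → ℂ) (hγcf : IsClassFunction ↥P γ) (hγ0 : ∀ w, 0 ≤ γ w) (hγv : 0 < γ ⟨u, huP⟩) :
    0 < classInner (starFun p M B ⟨P, e⟩ (extP P γ) (χ : G → ℂ)) (χ : G → ℂ) := by
  classical
  have hB := hmax.1.2.1
  have hPe := hmax.1.1
  have hcf := IsIrrCharacter.isClassFunction χ.2
  have hone := starFun_one hM hB ⟨P, e⟩ hmax χ hχ
  have hstab := isStableFn_extP hM hnil e hmax γ hγcf
  have heta_nn : ∀ (𝔰 : BrauerPairIdx G) (t : G),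
      0 ≤ etaFam p M ⟨P, e⟩ (extP P γ) 𝔰 t := by
    intro 𝔰 t
    by_cases hex : ∃ x : G, Relation.ReflTransGen (NormalSubpairRel p M) (conjPair x 𝔰) ⟨P, e⟩
    · rw [etaFam_of_exists hex]
      by_cases hm : (hex.choose * t * hex.choose⁻¹) ∈ P
      · rw [extP_of_mem _ hm]; exact hγ0 _
      · rw [extP_of_not_mem _ hm]
    · rw [etaFam_of_not_exists hex]
  have hone_nn : ∀ (𝔰 : BrauerPairIdx G) (t : G),
      0 ≤ conj (etaFam p M ⟨P, e⟩ (fun _ => (1 : ℂ)) 𝔰 t) := by
    intro 𝔰 t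
    by_cases hex : ∃ x : G, Relation.ReflTransGen (NormalSubpairRel p M) (conjPair x 𝔰) ⟨P, e⟩
    · rw [etaFam_one hex, map_one]; exact zero_le_one
    · rw [etaFam_of_not_exists hex, map_zero]
  have hterm : ∀ (w : G) (hw : ∃ k : ℕ, orderOf w = p ^ k)
      [Fintype (Subgroup.centralizer ((Subgroup.zpowers w : Subgroup G) : Set G))],
      ∑ g : G, (if ppEl p g = w then
        starFun p M B ⟨P, e⟩ (extP P γ) (χ : G → ℂ) g * conj ((χ : G → ℂ) g) else 0)
      = ∑ b ∈ inducingBlocks M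
          (Subgroup.centralizer ((Subgroup.zpowers w : Subgroup G) : Set G)) B,
          etaFam p M ⟨P, e⟩ (extP P γ) ⟨Subgroup.zpowers w, b⟩ w
            * conj (etaFam p M ⟨P, e⟩ (fun _ => (1 : ℂ)) ⟨Subgroup.zpowers w, b⟩ w)
          * ∑ y ∈ Finset.univ.filter (fun y : Subgroup.centralizer
              ((Subgroup.zpowers w : Subgroup G) : Set G) => ¬ p ∣ orderOf y),
              blockPart b (fun c : Subgroup.centralizer
                ((Subgroup.zpowers w : Subgroup G) : Set G) => (χ : G → ℂ) (w * (c : G))) y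
              * conj (blockPart b (fun c : Subgroup.centralizer
                ((Subgroup.zpowers w : Subgroup G) : Set G) => (χ : G → ℂ) (w * (c : G))) y) := by
    intro w hw _
    have h := sum_ppEl_starFun_mul_conj (B := B) hM ⟨P, e⟩ (extP P γ) (fun _ => (1 : ℂ))
      (χ : G → ℂ) (χ : G → ℂ) hcf hcf w hw
    rw [hone] at h
    exact h
  have hR : ∀ w : G, 0 ≤ ∑ g : G, (if ppEl p g = w then
      starFun p M B ⟨P, e⟩ (extP P γ) (χ : G → ℂ) g * conj ((χ : G → ℂ) g) else 0) := by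
    intro w
    by_cases hw : ∃ k : ℕ, orderOf w = p ^ k
    · haveI : Fintype (Subgroup.centralizer ((Subgroup.zpowers w : Subgroup G) : Set G)) :=
        Fintype.ofFinite _
      rw [hterm w hw]
      apply Finset.sum_nonneg
      intro b _
      apply mul_nonneg (mul_nonneg (heta_nn _ _) (hone_nn _ _))
      apply Finset.sum_nonneg
      intro y _
      exact mul_conj_nonneg' _
    · rw [sum_ppEl_eq_zero_of_not w hw]
  have hRv : 0 < ∑ g : G, (if ppEl p g = u then
      starFun p M B ⟨P, e⟩ (extP P γ) (χ : G → ℂ) g * conj ((χ : G → ℂ) g) else 0) := by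
    have hu : ∃ k : ℕ, orderOf u = p ^ k := orderOf_of_mem_pGroup hPe.1 huP
    haveI : Fintype (Subgroup.centralizer ((Subgroup.zpowers u : Subgroup G) : Set G)) :=
      Fintype.ofFinite _
    rw [hterm u hu]
    have hle : Subgroup.zpowers u ≤ P := by
      rw [Subgroup.zpowers_le]; exact huP
    obtain ⟨f, hf, hchain⟩ := exists_subpair hM hPe hle
    have hBP : IsBrauerPairOf p M B (Subgroup.zpowers u) f :=
      (isBrauerPairOf_iff_of_chain hM B hB ⟨Subgroup.zpowers u, f⟩ ⟨P, e⟩ hchain).mp hmax.1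
    have hind : IsInducedBlock M
        (Subgroup.centralizer ((Subgroup.zpowers u : Subgroup G) : Set G)) f B :=
      (isBrauerPairOf_iff_isInducedBlock hM _ (isPGroup_zpowers u hu) f B).mp hBP
    obtain ⟨y, hyreg, hy⟩ := subsection_nonvanishing hM u hu _ (centralizer_zpowers_eq u) hind
      χ hχ h0
    have hconj : Relation.ReflTransGen (NormalSubpairRel p M)
        (conjPair 1 (⟨Subgroup.zpowers u, f⟩ : BrauerPairIdx G)) ⟨P, e⟩ := by
      rw [conjPair_one]; exact hchain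
    apply Finset.sum_pos'
    · intro b _
      apply mul_nonneg (mul_nonneg (heta_nn _ _) (hone_nn _ _))
      apply Finset.sum_nonneg
      intro y _
      exact mul_conj_nonneg' _
    · refine ⟨f, (mem_inducingBlocks _ _ _).mpr hind, ?_⟩
      apply mul_pos (mul_pos ?_ ?_) ?_
      · rw [etaFam_eq hstab hconj (Subgroup.mem_zpowers u)]
        have h3 : (1 : G) * u * (1 : G)⁻¹ = u := by group
        rw [h3, extP_of_mem γ huP]
        exact hγv
      · rw [etaFam_one ⟨1, hconj⟩, map_one]; exact zero_lt_one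
      · apply Finset.sum_pos'
        · intro y _; exact mul_conj_nonneg' _
        · exact ⟨y, Finset.mem_filter.mpr ⟨Finset.mem_univ _, hyreg⟩, mul_conj_pos' hy⟩
  unfold classInner
  rw [sum_eq_sum_ppEl (p := p)
    (fun g => starFun p M B ⟨P, e⟩ (extP P γ) (χ : G → ℂ) g * conj ((χ : G → ℂ) g))]
  have hsum : 0 < ∑ w : G, ∑ g : G, (if ppEl p g = w then
      starFun p M B ⟨P, e⟩ (extP P γ) (χ : G → ℂ) g * conj ((χ : G → ℂ) g) else 0) :=
    Finset.sum_pos' (fun w _ => hR w) ⟨u, Finset.mem_univ _, hRv⟩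
  have hc : (0 : ℂ) < (Nat.card G : ℂ)⁻¹ := by
    have h1 : (0 : ℝ) < (Nat.card G : ℝ)⁻¹ := inv_pos.mpr (Nat.cast_pos.mpr Nat.card_pos)
    have h2 : ((Nat.card G : ℂ))⁻¹ = (((Nat.card G : ℝ)⁻¹ : ℝ) : ℂ) := by push_cast; rfl
    rw [h2]
    exact Complex.zero_lt_real.mpr h1
  exact mul_pos hc hsum

open scoped ComplexOrder in
/-- for a character of height zero the star construction is an isometry against `χ` -/
theorem classInner_starFun_extP_eq (hM : IsPModular p M) (hnil : IsNilpotentBlock p M B)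
    (e : Set (IrrCharacter (Subgroup.centralizer (P : Set G))))
    (hmax : IsMaximalBrauerPair p M B P e) (χ : IrrCharacter G) (hχ : χ ∈ B)
    (h0 : blockHeight p B (χ : G → ℂ) = 0) (ψ : ↥P → ℂ) (hψ : IsClassFunction ↥P ψ) :
    classInner (starFun p M B ⟨P, e⟩ (extP P ψ) (χ : G → ℂ)) (χ : G → ℂ)
      = (Nat.card ↥P : ℂ)⁻¹ * ∑ v : ↥P, ψ v := by
  classical
  obtain ⟨mm, hgen, hstar⟩ := exists_mFun hM hnil e hmax χ
  have hmcf := IsGeneralizedCharacter.isClassFunction hgen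
  have hcardP : (Nat.card ↥P : ℂ) ≠ 0 := by exact_mod_cast (Nat.card_pos (α := ↥P)).ne'
  have hmean : ∑ v : ↥P, mm v = (Nat.card ↥P : ℂ) := by
    have h1 := hstar (fun _ => 1) (fun _ _ => rfl)
    rw [starFun_extP_one hM e hmax χ hχ, classInner_irrCharacter, if_pos rfl] at h1
    simp only [one_mul] at h1
    have h2 : (Nat.card ↥P : ℂ) * 1 = (Nat.card ↥P : ℂ) * ((Nat.card ↥P : ℂ)⁻¹ * ∑ v : ↥P, mm v) := by
      rw [← h1]
    rw [mul_one, ← mul_assoc, mul_inv_cancel₀ hcardP, one_mul] at h2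
    exact h2.symm
  have hpos : ∀ v : ↥P, ∃ r : ℝ, 0 < r ∧ mm v = r := by
    intro v
    obtain ⟨γ, hγdef⟩ : ∃ γ : ↥P → ℂ,
        γ = fun w => if ∃ c : ↥P, c * v * c⁻¹ = w then (1 : ℂ) else 0 := ⟨_, rfl⟩
    have hγcf : IsClassFunction ↥P γ := by
      intro g h
      rw [hγdef]
      show (if ∃ c : ↥P, c * v * c⁻¹ = h * g * h⁻¹ then (1 : ℂ) else 0)
        = if ∃ c : ↥P, c * v * c⁻¹ = g then (1 : ℂ) else 0
      have hiff : (∃ c : ↥P, c * v * c⁻¹ = h * g * h⁻¹) ↔ ∃ c : ↥P, c * v * c⁻¹ = g := by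
        constructor
        · rintro ⟨c, hc⟩
          refine ⟨h⁻¹ * c, ?_⟩
          calc h⁻¹ * c * v * (h⁻¹ * c)⁻¹ = h⁻¹ * (c * v * c⁻¹) * h := by group
            _ = g := by rw [hc]; group
        · rintro ⟨c, hc⟩
          refine ⟨h * c, ?_⟩
          rw [← hc]; group
      simp only [hiff]
    have hγ0 : ∀ w, (0 : ℂ) ≤ γ w := by
      intro w
      rw [hγdef]
      show (0 : ℂ) ≤ if ∃ c : ↥P, c * v * c⁻¹ = w then (1 : ℂ) else 0
      split_ifs
      · exact zero_le_one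
      · exact le_refl _
    have hγv : (0 : ℂ) < γ ⟨(v : G), v.2⟩ := by
      rw [hγdef]
      show (0 : ℂ) < if ∃ c : ↥P, c * v * c⁻¹ = v then (1 : ℂ) else 0
      rw [if_pos ⟨1, by group⟩]
      exact zero_lt_one
    have hp' := classInner_pos hM hnil e hmax χ hχ h0 (v : G) v.2 γ hγcf hγ0 hγv
    rw [hstar γ hγcf] at hp'
    have h1 : ∀ w : ↥P, γ w * mm w = γ w * mm v := by
      intro w
      rw [hγdef]
      show (if ∃ c : ↥P, c * v * c⁻¹ = w then (1 : ℂ) else 0) * mm w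
        = (if ∃ c : ↥P, c * v * c⁻¹ = w then (1 : ℂ) else 0) * mm v
      split_ifs with hc
      · obtain ⟨c, rfl⟩ := hc
        rw [hmcf v c]
      · simp
    rw [Finset.sum_congr rfl (fun w _ => h1 w), ← Finset.sum_mul] at hp'
    have h2 : ∑ w : ↥P, γ w
        = ((Finset.univ.filter (fun w : ↥P => ∃ c : ↥P, c * v * c⁻¹ = w)).card : ℂ) := by
      rw [hγdef]
      exact Finset.sum_boole _ _
    rw [h2] at hp'
    obtain ⟨k, hkdef⟩ : ∃ k : ℕ,
        k = (Finset.univ.filter (fun w : ↥P => ∃ c : ↥P, c * v * c⁻¹ = w)).card := ⟨_, rfl⟩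
    rw [← hkdef] at hp'
    have hk : 0 < k := by
      rw [hkdef]
      exact Finset.card_pos.mpr ⟨v, Finset.mem_filter.mpr ⟨Finset.mem_univ _, 1, by group⟩⟩
    obtain ⟨t, htdef⟩ : ∃ t : ℝ, t = (Nat.card ↥P : ℝ)⁻¹ * (k : ℝ) := ⟨_, rfl⟩
    have ht : 0 < t := by
      rw [htdef]
      exact mul_pos (inv_pos.mpr (Nat.cast_pos.mpr Nat.card_pos)) (Nat.cast_pos.mpr hk)
    have hexpr : (Nat.card ↥P : ℂ)⁻¹ * ((k : ℂ) * mm v) = (t : ℂ) * mm v := by
      rw [htdef]; push_cast; ring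
    rw [hexpr] at hp'
    obtain ⟨hre, him⟩ := Complex.pos_iff.mp hp'
    rw [Complex.re_ofReal_mul] at hre
    rw [Complex.im_ofReal_mul] at him
    have hre' : 0 < (mm v).re := (mul_pos_iff_of_pos_left ht).mp hre
    have him' : (mm v).im = 0 := by
      rcases mul_eq_zero.mp him.symm with h | h
      · exact absurd h ht.ne'
      · exact h
    exact ⟨(mm v).re, hre', Complex.ext rfl (by simp [him'])⟩
  have hone := genChar_eq_one_of_pos mm hgen hpos hmean
  rw [hstar ψ hψ]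
  congr 1
  apply Finset.sum_congr rfl
  intro v _
  rw [hone v, mul_one]

/-- orthonormality of the star constructions -/
theorem classInner_T_T_eq (hM : IsPModular p M) (hnil : IsNilpotentBlock p M B)
    (e : Set (IrrCharacter (Subgroup.centralizer (P : Set G))))
    (hmax : IsMaximalBrauerPair p M B P e) (χ : IrrCharacter G) (hχ : χ ∈ B)
    (h0 : blockHeight p B (χ : G → ℂ) = 0) (θ θ' : IrrCharacter ↥P) :
    classInner (starFun p M B ⟨P, e⟩ (extP P (θ : ↥P → ℂ)) (χ : G → ℂ))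
        (starFun p M B ⟨P, e⟩ (extP P (θ' : ↥P → ℂ)) (χ : G → ℂ))
      = classInner (θ : ↥P → ℂ) (θ' : ↥P → ℂ) := by
  have hθ := IsIrrCharacter.isClassFunction θ.2
  have hθ' := IsIrrCharacter.isClassFunction θ'.2
  have hcf : IsClassFunction ↥P (fun v => (θ : ↥P → ℂ) v * conj ((θ' : ↥P → ℂ) v)) := by
    intro g h
    show (θ : ↥P → ℂ) (h * g * h⁻¹) * conj ((θ' : ↥P → ℂ) (h * g * h⁻¹))
      = (θ : ↥P → ℂ) g * conj ((θ' : ↥P → ℂ) g)
    rw [hθ g h, hθ' g h]
  rw [classInner_T_T hM e hmax χ hχ, classInner_starFun_extP_eq hM hnil e hmax χ hχ h0 _ hcf]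
  rfl

/-- each star construction with an irreducible character of `P` is an irreducible character in
the block -/
theorem exists_irr_of_theta (hM : IsPModular p M) (hnil : IsNilpotentBlock p M B)
    (e : Set (IrrCharacter (Subgroup.centralizer (P : Set G))))
    (hmax : IsMaximalBrauerPair p M B P e) (χ : IrrCharacter G) (hχ : χ ∈ B)
    (h0 : blockHeight p B (χ : G → ℂ) = 0) (θ : IrrCharacter ↥P) :
    ∃ ψ : IrrCharacter G, ψ ∈ B ∧
      (ψ : G → ℂ) = starFun p M B ⟨P, e⟩ (extP P (θ : ↥P → ℂ)) (χ : G → ℂ) := by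
  classical
  have hB : IsPBlock M B := hmax.1.2.1
  have hgen : IsGeneralizedCharacter G
      (starFun p M B ⟨P, e⟩ (extP P (θ : ↥P → ℂ)) (χ : G → ℂ)) := by
    apply starFun_isGeneralizedCharacter hM ⟨P, e⟩ hmax _
      (isStableFn_extP hM hnil e hmax θ (IsIrrCharacter.isClassFunction θ.2)) _ _
      (IsIrrCharacter.isCharacter χ.2)
    show IsGeneralizedCharacter ↥P (fun u : ↥P => extP P (θ : ↥P → ℂ) (u : G))
    rw [extP_coe]
    exact IsCharacter.isGeneralizedCharacter (IsIrrCharacter.isCharacter θ.2)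
  have hnorm : classInner (starFun p M B ⟨P, e⟩ (extP P (θ : ↥P → ℂ)) (χ : G → ℂ))
      (starFun p M B ⟨P, e⟩ (extP P (θ : ↥P → ℂ)) (χ : G → ℂ)) = 1 := by
    rw [classInner_T_T_eq hM hnil e hmax χ hχ h0 θ θ, classInner_irrCharacter, if_pos rfl]
  have hone : ¬ p ∣ orderOf (1 : G) := by
    rw [orderOf_one]; exact hp.out.one_lt.ne' ∘ Nat.dvd_one.mp
  have hval := starFun_extP_apply_pRegular hM e hmax χ hχ (θ : ↥P → ℂ)
  have h1 := hval 1 hone
  have hθ1 := IsCharacter.apply_one_eq_charDegree (IsIrrCharacter.isCharacter θ.2)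
  have hχ1 := IsCharacter.apply_one_eq_charDegree (IsIrrCharacter.isCharacter χ.2)
  have hθpos := IsIrrCharacter.charDegree_pos θ.2
  have hχpos := IsIrrCharacter.charDegree_pos χ.2
  have hpos : 0 < (starFun p M B ⟨P, e⟩ (extP P (θ : ↥P → ℂ)) (χ : G → ℂ) 1).re := by
    rw [h1, hθ1, hχ1, ← Nat.cast_mul, Complex.natCast_re]
    exact_mod_cast Nat.mul_pos hθpos hχpos
  have hirr := IsGeneralizedCharacter.isIrrCharacter_of_norm_one hgen hnorm hpos
  have hθne : (θ : ↥P → ℂ) 1 ≠ 0 := IsIrrCharacter.apply_one_ne_zero θ.2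
  have hχne : (χ : G → ℂ) 1 ≠ 0 := IsIrrCharacter.apply_one_ne_zero χ.2
  have hsame : SameBlock M (χ : G → ℂ)
      (starFun p M B ⟨P, e⟩ (extP P (θ : ↥P → ℂ)) (χ : G → ℂ)) := by
    apply sameBlock_of_forall_pRegular hM χ ⟨_, hirr⟩
    intro g hg
    unfold centralChar
    show MemLocalIdeal M (_ - _ * starFun p M B ⟨P, e⟩ (extP P (θ : ↥P → ℂ)) (χ : G → ℂ) g
      / starFun p M B ⟨P, e⟩ (extP P (θ : ↥P → ℂ)) (χ : G → ℂ) 1)
    rw [hval g hg, h1]
    have h2 : ∀ a : ℂ, a * ((θ : ↥P → ℂ) 1 * (χ : G → ℂ) g)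
        / ((θ : ↥P → ℂ) 1 * (χ : G → ℂ) 1) = a * (χ : G → ℂ) g / (χ : G → ℂ) 1 := by
      intro a
      field_simp
    rw [h2, sub_self]
    exact memLocalIdeal_zero hM
  have hmemB : (⟨_, hirr⟩ : IrrCharacter G) ∈ B := by
    obtain ⟨χ₀, hχ₀⟩ := hB
    have hχB : χ ∈ blockOf M (χ₀ : G → ℂ) := hχ₀ ▸ hχ
    have h2 : (⟨_, hirr⟩ : IrrCharacter G) ∈ blockOf M (χ : G → ℂ) := hsame
    rw [← blockOf_eq_of_mem hM hχB] at h2
    exact hχ₀ ▸ h2
  exact ⟨⟨_, hirr⟩, hmemB, rfl⟩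

/-- **Broué–Puig**: the structure of a nilpotent block -/
theorem nilpotent_structure (hM : IsPModular p M) (hnil : IsNilpotentBlock p M B)
    (e : Set (IrrCharacter (Subgroup.centralizer (P : Set G))))
    (hmax : IsMaximalBrauerPair p M B P e) (χ : IrrCharacter G) (hχ : χ ∈ B)
    (h0 : blockHeight p B (χ : G → ℂ) = 0) :
    ∃ f : IrrCharacter ↥P → IrrCharacter G,
      Function.Injective f ∧ (∀ θ, f θ ∈ B) ∧ (∀ ψ ∈ B, ∃ θ, f θ = ψ) ∧
      ∀ (θ : IrrCharacter ↥P) (g : G), ¬ p ∣ orderOf g →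
        (f θ : G → ℂ) g = (θ : ↥P → ℂ) 1 * (χ : G → ℂ) g := by
  classical
  have hB : IsPBlock M B := hmax.1.2.1
  choose f hfB hfT using exists_irr_of_theta hM hnil e hmax χ hχ h0
  refine ⟨f, ?_, hfB, ?_, ?_⟩
  · intro θ θ' hθθ'
    have h1 := classInner_T_T_eq hM hnil e hmax χ hχ h0 θ θ'
    rw [← hfT θ, ← hfT θ', hθθ', classInner_irrCharacter, if_pos rfl,
      classInner_irrCharacter] at h1
    by_contra hne
    rw [if_neg hne] at h1
    exact one_ne_zero h1
  · intro ψ hψ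
    by_contra hcon
    push Not at hcon
    have hzero : ∀ θ : IrrCharacter ↥P,
        classInner (starFun p M B ⟨P, e⟩ (extP P (θ : ↥P → ℂ)) (χ : G → ℂ)) (ψ : G → ℂ) = 0 := by
      intro θ
      rw [← hfT θ, classInner_irrCharacter, if_neg (hcon θ)]
    obtain ⟨δ, hδdef⟩ : ∃ δ : ↥P → ℂ, δ = fun w => if w = 1 then (1 : ℂ) else 0 := ⟨_, rfl⟩
    have hδcf : IsClassFunction ↥P δ := by
      intro g h
      rw [hδdef]
      show (if h * g * h⁻¹ = 1 then (1 : ℂ) else 0) = if g = 1 then (1 : ℂ) else 0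
      have hiff : h * g * h⁻¹ = 1 ↔ g = 1 := conj_eq_one_iff
      simp only [hiff]
    have h1 := classInner_starFun_extP_expand (B := B) hM ⟨P, e⟩ δ hδcf (χ : G → ℂ) (ψ : G → ℂ)
    rw [Finset.sum_eq_zero (fun θ _ => by rw [hzero θ, mul_zero])] at h1
    have h2 : ∀ g : G, starFun p M B ⟨P, e⟩ (extP P δ) (χ : G → ℂ) g
        = if p ∣ orderOf g then 0 else (χ : G → ℂ) g := by
      intro g
      rw [starFun_apply_of_const hM hB ⟨P, e⟩ _ χ hχ g (if p ∣ orderOf g then 0 else 1)]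
      · split_ifs <;> simp
      · intro 𝔰 h𝔰
        have hex := exists_conj_le hM B ⟨P, e⟩ hmax 𝔰 h𝔰.2
        rw [etaFam_of_exists hex]
        have hmem : hex.choose * ppEl p g * hex.choose⁻¹ ∈ P :=
          le_of_chain _ _ hex.choose_spec
            (conj_mem_map_conj 𝔰.1 _ (by rw [h𝔰.1]; exact Subgroup.mem_zpowers _))
        rw [extP_of_mem _ hmem, hδdef]
        show (if (⟨hex.choose * ppEl p g * hex.choose⁻¹, hmem⟩ : ↥P) = 1 then (1 : ℂ) else 0) = _
        have hiff : (⟨hex.choose * ppEl p g * hex.choose⁻¹, hmem⟩ : ↥P) = 1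
            ↔ ¬ p ∣ orderOf g := by
          rw [← ppEl_eq_one_iff (p := p) g, Subtype.ext_iff]
          show hex.choose * ppEl p g * hex.choose⁻¹ = 1 ↔ _
          exact conj_eq_one_iff
        by_cases hg : p ∣ orderOf g
        · rw [if_pos hg, if_neg (fun h => (hiff.mp h) hg)]
        · rw [if_neg hg, if_pos (hiff.mpr hg)]
    have h3 : tildeFun p (χ : G → ℂ)
        = ((p ^ (Nat.card G).factorization p : ℕ) : ℂ)
          • starFun p M B ⟨P, e⟩ (extP P δ) (χ : G → ℂ) := by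
      funext g
      rw [Pi.smul_apply, smul_eq_mul, h2 g]
      unfold tildeFun
      split_ifs <;> simp
    have h4 := cInt_spec hM χ ψ
    rw [h3, classInner_smul_left, h1, mul_zero] at h4
    have h5 : cInt p (χ : G → ℂ) (ψ : G → ℂ) = 0 := by exact_mod_cast h4.symm
    obtain ⟨χ₀, rfl⟩ := hB
    exact not_pow_succ_dvd_cInt hM χ₀ χ ψ hχ hψ h0 (by rw [h5]; exact dvd_zero _)
  · intro θ g hg
    rw [hfT θ]
    exact starFun_extP_apply_pRegular hM e hmax χ hχ (θ : ↥P → ℂ) g hg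

end nil

end Cfsg.Agent.Lib.Helper6.Star
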