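import Mathlib
import Cfsg.Agent.Lib.Helper6.StarNil
import Cfsg.Agent.Lib.Helper6.BrCyc
import Cfsg.Agent.Lib.Helper6.BrFM2
import Cfsg.Agent.Lib.Helper6.BlkMajor
import Cfsg.Agent.Lib.Helper6.BlkDefConj
import Cfsg.Agent.Lib.Helper6.RankCentralQuot

set_option autoImplicit false
set_option linter.unusedSectionVars false
set_option maxHeartbeats 1600000

/-!
Consequences of the theorem of Broué and Puig: a nilpotent block has one irreducible Brauer
character, and its characters correspond to those of a defect group.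
-/

open Cfsg

namespace Cfsg.Agent.Lib.Helper6.Star

open Cfsg.Agent.Lib.Helper6
open scoped ComplexConjugate

section final

variable {G : Type*} [Group G] [Fintype G] [DecidableEq G] {p : ℕ} [hp : Fact p.Prime]
  {M : Ideal Cfsg.AlgInt} {B : Set (IrrCharacter G)}

theorem blockRank_eq_one_of_multiple (χ₀ : IrrCharacter G) (hχ₀ : χ₀ ∈ B)
    (hne : pRegularPart p (χ₀ : G → ℂ) ≠ 0)
    (h : ∀ ψ ∈ B, ∃ d : ℂ, pRegularPart p (ψ : G → ℂ) = d • pRegularPart p (χ₀ : G → ℂ)) :
    blockRank p B = 1 := by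
  unfold blockRank
  have hspan : Submodule.span ℂ
      ((fun χ : IrrCharacter G => pRegularPart p (χ : G → ℂ)) '' B)
      = Submodule.span ℂ {pRegularPart p (χ₀ : G → ℂ)} := by
    apply le_antisymm
    · rw [Submodule.span_le]
      rintro _ ⟨ψ, hψ, rfl⟩
      obtain ⟨d, hd⟩ := h ψ hψ
      rw [SetLike.mem_coe]
      show pRegularPart p (ψ : G → ℂ) ∈ _
      rw [hd]
      exact Submodule.smul_mem _ _ (Submodule.mem_span_singleton_self _)
    · apply Submodule.span_mono
      rw [Set.singleton_subset_iff]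
      exact ⟨χ₀, hχ₀, rfl⟩
  rw [hspan]
  exact finrank_span_singleton hne

/-- a maximal Brauer pair on a given defect group -/
theorem exists_maxPair_of_isDefectGroup (hM : IsPModular p M) (hB : IsPBlock M B)
    (P : Subgroup G) (hP : IsDefectGroup p M B P) :
    ∃ e : Set (IrrCharacter (Subgroup.centralizer (P : Set G))),
      IsMaximalBrauerPair p M B P e := by
  haveI : Fintype (Subgroup.centralizer (P : Set G)) := Fintype.ofFinite _
  obtain ⟨e, he⟩ := exists_isBrauerPairOf_of_isDefectGroup P hM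
    (IsDefectGroup.isPGroup hP) hB hP
  exact ⟨e, isMaximalBrauerPair_of_isDefectGroup hM B P e hP he⟩

/-- a nilpotent block has a single irreducible Brauer character -/
theorem nilpotent_rank_one (hM : IsPModular p M) (hnil : IsNilpotentBlock p M B) :
    blockRank p B = 1 ∧ ∃ χ₀ ∈ B, ∀ χ ∈ B, ∃ d : ℕ, ∀ x : G,
      pRegularPart p (χ : G → ℂ) x = (d : ℂ) * pRegularPart p (χ₀ : G → ℂ) x := by
  classical
  have hB : IsPBlock M B := hnil.1
  obtain ⟨P, hP⟩ := exists_isDefectGroup hM B hB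
  obtain ⟨e, hmax⟩ := exists_maxPair_of_isDefectGroup hM hB P hP
  obtain ⟨χ₁, hχ₁⟩ : ∃ χ₁ : IrrCharacter G, χ₁ ∈ B := by
    obtain ⟨χ₁, h⟩ := hB
    exact ⟨χ₁, by rw [h]; exact sameBlock_refl hM _⟩
  obtain ⟨χ, hχ, h0⟩ := exists_height_zero (p := p) B χ₁ hχ₁
  haveI : Fintype ↥P := Fintype.ofFinite _
  haveI : Fintype (IrrCharacter ↥P) := Fintype.ofFinite _
  obtain ⟨f, -, hfB, hsurj, hval⟩ := nilpotent_structure hM hnil e hmax χ hχ h0
  have hmult : ∀ ψ ∈ B, ∃ d : ℕ, ∀ x : G,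
      pRegularPart p (ψ : G → ℂ) x = (d : ℂ) * pRegularPart p (χ : G → ℂ) x := by
    intro ψ hψ
    obtain ⟨θ, rfl⟩ := hsurj ψ hψ
    refine ⟨charDegree (θ : ↥P → ℂ), ?_⟩
    intro x
    by_cases hx : p ∣ orderOf x
    · rw [pRegularPart_apply_of_dvd _ hx, pRegularPart_apply_of_dvd _ hx, mul_zero]
    · rw [pRegularPart_apply_of_not_dvd _ hx, pRegularPart_apply_of_not_dvd _ hx, hval θ x hx,
        IsCharacter.apply_one_eq_charDegree (IsIrrCharacter.isCharacter θ.2)]
  refine ⟨?_, χ, hχ, hmult⟩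
  apply blockRank_eq_one_of_multiple χ hχ
  · intro h
    have h1 := congrFun h 1
    have hone : ¬ p ∣ orderOf (1 : G) := by
      rw [orderOf_one]; exact hp.out.one_lt.ne' ∘ Nat.dvd_one.mp
    rw [pRegularPart_apply_of_not_dvd _ hone] at h1
    exact IsIrrCharacter.apply_one_ne_zero χ.2 h1
  · intro ψ hψ
    obtain ⟨d, hd⟩ := hmult ψ hψ
    refine ⟨(d : ℂ), ?_⟩
    funext x
    rw [hd x]
    rfl

/-- the characters of a nilpotent block correspond to the characters of a defect group -/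
theorem nilpotent_bijection (hM : IsPModular p M) (hnil : IsNilpotentBlock p M B)
    (P : Subgroup G) (hP : IsDefectGroup p M B P) :
    ∃ Φ : B ≃ IrrCharacter ↥P, ∀ χ : B,
      blockHeight p B ((χ : IrrCharacter G) : G → ℂ)
        = (charDegree ((Φ χ : IrrCharacter ↥P) : ↥P → ℂ)).factorization p := by
  classical
  have hB : IsPBlock M B := hnil.1
  obtain ⟨e, hmax⟩ := exists_maxPair_of_isDefectGroup hM hB P hP
  obtain ⟨χ₁, hχ₁⟩ : ∃ χ₁ : IrrCharacter G, χ₁ ∈ B := by
    obtain ⟨χ₁, h⟩ := hB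
    exact ⟨χ₁, by rw [h]; exact sameBlock_refl hM _⟩
  obtain ⟨χ, hχ, h0⟩ := exists_height_zero (p := p) B χ₁ hχ₁
  haveI : Fintype ↥P := Fintype.ofFinite _
  haveI : Fintype (IrrCharacter ↥P) := Fintype.ofFinite _
  obtain ⟨f, hinj, hfB, hsurj, hval⟩ := nilpotent_structure hM hnil e hmax χ hχ h0
  have hbij : Function.Bijective (fun θ : IrrCharacter ↥P => (⟨f θ, hfB θ⟩ : B)) := by
    constructor
    · intro θ θ' h
      exact hinj (Subtype.ext_iff.mp h)
    · intro ψ
      obtain ⟨θ, hθ⟩ := hsurj ψ.1 ψ.2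
      exact ⟨θ, Subtype.ext hθ⟩
  refine ⟨(Equiv.ofBijective _ hbij).symm, ?_⟩
  intro ψ
  obtain ⟨θ, hθdef⟩ : ∃ θ : IrrCharacter ↥P, θ = (Equiv.ofBijective _ hbij).symm ψ := ⟨_, rfl⟩
  rw [← hθdef]
  have hψ : (ψ : IrrCharacter G) = f θ := by
    have h1 : (Equiv.ofBijective _ hbij) θ = ψ := by
      rw [hθdef]; exact Equiv.apply_symm_apply _ _
    rw [← h1]
    rfl
  rw [hψ]
  have hone : ¬ p ∣ orderOf (1 : G) := by
    rw [orderOf_one]; exact hp.out.one_lt.ne' ∘ Nat.dvd_one.mp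
  have h1 := hval θ 1 hone
  rw [IsCharacter.apply_one_eq_charDegree (IsIrrCharacter.isCharacter θ.2),
    IsCharacter.apply_one_eq_charDegree (IsIrrCharacter.isCharacter χ.2),
    IsCharacter.apply_one_eq_charDegree (IsIrrCharacter.isCharacter (f θ).2)] at h1
  have hdeg : charDegree ((f θ : IrrCharacter G) : G → ℂ)
      = charDegree (θ : ↥P → ℂ) * charDegree (χ : G → ℂ) := by
    exact_mod_cast h1
  have hθ0 : charDegree (θ : ↥P → ℂ) ≠ 0 := (IsIrrCharacter.charDegree_pos θ.2).ne'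
  have hχ0 : charDegree (χ : G → ℂ) ≠ 0 := (IsIrrCharacter.charDegree_pos χ.2).ne'
  have hs := factorization_eq_sInf_add_height (p := p) B χ hχ
  rw [h0, add_zero] at hs
  unfold blockHeight
  rw [hdeg, Nat.factorization_mul hθ0 hχ0, Finsupp.add_apply, ← hs, Nat.add_sub_cancel]

end final

end Cfsg.Agent.Lib.Helper6.Star
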