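import Mathlib
import Cfsg.Agent.Lib.Helper1.SuA6

/-!
# Consequences of the shape of automorphisms of the unitary Suzuki 2-group `M F q`

* every ring automorphism of a finite field of characteristic 2 is a power of Frobenius;
* an automorphism of `M F q` whose square is trivial on `M / Z(M)` fixes the centre pointwise;
* `MulAut (M F 4)` has no subgroup isomorphic to `S₃`.
-/

set_option autoImplicit false
set_option maxHeartbeats 4000000
set_option linter.unusedSimpArgs false
set_option linter.unusedVariables false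

namespace Cfsg.Agent.Lib.Helper6.SuB

open Cfsg.Agent.Lib.Helper5.Herm Cfsg.Agent.Lib.Helper5.SuzukiModel Cfsg.Agent.Lib.Helper1.SuA
open scoped commutatorElement

section field

variable {F : Type*} [Field F] [Fintype F]

/-- every ring automorphism of a finite field of order `2^m` is a power of Frobenius -/
theorem ringAut_eq_frob {m : ℕ} (hm : m ≠ 0) (hF : Fintype.card F = 2 ^ m) (σ : F ≃+* F) :
    ∃ k, k < m ∧ ∀ x, σ x = x ^ (2 ^ k) := by
  haveI := Cfsg.Agent.Lib.Helper1.SzA.charP_two_of_card hm hF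
  letI := ZMod.algebra F 2
  have hr := Cfsg.Agent.Lib.Helper1.SzA.finrank_zmod_two hm hF
  let σ' : F ≃ₐ[ZMod 2] F := AlgEquiv.ofRingEquiv (f := σ) (fun x => by
    obtain ⟨k, rfl⟩ := ZMod.natCast_zmod_surjective x
    simp)
  obtain ⟨⟨k, hk⟩, hk2⟩ :=
    (FiniteField.bijective_frobeniusAlgEquivOfAlgebraic_pow (ZMod 2) F).2 σ'
  rw [hr] at hk
  refine ⟨k, hk, fun x => ?_⟩
  have h1 : σ' x = (FiniteField.frobeniusAlgEquivOfAlgebraic (ZMod 2) F ^ k) x := by
    rw [← hk2]
  rw [AlgEquiv.coe_pow, FiniteField.coe_frobeniusAlgEquivOfAlgebraic_iterate, ZMod.card] at h1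
  exact h1

/-- if `x ↦ x^(2^j)` is the identity on a field of order `2^m` then `m ∣ j` -/
theorem dvd_of_forall_pow_eq {m : ℕ} (hm : m ≠ 0) (hF : Fintype.card F = 2 ^ m) {j : ℕ}
    (h : ∀ x : F, x ^ (2 ^ j) = x) : m ∣ j := by
  haveI := Cfsg.Agent.Lib.Helper1.SzA.charP_two_of_card hm hF
  letI := ZMod.algebra F 2
  have hr := Cfsg.Agent.Lib.Helper1.SzA.finrank_zmod_two hm hF
  have ho := FiniteField.orderOf_frobeniusAlgEquivOfAlgebraic (ZMod 2) F
  rw [hr] at ho
  rw [← ho]
  apply orderOf_dvd_of_pow_eq_one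
  ext x
  rw [AlgEquiv.coe_pow, FiniteField.coe_frobeniusAlgEquivOfAlgebraic_iterate, ZMod.card]
  exact h x

end field

section model

variable {F : Type*} [Field F] [Fintype F] {q : ℕ} [hF : Fact (Fintype.card F = q ^ 2)]

/-- action of an automorphism on the centre -/
theorem central_b [CharP F 2] (ψ : MulAut (M F q)) {μ : F} {σ : F ≃+* F}
    (h : ∀ a, alf ψ a = μ * σ a) {m : M F q} (hm : m.a = 0) :
    (ψ m).b = Nq q μ * σ m.b := by
  obtain ⟨g, k, rfl⟩ := exists_commutator_eq m ((mem_center_iff m).mpr hm)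
  rw [map_commutatorElement, commutator_b, commutator_b, apply_a, apply_a, h, h]
  unfold Nq
  simp only [map_sub, map_mul, map_pow, mul_pow]
  ring

theorem alf_alf (ψ : MulAut (M F q)) (a : F) : alf (ψ * ψ) a = alf ψ (alf ψ a) := alf_mul ψ ψ a

/-- an automorphism whose square acts trivially on first coordinates fixes the centre -/
theorem fix_center_of_sq (h2 : (2 : F) = 0) {n : ℕ} (hn : 1 ≤ n) (hq : q = 2 ^ n)
    (ψ : MulAut (M F q)) (hsq : ∀ a, alf ψ (alf ψ a) = a) {m : M F q} (hm : m.a = 0) :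
    ψ m = m := by
  have hq2 : ∃ r, q = 2 * r := ⟨2 ^ (n - 1), by
    rw [hq]; obtain ⟨k, rfl⟩ : ∃ k, n = k + 1 := ⟨n - 1, by omega⟩
    rw [Nat.add_sub_cancel, pow_succ]; ring⟩
  obtain ⟨μ, σ, hμ, h⟩ := shape h2 hq2 ψ
  have h1 : μ * σ μ = 1 := by
    have := hsq 1
    rw [h, h] at this
    simpa [map_mul, map_one] using this
  have hσ2 : ∀ a, σ (σ a) = a := by
    intro a
    have := hsq a
    rw [h, h, map_mul, ← mul_assoc, h1, one_mul] at this
    exact this
  have hcard : Fintype.card F = 2 ^ (2 * n) := by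
    rw [hF.out, hq, ← pow_mul, mul_comm]
  haveI := Cfsg.Agent.Lib.Helper1.SzA.charP_two_of_card (F := F) (n := 2 * n) (by omega) hcard
  obtain ⟨k, hk, hσ⟩ := ringAut_eq_frob (m := 2 * n) (by omega) hcard σ
  have hdvd : 2 * n ∣ 2 * k := by
    apply dvd_of_forall_pow_eq (F := F) (by omega) hcard
    intro x
    have := hσ2 x
    rw [hσ, hσ, ← pow_mul, ← pow_add, ← two_mul] at this
    exact this
  have hnk : n ∣ k := (Nat.mul_dvd_mul_iff_left (by norm_num : 0 < 2)).mp hdvd
  have hb : m.b ^ q = m.b := by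
    have := m.h
    rw [hm, zero_pow (by omega : q + 1 ≠ 0), add_zero] at this
    have h3 : m.b + m.b = 0 := by rw [← two_mul, h2, zero_mul]
    have : m.b ^ q - m.b = 0 := by linear_combination this - h3
    exact sub_eq_zero.mp this
  have hk' : k = 0 ∨ k = n := by
    obtain ⟨c, rfl⟩ := hnk
    have : c < 2 := by
      by_contra hc
      push Not at hc
      have : 2 * n ≤ n * c := by
        calc 2 * n = n * 2 := by ring
          _ ≤ n * c := Nat.mul_le_mul_left n hc
      omega
    interval_cases c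
    · left; ring
    · right; ring
  have hmain : Nq q μ * σ m.b = m.b := by
    rcases hk' with rfl | rfl
    · have hσid : ∀ x, σ x = x := by intro x; rw [hσ, pow_zero, pow_one]
      rw [hσid] at h1 ⊢
      have hμ1 : μ = 1 := by
        have : (μ - 1) ^ 2 = 0 := by
          have e : (μ - 1) ^ 2 = μ * μ - 2 * μ + 1 := by ring
          rw [e, h1, h2, zero_mul, sub_zero]
          rw [← one_add_one_eq_two] at h2
          exact h2
        exact sub_eq_zero.mp (pow_eq_zero_iff (by norm_num) |>.mp this)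
      unfold Nq
      rw [hμ1, one_pow, one_mul, one_mul]
    · have hσq : ∀ x, σ x = x ^ q := by intro x; rw [hσ, hq]
      unfold Nq
      rw [← hσq μ, h1, one_mul, hσq, hb]
  apply M.ext
  · rw [a_eq_zero_of ψ hm, hm]
  · rw [central_b ψ h hm, hmain]

end model

section sixteen

variable {F : Type*} [Field F] [Fintype F] [hF : Fact (Fintype.card F = 4 ^ 2)]

/-- `MulAut (M F 4)` contains no copy of `S₃` -/
theorem no_S3 (h2 : (2 : F) = 0) (g : Equiv.Perm (Fin 3) →* MulAut (M F 4))
    (hg : Function.Injective g) : False := by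
  have hq2 : ∃ r, (4 : ℕ) = 2 * r := ⟨2, rfl⟩
  have hcard : Fintype.card F = 2 ^ 4 := by rw [hF.out]; norm_num
  haveI := Cfsg.Agent.Lib.Helper1.SzA.charP_two_of_card (F := F) (n := 4) (by norm_num) hcard
  set c : Equiv.Perm (Fin 3) := finRotate 3 with hc
  set τ : Equiv.Perm (Fin 3) := Equiv.swap 0 1 with hτ
  have c3 : c * c * c = 1 := by decide
  have τ2 : τ * τ = 1 := by decide
  have rel : τ * c = c * c * τ := by decide
  have cne : c ≠ 1 := by decide
  have γ3 : g c * g c * g c = 1 := by rw [← map_mul, ← map_mul, c3, map_one]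
  have δ2 : g τ * g τ = 1 := by rw [← map_mul, τ2, map_one]
  have hrel : g τ * g c = g c * g c * g τ := by rw [← map_mul, ← map_mul, ← map_mul, rel]
  have γne : g c ≠ 1 := fun h => cne (hg (by rw [h, map_one]))
  obtain ⟨μ, σ, hμ, hγ⟩ := shape h2 hq2 (g c)
  obtain ⟨ν, ρ, hν, hδ⟩ := shape h2 hq2 (g τ)
  -- σ = id
  have e3 : ∀ a, μ * σ (μ * σ (μ * σ a)) = a := by
    intro a
    have := alf_one (F := F) (q := 4) a
    rw [← γ3, alf_mul, alf_mul, hγ, hγ, hγ] at this
    exact this
  have hμ3 : μ * σ μ * σ (σ μ) = 1 := by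
    have := e3 1
    simpa [map_mul, map_one, mul_assoc] using this
  have hσ3 : ∀ a, σ (σ (σ a)) = a := by
    intro a
    have := e3 a
    simp only [map_mul] at this
    have e : μ * (σ μ * (σ (σ μ) * σ (σ (σ a)))) = (μ * σ μ * σ (σ μ)) * σ (σ (σ a)) := by ring
    rw [e, hμ3, one_mul] at this
    exact this
  obtain ⟨k, hk, hσ⟩ := ringAut_eq_frob (m := 4) (by norm_num) hcard σ
  have hk0 : k = 0 := by
    have hdvd : 4 ∣ 3 * k := by
      apply dvd_of_forall_pow_eq (F := F) (by norm_num) hcard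
      intro x
      have := hσ3 x
      rw [hσ, hσ, hσ, ← pow_mul, ← pow_mul, ← pow_add, ← pow_add] at this
      have e : k + (k + k) = 3 * k := by ring
      rw [e] at this
      exact this
    interval_cases k <;> omega
  subst hk0
  have hσid : ∀ x, σ x = x := by intro x; rw [hσ, pow_zero, pow_one]
  simp only [hσid] at hγ hμ3
  have hμne : μ ≠ 1 := by
    intro h1
    apply γne
    have hker : g c ∈ (Psi (F := F) (q := 4)).ker := by
      rw [mem_ker_iff]
      intro a
      rw [hγ, h1, one_mul]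
    have hsq := ker_sq h2 hker
    calc g c = (g c * g c * g c) * ((g c) ^ 2)⁻¹ := by rw [pow_two]; group
      _ = 1 := by rw [γ3, hsq, inv_one, mul_one]
  -- ρ² = id
  have e2 : ∀ a, ν * ρ (ν * ρ a) = a := by
    intro a
    have := alf_one (F := F) (q := 4) a
    rw [← δ2, alf_mul, hδ, hδ] at this
    exact this
  have hν2 : ν * ρ ν = 1 := by
    have := e2 1
    simpa [map_mul, map_one] using this
  have hρ2 : ∀ a, ρ (ρ a) = a := by
    intro a
    have := e2 a
    rw [map_mul, ← mul_assoc, hν2, one_mul] at this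
    exact this
  obtain ⟨j, hj, hρ⟩ := ringAut_eq_frob (m := 4) (by norm_num) hcard ρ
  have hj' : j = 0 ∨ j = 2 := by
    have hdvd : 4 ∣ 2 * j := by
      apply dvd_of_forall_pow_eq (F := F) (by norm_num) hcard
      intro x
      have := hρ2 x
      rw [hρ, hρ, ← pow_mul, ← pow_add, ← two_mul] at this
      exact this
    interval_cases j <;> omega
  -- the relation
  have hrel' : ρ μ = μ * μ := by
    have := congrArg (fun φ => alf φ (1 : F)) hrel
    simp only [alf_mul, hγ, hδ, map_mul, map_one, mul_one] at this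
    have e : μ * (μ * ν) = (μ * μ) * ν := by ring
    rw [mul_comm ν (ρ μ), e] at this
    exact mul_right_cancel₀ hν this
  have hμ0 : μ ≠ 0 := hμ
  have hfin : μ = μ * μ → False := by
    intro h
    have : μ * (μ - 1) = 0 := by rw [mul_sub, mul_one, ← h, sub_self]
    rcases mul_eq_zero.mp this with h0 | h0
    · exact hμ0 h0
    · exact hμne (sub_eq_zero.mp h0)
  rcases hj' with rfl | rfl
  · rw [hρ, pow_zero, pow_one] at hrel'
    exact hfin hrel'
  · rw [hρ] at hrel'
    have e4 : μ ^ 2 ^ 2 = (μ * μ * μ) * μ := by ring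
    rw [e4, hμ3, one_mul] at hrel'
    exact hfin hrel'

end sixteen

end Cfsg.Agent.Lib.Helper6.SuB
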