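import Mathlib
import Cfsg.Agent.Lib.Helper6.SuB1
import Cfsg.Agent.Lib.Helper4.Tw12

/-!
# Index two overgroups of Sylow 2-subgroups of `SU₃(2ⁿ)`; no `S₃` in `Aut` of a Sylow of `U₃(4)`
-/

set_option autoImplicit false
set_option maxHeartbeats 4000000
set_option linter.unusedSimpArgs false
set_option linter.unusedVariables false

namespace Cfsg.Agent.Lib.Helper6.SuB

open Cfsg.Agent.Lib.Helper5.Herm Cfsg.Agent.Lib.Helper5.SuzukiModel Cfsg.Agent.Lib.Helper1.SuA
open scoped commutatorElement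

/-- abstract form: a subgroup of index two isomorphic to `M F q`: its centre is central -/
theorem center_le_of_index_two {R : Type*} [Group R] {F : Type*} [Field F] [Fintype F] {q : ℕ}
    [hF : Fact (Fintype.card F = q ^ 2)] (h2 : (2 : F) = 0) {n : ℕ} (hn : 1 ≤ n) (hq : q = 2 ^ n)
    (S' : Subgroup R) (e : ↥S' ≃* M F q) (hidx : S'.index = 2) :
    (Subgroup.center ↥S').map S'.subtype ≤ Subgroup.center R := by
  haveI : S'.Normal := Subgroup.normal_of_index_eq_two hidx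
  rintro _ ⟨z, hz, rfl⟩
  rw [Subgroup.mem_center_iff]
  intro x
  set φ : MulAut ↥S' := MulAut.conjNormal x with hφ
  set ψ : MulAut (M F q) := MulAut.congr e φ with hψ
  have hψ_apply : ∀ m, ψ m = e (φ (e.symm m)) := fun m => rfl
  have hx2 : x * x ∈ S' := Subgroup.mul_self_mem_of_index_two hidx x
  have hφφ : ∀ s : ↥S', φ (φ s) = ⟨x * x, hx2⟩ * s * (⟨x * x, hx2⟩ : ↥S')⁻¹ := by
    intro s
    apply Subtype.ext
    simp only [hφ, MulAut.conjNormal_apply, Subgroup.coe_mul, Subgroup.coe_inv]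
    group
  have hsq : ∀ a, alf ψ (alf ψ a) = a := by
    intro a
    have h1 : (ψ (ψ (lift (q := q) a))).a = alf ψ (alf ψ a) := by
      rw [apply_a, apply_a, lift_a]
    rw [← h1, hψ_apply, hψ_apply, MulEquiv.symm_apply_apply, hφφ, map_mul, map_mul, map_inv,
      MulEquiv.apply_symm_apply, mul_a, mul_a, inv_a, lift_a]
    ring
  have hez : (e z).a = 0 := by
    rw [← mem_center_iff]
    have hz' : z ∈ Subgroup.center ↥S' := hz
    rw [Subgroup.mem_center_iff] at hz' ⊢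
    intro y
    obtain ⟨y', rfl⟩ := e.surjective y
    rw [← map_mul, ← map_mul, hz' y']
  have key : ψ (e z) = e z := fix_center_of_sq h2 hn hq ψ hsq hez
  rw [hψ_apply, MulEquiv.symm_apply_apply] at key
  have h3 : φ z = z := e.injective key
  have h4 := congrArg Subtype.val h3
  simp only [hφ, MulAut.conjNormal_apply] at h4
  show x * (z : R) = (z : R) * x
  calc x * (z : R) = (x * (z : R) * x⁻¹) * x := by group
    _ = (z : R) * x := by rw [h4]

/-- S3315 in library form -/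
theorem center_le_center_of_sylow_SU {R : Type*} [Group R] [Finite R] (n : ℕ) (hn : 2 ≤ n)
    {F : Type*} [Field F] [Fintype F] (hF : Fintype.card F = 4 ^ n)
    (P : Sylow 2 ↥(Cfsg.SU 3 F (2 ^ n))) (S' : Subgroup R)
    (hS : Nonempty (↥S' ≃* ↥(P : Subgroup ↥(Cfsg.SU 3 F (2 ^ n))))) (hidx : S'.index = 2) :
    (Subgroup.center ↥S').map S'.subtype ≤ Subgroup.center R := by
  have hF' : Fintype.card F = (2 ^ n) ^ 2 := by
    rw [hF, ← pow_mul, show (4 : ℕ) = 2 ^ 2 by norm_num, ← pow_mul, mul_comm]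
  haveI : Fact (Fintype.card F = (2 ^ n) ^ 2) := ⟨hF'⟩
  have hcard2 : Fintype.card F = 2 ^ (2 * n) := by rw [hF', ← pow_mul, mul_comm]
  haveI := Cfsg.Agent.Lib.Helper1.SzA.charP_two_of_card (F := F) (n := 2 * n) (by omega) hcard2
  have h2 : (2 : F) = 0 := by
    have := CharP.cast_eq_zero F 2
    exact_mod_cast this
  obtain ⟨e⟩ := hS
  obtain ⟨e2⟩ := exists_equiv_SU (F := F) (q := 2 ^ n) (n := n) (by omega) rfl P
  exact center_le_of_index_two h2 (by omega) rfl S' (e.trans e2) hidx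

/-- S3156 in library form -/
theorem no_S3_of_sylow_PSU {T : Type*} [Group T] [Finite T]
    (hT : (∃ (F : Type) (_ : Field F) (_ : Fintype F), Fintype.card F = 16 ∧
      ∃ S : Sylow 2 (Cfsg.PSU 3 F 4), Nonempty (T ≃* ↥(S : Subgroup (Cfsg.PSU 3 F 4)))))
    (H : Subgroup (MulAut T)) : ¬ Nonempty (↥H ≃* Equiv.Perm (Fin 3)) := by
  rintro ⟨f⟩
  obtain ⟨F, _, _, hF, S, ⟨e0⟩⟩ := hT
  haveI : Fact (Nat.Prime 2) := ⟨Nat.prime_two⟩
  have hF' : Fintype.card F = 4 ^ 2 := by rw [hF]; norm_num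
  haveI : Fact (Fintype.card F = 4 ^ 2) := ⟨hF'⟩
  have hcard2 : Fintype.card F = 2 ^ 4 := by rw [hF]; norm_num
  haveI := Cfsg.Agent.Lib.Helper1.SzA.charP_two_of_card (F := F) (n := 4) (by norm_num) hcard2
  have h2 : (2 : F) = 0 := by
    have := CharP.cast_eq_zero F 2
    exact_mod_cast this
  -- PSU = SU / ⊥
  have hcen : Subgroup.center ↥(Cfsg.SU 3 F 4) = ⊥ := Cfsg.Agent.Lib.Helper3.PG.center_eq_bot hF
  have hbij : Function.Bijective (QuotientGroup.mk' (Subgroup.center ↥(Cfsg.SU 3 F 4))) := by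
    refine ⟨?_, QuotientGroup.mk'_surjective _⟩
    rw [← MonoidHom.ker_eq_bot_iff, QuotientGroup.ker_mk', hcen]
  let ψ : ↥(Cfsg.SU 3 F 4) ≃* Cfsg.PSU 3 F 4 := MulEquiv.ofBijective _ hbij
  haveI : Finite ↥(Cfsg.SU 3 F 4) := by
    apply Nat.finite_of_card_ne_zero
    rw [Cfsg.Agent.Lib.Helper3.PG.card_SU hF]
    norm_num
  obtain ⟨P⟩ : Nonempty (Sylow 2 ↥(Cfsg.SU 3 F 4)) := inferInstance
  obtain ⟨e1⟩ := Cfsg.Agent.Lib.Helper4.Tw.sylow_iso_of_equiv 2 ψ S P
  obtain ⟨e2⟩ := exists_equiv_SU (F := F) (q := 4) (n := 2) (by norm_num) (by norm_num) P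
  let e : T ≃* M F 4 := (e0.trans e1).trans e2
  let g : Equiv.Perm (Fin 3) →* MulAut (M F 4) :=
    (MulAut.congr e).toMonoidHom.comp (H.subtype.comp f.symm.toMonoidHom)
  have hg : Function.Injective g := by
    intro a b hab
    have h1 : (MulAut.congr e) ((f.symm a : MulAut T)) = (MulAut.congr e) ((f.symm b : MulAut T)) := hab
    have h3 := (MulAut.congr e).injective h1
    exact f.symm.injective (Subtype.ext h3)
  exact no_S3 h2 g hg

end Cfsg.Agent.Lib.Helper6.SuB
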