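import Mathlib
import Cfsg.Agent.Lib.Helper6.TD3
import Cfsg.Agent.Lib.Helper8.BG4
import Cfsg.Agent.Lib.Helper1.FittingCentralizer
import Cfsg.Agent.S4493
import Cfsg.Agent.S4456

set_option autoImplicit false
set_option linter.unusedSectionVars false
set_option linter.unusedVariables false
set_option linter.style.haveILetI false

/-! Isaacs 12.15, derived length part: a solvable group with at most three character degrees has
derived length at most three. -/

namespace Cfsg.Agent.Lib.Helper6.TD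

open Cfsg Cfsg.Agent.Lib.Helper6 Cfsg.Agent.Lib.Helper3 Cfsg.Agent.Lib.Helper3.CD
  Cfsg.Agent.Lib.Helper1 Cfsg.Agent.Lib.Helper8
open scoped commutatorElement

/-- the case of a normal Sylow subgroup -/
theorem sylow_case {G : Type*} [Group G] [Finite G] (F : Subgroup G) [hF : F.Normal] (r : ℕ)
    (hr : r.Prime) (hFr : IsPGroup r F) (hidx : ¬ r ∣ F.index) (a b : ℕ) (hcd : ThreeDeg G a b)
    (hra : r ∣ a) (hrb : ¬ r ∣ b) : derivedSeries G 3 = ⊥ := by
  haveI : Fact r.Prime := ⟨hr⟩
  obtain ⟨k, hk⟩ := IsPGroup.iff_card.mp hFr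
  have hcop : (Nat.card F).Coprime F.index := by
    rw [hk]; exact Nat.Coprime.pow_left k ((Nat.Prime.coprime_iff_not_dvd hr).mpr hidx)
  apply star_cd F (Nat.gcd a (Nat.card F)) b
  · intro θ
    obtain ⟨χ, hχ⟩ := hall_degree F hcop θ
    rcases hcd χ with h | h | h
    · left; rw [hχ, h]; exact Nat.gcd_one_left _
    · right; rw [hχ, h]
    · left
      rw [hχ, h, hk]
      exact Nat.Coprime.pow_right k ((Nat.Prime.coprime_iff_not_dvd hr).mpr hrb).symm
  · intro β
    have hdvd := ito_quotient F β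
    rcases (hcd.quotient _) β with h | h | h
    · left; exact h
    · exfalso; rw [h] at hdvd; exact hidx (hra.trans hdvd)
    · right; exact h

theorem dl_main.{u} {G : Type u} [Group G] [Finite G] (hsol : Group.IsSolvable G) (m n : ℕ)
    (hcd : ThreeDeg G m n) (hm1 : 1 < m) (hmn : m < n)
    (hn : ∃ χ : Cfsg.IrrCharacter G, Cfsg.charDegree (χ : G → ℂ) = n)
    (hcap : ∀ N₁ N₂ : Subgroup G, N₁.Normal → N₂.Normal → N₁ ≠ ⊥ → N₂ ≠ ⊥ → N₁ ⊓ N₂ ≠ ⊥) :
    derivedSeries G 3 = ⊥ := by
  classical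
  by_contra hne
  have : Fintype G := Fintype.ofFinite G
  haveI := hsol
  set F := Cfsg.fittingSubgroup G with hFdef
  have hFn : F.Normal := fittingSubgroup_normal
  have hFnil : Group.IsNilpotent F := fittingSubgroup_isNilpotent
  -- F ≠ ⊥
  have hFne : F ≠ ⊥ := by
    intro h
    have hc := centralizer_fittingSubgroup_le (G := G)
    rw [← hFdef, h] at hc
    have htop : Subgroup.centralizer ((⊥ : Subgroup G) : Set G) = ⊤ := by
      rw [Subgroup.centralizer_eq_top_iff_subset]
      intro x hx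
      rw [SetLike.mem_coe, Subgroup.mem_bot] at hx
      rw [hx]; exact one_mem _
    rw [htop] at hc
    apply hne
    rw [eq_bot_iff]
    exact le_top.trans hc
  -- a prime r with pCore r G ≠ ⊥
  have hex : ∃ r : Nat.Primes, Cfsg.pCore (r : ℕ) G ≠ ⊥ := by
    by_contra hno
    push Not at hno
    apply hFne
    rw [hFdef, fittingSubgroup_eq_iSup_pCore, iSup_eq_bot]
    exact hno
  obtain ⟨⟨r, hr⟩, hrne⟩ := hex
  haveI : Fact r.Prime := ⟨hr⟩
  have hrne' : Cfsg.pCore r G ≠ ⊥ := hrne
  have hFeq : F = Cfsg.pCore r G := by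
    rw [hFdef, fittingSubgroup_eq_iSup_pCore]
    apply le_antisymm
    · apply iSup_le
      intro q
      haveI : Fact (q : ℕ).Prime := ⟨q.2⟩
      by_cases hqr : (q : ℕ) = r
      · rw [hqr]
      · have hdisj : Cfsg.pCore (q : ℕ) G ⊓ Cfsg.pCore r G = ⊥ := by
          have := IsPGroup.disjoint_of_ne (q : ℕ) r hqr _ _ (pCore_isPGroup (G := G) (q : ℕ))
            (pCore_isPGroup (G := G) r)
          exact disjoint_iff.mp this
        have : Cfsg.pCore (q : ℕ) G = ⊥ := by
          by_contra hq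
          exact hcap _ _ (Cfsg.Agent.Lib.Helper1.pCore_normal _) (Cfsg.Agent.Lib.Helper1.pCore_normal _) hq hrne' hdisj
        rw [this]; exact bot_le
    · exact le_iSup (fun q : Nat.Primes => Cfsg.pCore (q : ℕ) G) ⟨r, hr⟩
  have hFr : IsPGroup r F := by rw [hFeq]; exact pCore_isPGroup r
  -- Step 1: G not nilpotent
  have hnotnil : ¬ Group.IsNilpotent G := by
    intro h
    haveI := h
    exact hne (nilpotent_three m n hcd)
  have hFtop : F ≠ ⊤ := by
    intro h
    apply hnotnil
    rw [h] at hFnil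
    exact Group.nilpotent_of_mulEquiv Subgroup.topEquiv
  -- Step 2: Broline-Garrison
  have hBG : n ∉ BG.cdSet (G ⧸ F) := by
    apply BG.max_not_mem_cdSet_quotient G hFtop n _ hFn
    rintro d ⟨χ, rfl⟩
    rcases hcd χ with h | h | h <;> omega
  have hcdQ : ∀ β : Cfsg.IrrCharacter (G ⧸ F), Cfsg.charDegree (β : G ⧸ F → ℂ) = 1 ∨
      Cfsg.charDegree (β : G ⧸ F → ℂ) = m := by
    intro β
    rcases (hcd.quotient F) β with h | h | h
    · exact Or.inl h
    · exact Or.inr h
    · exact absurd ⟨β, h⟩ hBG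
  have hD2 : derivedSeries G 2 ≤ F :=
    derivedSeries_le_of_quotient F 2 (derivedSeries_two_eq_bot_of_two_deg m hcdQ)
  -- Step 3: F nonabelian
  have hFnc : ∃ a b : F, a * b ≠ b * a := by
    by_contra hno
    push Not at hno
    apply hne
    rw [derivedSeries_succ, eq_bot_iff, Subgroup.commutator_le]
    intro a ha b hb
    rw [Subgroup.mem_bot, commutatorElement_eq_one_iff_mul_comm]
    have := hno ⟨a, hD2 ha⟩ ⟨b, hD2 hb⟩
    exact congrArg Subtype.val this
  obtain ⟨θ₀, hθ₀⟩ := exists_deg_dvd_of_pgroup r hr hFr hFnc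
  have hrmn : r ∣ m ∨ r ∣ n := by
    obtain ⟨χ, h1, _⟩ := exists_over_degree F θ₀
    have h2 := hθ₀.trans h1
    rcases hcd χ with h | h | h
    · rw [h] at h2; exact absurd (Nat.dvd_one.mp h2) hr.one_lt.ne'
    · left; rwa [h] at h2
    · right; rwa [h] at h2
  -- Step 3b: not both
  have hnotboth : ¬ (r ∣ m ∧ r ∣ n) := by
    rintro ⟨h1, h2⟩
    have hdeg : ∀ χ : Cfsg.IrrCharacter G, Cfsg.charDegree (χ : G → ℂ) ≠ 1 →
        r ∣ Cfsg.charDegree (χ : G → ℂ) := by
      intro χ hχ
      rcases hcd χ with h | h | h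
      · exact absurd h hχ
      · rw [h]; exact h1
      · rw [h]; exact h2
    obtain ⟨H, hHn, hcop, k, hk⟩ := Cfsg.Agent.S4456.result r hr hdeg
    obtain ⟨kF, hkF⟩ := IsPGroup.iff_card.mp hFr
    have hdisj : H ⊓ F = ⊥ := by
      apply disjoint_iff.mp
      apply Subgroup.disjoint_of_coprime_natCard
      rw [hkF]; exact Nat.Coprime.pow_right kF hcop
    have hH : H = ⊥ := by
      by_contra hH
      exact hcap H F hHn hFn hH hFne hdisj
    rw [hH, Subgroup.index_bot] at hk
    have hGp : IsPGroup r G := IsPGroup.of_card hk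
    exact hnotnil hGp.isNilpotent
  by_cases hidx : r ∣ F.index
  swap
  · -- Step 5
    rcases hrmn with h | h
    · exact hne (sylow_case F r hr hFr hidx m n hcd h (fun h' => hnotboth ⟨h, h'⟩))
    · exact hne (sylow_case F r hr hFr hidx n m hcd.symm h (fun h' => hnotboth ⟨h', h⟩))
  -- Step 6
  have hex6 : ∃ β : Cfsg.IrrCharacter (G ⧸ F), r ∣ Cfsg.charDegree (β : G ⧸ F → ℂ) := by
    by_contra hno
    push Not at hno
    have hQsol : Group.IsSolvable (G ⧸ F) := inferInstance
    obtain ⟨P, hPn, hPab, hPp, hPidx⟩ := (Cfsg.Agent.S4493.result hQsol r hr).mpr hno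
    haveI := hPn
    set P' := P.comap (QuotientGroup.mk' F) with hP'
    have hP'n : P'.Normal := inferInstance
    have hP'p : IsPGroup r P' := by
      apply IsPGroup.comap_of_ker_isPGroup hPp
      rw [QuotientGroup.ker_mk']; exact hFr
    have hP'F : P' ≤ F := le_fittingSubgroup hP'n hP'p.isNilpotent
    have hPbot : P = ⊥ := by
      rw [eq_bot_iff]
      intro q hq
      obtain ⟨x, rfl⟩ := QuotientGroup.mk_surjective q
      rw [Subgroup.mem_bot]
      exact (QuotientGroup.eq_one_iff x).mpr (hP'F hq)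
    rw [hPbot, Subgroup.index_bot, ← Subgroup.index_eq_card] at hPidx
    exact hPidx hidx
  obtain ⟨β₆, hβ₆⟩ := hex6
  have hβ₆m : Cfsg.charDegree (β₆ : G ⧸ F → ℂ) = m := by
    rcases hcdQ β₆ with h | h
    · rw [h] at hβ₆; exact absurd (Nat.dvd_one.mp hβ₆) hr.one_lt.ne'
    · exact h
  have hrm : r ∣ m := by rw [← hβ₆m]; exact hβ₆
  have hrn : ¬ r ∣ n := fun h => hnotboth ⟨hrm, h⟩
  -- Step 7: G/F nonabelian
  have hGF : ∃ a b : G, a * b * a⁻¹ * b⁻¹ ∉ F := by
    by_contra hno
    push Not at hno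
    have hQab : ∀ x y : G ⧸ F, x * y = y * x := by
      intro x y
      obtain ⟨a, rfl⟩ := QuotientGroup.mk_surjective x
      obtain ⟨b, rfl⟩ := QuotientGroup.mk_surjective y
      have h1 := hno a b
      rw [← QuotientGroup.eq_one_iff] at h1
      have h2 : (QuotientGroup.mk a : G ⧸ F) * QuotientGroup.mk b
          = (QuotientGroup.mk (a * b * a⁻¹ * b⁻¹)) * (QuotientGroup.mk b * QuotientGroup.mk a) := by
        rw [← QuotientGroup.mk_mul, ← QuotientGroup.mk_mul, ← QuotientGroup.mk_mul]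
        congr 1; group
      rw [h2, h1, one_mul]
    have h1 := (Cfsg.Agent.S0187.result (G := G ⧸ F)).1 hQab β₆
    rw [IsCharacter.apply_one_eq_charDegree (IsIrrCharacter.isCharacter β₆.2), hβ₆m] at h1
    have : m = 1 := by exact_mod_cast h1
    omega
  obtain ⟨K, hKn, hFK, hKab, hKmax⟩ := exists_max_nonabelian_quotient_ge F hFn hGF
  haveI := hKn
  obtain ⟨hmin, hQG, hQne⟩ := quot_max_props K hKab hKmax
  have hQsol : Group.IsSolvable (G ⧸ K) := inferInstance
  obtain ⟨β, hβ⟩ := exists_nonlinear hQG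
  have hβm : Cfsg.charDegree (β : G ⧸ K → ℂ) = m := by
    obtain ⟨β', hβ'⟩ := quot_deg_of_le F K hFK β
    rcases hcdQ β' with h | h
    · exact absurd (hβ'.symm.trans h) hβ
    · rw [← hβ']; exact h
  rcases structure_thm hQsol hmin hQne with ⟨p, hp, hQp⟩ | ⟨p, hp, hMp, hpidx, hfpf⟩
  · -- Case 1
    haveI : Fact p.Prime := ⟨hp⟩
    obtain ⟨j, hj⟩ := IsPGroup.iff_card.mp hQp
    have hKidx : K.index = p ^ j := by rw [Subgroup.index_eq_card]; exact hj
    have hdvd : m ∣ p ^ j := by
      rw [← hβm, ← hj]; exact IsIrrCharacter.charDegree_dvd_card β.2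
    obtain ⟨e, _, he⟩ := (Nat.dvd_prime_pow hp).mp hdvd
    have hrp : r = p := by
      have : r ∣ p ^ e := by rw [← he]; exact hrm
      exact (Nat.prime_dvd_prime_iff_eq hr hp).mp (hr.dvd_of_dvd_pow this)
    obtain ⟨ψ, hψ⟩ := hn
    have hpn : ¬ p ∣ Cfsg.charDegree (ψ : G → ℂ) := by rw [hψ, ← hrp]; exact hrn
    obtain ⟨χ, hχ⟩ := gallagher_degree K p j hp hKidx β ψ hpn
    rw [hβm, hψ] at hχ
    have hbig : n < m * n := by nlinarith
    rcases hcd χ with h | h | h <;> omega
  · -- Case 2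
    set M := commutator (G ⧸ K) with hM
    have hMn : M.Normal := inferInstance
    have hMab := commutator_comm hQsol hmin
    have hfpf' : ∀ q : G ⧸ K, q ∉ M → ∀ x ∈ M, q * x = x * q → x = 1 :=
      fun q hq x hx hqx => hfpf q hq x hx hqx.symm
    have hmM : m ∣ M.index := by rw [← hβm]; exact ito_deg_dvd M hMab β
    have hpm : ¬ p ∣ m := fun h => hpidx (h.trans hmM)
    set N := preN K M with hN
    have hKN : K ≤ N := by
      intro x hx
      show QuotientGroup.mk' K x ∈ M
      rw [QuotientGroup.mk'_apply, (QuotientGroup.eq_one_iff x).mpr hx]; exact one_mem M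
    have hFN : F ≤ N := hFK.trans hKN
    have hFNn : (F.subgroupOf N).Normal := hFn.subgroupOf N
    have hFNp : IsPGroup r (F.subgroupOf N) := hFr.comap_subtype
    have hFNnc : ∃ a b : (F.subgroupOf N), a * b ≠ b * a := by
      obtain ⟨a, b, hab⟩ := hFnc
      refine ⟨⟨⟨a, hFN a.2⟩, Subgroup.mem_subgroupOf.mpr a.2⟩,
        ⟨⟨b, hFN b.2⟩, Subgroup.mem_subgroupOf.mpr b.2⟩, ?_⟩
      intro h
      apply hab
      apply Subtype.ext
      have := congrArg (fun x : (F.subgroupOf N) => ((x : N) : G)) h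
      simpa using this
    obtain ⟨ϑ, hϑ⟩ := exists_deg_dvd_of_pgroup r hr hFNp hFNnc
    obtain ⟨ψ, hψ1, _⟩ := exists_over_degree (F.subgroupOf N) ϑ
    obtain ⟨χ, hχ1, _⟩ := exists_over_degree N ψ
    have hrψ : r ∣ Cfsg.charDegree (ψ : N → ℂ) := hϑ.trans hψ1
    have hrχ : r ∣ Cfsg.charDegree (χ : G → ℂ) := hrψ.trans hχ1
    have hχm : Cfsg.charDegree (χ : G → ℂ) = m := by
      rcases hcd χ with h | h | h
      · rw [h] at hrχ; exact absurd (Nat.dvd_one.mp hrχ) hr.one_lt.ne'
      · exact h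
      · rw [h] at hrχ; exact absurd hrχ hrn
    rw [hχm] at hχ1
    have hpψ : ¬ p ∣ Cfsg.charDegree (ψ : N → ℂ) := fun h => hpm (h.trans hχ1)
    obtain ⟨χ', hχ'⟩ := weak_twelve_four K M hMab p hp hMp hQne hfpf' ψ hpψ
    have hMpos : 0 < M.index := Nat.pos_of_ne_zero Subgroup.index_ne_zero_of_finite
    have hmle : m ≤ M.index := Nat.le_of_dvd hMpos hmM
    have hψpos : 0 < Cfsg.charDegree (ψ : N → ℂ) := IsIrrCharacter.charDegree_pos ψ.2
    have hψ2 : 2 ≤ Cfsg.charDegree (ψ : N → ℂ) :=
      le_trans hr.two_le (Nat.le_of_dvd hψpos hrψ)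
    have hbig : m < M.index * Cfsg.charDegree (ψ : N → ℂ) := by nlinarith
    rcases hcd χ' with h | h | h
    · omega
    · omega
    · rw [h] at hχ'
      have : Cfsg.charDegree (ψ : N → ℂ) ∣ n := ⟨M.index, by rw [hχ', mul_comm]⟩
      exact hrn (hrψ.trans this)

theorem dl_aux.{u} : ∀ (N : ℕ) (G : Type u) [Group G] [Finite G], Nat.card G = N →
    Group.IsSolvable G → ∀ m n : ℕ, ThreeDeg G m n → derivedSeries G 3 = ⊥ := by
  intro N
  induction N using Nat.strong_induction_on with
  | _ N ih =>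
    intro G _ _ hN hsol m n hcd
    haveI := hsol
    have : Fintype G := Fintype.ofFinite G
    have h32 : derivedSeries G 3 ≤ derivedSeries G 2 := derivedSeries_antitone G (by norm_num)
    have htwo : ∀ d : ℕ, (∀ χ : Cfsg.IrrCharacter G, Cfsg.charDegree (χ : G → ℂ) = 1 ∨
        Cfsg.charDegree (χ : G → ℂ) = d) → derivedSeries G 3 = ⊥ := by
      intro d hd
      have := derivedSeries_two_eq_bot_of_two_deg d hd
      rw [this] at h32
      exact eq_bot_iff.mpr h32
    by_cases hm : ∃ χ : Cfsg.IrrCharacter G, Cfsg.charDegree (χ : G → ℂ) = m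
    swap
    · push Not at hm
      apply htwo n
      intro χ
      rcases hcd χ with h | h | h
      · exact Or.inl h
      · exact absurd h (hm χ)
      · exact Or.inr h
    by_cases hn : ∃ χ : Cfsg.IrrCharacter G, Cfsg.charDegree (χ : G → ℂ) = n
    swap
    · push Not at hn
      apply htwo m
      intro χ
      rcases hcd χ with h | h | h
      · exact Or.inl h
      · exact Or.inr h
      · exact absurd h (hn χ)
    by_cases hm1 : m = 1
    · apply htwo n
      intro χ
      rcases hcd χ with h | h | h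
      · exact Or.inl h
      · exact Or.inl (h.trans hm1)
      · exact Or.inr h
    by_cases hn1 : n = 1
    · apply htwo m
      intro χ
      rcases hcd χ with h | h | h
      · exact Or.inl h
      · exact Or.inr h
      · exact Or.inl (h.trans hn1)
    by_cases hmn : m = n
    · apply htwo n
      intro χ
      rcases hcd χ with h | h | h
      · exact Or.inl h
      · exact Or.inr (h.trans hmn)
      · exact Or.inr h
    by_contra hne
    have hcap : ∀ N₁ N₂ : Subgroup G, N₁.Normal → N₂.Normal → N₁ ≠ ⊥ → N₂ ≠ ⊥ →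
        N₁ ⊓ N₂ ≠ ⊥ := by
      intro N₁ N₂ h1 h2 hne1 hne2 hinf
      have key : ∀ N' : Subgroup G, N'.Normal → N' ≠ ⊥ → derivedSeries G 3 ≤ N' := by
        intro N' hN'n hN'ne
        haveI := hN'n
        apply derivedSeries_le_of_quotient N' 3
        have hlt : Nat.card (G ⧸ N') < N := by
          rw [← hN, Subgroup.card_eq_card_quotient_mul_card_subgroup N']
          have h1 : 1 < Nat.card N' := N'.one_lt_card_iff_ne_bot.mpr hN'ne
          have h0 : 0 < Nat.card (G ⧸ N') := Nat.card_pos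
          nlinarith
        exact ih _ hlt (G ⧸ N') rfl inferInstance m n (hcd.quotient N')
      apply hne
      rw [eq_bot_iff, ← hinf]
      exact le_inf (key N₁ h1 hne1) (key N₂ h2 hne2)
    have hmpos : 0 < m := by
      obtain ⟨χ, hχ⟩ := hm; rw [← hχ]; exact IsIrrCharacter.charDegree_pos χ.2
    have hnpos : 0 < n := by
      obtain ⟨χ, hχ⟩ := hn; rw [← hχ]; exact IsIrrCharacter.charDegree_pos χ.2
    rcases lt_or_gt_of_ne hmn with h | h
    · exact hne (dl_main hsol m n hcd (by omega) h hn hcap)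
    · exact hne (dl_main hsol n m hcd.symm (by omega) h hm hcap)

/-- a finite solvable group with at most three character degrees has derived length at most 3 -/
theorem dl_three {G : Type*} [Group G] [Finite G] (hsol : Group.IsSolvable G) (m n : ℕ)
    (hcd : ThreeDeg G m n) : derivedSeries G 3 = ⊥ :=
  dl_aux (Nat.card G) G rfl hsol m n hcd

end Cfsg.Agent.Lib.Helper6.TD
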