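import Mathlib
import Cfsg.Prelude.Def_LieTwisted
import Cfsg.Agent.S1067
import Cfsg.Agent.Lib.Helper6.DegreeDvd
import Cfsg.Agent.Lib.Helper6.TDMNT

/-! Final wrap for the farm TDM (S2342): an irreducible complex representation of `³D₄(q)` of
degree `≥ q(q⁴-q²+1) - 1` has degree `≥ q(q⁴-q²+1)` (degree divides the group order). -/

set_option autoImplicit false

namespace Cfsg.Agent.Lib.Helper6.TDM

open Cfsg

/-- the degree of an irreducible representation of `³D₄(q)` divides the order in `S1067` form -/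
theorem degree_dvd_order {K : Type*} [Field K] [Fintype K] (q : ℕ) (hq : IsPrimePow q)
    (hK : Fintype.card K = q ^ 3) (k : ℕ)
    (ρ : Representation ℂ (Cfsg.Lie.twistedD4 K q) (Fin k → ℂ)) (hirr : ρ.IsIrreducible) :
    k ∣ q ^ 12 * (q ^ 2 - 1) * (q ^ 6 - 1) * (q ^ 8 + q ^ 4 + 1) := by
  classical
  haveI : Fintype ↥(Cfsg.Lie.twistedD4 K q) := Fintype.ofFinite _
  haveI := hirr
  have h := Cfsg.Agent.Lib.Helper6.finrank_dvd_card ρ
  rw [Cfsg.Agent.S1067.result hq hK] at h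
  simpa using h

/-- Final wrap: the survivor `target - 1` is impossible. -/
theorem target_le_of_irr {K : Type*} [Field K] [Fintype K] (q : ℕ) (hq : IsPrimePow q)
    (hK : Fintype.card K = q ^ 3) (k : ℕ)
    (ρ : Representation ℂ (Cfsg.Lie.twistedD4 K q) (Fin k → ℂ)) (hirr : ρ.IsIrreducible)
    (hk : q * (q ^ 4 - q ^ 2 + 1) - 1 ≤ k) : q * (q ^ 4 - q ^ 2 + 1) ≤ k :=
  target_le_of_dvd q k hq.two_le (degree_dvd_order q hq hK k ρ hirr) hk

end Cfsg.Agent.Lib.Helper6.TDM
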