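import Mathlib
import Cfsg.Agent.Lib.Helper6.TGSExt

/-!
# Farm TGS (S3161): unit U6a1 — Maschke by hand: an invariant complement in an elementary abelian
2-group under an automorphism of odd order.
-/

set_option autoImplicit false
set_option linter.unusedSectionVars false
set_option linter.unusedVariables false

namespace Cfsg.Agent.Lib.Helper6.TGSU6a1

theorem compl_comm {B : Type*} [CommGroup B] (hel : ∀ b : B, b ^ 2 = 1)
    (ρ' : MulAut B) (m : ℕ) (hm : Odd m) (hρ : ∀ b, (ρ' ^ m) b = b)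
    (V : Subgroup B) (hV : ∀ v ∈ V, ρ' v ∈ V) :
    ∃ W : Subgroup B, (∀ w ∈ W, ρ' w ∈ W) ∧ V ⊓ W = ⊥ ∧ V ⊔ W = ⊤ := by
  classical
  obtain ⟨W0, hVW0, hcov⟩ := Cfsg.Agent.Lib.Helper6.TGSExt.exists_compl_comm hel V
  choose π0 hπ0V w0 hw0 hdec using hcov
  have uniq : ∀ v ∈ V, ∀ w ∈ W0, ∀ v' ∈ V, ∀ w' ∈ W0, v * w = v' * w' → v = v' := by
    intro v hv w hw v' hv' w' hw' h
    have h1 : v'⁻¹ * v = w' * w⁻¹ := by
      rw [inv_mul_eq_iff_eq_mul, ← mul_assoc, ← h, mul_inv_cancel_right]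
    have h2 : v'⁻¹ * v ∈ V ⊓ W0 :=
      ⟨V.mul_mem (V.inv_mem hv') hv, by rw [h1]; exact W0.mul_mem hw' (W0.inv_mem hw)⟩
    rw [hVW0, Subgroup.mem_bot, inv_mul_eq_one] at h2
    exact h2.symm
  have hπ0mul : ∀ a b, π0 (a * b) = π0 a * π0 b := by
    intro a b
    apply uniq _ (hπ0V _) _ (hw0 _) _ (V.mul_mem (hπ0V a) (hπ0V b)) _
      (W0.mul_mem (hw0 a) (hw0 b))
    rw [← hdec (a * b)]
    calc a * b = (π0 a * w0 a) * (π0 b * w0 b) := by rw [← hdec a, ← hdec b]
      _ = _ := by rw [mul_mul_mul_comm]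
  have hπ0fix : ∀ v ∈ V, π0 v = v := by
    intro v hv
    apply uniq _ (hπ0V v) _ (hw0 v) _ hv 1 W0.one_mem
    rw [← hdec v, mul_one]
  have hVpow : ∀ (k : ℕ) (v : B), v ∈ V → (ρ' ^ k) v ∈ V := by
    intro k
    induction k with
    | zero => intro v hv; simpa using hv
    | succ k ih =>
      intro v hv
      rw [pow_succ']
      exact hV _ (ih v hv)
  let πf : B → B := fun b => ∏ k ∈ Finset.range m, (ρ' ^ (m - k)) (π0 ((ρ' ^ k) b))
  have hπmul : ∀ a b, πf (a * b) = πf a * πf b := by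
    intro a b
    show ∏ k ∈ Finset.range m, _ = (∏ k ∈ Finset.range m, _) * ∏ k ∈ Finset.range m, _
    rw [← Finset.prod_mul_distrib]
    apply Finset.prod_congr rfl
    intro k _
    rw [map_mul, hπ0mul, map_mul]
  let π : B →* B := MonoidHom.mk' πf hπmul
  have hπdef : ∀ b, π b = ∏ k ∈ Finset.range m, (ρ' ^ (m - k)) (π0 ((ρ' ^ k) b)) := fun b => rfl
  have hπV : ∀ b, π b ∈ V := by
    intro b
    rw [hπdef]
    apply Subgroup.prod_mem
    intro k _
    exact hVpow _ _ (hπ0V _)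
  have hπfix : ∀ v ∈ V, π v = v := by
    intro v hv
    have : ∀ k ∈ Finset.range m, (ρ' ^ (m - k)) (π0 ((ρ' ^ k) v)) = v := by
      intro k hk
      rw [hπ0fix _ (hVpow k v hv), ← MulAut.mul_apply, ← pow_add,
        Nat.sub_add_cancel (Finset.mem_range.mp hk).le, hρ]
    rw [hπdef, Finset.prod_congr rfl this, Finset.prod_const, Finset.card_range]
    obtain ⟨j, rfl⟩ := hm
    rw [pow_succ, pow_mul, hel, one_pow, one_mul]
  have hπρ : ∀ b, π (ρ' b) = ρ' (π b) := by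
    intro b
    let g : ℕ → B := fun k => (ρ' ^ (m + 1 - k)) (π0 ((ρ' ^ k) b))
    have hg : ∀ k, g k = (ρ' ^ (m + 1 - k)) (π0 ((ρ' ^ k) b)) := fun k => rfl
    have e1 : π (ρ' b) = ∏ k ∈ Finset.range m, g (k + 1) := by
      rw [hπdef]
      apply Finset.prod_congr rfl
      intro k hk
      rw [hg, Nat.add_sub_add_right, pow_succ, MulAut.mul_apply]
    have e2 : ρ' (π b) = ∏ k ∈ Finset.range m, g k := by
      rw [hπdef, map_prod]
      apply Finset.prod_congr rfl
      intro k hk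
      have hk' := Finset.mem_range.mp hk
      rw [hg, ← MulAut.mul_apply, ← pow_succ']
      have : m - k + 1 = m + 1 - k := by omega
      rw [this]
    have e3 := Finset.prod_range_succ g m
    have e4 := Finset.prod_range_succ' g m
    have g0 : g 0 = ρ' (π0 b) := by
      rw [hg, Nat.sub_zero, pow_zero, MulAut.one_apply, pow_succ', MulAut.mul_apply, hρ]
    have gm : g m = ρ' (π0 b) := by
      rw [hg, Nat.add_sub_cancel_left, pow_one, hρ]
    rw [e1, e2]
    have : (∏ k ∈ Finset.range m, g (k + 1)) * g 0 = (∏ k ∈ Finset.range m, g k) * g m := by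
      rw [← e4, ← e3]
    rw [g0, gm] at this
    exact mul_right_cancel this
  refine ⟨π.ker, ?_, ?_, ?_⟩
  · intro w hw
    rw [MonoidHom.mem_ker] at hw ⊢
    rw [hπρ, hw, map_one]
  · rw [eq_bot_iff]
    rintro x ⟨hxV, hxW⟩
    rw [Subgroup.mem_bot, ← hπfix x hxV]
    exact hxW
  · rw [eq_top_iff]
    intro b _
    have : b = π b * ((π b)⁻¹ * b) := by group
    rw [this]
    apply Subgroup.mul_mem_sup (hπV b)
    rw [MonoidHom.mem_ker, map_mul, map_inv, hπfix _ (hπV b), inv_mul_cancel]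

/-- U6a1: Maschke by hand: an invariant complement in an elementary abelian 2-group under an
automorphism of odd order. -/
theorem U6a1_complement {B : Type*} [Group B] [Finite B] (hel : ∀ b : B, b ^ 2 = 1)
    (ρ' : MulAut B) (m : ℕ) (hm : Odd m) (hρ : ∀ b, (ρ' ^ m) b = b)
    (V : Subgroup B) (hV : ∀ v ∈ V, ρ' v ∈ V) :
    ∃ W : Subgroup B, (∀ w ∈ W, ρ' w ∈ W) ∧ V ⊓ W = ⊥ ∧ V ⊔ W = ⊤ := by
  letI : CommGroup B :=
    { (inferInstance : Group B) with mul_comm := Cfsg.Agent.Lib.Helper6.TGSExt.comm_of_sq hel }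
  exact compl_comm hel ρ' m hm hρ V hV

end Cfsg.Agent.Lib.Helper6.TGSU6a1
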