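import Mathlib
import Cfsg.Agent.S0035
import Cfsg.Agent.S0042
import Cfsg.Agent.Lib.Lead.SETrans
import Cfsg.Agent.Lib.Helper6.TICC1

/-!
# S4064 Part C, file 2: Hall property, (d2), strongly embedded normaliser
-/

set_option autoImplicit false
set_option linter.style.haveILetI false
set_option linter.unusedSectionVars false

open scoped Pointwise

namespace Cfsg.Agent.Lib.Helper6.TIC

variable {G : Type*} [Group G]

/-- a group with a Frobenius complement has nontrivial Fitting subgroup (Frobenius + Thompson) -/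
theorem fitting_ne_bot_of_frobenius [Finite G] (H : Subgroup G)
    (hH : Cfsg.IsFrobeniusComplement H) : Cfsg.fittingSubgroup G ≠ ⊥ := by
  obtain ⟨N, hNk, hNn, hNc⟩ := Cfsg.Agent.S0035.result H hH
  obtain ⟨N', hN'k, -, hN'nil⟩ := Cfsg.Agent.S0042.result H hH
  have hNN' : N' = N := SetLike.coe_injective (hN'k.trans hNk.symm)
  subst hNN'
  intro hF
  have hle : N' ≤ Cfsg.fittingSubgroup G := Cfsg.Agent.Lib.Helper1.le_fittingSubgroup hNn hN'nil
  rw [hF, le_bot_iff] at hle
  subst hle
  exact hH.2.1 (Subgroup.isComplement'_bot_left.mp hNc)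

/-- an involution normalising a subgroup of even order centralises a non-identity element -/
theorem exists_fixed_of_invol [Finite G] {M : Subgroup G} (h2 : 2 ∣ Nat.card M) {t : G}
    (ht : t * t = 1) (htN : t ∈ Subgroup.normalizer (M : Set G)) :
    ∃ m ∈ M, m ≠ 1 ∧ t * m = m * t := by
  classical
  by_contra hcon
  haveI : Fintype M := Fintype.ofFinite M
  have htinv : t⁻¹ = t := inv_eq_of_mul_eq_one_left ht
  let f : Function.End M :=
    fun m => ⟨t * m * t⁻¹, (Subgroup.mem_normalizer_iff.mp htN m).mp m.2⟩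
  have hf : f ^ 2 ^ 1 = 1 := by
    rw [pow_one, pow_two]
    funext m
    apply Subtype.ext
    change t * (t * (m : G) * t⁻¹) * t⁻¹ = m
    rw [htinv]
    calc t * (t * (m : G) * t) * t = (t * t) * m * (t * t) := by group
      _ = m := by rw [ht, one_mul, mul_one]
  have hmod := Equiv.Perm.card_fixedPoints_modEq (p := 2) (n := 1) hf
  have hfix : Fintype.card (Function.fixedPoints f) = 1 := by
    rw [Fintype.card_eq_one_iff]
    refine ⟨⟨1, ?_⟩, ?_⟩
    · apply Subtype.ext
      change t * ((1 : M) : G) * t⁻¹ = ((1 : M) : G)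
      rw [Subgroup.coe_one, mul_one, mul_inv_cancel]
    · rintro ⟨m, hm⟩
      apply Subtype.ext
      by_contra hm1
      apply hcon
      refine ⟨m, m.2, fun e => hm1 (Subtype.ext e), ?_⟩
      have h3 : t * (m : G) * t⁻¹ = m := congrArg Subtype.val hm
      calc t * (m : G) = t * m * t⁻¹ * t := by group
        _ = m * t := by rw [h3]
  rw [hfix, ← Nat.card_eq_fintype_card] at hmod
  have h0 : Nat.card M ≡ 0 [MOD 2] := (Nat.modEq_zero_iff_dvd).mpr h2
  have := h0.symm.trans hmod
  exact absurd this (by decide)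

namespace IsComp

variable {M M' : Subgroup G}

/-- a Sylow subgroup of `G` meeting `M` nontrivially lies in `M` -/
theorem sylow_le [Finite G] (h : IsComp M) {p : ℕ} [Fact p.Prime] (P : Sylow p G) {y : G}
    (hyP : y ∈ P) (hyM : y ∈ M) (hy1 : y ≠ 1) : (P : Subgroup G) ≤ M := by
  haveI : Nontrivial P := ⟨⟨⟨y, hyP⟩, 1, fun e => hy1 (congrArg Subtype.val e)⟩⟩
  haveI := IsPGroup.center_nontrivial P.isPGroup'
  obtain ⟨z, hz1⟩ := exists_ne (1 : Subgroup.center P)
  have hzc : ∀ x ∈ (P : Subgroup G), x * (z : P) = (z : P) * x := by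
    intro x hx
    have := (Subgroup.mem_center_iff.mp z.2) ⟨x, hx⟩
    exact congrArg Subtype.val this
  have hzG1 : ((z : P) : G) ≠ 1 := by
    intro e
    apply hz1
    apply Subtype.ext
    apply Subtype.ext
    exact e
  have hzM : ((z : P) : G) ∈ M := by
    apply h.cent hyM hy1
    rw [Subgroup.mem_centralizer_singleton_iff]
    exact (hzc y hyP).symm
  intro x hx
  apply h.cent hzM hzG1
  rw [Subgroup.mem_centralizer_singleton_iff]
  exact hzc x hx

theorem exists_sylow_le [Finite G] (h : IsComp M) {p : ℕ} [Fact p.Prime]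
    (hp : p ∣ Nat.card M) : ∃ P : Sylow p G, (P : Subgroup G) ≤ M ∧ ∃ y ∈ P, y ≠ 1 := by
  obtain ⟨y, hy⟩ := exists_prime_orderOf_dvd_card' (G := M) p hp
  have hyG : orderOf (y : G) = p := by rw [Subgroup.orderOf_coe]; exact hy
  have hy1 : (y : G) ≠ 1 := by
    intro e
    rw [e, orderOf_one] at hyG
    exact (Fact.out : p.Prime).one_lt.ne hyG
  have hpg : IsPGroup p (Subgroup.zpowers (y : G)) := by
    apply IsPGroup.of_card (n := 1)
    rw [Nat.card_zpowers, hyG, pow_one]
  obtain ⟨P, hP⟩ := hpg.exists_le_sylow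
  have hyP : (y : G) ∈ P := hP (Subgroup.mem_zpowers _)
  exact ⟨P, h.sylow_le P hyP y.2 hy1, y, hyP, hy1⟩

/-- components whose orders share a prime are conjugate -/
theorem conj_of_prime_dvd [Finite G] (h : IsComp M) (h' : IsComp M') {p : ℕ} [Fact p.Prime]
    (hp : p ∣ Nat.card M) (hp' : p ∣ Nat.card M') : ∃ g : G, cj g M = M' := by
  obtain ⟨P, hPM, -⟩ := h.exists_sylow_le hp
  obtain ⟨P', hPM', y, hyP', hy1⟩ := h'.exists_sylow_le hp'
  obtain ⟨g, hg⟩ := MulAction.exists_smul_eq G P P'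
  refine ⟨g, ?_⟩
  have hy : y ∈ cj g M := by
    rw [mem_cj]
    apply hPM
    have : y ∈ ((g • P : Sylow p G) : Subgroup G) := by rw [hg]; exact hyP'
    rw [Sylow.coe_subgroup_smul, Subgroup.mem_pointwise_smul_iff_inv_smul_mem,
      MulAut.smul_def, MulAut.conj_inv_apply] at this
    exact this
  exact (h.conj g).eq_of_mem h' hy (hPM' hyP') hy1

theorem coprime_of_not_conj [Finite G] (h : IsComp M) (h' : IsComp M')
    (hn : ∀ g : G, cj g M ≠ M') : (Nat.card M).Coprime (Nat.card M') := by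
  by_contra hc
  obtain ⟨p, hp, hp1, hp2⟩ := Nat.Prime.not_coprime_iff_dvd.mp hc
  haveI := Fact.mk hp
  obtain ⟨g, hg⟩ := h.conj_of_prime_dvd h' hp1 hp2
  exact hn g hg

theorem not_normal [Finite G] (h : IsComp M) (hF : Cfsg.fittingSubgroup G = ⊥) : ¬ M.Normal := by
  intro hn
  have := Cfsg.Agent.Lib.Helper1.le_fittingSubgroup hn h.nil
  rw [hF, le_bot_iff] at this
  exact h.ne_bot this

theorem ne_top [Finite G] (h : IsComp M) (hF : Cfsg.fittingSubgroup G = ⊥) : M ≠ ⊤ := by
  intro e
  apply h.not_normal hF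
  rw [e]
  infer_instance

theorem normalizer_ne_top [Finite G] (h : IsComp M) (hF : Cfsg.fittingSubgroup G = ⊥) :
    Subgroup.normalizer (M : Set G) ≠ ⊤ := by
  intro e
  exact h.not_normal hF (Subgroup.normalizer_eq_top_iff.mp e)

/-- **(d2)**: a component is not self-normalising when `F(G) = 1`. -/
theorem normalizer_ne [Finite G] (h : IsComp M) (hF : Cfsg.fittingSubgroup G = ⊥) :
    Subgroup.normalizer (M : Set G) ≠ M := by
  intro hN
  apply fitting_ne_bot_of_frobenius M _ hF
  refine ⟨h.ne_bot, h.ne_top hF, fun g hg => ?_⟩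
  rw [← cj_eq_smul, Subgroup.eq_bot_iff_forall]
  intro x hxx
  obtain ⟨hx, hx'⟩ := Subgroup.mem_inf.mp hxx
  by_contra hx1
  apply hg
  rw [mem_cj] at hx'
  have hne : g⁻¹ * x * g ≠ 1 := by
    intro e
    apply hx1
    calc x = g * (g⁻¹ * x * g) * g⁻¹ := by group
      _ = 1 := by rw [e]; group
  have hgx : g * (g⁻¹ * x * g) * g⁻¹ ∈ M := by
    have : g * (g⁻¹ * x * g) * g⁻¹ = x := by group
    rw [this]; exact hx
  have := h.mem_normalizer hx' hne hgx
  rwa [hN] at this

theorem exists_out [Finite G] (h : IsComp M) (hF : Cfsg.fittingSubgroup G = ⊥) :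
    ∃ x ∈ Subgroup.normalizer (M : Set G), x ∉ M := by
  have hlt : M < Subgroup.normalizer (M : Set G) :=
    lt_of_le_of_ne Subgroup.le_normalizer (h.normalizer_ne hF).symm
  obtain ⟨x, hx, hxM⟩ := SetLike.exists_of_lt hlt
  exact ⟨x, hx, hxM⟩

/-- involutions of `N(M)` lie in `M` when `|M|` is even -/
theorem invol_mem [Finite G] (h : IsComp M) (h2 : 2 ∣ Nat.card M) {t : G}
    (ht : orderOf t = 2) (htN : t ∈ Subgroup.normalizer (M : Set G)) : t ∈ M := by
  have htt : t * t = 1 := by
    rw [← pow_two, ← ht, pow_orderOf_eq_one]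
  obtain ⟨m, hm, hm1, hc⟩ := exists_fixed_of_invol h2 htt htN
  by_contra htM
  exact hm1 (h.fpf htM hm hc)

/-- `N_G(M)` is strongly embedded when `|M|` is even and `F(G) = 1` -/
theorem stronglyEmbedded [Finite G] (h : IsComp M) (hF : Cfsg.fittingSubgroup G = ⊥)
    (h2 : 2 ∣ Nat.card M) : Cfsg.IsStronglyEmbedded (Subgroup.normalizer (M : Set G)) := by
  refine ⟨h.normalizer_ne_top hF, ?_, fun g hg => ?_⟩
  · exact (even_iff_two_dvd).mpr (h2.trans (Subgroup.card_dvd_of_le Subgroup.le_normalizer))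
  · rw [← Nat.not_even_iff_odd]
    intro hev
    rw [even_iff_two_dvd] at hev
    obtain ⟨t, ht⟩ := exists_prime_orderOf_dvd_card' (G := ↥(Subgroup.normalizer (M : Set G) ⊓
      (Subgroup.normalizer (M : Set G)).map (MulAut.conj g).toMonoidHom)) 2 hev
    have htG : orderOf (t : G) = 2 := by rw [Subgroup.orderOf_coe]; exact ht
    have ht1 : (t : G) ∈ Subgroup.normalizer (M : Set G) := t.2.1
    have ht2 : (t : G) ∈ cj g (Subgroup.normalizer (M : Set G)) := t.2.2
    rw [mem_cj] at ht2
    have hord : orderOf (g⁻¹ * (t : G) * g) = 2 := by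
      have : g⁻¹ * (t : G) * g = MulAut.conj g⁻¹ (t : G) := by
        rw [MulAut.conj_apply, inv_inv]
      rw [this, MulEquiv.orderOf_eq]; exact htG
    have hm1 := h.invol_mem h2 htG ht1
    have hm2 := h.invol_mem h2 hord ht2
    apply hg
    have hne : g⁻¹ * (t : G) * g ≠ 1 := by
      intro e
      rw [e, orderOf_one] at hord
      exact absurd hord (by decide)
    apply h.mem_normalizer hm2 hne
    have : g * (g⁻¹ * (t : G) * g) * g⁻¹ = t := by group
    rw [this]; exact hm1

end IsComp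

/-- all involutions are conjugate in a group with components, `F(G) = 1` -/
theorem isConj_invol_of_hasComps [Finite G] (hB : HasComps G)
    (hF : Cfsg.fittingSubgroup G = ⊥) {a b : G} (ha : orderOf a = 2) (hb : orderOf b = 2) :
    IsConj a b := by
  have ha1 : a ≠ 1 := by
    intro e
    rw [e, orderOf_one] at ha
    exact absurd ha (by decide)
  obtain ⟨M, hM, haM⟩ := hB a ha1
  have h2 : 2 ∣ Nat.card M := by
    have := orderOf_dvd_natCard (⟨a, haM⟩ : M)
    rwa [Subgroup.orderOf_mk, ha] at this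
  exact Cfsg.Agent.Lib.Lead.SE.isConj_invol (hM.stronglyEmbedded hF h2) ha hb

end Cfsg.Agent.Lib.Helper6.TIC
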