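import Mathlib
import Cfsg.Agent.Lib.Helper2.Cores
import Cfsg.Agent.Lib.Helper6.TICC2

/-!
# S4064 Part C, file 3: (d1) simplicity
-/

set_option autoImplicit false
set_option linter.style.haveILetI false
set_option linter.unusedSectionVars false

open scoped Pointwise

namespace Cfsg.Agent.Lib.Helper6.TIC

variable {G : Type*} [Group G]

/-- `F(K) = 1` for a normal subgroup `K` of a group with `F(G) = 1` -/
theorem fitting_subgroup_eq_bot [Finite G] (hF : Cfsg.fittingSubgroup G = ⊥) (K : Subgroup G)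
    [K.Normal] : Cfsg.fittingSubgroup K = ⊥ := by
  haveI : (Cfsg.fittingSubgroup K).Characteristic :=
    Cfsg.Agent.Lib.Helper2.fittingSubgroup_characteristic
  have hn : ((Cfsg.fittingSubgroup K).map K.subtype).Normal := inferInstance
  have hnil : Group.IsNilpotent ((Cfsg.fittingSubgroup K).map K.subtype) := by
    have h1 : Group.IsNilpotent (Cfsg.fittingSubgroup K) :=
      Cfsg.Agent.Lib.Helper1.fittingSubgroup_isNilpotent
    exact (Group.isNilpotent_congr ((Cfsg.fittingSubgroup K).equivMapOfInjective K.subtype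
      K.subtype_injective)).mp h1
  have hle := Cfsg.Agent.Lib.Helper1.le_fittingSubgroup hn hnil
  rw [hF, le_bot_iff] at hle
  exact (Subgroup.map_eq_bot_iff_of_injective _ K.subtype_injective).mp hle

/-- a nilpotent group with trivial Fitting subgroup is trivial -/
theorem eq_one_of_nilpotent_of_fitting [Finite G] (hnil : Group.IsNilpotent G)
    (hF : Cfsg.fittingSubgroup G = ⊥) (x : G) : x = 1 := by
  have h1 : Group.IsNilpotent (⊤ : Subgroup G) :=
    (Group.isNilpotent_congr (Subgroup.topEquiv (G := G))).mpr hnil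
  have hle := Cfsg.Agent.Lib.Helper1.le_fittingSubgroup (N := (⊤ : Subgroup G)) inferInstance h1
  rw [hF, le_bot_iff] at hle
  have : x ∈ (⊤ : Subgroup G) := Subgroup.mem_top x
  rw [hle, Subgroup.mem_bot] at this
  exact this

/-- a component meeting a normal subgroup `K` with `F(K) = 1` nontrivially lies in `K` -/
theorem IsComp.le_normal [Finite G] {M : Subgroup G} (h : IsComp M) (K : Subgroup G)
    [hK : K.Normal] (hFK : Cfsg.fittingSubgroup K = ⊥) {y : G} (hyM : y ∈ M) (hyK : y ∈ K)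
    (hy1 : y ≠ 1) : M ≤ K := by
  by_cases hd : ∃ d ∈ Subgroup.normalizer (M : Set G), d ∈ K ∧ d ∉ M
  · obtain ⟨d, hdN, hdK, hdM⟩ := hd
    have hmem : ∀ m : M, (m : G)⁻¹ * d⁻¹ * m * d ∈ (M ⊓ K : Subgroup G) := by
      intro m
      refine Subgroup.mem_inf.mpr ⟨?_, ?_⟩
      · have h1 : d⁻¹ * (m : G) * d ∈ M := by
          have := (Subgroup.mem_normalizer_iff.mp (Subgroup.inv_mem _ hdN) (m : G)).mp m.2
          rwa [inv_inv] at this
        have : (m : G)⁻¹ * d⁻¹ * m * d = (m : G)⁻¹ * (d⁻¹ * (m : G) * d) := by group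
        rw [this]
        exact Subgroup.mul_mem _ (Subgroup.inv_mem _ m.2) h1
      · have h1 : (m : G)⁻¹ * d⁻¹ * ((m : G)⁻¹)⁻¹ ∈ K :=
          hK.conj_mem _ (Subgroup.inv_mem _ hdK) _
        rw [inv_inv] at h1
        exact Subgroup.mul_mem _ h1 hdK
    have hinj : Function.Injective
        (fun m : M => (⟨(m : G)⁻¹ * d⁻¹ * m * d, hmem m⟩ : (M ⊓ K : Subgroup G))) := by
      intro m m' hmm
      have e : (m : G)⁻¹ * d⁻¹ * m * d = (m' : G)⁻¹ * d⁻¹ * m' * d := congrArg Subtype.val hmm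
      have e2 : (m : G)⁻¹ * d⁻¹ * m = (m' : G)⁻¹ * d⁻¹ * m' := mul_right_cancel e
      have hc : d * ((m' : G) * (m : G)⁻¹) = ((m' : G) * (m : G)⁻¹) * d := by
        have e3 : d⁻¹ * ((m : G) * (m' : G)⁻¹) = ((m : G) * (m' : G)⁻¹) * d⁻¹ := by
          calc d⁻¹ * ((m : G) * (m' : G)⁻¹)
              = (m : G) * ((m : G)⁻¹ * d⁻¹ * m) * (m' : G)⁻¹ := by group
            _ = (m : G) * ((m' : G)⁻¹ * d⁻¹ * m') * (m' : G)⁻¹ := by rw [e2]
            _ = ((m : G) * (m' : G)⁻¹) * d⁻¹ := by group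
        have hcomm : Commute d⁻¹ ((m : G) * (m' : G)⁻¹) := e3
        have h2 : Commute d ((m : G) * (m' : G)⁻¹)⁻¹ := (Commute.inv_left_iff.mp hcomm).inv_right
        have h3 : ((m : G) * (m' : G)⁻¹)⁻¹ = (m' : G) * (m : G)⁻¹ := by
          rw [mul_inv_rev, inv_inv]
        rw [h3] at h2
        exact h2
      have hmm1 : (m' : G) * (m : G)⁻¹ = 1 :=
        h.fpf hdM (Subgroup.mul_mem _ m'.2 (Subgroup.inv_mem _ m.2)) hc
      apply Subtype.ext
      have : (m' : G) = m := by
        calc (m' : G) = (m' : G) * (m : G)⁻¹ * m := by group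
          _ = m := by rw [hmm1, one_mul]
      exact this.symm
    have hcard : Nat.card M ≤ Nat.card (M ⊓ K : Subgroup G) :=
      Nat.card_le_card_of_injective _ hinj
    have heq : M ⊓ K = M := Subgroup.eq_of_le_of_card_ge inf_le_left hcard
    rw [← heq]
    exact inf_le_right
  · exfalso
    have hd' : ∀ d ∈ Subgroup.normalizer (M : Set G), d ∈ K → d ∈ M := by
      intro d hdN hdK
      by_contra hdM
      exact hd ⟨d, hdN, hdK, hdM⟩
    apply fitting_ne_bot_of_frobenius (M.subgroupOf K) _ hFK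
    refine ⟨?_, ?_, ?_⟩
    · intro e
      have hyT : (⟨y, hyK⟩ : K) ∈ M.subgroupOf K := Subgroup.mem_subgroupOf.mpr hyM
      rw [e, Subgroup.mem_bot] at hyT
      exact hy1 (congrArg Subtype.val hyT)
    · intro e
      rw [Subgroup.subgroupOf_eq_top] at e
      have hnil : Group.IsNilpotent K := by
        haveI := h.nil
        have h1 : Group.IsNilpotent (K.subgroupOf M) := inferInstance
        exact (Group.isNilpotent_congr (Subgroup.subgroupOfEquivOfLe e)).mp h1
      have := eq_one_of_nilpotent_of_fitting hnil hFK ⟨y, hyK⟩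
      exact hy1 (congrArg Subtype.val this)
    · intro k hk
      rw [Subgroup.eq_bot_iff_forall]
      intro x hxx
      obtain ⟨hx, hx'⟩ := Subgroup.mem_inf.mp hxx
      by_contra hx1
      apply hk
      rw [Subgroup.mem_pointwise_smul_iff_inv_smul_mem, MulAut.smul_def,
        MulAut.conj_inv_apply] at hx'
      rw [Subgroup.mem_subgroupOf] at hx hx' ⊢
      have hx'G : (k : G)⁻¹ * (x : G) * (k : G) ∈ M := by
        simpa using hx'
      have hne : (k : G)⁻¹ * (x : G) * (k : G) ≠ 1 := by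
        intro e
        apply hx1
        apply Subtype.ext
        calc (x : G) = (k : G) * ((k : G)⁻¹ * (x : G) * (k : G)) * (k : G)⁻¹ := by group
          _ = 1 := by rw [e]; group
      have hgx : (k : G) * ((k : G)⁻¹ * (x : G) * (k : G)) * (k : G)⁻¹ ∈ M := by
        have : (k : G) * ((k : G)⁻¹ * (x : G) * (k : G)) * (k : G)⁻¹ = x := by group
        rw [this]; exact hx
      exact hd' _ (h.mem_normalizer hx'G hne hgx) k.2

/-- **(d1)**: `G` is simple, given that nontrivial normal subgroups have even order. -/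
theorem isSimpleGroup_of_hasComps [Finite G] [Nontrivial G] (hB : HasComps G)
    (hBK : ∀ K : Subgroup G, K.Normal → HasComps K)
    (hF : Cfsg.fittingSubgroup G = ⊥)
    (heven : ∀ K : Subgroup G, K.Normal → K ≠ ⊥ → 2 ∣ Nat.card K) : IsSimpleGroup G := by
  refine { exists_pair_ne := exists_pair_ne G, eq_bot_or_eq_top_of_normal := ?_ }
  intro K hKn
  by_cases hKb : K = ⊥
  · exact Or.inl hKb
  right
  have hFK : Cfsg.fittingSubgroup K = ⊥ := fitting_subgroup_eq_bot hF K
  have h2 : 2 ∣ Nat.card K := heven K hKn hKb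
  obtain ⟨z, hz⟩ := exists_prime_orderOf_dvd_card' (G := K) 2 h2
  have hzG : orderOf (z : G) = 2 := by rw [Subgroup.orderOf_coe]; exact hz
  have hz1 : (z : G) ≠ 1 := by
    intro e
    rw [e, orderOf_one] at hzG
    exact absurd hzG (by decide)
  obtain ⟨M, hM, hzM⟩ := hB (z : G) hz1
  have hMK : M ≤ K := hM.le_normal K hFK hzM z.2 hz1
  have hCK : Subgroup.centralizer ({(z : G)} : Set G) ≤ K := (hM.cent hzM hz1).trans hMK
  rw [Subgroup.eq_top_iff']
  intro g
  have hwK : g * (z : G) * g⁻¹ ∈ K := hKn.conj_mem _ z.2 g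
  have hw : orderOf (⟨g * (z : G) * g⁻¹, hwK⟩ : K) = 2 := by
    rw [Subgroup.orderOf_mk]
    have : g * (z : G) * g⁻¹ = MulAut.conj g (z : G) := by rw [MulAut.conj_apply]
    rw [this, MulEquiv.orderOf_eq]; exact hzG
  have hconj := isConj_invol_of_hasComps (hBK K hKn) hFK hz hw
  obtain ⟨c, hc⟩ := isConj_iff.mp hconj
  have hcG : (c : G) * (z : G) * (c : G)⁻¹ = g * (z : G) * g⁻¹ := by
    have := congrArg Subtype.val hc
    simpa using this
  have hmem : (c : G)⁻¹ * g ∈ Subgroup.centralizer ({(z : G)} : Set G) := by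
    rw [Subgroup.mem_centralizer_singleton_iff]
    calc (c : G)⁻¹ * g * (z : G) = (c : G)⁻¹ * (g * (z : G) * g⁻¹) * g := by group
      _ = (c : G)⁻¹ * ((c : G) * (z : G) * (c : G)⁻¹) * g := by rw [hcG]
      _ = (z : G) * ((c : G)⁻¹ * g) := by group
  have : g = (c : G) * ((c : G)⁻¹ * g) := by group
  rw [this]
  exact Subgroup.mul_mem _ c.2 (hCK hmem)

end Cfsg.Agent.Lib.Helper6.TIC
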