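import Mathlib
import Cfsg.Agent.Lib.Helper9.TICB4
import Cfsg.Agent.Lib.Helper9.TICB5
import Cfsg.Agent.Lib.Helper6.TICC3

/-!
# S4064 Part C, file 4: the Part C theorem

For a finite nontrivial group `G` all of whose element centralisers are TI and with
`F(G) = 1`: `G` is simple, nonabelian, of even order, and no component is self-normalising.
-/

set_option autoImplicit false
set_option linter.style.haveILetI false
set_option linter.unusedSectionVars false

open scoped Pointwise

namespace Cfsg.Agent.Lib.Helper6.TIC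

open Cfsg.Agent.Lib.Helper9.TIC (Comp)

variable {G : Type*} [Group G]

/-- **(d2)** for helper9's `Comp`. -/
theorem comp_normalizer_ne [Finite G] (hF : Cfsg.fittingSubgroup G = ⊥) {M : Subgroup G}
    (hM : Comp M) : Subgroup.normalizer (M : Set G) ≠ M :=
  hM.isComp.normalizer_ne hF

/-- odd order is impossible -/
theorem even_card_of_ti [Finite G] [Nontrivial G]
    (hTI : ∀ x : G, Cfsg.IsTISubset (Subgroup.centralizer ({x} : Set G) : Set G))
    (hF : Cfsg.fittingSubgroup G = ⊥) : 2 ∣ Nat.card G := by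
  by_contra h
  have hodd : Odd (Nat.card G) := Nat.odd_iff.mpr (Nat.two_dvd_ne_zero.mp h)
  exact Cfsg.Agent.Lib.Helper9.TIC.false_of_odd hTI hodd (fun M hM => comp_normalizer_ne hF hM)

/-- **(d1)** -/
theorem isSimpleGroup_of_ti [Finite G] [Nontrivial G]
    (hTI : ∀ x : G, Cfsg.IsTISubset (Subgroup.centralizer ({x} : Set G) : Set G))
    (hF : Cfsg.fittingSubgroup G = ⊥) : IsSimpleGroup G := by
  apply isSimpleGroup_of_hasComps (Cfsg.Agent.Lib.Helper9.TIC.hasComps_of_ti hTI)
    (fun K _ => Cfsg.Agent.Lib.Helper9.TIC.hasComps_subgroup hTI K) hF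
  intro K hKn hKb
  haveI := hKn
  haveI : Nontrivial K := (Subgroup.nontrivial_iff_ne_bot K).mpr hKb
  exact even_card_of_ti (Cfsg.Agent.Lib.Helper2.TIC.ti_subgroup hTI K)
    (fitting_subgroup_eq_bot hF K)

theorem exists_not_commute [Finite G] [Nontrivial G] (hF : Cfsg.fittingSubgroup G = ⊥) :
    ∃ x y : G, x * y ≠ y * x := by
  by_contra h
  have hc : ∀ x y : G, x * y = y * x := by
    intro x y
    by_contra hxy
    exact h ⟨x, y, hxy⟩
  have hnil : Group.IsNilpotent G := by
    letI : CommGroup G := { (inferInstance : Group G) with mul_comm := hc }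
    exact CommGroup.isNilpotent
  obtain ⟨x, hx⟩ := exists_ne (1 : G)
  exact hx (eq_one_of_nilpotent_of_fitting hnil hF x)

/-- **Part C**. -/
theorem partC [Finite G] [Nontrivial G]
    (hTI : ∀ x : G, Cfsg.IsTISubset (Subgroup.centralizer ({x} : Set G) : Set G))
    (hF : Cfsg.fittingSubgroup G = ⊥) :
    IsSimpleGroup G ∧ 2 ∣ Nat.card G ∧ (∃ x y : G, x * y ≠ y * x) ∧
      ∀ M : Subgroup G, Comp M → Subgroup.normalizer (M : Set G) ≠ M :=
  ⟨isSimpleGroup_of_ti hTI hF, even_card_of_ti hTI hF, exists_not_commute hF,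
    fun _ hM => comp_normalizer_ne hF hM⟩

/-- The input of Part D: an involution `z`, central in a Sylow 2-subgroup, whose centraliser
is a component which is not self-normalising. -/
theorem exists_invol_comp [Finite G] [Nontrivial G]
    (hTI : ∀ x : G, Cfsg.IsTISubset (Subgroup.centralizer ({x} : Set G) : Set G))
    (hF : Cfsg.fittingSubgroup G = ⊥) :
    ∃ z : G, orderOf z = 2 ∧ Comp (Subgroup.centralizer ({z} : Set G)) ∧
      (∀ x ∈ Subgroup.centralizer ({z} : Set G), x ≠ 1 →
        Subgroup.centralizer ({x} : Set G) ≤ Subgroup.centralizer ({z} : Set G)) ∧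
      Group.IsNilpotent (Subgroup.centralizer ({z} : Set G)) ∧
      (∃ S : Sylow 2 G, (S : Subgroup G) ≤ Subgroup.centralizer ({z} : Set G)) ∧
      (∃ g ∈ Subgroup.normalizer ((Subgroup.centralizer ({z} : Set G) : Subgroup G) : Set G),
        g ∉ Subgroup.centralizer ({z} : Set G)) := by
  haveI : Fact (Nat.Prime 2) := ⟨Nat.prime_two⟩
  have h2 := even_card_of_ti hTI hF
  obtain ⟨S⟩ : Nonempty (Sylow 2 G) := inferInstance
  have hS : (S : Subgroup G) ≠ ⊥ := by
    intro e
    have hd : 2 ∣ Nat.card (S : Subgroup G) := S.dvd_card_of_dvd_card h2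
    rw [e, Subgroup.card_bot] at hd
    exact absurd hd (by decide)
  obtain ⟨z, -, hz, -, hcomp, hSle⟩ := Cfsg.Agent.Lib.Helper9.TIC.exists_comp_sylow hTI S hS
  exact ⟨z, hz, hcomp, hcomp.cent, hcomp.nilpotent, ⟨S, hSle⟩, hcomp.isComp.exists_out hF⟩

end Cfsg.Agent.Lib.Helper6.TIC
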