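import Mathlib
import Cfsg.Agent.Lib.Helper7.TICD1
import Cfsg.Agent.Lib.Helper6.TICC4

/-!
# S4064 Part C, file 5: Part C delivers the input `DHyp z` of Part D
-/

set_option autoImplicit false
set_option linter.style.haveILetI false
set_option linter.unusedSectionVars false

namespace Cfsg.Agent.Lib.Helper6.TIC

variable {G : Type*} [Group G]

/-- **Part B + Part C ⟹ input of Part D.** -/
theorem exists_dhyp [Finite G] [Nontrivial G]
    (hTI : ∀ x : G, Cfsg.IsTISubset (Subgroup.centralizer ({x} : Set G) : Set G))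
    (hF : Cfsg.fittingSubgroup G = ⊥) :
    ∃ z : G, Cfsg.Agent.Lib.Helper7.TICD.DHyp z ∧
      Cfsg.Agent.Lib.Helper9.TIC.Comp (Subgroup.centralizer ({z} : Set G)) := by
  obtain ⟨z, hz, hcomp, hcent, hnil, hsyl, hnself⟩ := exists_invol_comp hTI hF
  exact ⟨z, ⟨hz, isSimpleGroup_of_ti hTI hF, exists_not_commute hF, hTI, hcent, hnil, hsyl,
    hnself⟩, hcomp⟩

end Cfsg.Agent.Lib.Helper6.TIC
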