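import Mathlib
import Cfsg.Agent.Lib.Helper2.TICAf
import Cfsg.Agent.Lib.Helper7.TICD5
import Cfsg.Agent.Lib.Helper6.TICC5

/-!
# S4064: final assembly, parametrized by the kill of the residual case (Part E)
-/

set_option autoImplicit false
set_option linter.style.haveILetI false
set_option linter.unusedSectionVars false

namespace Cfsg.Agent.Lib.Helper6.TIC

open Cfsg.Agent.Lib.Helper7.TICD

universe u

/-- Parts B–E: `F(G) = 1`, `G ≠ 1` ⟹ `G ≅ PSL₂(2ⁿ)`; the kill of the residual configuration is a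
hypothesis. -/
theorem psl_of_fitting_eq_bot {G : Type u} [Group G] [Finite G] [Nontrivial G]
    (hTI : ∀ x : G, Cfsg.IsTISubset (Subgroup.centralizer ({x} : Set G) : Set G))
    (hF : Cfsg.fittingSubgroup G = ⊥)
    (hkill : ∀ (z : G) (h : DHyp z)
      (_ : IsPGroup 2 (cM z) ∧ ∃ u ∈ cM z, ∃ v ∈ cM z, u * v ≠ v * u),
      Cfsg.Agent.Lib.Helper5.TICE.Resid (sS z) h.sT (nf z + 1) → False) :
    ∃ n : ℕ, 2 ≤ n ∧
      Nonempty (G ≃* Matrix.ProjectiveSpecialLinearGroup (Fin 2) (GaloisField 2 n)) := by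
  obtain ⟨z, hD, -⟩ := exists_dhyp hTI hF
  rcases hD.dichotomy with hpsl | hres
  · exact hpsl
  · exact (hkill z hD hres (hD.toResid hres)).elim

/-- The main induction. -/
theorem main_of_kill
    (hkill : ∀ (G : Type u) [Group G] [Finite G] (z : G) (h : DHyp z)
      (_ : IsPGroup 2 (cM z) ∧ ∃ u ∈ cM z, ∃ v ∈ cM z, u * v ≠ v * u),
      Cfsg.Agent.Lib.Helper5.TICE.Resid (sS z) h.sT (nf z + 1) → False) :
    ∀ (n : ℕ) (G : Type u) [Group G] [Finite G], Nat.card G = n →
      (∀ x : G, Cfsg.IsTISubset (Subgroup.centralizer ({x} : Set G) : Set G)) →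
      (Group.IsNilpotent G ∨
        (∃ H : Subgroup G, Cfsg.IsFrobeniusComplement H ∧
          (IsCyclic H ∨ ∃ m : ℕ, Odd m ∧
            Nonempty (H ≃* Multiplicative (ZMod m) × QuaternionGroup 2))) ∨
        (∃ n : ℕ, 2 ≤ n ∧
          Nonempty (G ≃* Matrix.ProjectiveSpecialLinearGroup (Fin 2) (GaloisField 2 n)))) := by
  intro n
  induction n using Nat.strong_induction_on with
  | _ n ih =>
    intro G _ _ hcard hTI
    by_cases hF : Cfsg.fittingSubgroup G = ⊥
    · by_cases hnt : Nontrivial G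
      · right; right
        exact psl_of_fitting_eq_bot hTI hF (hkill G)
      · left
        haveI : Subsingleton G := not_nontrivial_iff_subsingleton.mp hnt
        infer_instance
    · have hA := Cfsg.Agent.Lib.Helper2.TIC.partA hTI hF (fun X hX =>
        ih (Nat.card X) (hcard ▸ hX) X rfl (Cfsg.Agent.Lib.Helper2.TIC.ti_subgroup hTI X))
      rcases hA with h1 | h2
      · exact Or.inl h1
      · exact Or.inr (Or.inl h2)

end Cfsg.Agent.Lib.Helper6.TIC
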