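import Mathlib
import Cfsg.Agent.Lib.Helper7.TICD4
import Cfsg.Agent.Lib.Helper6.TICE0

/-!
# S4064 glue D → E0: the residual case of Part D satisfies `RegHyp`

In the residual case (`M = C(z)` a nonabelian 2-group) the two-point stabiliser `D` acts on
`S = M` as in `RegHyp`; consequently `T0 = Z(M)` is the set of elements of `M` of order `≤ 2`,
`|T0| = q = nf z + 1 = 2^n`, `n ≥ 2`, and `|M| = q^3`.
-/

set_option autoImplicit false
set_option linter.style.haveILetI false
set_option linter.unusedSectionVars false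
set_option linter.unusedVariables false

namespace Cfsg.Agent.Lib.Helper6.TIC

open Cfsg.Agent.Lib.Helper7.TICD Cfsg.Agent.Lib.Lead

variable {G : Type*} [Group G] [Finite G] {z : G}

local notation "x0" => ((1 : G) : G ⧸ cN z)

/-- the residual case of Part D gives the hypotheses of E0 -/
theorem regHyp_of_dhyp (h : DHyp z)
    (hres : IsPGroup 2 (cM z) ∧ ∃ u ∈ cM z, ∃ v ∈ cM z, u * v ≠ v * u)
    {y : G ⧸ cN z} (hy : x0 ≠ y) :
    RegHyp (cM z) (MulAction.stabilizer G y ⊓ MulAction.stabilizer G x0 : Subgroup G) := by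
  refine ⟨?_, h.two_point_cyclic hy, hres.1, hres.2, ?_, ?_⟩
  · intro d hd s hs
    have hdN : d ∈ cN z := h.two_point_le_base hd
    exact (Subgroup.mem_normalizer_iff.mp hdN s).mp hs
  · have h3 := h.three_le_nf
    have hnt : Nontrivial {s : G // orderOf s = 2 ∧ s ∈ cN z} := by
      rw [← Finite.one_lt_card_iff_nontrivial]
      change 1 < nf z
      omega
    obtain ⟨a, b, hab⟩ := hnt.exists_pair_ne
    refine ⟨a.1, h.invol_mem a.2.1 a.2.2, b.1, h.invol_mem b.2.1 b.2.2,
      fun e => hab (Subtype.ext e), invol_ne_one a.2.1, invol_mul_self a.2.1,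
      invol_ne_one b.2.1, invol_mul_self b.2.1⟩
  · intro a ha b hb ha1 ha2 hb1 hb2
    exact h.two_point_regular hy (invol_of_mul_self ha1 ha2) ha (invol_of_mul_self hb1 hb2) hb

section facts

variable (h : DHyp z) (hres : IsPGroup 2 (cM z) ∧ ∃ u ∈ cM z, ∃ v ∈ cM z, u * v ≠ v * u)
include h hres

theorem resid_mem_T {s : G} (hs : s ∈ cM z) : s ∈ centerOf (cM z) ↔ s * s = 1 := by
  obtain ⟨y, hy⟩ := h.exists_second_point
  have hR := regHyp_of_dhyp h hres hy
  constructor
  · intro hsT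
    exact hR.center_sq hsT
  · intro hss
    by_cases hs1 : s = 1
    · rw [hs1]; exact Subgroup.one_mem _
    · exact ((hR.inv_iff hs).mp ⟨hs1, hss⟩).1

theorem resid_T_central {t : G} (ht : t ∈ centerOf (cM z)) {s : G} (hs : s ∈ cM z) :
    t * s = s * t := ((mem_centerOf.mp ht).2 s hs).symm

theorem resid_sq_mem {s : G} (hs : s ∈ cM z) : s * s ∈ centerOf (cM z) := by
  obtain ⟨y, hy⟩ := h.exists_second_point
  exact (regHyp_of_dhyp h hres hy).sq_mem hs

theorem resid_comm_mem {s s' : G} (hs : s ∈ cM z) (hs' : s' ∈ cM z) :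
    s * s' * s⁻¹ * s'⁻¹ ∈ centerOf (cM z) := by
  obtain ⟨y, hy⟩ := h.exists_second_point
  have := (regHyp_of_dhyp h hres hy).comm_mem (Subgroup.inv_mem _ hs) (Subgroup.inv_mem _ hs')
  rwa [inv_inv, inv_inv] at this

theorem resid_pow_four {s : G} (hs : s ∈ cM z) : s ^ 4 = 1 := by
  obtain ⟨y, hy⟩ := h.exists_second_point
  exact (regHyp_of_dhyp h hres hy).pow_four hs

theorem resid_card_T : Nat.card (centerOf (cM z)) = nf z + 1 := by
  obtain ⟨y, hy⟩ := h.exists_second_point
  rw [(regHyp_of_dhyp h hres hy).card_center, h.card_two_point hy]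

theorem resid_card_M : Nat.card (cM z) = (nf z + 1) ^ 3 := by
  obtain ⟨y, hy⟩ := h.exists_second_point
  have hR := regHyp_of_dhyp h hres hy
  rw [← resid_card_T h hres]
  apply hR.card_eq_cube
  · intro d hd hd1 s hs hds
    exact h.two_point_fpf hy hd hd1 hs hds
  · intro d hd y' hy' c hc hcy
    exact h.cent_normal hy' (h.two_point_le_base hd) hcy

theorem resid_card_pts : Nat.card (G ⧸ cN z) = (nf z + 1) ^ 3 + 1 := by
  rw [h.card_points, resid_card_M h hres]

theorem resid_q_eq : ∃ n : ℕ, 2 ≤ n ∧ nf z + 1 = 2 ^ n := by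
  have hT : IsPGroup 2 (centerOf (cM z)) := by
    have : IsPGroup 2 ((centerOf (cM z)).subgroupOf (cM z)) := hres.1.to_subgroup _
    intro x
    obtain ⟨k, hk⟩ := hres.1 ⟨(x : G), centerOf_le _ x.2⟩
    refine ⟨k, ?_⟩
    apply Subtype.ext
    have := congrArg Subtype.val hk
    simpa using this
  haveI : Fact (Nat.Prime 2) := ⟨Nat.prime_two⟩
  obtain ⟨n, hn⟩ := IsPGroup.iff_card.mp hT
  rw [resid_card_T h hres] at hn
  refine ⟨n, ?_, hn⟩
  have h3 := h.three_le_nf
  by_contra hlt
  have hn1 : n ≤ 1 := by omega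
  have : 2 ^ n ≤ 2 ^ 1 := Nat.pow_le_pow_right (by norm_num) hn1
  omega

end facts

end Cfsg.Agent.Lib.Helper6.TIC
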