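import Mathlib
import Cfsg.Prelude.Def_OddOrderLocal
import Cfsg.Prelude.Def_Solvable
import Cfsg.Agent.S4116
import Cfsg.Agent.Lib.Helper3.BS7
import Cfsg.Agent.Lib.Helper3.FrobConstr

/-!
# TI subgroups that are Hall subgroups of their normalizers (S4115)
-/

set_option autoImplicit false
open Cfsg

namespace Cfsg.Agent.Lib.Helper6.TIHall

open scoped Pointwise

section basic
variable {G : Type*} [Group G] (H : Subgroup G)

/-- Contrapositive of the TI condition. -/
theorem mem_normalizer_of_conj_mem (hTI : Cfsg.IsTISubset (H : Set G)) {g x : G}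
    (hx : x ∈ H) (hx1 : x ≠ 1) (hgx : g * x * g⁻¹ ∈ H) :
    g ∈ Subgroup.normalizer (H : Set G) := by
  by_contra hg
  exact hx1 (hTI g hg x hx hgx)

/-- An element commuting with a nontrivial element of `H` normalizes `H`. -/
theorem mem_normalizer_of_commute (hTI : Cfsg.IsTISubset (H : Set G)) {g x : G}
    (hx : x ∈ H) (hx1 : x ≠ 1) (hgx : g * x = x * g) :
    g ∈ Subgroup.normalizer (H : Set G) := by
  apply mem_normalizer_of_conj_mem H hTI hx hx1
  rw [hgx, mul_assoc, mul_inv_cancel, mul_one]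
  exact hx

variable [Finite G]

/-- A subgroup of `N_G(H)` of order coprime to `|N_G(H) : H|` lies in `H`. -/
theorem le_of_le_normalizer_of_coprime (E : Subgroup G)
    (hE : E ≤ Subgroup.normalizer (H : Set G))
    (hc : (Nat.card E).Coprime (H.subgroupOf (Subgroup.normalizer (H : Set G))).index) :
    E ≤ H := by
  haveI : (H.subgroupOf (Subgroup.normalizer (H : Set G))).Normal :=
    Subgroup.normal_in_normalizer
  intro e he
  set e' : Subgroup.normalizer (H : Set G) := ⟨e, hE he⟩ with he'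
  set π := QuotientGroup.mk' (H.subgroupOf (Subgroup.normalizer (H : Set G))) with hπ
  have h1 : orderOf (π e') ∣ Nat.card E := by
    have h2 : orderOf (π e') ∣ orderOf e' := orderOf_map_dvd _ _
    have h3 : orderOf e' = orderOf e := by
      rw [he']; exact Subgroup.orderOf_mk e (hE he)
    rw [h3] at h2
    exact h2.trans (E.orderOf_dvd_natCard he)
  have h2 : orderOf (π e') ∣ (H.subgroupOf (Subgroup.normalizer (H : Set G))).index := by
    rw [Subgroup.index_eq_card]
    exact orderOf_dvd_natCard _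
  have h3 : orderOf (π e') = 1 := Nat.eq_one_of_dvd_coprimes hc h1 h2
  rw [orderOf_eq_one_iff, hπ, QuotientGroup.mk'_apply, QuotientGroup.eq_one_iff,
    Subgroup.mem_subgroupOf] at h3
  exact h3

/-- A Sylow `p`-subgroup of `G` meeting `H` nontrivially lies in `H`. -/
theorem sylow_le (hTI : Cfsg.IsTISubset (H : Set G))
    (hHall : (Nat.card H).Coprime (H.subgroupOf (Subgroup.normalizer (H : Set G))).index)
    {p : ℕ} [Fact p.Prime] (hpH : p ∣ Nat.card H) (S : Sylow p G) {x : G} (hxH : x ∈ H)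
    (hx1 : x ≠ 1) (hxS : x ∈ S) : (S : Subgroup G) ≤ H := by
  have hp : p.Prime := Fact.out
  -- p-subgroups of the normalizer lie in H
  have hpidx : (p).Coprime (H.subgroupOf (Subgroup.normalizer (H : Set G))).index := by
    exact Nat.Coprime.coprime_dvd_left hpH hHall
  have key : ∀ E : Subgroup G, E ≤ (S : Subgroup G) → E ≤ Subgroup.normalizer (H : Set G) →
      E ≤ H := by
    intro E hES hEN
    apply le_of_le_normalizer_of_coprime H E hEN
    have hEp : IsPGroup p E := S.2.to_le hES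
    obtain ⟨k, hk⟩ := IsPGroup.iff_card.mp hEp
    rw [hk]
    exact Nat.Coprime.pow_left k hpidx
  -- the centre of S
  haveI : Nontrivial (S : Subgroup G) := ⟨⟨⟨x, hxS⟩, 1, fun h => hx1 (by
    have := congrArg Subtype.val h
    simpa using this)⟩⟩
  have hcen : Subgroup.center (S : Subgroup G) ≠ ⊥ := by
    have := IsPGroup.center_nontrivial (G := (S : Subgroup G)) S.2
    intro h
    rw [h] at this
    exact not_nontrivial _ this
  obtain ⟨⟨⟨z0, hz0S⟩, hzc⟩, hz1⟩ := (Subgroup.ne_bot_iff_exists_ne_one).mp hcen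
  have hz01 : z0 ≠ 1 := by
    intro h
    apply hz1
    ext
    simpa using h
  have hzcomm : ∀ s ∈ (S : Subgroup G), s * z0 = z0 * s := by
    intro s hs
    have := Subgroup.mem_center_iff.mp hzc ⟨s, hs⟩
    have := congrArg Subtype.val this
    simpa using this
  -- z0 normalizes H since it commutes with x
  have hz0N : z0 ∈ Subgroup.normalizer (H : Set G) :=
    mem_normalizer_of_commute H hTI hxH hx1 ((hzcomm x hxS).symm ▸ rfl)
  have hz0H : z0 ∈ H := by
    have h1 : Subgroup.zpowers z0 ≤ H := by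
      apply key
      · exact Subgroup.zpowers_le.mpr hz0S
      · exact Subgroup.zpowers_le.mpr hz0N
    exact h1 (Subgroup.mem_zpowers z0)
  apply key _ le_rfl
  intro s hs
  exact mem_normalizer_of_commute H hTI hz0H hz01 (hzcomm s hs)

/-- `H` is a Hall subgroup of `G`. -/
theorem hall (hTI : Cfsg.IsTISubset (H : Set G))
    (hHall : (Nat.card H).Coprime (H.subgroupOf (Subgroup.normalizer (H : Set G))).index) :
    (Nat.card H).Coprime H.index := by
  apply Nat.coprime_of_dvd
  intro p hp hpH hpi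
  haveI : Fact p.Prime := ⟨hp⟩
  obtain ⟨x, hx⟩ := exists_prime_orderOf_dvd_card' p hpH
  have hx1 : (x : G) ≠ 1 := by
    intro h
    have : x = 1 := by ext; simpa using h
    rw [this, orderOf_one] at hx
    exact hp.one_lt.ne hx
  have hxp : IsPGroup p (Subgroup.zpowers (x : G)) := by
    apply IsPGroup.of_card (n := 1)
    rw [Nat.card_zpowers, Subgroup.orderOf_coe, hx, pow_one]
  obtain ⟨S, hS⟩ := hxp.exists_le_sylow
  have hSH := sylow_le H hTI hHall hpH S x.2 hx1 (hS (Subgroup.mem_zpowers _))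
  have h1 : H.index ∣ (S : Subgroup G).index := Subgroup.index_dvd_of_le hSH
  exact S.not_dvd_index (hpi.trans h1)

/-- Fusion in `H` is controlled by `H` when `H` has a normal complement in `N_G(H)`. -/
theorem fusion (hTI : Cfsg.IsTISubset (H : Set G))
    (K : Subgroup (Subgroup.normalizer (H : Set G))) (hKn : K.Normal)
    (hK : K.IsComplement' (H.subgroupOf (Subgroup.normalizer (H : Set G))))
    {x y : G} (hx : x ∈ H) (hy : y ∈ H) (hxy : IsConj x y) : ∃ h ∈ H, h * x * h⁻¹ = y := by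
  obtain ⟨c, hc⟩ := isConj_iff.mp hxy
  by_cases hx1 : x = 1
  · subst hx1
    refine ⟨1, H.one_mem, ?_⟩
    rw [← hc]; simp
  have hcN : c ∈ Subgroup.normalizer (H : Set G) :=
    mem_normalizer_of_conj_mem H hTI hx hx1 (hc ▸ hy)
  have hHn : (H.subgroupOf (Subgroup.normalizer (H : Set G))).Normal :=
    Subgroup.normal_in_normalizer
  obtain ⟨⟨⟨k, hk⟩, ⟨h, hh⟩⟩, hkh⟩ := hK.2 ⟨c, hcN⟩
  simp only at hkh
  have hcomm := Subgroup.commute_of_normal_of_disjoint K
    (H.subgroupOf (Subgroup.normalizer (H : Set G))) hKn hHn hK.disjoint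
  refine ⟨(h : G), Subgroup.mem_subgroupOf.mp hh, ?_⟩
  set x' : Subgroup.normalizer (H : Set G) := ⟨x, Subgroup.le_normalizer hx⟩ with hx'
  have hx'H : h * x' * h⁻¹ ∈ H.subgroupOf (Subgroup.normalizer (H : Set G)) :=
    hHn.conj_mem x' (Subgroup.mem_subgroupOf.mpr hx) h
  have h1 : k * (h * x' * h⁻¹) = (h * x' * h⁻¹) * k := hcomm k _ hk hx'H
  have h2 : (⟨c, hcN⟩ : Subgroup.normalizer (H : Set G)) * x' * (⟨c, hcN⟩)⁻¹ = h * x' * h⁻¹ := by
    rw [← hkh]
    calc k * h * x' * (k * h)⁻¹ = (k * (h * x' * h⁻¹)) * k⁻¹ := by group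
      _ = h * x' * h⁻¹ := by rw [h1]; group
  have h3 := congrArg Subtype.val h2
  simp only [Subgroup.coe_mul, Subgroup.coe_inv, hx'] at h3
  rw [← h3, hc]

/-- If `H` has a normal complement in `N_G(H)` then `H` has a normal complement in `G`. -/
theorem exists_normal_complement (hTI : Cfsg.IsTISubset (H : Set G))
    (hHall : (Nat.card H).Coprime (H.subgroupOf (Subgroup.normalizer (H : Set G))).index)
    (K : Subgroup (Subgroup.normalizer (H : Set G))) (hKn : K.Normal)
    (hK : K.IsComplement' (H.subgroupOf (Subgroup.normalizer (H : Set G)))) :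
    ∃ M : Subgroup G, M.Normal ∧ M.IsComplement' H := by
  have hH := hall H hTI hHall
  obtain ⟨M, hMn, hsup, hinf⟩ := Cfsg.Agent.Lib.Helper3.BS.exists_normal_complement H hH
    (fun x hx y hy hxy => fusion H hTI K hKn hK hx hy hxy)
    (fun E p _ _ hdvd => by
      obtain ⟨g, hg⟩ := Cfsg.Agent.S4116.result H hH hTI E (fun q _ hqE => hqE.trans hdvd)
      refine ⟨g⁻¹, ?_⟩
      rintro _ ⟨e, he, rfl⟩
      obtain ⟨h, hh, rfl⟩ := hg he
      simp only [MulEquiv.coe_toMonoidHom, MulAut.conj_apply, inv_inv]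
      have : g⁻¹ * (g * h * g⁻¹) * g = h := by group
      rw [this]; exact hh)
  refine ⟨M, hMn, ?_⟩
  apply Subgroup.isComplement'_of_disjoint_and_mul_eq_univ (disjoint_iff.mpr hinf)
  rw [← Subgroup.normal_mul, hsup]; rfl

/-- A normal complement in `G` restricts to a normal complement in any overgroup of `H`. -/
theorem complement_restrict (M : Subgroup G) [M.Normal] (hM : M.IsComplement' H)
    (L : Subgroup G) (hHL : H ≤ L) :
    (M.subgroupOf L).Normal ∧ (M.subgroupOf L).IsComplement' (H.subgroupOf L) := by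
  refine ⟨inferInstance, ?_⟩
  apply Subgroup.isComplement'_of_disjoint_and_mul_eq_univ
  · rw [Subgroup.disjoint_def]
    rintro ⟨x, hxL⟩ hxM hxH
    have h1 : x ∈ M ⊓ H := ⟨Subgroup.mem_subgroupOf.mp hxM, Subgroup.mem_subgroupOf.mp hxH⟩
    rw [disjoint_iff.mp hM.disjoint, Subgroup.mem_bot] at h1
    ext; exact h1
  · rw [Set.eq_univ_iff_forall]
    rintro ⟨n, hn⟩
    obtain ⟨⟨⟨m, hm⟩, ⟨h, hh⟩⟩, hmh⟩ := hM.2 n
    simp only at hmh
    have hmL : m ∈ L := by
      have : m = n * h⁻¹ := by rw [← hmh]; group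
      rw [this]; exact L.mul_mem hn (L.inv_mem (hHL hh))
    refine ⟨⟨m, hmL⟩, Subgroup.mem_subgroupOf.mpr hm, ⟨h, hHL hh⟩, Subgroup.mem_subgroupOf.mpr hh, ?_⟩
    ext; exact hmh

/-- A subgroup of order coprime to the index of a normal subgroup lies in it. -/
theorem le_normal_of_coprime_index (E M : Subgroup G) [M.Normal]
    (hc : (Nat.card E).Coprime M.index) : E ≤ M := by
  intro e he
  have h1 : orderOf (QuotientGroup.mk' M e) ∣ Nat.card E :=
    (orderOf_map_dvd _ _).trans (E.orderOf_dvd_natCard he)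
  have h2 : orderOf (QuotientGroup.mk' M e) ∣ M.index := by
    rw [Subgroup.index_eq_card]
    exact orderOf_dvd_natCard _
  have h3 : orderOf (QuotientGroup.mk' M e) = 1 := Nat.eq_one_of_dvd_coprimes hc h1 h2
  rw [orderOf_eq_one_iff, QuotientGroup.mk'_apply, QuotientGroup.eq_one_iff] at h3
  exact h3

/-- For a prime `q` not dividing `|H|`, some Sylow `q`-subgroup of `G` is normalized by `H`. -/
theorem exists_invariant_sylow (hTI : Cfsg.IsTISubset (H : Set G))
    (hH : (Nat.card H).Coprime H.index) (M : Subgroup G) [M.Normal] (hM : M.IsComplement' H)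
    (q : ℕ) [Fact q.Prime] (hq : ¬ q ∣ Nat.card H) :
    ∃ Q : Sylow q G, H ≤ Subgroup.normalizer ((Q : Subgroup G) : Set G) := by
  have hqp : q.Prime := Fact.out
  obtain ⟨S⟩ : Nonempty (Sylow q G) := inferInstance
  have hMidx : M.index = Nat.card H := hM.symm.index_eq_card
  have hqH : (q).Coprime (Nat.card H) := (Nat.Prime.coprime_iff_not_dvd hqp).mpr hq
  have hSM : (S : Subgroup G) ≤ M := by
    apply le_normal_of_coprime_index
    obtain ⟨k, hk⟩ := IsPGroup.iff_card.mp S.2
    rw [hk, hMidx]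
    exact Nat.Coprime.pow_left k hqH
  set L : Subgroup G := Subgroup.normalizer ((S : Subgroup G) : Set G) with hL
  have hfrat : L ⊔ M = ⊤ := Sylow.normalizer_sup_eq_top' S hSM
  -- Schur–Zassenhaus in L
  have hcardM : Nat.card M = H.index := hM.index_eq_card.symm
  have hcop : (Nat.card (M.subgroupOf L)).Coprime (M.subgroupOf L).index := by
    have h1 : Nat.card (M.subgroupOf L) ∣ Nat.card M := by
      have : Nat.card (M.subgroupOf L) = Nat.card (M ⊓ L : Subgroup G) := by
        rw [← Subgroup.subgroupOf_map_subtype]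
        exact (Subgroup.card_map_of_injective L.subtype_injective).symm
      rw [this]
      exact Subgroup.card_dvd_of_le inf_le_left
    have h2 : (M.subgroupOf L).index ∣ Nat.card H := by
      rw [← hMidx]
      exact Subgroup.relIndex_dvd_index_of_normal M L
    rw [hcardM] at h1
    exact Nat.Coprime.coprime_dvd_left h1 (Nat.Coprime.coprime_dvd_right h2 hH.symm)
  obtain ⟨H₁', hH₁'⟩ := Subgroup.exists_right_complement'_of_coprime hcop
  set H₁ : Subgroup G := H₁'.map L.subtype with hH₁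
  have hH₁L : H₁ ≤ L := by
    rintro _ ⟨x, -, rfl⟩
    exact x.2
  have hcard : Nat.card H₁ = Nat.card H := by
    rw [hH₁, Subgroup.card_map_of_injective L.subtype_injective, ← hH₁'.symm.index_eq_card,
      ← hMidx]
    change M.relIndex L = M.index
    rw [← Subgroup.relIndex_sup_right L M, hfrat, Subgroup.relIndex_top_right]
  obtain ⟨g, hg⟩ := Cfsg.Agent.S4116.result H hH hTI H₁ (fun q _ hqE => hcard ▸ hqE)
  have heq : H₁ = H.map (MulAut.conj g).toMonoidHom := by
    apply Subgroup.eq_of_le_of_card_ge hg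
    rw [Subgroup.card_map_of_injective (MulAut.conj g).injective, hcard]
  have hconj : ∀ h ∈ H, g * h * g⁻¹ ∈ L := by
    intro h hh
    apply hH₁L
    rw [heq]
    exact ⟨h, hh, by simp⟩
  refine ⟨g⁻¹ • S, ?_⟩
  intro h hh
  rw [Subgroup.mem_normalizer_iff]
  intro x
  have h1 := (Subgroup.mem_normalizer_iff.mp (hconj h hh)) (g * x * g⁻¹)
  change x ∈ (g⁻¹ • S : Sylow q G) ↔ h * x * h⁻¹ ∈ (g⁻¹ • S : Sylow q G)
  rw [Cfsg.Agent.S0216.mem_smul_sylow, Cfsg.Agent.S0216.mem_smul_sylow, inv_inv]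
  have e : g * h * g⁻¹ * (g * x * g⁻¹) * (g * h * g⁻¹)⁻¹ = g * (h * x * h⁻¹) * g⁻¹ := by group
  rw [e] at h1
  exact h1

omit [Finite G] in
/-- The key fixed-point-freeness computation. -/
theorem key_fpf (hTI : Cfsg.IsTISubset (H : Set G)) {q : ℕ} (Q : Subgroup G) (hQ : IsPGroup q Q)
    (hqH : (q).Coprime (Nat.card H)) [Finite H] {h r c : G} (hh : h ∈ H) (hh1 : h ≠ 1)
    (hcQ : c ∈ Q) (hch : h * c = c * h) (hc : h * r * h⁻¹ = r * c) :
    r ∈ Subgroup.normalizer (H : Set G) := by
  have hck : ∀ k : ℕ, h * c ^ k = c ^ k * h := by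
    intro k
    induction k with
    | zero => simp
    | succ k ih => rw [pow_succ, ← mul_assoc, ih, mul_assoc, hch, mul_assoc]
  have hk : ∀ k : ℕ, h ^ k * r * (h ^ k)⁻¹ = r * c ^ k := by
    intro k
    induction k with
    | zero => simp
    | succ k ih =>
      have e : h ^ (k + 1) * r * (h ^ (k + 1))⁻¹ = h * (h ^ k * r * (h ^ k)⁻¹) * h⁻¹ := by
        rw [pow_succ']; group
      rw [e, ih]
      calc h * (r * c ^ k) * h⁻¹ = (h * r * h⁻¹) * (h * c ^ k) * h⁻¹ := by group
        _ = r * c * (c ^ k * h) * h⁻¹ := by rw [hc, hck]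
        _ = r * c ^ (k + 1) := by rw [pow_succ']; group
  have h1 := hk (orderOf h)
  rw [pow_orderOf_eq_one] at h1
  have h2 : c ^ orderOf h = 1 := by
    have : r = r * c ^ orderOf h := by simpa using h1
    exact (mul_eq_left.mp this.symm)
  have h3 : orderOf c ∣ Nat.card H :=
    (orderOf_dvd_of_pow_eq_one h2).trans (H.orderOf_dvd_natCard hh)
  obtain ⟨j, hj⟩ := hQ ⟨c, hcQ⟩
  have h4 : orderOf c ∣ q ^ j := by
    apply orderOf_dvd_of_pow_eq_one
    have := congrArg Subtype.val hj
    simpa using this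
  have h5 : orderOf c = 1 :=
    Nat.eq_one_of_dvd_coprimes (Nat.Coprime.pow_left j hqH) h4 h3
  rw [orderOf_eq_one_iff] at h5
  rw [h5, mul_one] at hc
  apply mem_normalizer_of_commute H hTI hh hh1
  calc r * h = (h * r * h⁻¹) * h := by rw [hc]
    _ = h * r := by group

end basic

section quot
variable {A R : Type*} [Group A] [Group R]

/-- Descend an action by automorphisms to the quotient by an invariant normal subgroup. -/
noncomputable def quotAction (φ₀ : A →* MulAut R) (Z : Subgroup R) [Z.Normal]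
    (hZ : ∀ a : A, Z.map ((φ₀ a : R ≃* R) : R →* R) = Z) : A →* MulAut (R ⧸ Z) where
  toFun a := QuotientGroup.congr Z Z (φ₀ a) (hZ a)
  map_one' := by
    ext x
    induction x using QuotientGroup.induction_on with
    | H r => rw [QuotientGroup.congr_mk]; simp
  map_mul' a b := by
    ext x
    induction x using QuotientGroup.induction_on with
    | H r =>
      rw [MulAut.mul_apply, QuotientGroup.congr_mk, QuotientGroup.congr_mk,
        QuotientGroup.congr_mk]
      simp

theorem quotAction_mk (φ₀ : A →* MulAut R) (Z : Subgroup R) [Z.Normal]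
    (hZ : ∀ a : A, Z.map ((φ₀ a : R ≃* R) : R →* R) = Z) (a : A) (r : R) :
    quotAction φ₀ Z hZ a (r : R ⧸ Z) = ((φ₀ a r : R) : R ⧸ Z) := by
  change QuotientGroup.congr Z Z (φ₀ a) (hZ a) (r : R ⧸ Z) = _
  rw [QuotientGroup.congr_mk]

end quot

section constr
universe u
variable {G : Type u} [Group G] [Finite G] (H : Subgroup G)

theorem exists_frobenius (hTI : Cfsg.IsTISubset (H : Set G)) {q : ℕ} [Fact q.Prime]
    (Q : Subgroup G) (hQ : IsPGroup q Q) (hqH : (q).Coprime (Nat.card H)) (hH1 : H ≠ ⊥)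
    (hHQ : H ≤ Subgroup.normalizer (Q : Set G))
    (hQN : ¬ Q ≤ Subgroup.normalizer (H : Set G)) :
    ∃ (F : Type u) (_ : Group F) (_ : Finite F) (C : Subgroup F),
      Cfsg.IsFrobeniusComplement C ∧ Nonempty (H ≃* C) := by
  classical
  set N : Subgroup G := Subgroup.normalizer (H : Set G) with hN
  set Q₀ : Subgroup G := Q ⊓ N with hQ₀
  -- Q ∩ H = 1
  have hQH : ∀ x ∈ Q, x ∈ H → x = 1 := by
    intro x hxQ hxH
    obtain ⟨j, hj⟩ := hQ ⟨x, hxQ⟩
    have h4 : orderOf x ∣ q ^ j := by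
      apply orderOf_dvd_of_pow_eq_one
      have := congrArg Subtype.val hj
      simpa using this
    have h3 : orderOf x ∣ Nat.card H := H.orderOf_dvd_natCard hxH
    have h5 : orderOf x = 1 :=
      Nat.eq_one_of_dvd_coprimes (Nat.Coprime.pow_left j hqH) h4 h3
    exact orderOf_eq_one_iff.mp h5
  -- (i) H centralizes Q₀
  have hcent : ∀ y ∈ Q₀, ∀ h ∈ H, h * y = y * h := by
    intro y hy h hh
    have h1 : h * y * h⁻¹ * y⁻¹ ∈ Q := by
      have := (Subgroup.mem_normalizer_iff.mp (hHQ hh) y).mp hy.1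
      exact Q.mul_mem this (Q.inv_mem hy.1)
    have h2 : h * y * h⁻¹ * y⁻¹ ∈ H := by
      have h3 : y * h⁻¹ * y⁻¹ ∈ H :=
        (Subgroup.mem_normalizer_iff.mp hy.2 h⁻¹).mp (H.inv_mem hh)
      have e : h * y * h⁻¹ * y⁻¹ = h * (y * h⁻¹ * y⁻¹) := by group
      rw [e]; exact H.mul_mem hh h3
    have h3 := hQH _ h1 h2
    calc h * y = (h * y * h⁻¹ * y⁻¹) * y * h := by group
      _ = y * h := by rw [h3, one_mul]
  have hHnQ₀ : H ≤ Subgroup.normalizer (Q₀ : Set G) := by
    intro h hh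
    rw [Subgroup.mem_normalizer_iff]
    intro y
    constructor
    · intro hy
      rw [hcent y hy h hh, mul_assoc, mul_inv_cancel, mul_one]; exact hy
    · intro hy
      have h1 := hcent _ hy h⁻¹ (H.inv_mem hh)
      have e : y = h⁻¹ * (h * y * h⁻¹) * h := by group
      rw [e, h1, mul_assoc, inv_mul_cancel, mul_one]; exact hy
  set R : Subgroup G := Q ⊓ Subgroup.normalizer (Q₀ : Set G) with hR
  have hQ₀R : Q₀ ≤ R := fun y hy => ⟨hy.1, Subgroup.le_normalizer hy⟩
  -- (iii) Q₀ is properly contained in R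
  obtain ⟨r, hrR, hrQ₀⟩ : ∃ r ∈ R, r ∉ Q₀ := by
    haveI : Group.IsNilpotent Q := hQ.isNilpotent
    have hlt : Q₀.subgroupOf Q < ⊤ := by
      rw [lt_top_iff_ne_top]
      intro h
      apply hQN
      intro x hx
      have : (⟨x, hx⟩ : Q) ∈ Q₀.subgroupOf Q := by rw [h]; trivial
      exact (Subgroup.mem_subgroupOf.mp this).2
    have h1 := Group.normalizerCondition_of_isNilpotent (G := Q) (Q₀.subgroupOf Q) hlt
    obtain ⟨⟨r, hrQ⟩, hr1, hr2⟩ := SetLike.exists_of_lt h1
    refine ⟨r, ⟨hrQ, ?_⟩, fun h => hr2 (Subgroup.mem_subgroupOf.mpr h)⟩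
    rw [Subgroup.mem_normalizer_iff] at hr1
    change r ∈ Subgroup.normalizer (Q₀ : Set G)
    rw [Subgroup.mem_normalizer_iff]
    intro y
    constructor
    · intro hy
      have := (hr1 ⟨y, hy.1⟩).mp (Subgroup.mem_subgroupOf.mpr hy)
      exact Subgroup.mem_subgroupOf.mp this
    · intro hy
      have hyQ : y ∈ Q := by
        have e : y = r⁻¹ * (r * y * r⁻¹) * r := by group
        rw [e]
        exact Q.mul_mem (Q.mul_mem (Q.inv_mem hrQ) hy.1) hrQ
      have := (hr1 ⟨y, hyQ⟩).mpr (Subgroup.mem_subgroupOf.mpr hy)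
      exact Subgroup.mem_subgroupOf.mp this
  -- (iv) H normalizes R
  have hHR : H ≤ Subgroup.normalizer (R : Set G) := by
    intro h hh
    rw [Subgroup.mem_normalizer_iff]
    intro x
    have h1 := Subgroup.mem_normalizer_iff.mp (hHQ hh) x
    have h2 : x ∈ Subgroup.normalizer (Q₀ : Set G) ↔
        h * x * h⁻¹ ∈ Subgroup.normalizer (Q₀ : Set G) := by
      have hhn := hHnQ₀ hh
      constructor
      · intro hx
        exact Subgroup.mul_mem _ (Subgroup.mul_mem _ hhn hx) (Subgroup.inv_mem _ hhn)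
      · intro hx
        have e : x = h⁻¹ * (h * x * h⁻¹) * h := by group
        rw [e]
        exact Subgroup.mul_mem _ (Subgroup.mul_mem _ (Subgroup.inv_mem _ hhn) hx) hhn
    constructor
    · rintro ⟨hx1, hx2⟩
      exact ⟨h1.mp hx1, h2.mp hx2⟩
    · rintro ⟨hx1, hx2⟩
      exact ⟨h1.mpr hx1, h2.mpr hx2⟩
  -- the action
  set φ₀ : H →* MulAut R := (R.normalizerMonoidHom).comp (Subgroup.inclusion hHR) with hφ₀
  have hφ₀_apply : ∀ (h : H) (x : R), ((φ₀ h x : R) : G) = (h : G) * x * (h : G)⁻¹ := by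
    intro h x
    rfl
  set Z : Subgroup R := Q₀.subgroupOf R with hZ
  haveI hZn : Z.Normal := by
    rw [hZ, Subgroup.normal_subgroupOf_iff_le_normalizer hQ₀R]
    exact inf_le_right
  have hZinv : ∀ a : H, Z.map ((φ₀ a : R ≃* R) : R →* R) = Z := by
    intro a
    ext x
    constructor
    · rintro ⟨y, hy, rfl⟩
      have hy' : (y : G) ∈ Q₀ := Subgroup.mem_subgroupOf.mp hy
      apply Subgroup.mem_subgroupOf.mpr
      change ((φ₀ a y : R) : G) ∈ Q₀
      rw [hφ₀_apply, hcent _ hy' a a.2, mul_assoc, mul_inv_cancel, mul_one]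
      exact hy'
    · intro hx
      refine ⟨x, hx, ?_⟩
      have hx' : (x : G) ∈ Q₀ := Subgroup.mem_subgroupOf.mp hx
      apply Subtype.ext
      change ((φ₀ a x : R) : G) = x
      rw [hφ₀_apply, hcent _ hx' a a.2, mul_assoc, mul_inv_cancel, mul_one]
  set φ := quotAction φ₀ Z hZinv with hφ
  -- nontriviality
  haveI : Nontrivial (R ⧸ Z) := by
    refine ⟨⟨((⟨r, hrR⟩ : R) : R ⧸ Z), 1, ?_⟩⟩
    intro h
    rw [QuotientGroup.eq_one_iff, hZ, Subgroup.mem_subgroupOf] at h
    exact hrQ₀ h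
  haveI : Nontrivial H := by
    rw [← Subgroup.nontrivial_iff_ne_bot] at hH1
    exact hH1
  -- freeness
  have hfree : ∀ h : H, h ≠ 1 → ∀ v : R ⧸ Z, φ h v = v → v = 1 := by
    intro h hh1 v
    induction v using QuotientGroup.induction_on with
    | H x =>
      intro hv
      rw [hφ, quotAction_mk, QuotientGroup.eq, hZ, Subgroup.mem_subgroupOf] at hv
      have hv' : ((h : G) * x * (h : G)⁻¹)⁻¹ * (x : G) ∈ Q₀ := by
        have : (((φ₀ h x)⁻¹ * x : R) : G) = ((h : G) * x * (h : G)⁻¹)⁻¹ * (x : G) := by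
          rw [Subgroup.coe_mul, Subgroup.coe_inv, hφ₀_apply]
        rw [← this]; exact hv
      set c : G := (x : G)⁻¹ * ((h : G) * x * (h : G)⁻¹) with hc
      have hcQ₀ : c ∈ Q₀ := by
        have e : c = (((h : G) * x * (h : G)⁻¹)⁻¹ * (x : G))⁻¹ := by rw [hc]; group
        rw [e]; exact Q₀.inv_mem hv'
      have hxN : (x : G) ∈ N := by
        apply key_fpf H hTI Q hQ hqH h.2 (fun e => hh1 (Subtype.ext e)) hcQ₀.1
          (hcent c hcQ₀ h h.2) (r := (x : G))
        rw [hc]; group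
      rw [QuotientGroup.eq_one_iff, hZ, Subgroup.mem_subgroupOf]
      exact ⟨x.2.1, hxN⟩
  haveI : Finite ((R ⧸ Z) ⋊[φ] H) := Finite.of_equiv _ (SemidirectProduct.equivProd (φ := φ)).symm
  refine ⟨(R ⧸ Z) ⋊[φ] H, inferInstance, inferInstance,
    (SemidirectProduct.inr : H →* (R ⧸ Z) ⋊[φ] H).range,
    Cfsg.Agent.Lib.Helper3.isFrobeniusComplement_inr_range φ hfree, ?_⟩
  exact ⟨MonoidHom.ofInjective (SemidirectProduct.inr_injective (φ := φ))⟩

theorem frobenius_complement (hTI : Cfsg.IsTISubset (H : Set G))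
    (hHall : (Nat.card H).Coprime (H.subgroupOf (Subgroup.normalizer (H : Set G))).index)
    (hnn : ¬ H.Normal) (M : Subgroup G) [M.Normal] (hM : M.IsComplement' H) :
    ∃ (F : Type u) (_ : Group F) (_ : Finite F) (C : Subgroup F),
      Cfsg.IsFrobeniusComplement C ∧ Nonempty (H ≃* C) := by
  have hH := hall H hTI hHall
  have hNtop : Subgroup.normalizer (H : Set G) ≠ ⊤ := fun h =>
    hnn (Subgroup.normalizer_eq_top_iff.mp h)
  have hidx : (Subgroup.normalizer (H : Set G)).index ≠ 1 := fun h =>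
    hNtop (Subgroup.index_eq_one.mp h)
  obtain ⟨q, hq, hqd⟩ := Nat.exists_prime_and_dvd hidx
  haveI : Fact q.Prime := ⟨hq⟩
  have hqH : ¬ q ∣ Nat.card H := by
    intro h
    have h1 : q ∣ H.index := hqd.trans (Subgroup.index_dvd_of_le Subgroup.le_normalizer)
    have := Nat.dvd_gcd h h1
    rw [hH] at this
    exact hq.one_lt.ne' (Nat.dvd_one.mp this)
  obtain ⟨Q, hQ⟩ := exists_invariant_sylow H hTI hH M hM q hqH
  have hQN : ¬ (Q : Subgroup G) ≤ Subgroup.normalizer (H : Set G) := by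
    intro h
    exact Q.not_dvd_index (hqd.trans (Subgroup.index_dvd_of_le h))
  have hH1 : H ≠ ⊥ := by
    intro h
    apply hnn
    rw [h]
    infer_instance
  exact exists_frobenius H hTI (Q : Subgroup G) Q.2
    ((Nat.Prime.coprime_iff_not_dvd hq).mpr hqH) hH1 hQ hQN

end constr

end Cfsg.Agent.Lib.Helper6.TIHall
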