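import Mathlib
import Cfsg.Prelude.Def_OddOrderLocal
import Cfsg.Prelude.Def_Solvable
import Cfsg.Agent.S4116
import Cfsg.Agent.Lib.Helper6.TIHall
import Cfsg.Agent.Lib.Helper1.PLengthOne

/-!
# TI Hall subgroups in separable groups, part 1 (S4118, S4151)

`G = O N_G(H)` and `O H` is normal, where `O` is the largest normal subgroup of order coprime
to `|H|`.
-/

set_option autoImplicit false
set_option maxHeartbeats 400000
set_option linter.style.haveILetI false
set_option linter.unusedSectionVars false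
open Cfsg

namespace Cfsg.Agent.Lib.Helper6.TIHb

open scoped Pointwise

universe u

variable {G : Type u} [Group G] [Finite G] (H : Subgroup G)

/-- The largest normal subgroup of order coprime to `|H|`. -/
theorem core_props (O : Subgroup G)
    (hO : O = sSup {K : Subgroup G | K.Normal ∧ (Nat.card K).Coprime (Nat.card H)}) :
    O.Normal ∧ (Nat.card O).Coprime (Nat.card H) ∧
      ∀ K : Subgroup G, K.Normal → (Nat.card K).Coprime (Nat.card H) → K ≤ O := by
  classical
  obtain ⟨S, hS⟩ : ∃ S : Set (Subgroup G),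
      S = {K : Subgroup G | K.Normal ∧ (Nat.card K).Coprime (Nat.card H)} := ⟨_, rfl⟩
  have hfin : S.Finite := Set.toFinite S
  have hmem : sSup S ∈ S := by
    have h1 : (hfin.toFinset).sup id ∈ S := by
      apply Finset.sup_mem S
      · rw [hS]
        exact ⟨inferInstance, by rw [Subgroup.card_bot]; exact Nat.coprime_one_left _⟩
      · intro x hx y hy
        rw [hS] at hx hy ⊢
        obtain ⟨hxn, hxc⟩ := hx
        obtain ⟨hyn, hyc⟩ := hy
        haveI := hxn
        haveI := hyn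
        refine ⟨inferInstance, ?_⟩
        exact Nat.Coprime.coprime_dvd_left
          (Cfsg.Agent.Lib.Helper1.card_sup_dvd_of_normal x y) (Nat.Coprime.mul_left hxc hyc)
      · intro i hi
        exact (Set.Finite.mem_toFinset hfin).mp hi
    rwa [Finset.sup_id_eq_sSup, Set.Finite.coe_toFinset] at h1
  subst hS
  rw [hO]
  exact ⟨hmem.1, hmem.2, fun K hKn hKc => le_sSup ⟨hKn, hKc⟩⟩

/-- One step of the separable series leaves `O` through a factor whose primes divide `|H|`. -/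
theorem exists_step (hH1 : H ≠ ⊥) (O : Subgroup G) [hOn : O.Normal]
    (hOc : (Nat.card O).Coprime (Nat.card H))
    (hOmax : ∀ K : Subgroup G, K.Normal → (Nat.card K).Coprime (Nat.card H) → K ≤ O)
    (hsep : ∃ (n : ℕ) (M : Fin (n + 1) → Subgroup G), M 0 = ⊥ ∧ M (Fin.last n) = ⊤ ∧
      Monotone M ∧ (∀ i, (M i).Normal) ∧
      ∀ i : Fin n, (∀ q : ℕ, q.Prime → q ∣ (M i.castSucc).relIndex (M i.succ) →
          q ∣ Nat.card H) ∨
        ((M i.castSucc).relIndex (M i.succ)).Coprime (Nat.card H)) :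
    ∃ M' : Subgroup G, M'.Normal ∧ O < M' ∧
      ∀ q : ℕ, q.Prime → q ∣ O.relIndex M' → q ∣ Nat.card H := by
  obtain ⟨n, M, h0, hlast, hmono, hnorm, hfac⟩ := hsep
  have hnot : ¬ ∀ i : Fin (n + 1), M i ≤ O := by
    intro hall
    have h1 := hall (Fin.last n)
    rw [hlast] at h1
    have hle : H ≤ O := le_trans le_top h1
    have hdvd : Nat.card H ∣ Nat.card O := Subgroup.card_dvd_of_le hle
    have h2 : Nat.card H = 1 := Nat.Coprime.eq_one_of_dvd hOc.symm hdvd
    exact hH1 (Subgroup.card_eq_one.mp h2)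
  have hex : ∃ i : Fin n, M i.castSucc ≤ O ∧ ¬ M i.succ ≤ O := by
    by_contra hne
    apply hnot
    intro i
    induction i using Fin.induction with
    | zero => rw [h0]; exact bot_le
    | succ i ih =>
      by_contra hc
      exact hne ⟨i, ih, hc⟩
  obtain ⟨i, hi1, hi2⟩ := hex
  haveI := hnorm i.succ
  refine ⟨O ⊔ M i.succ, inferInstance, left_lt_sup.mpr hi2, ?_⟩
  have hrel : O.relIndex (O ⊔ M i.succ) = O.relIndex (M i.succ) :=
    Subgroup.relIndex_sup_left (M i.succ) O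
  have hdvd : O.relIndex (M i.succ) ∣ (M i.castSucc).relIndex (M i.succ) :=
    Subgroup.relIndex_dvd_of_le_left _ hi1
  rcases hfac i with hπ | hcop
  · intro q hq hqd
    rw [hrel] at hqd
    exact hπ q hq (dvd_trans hqd hdvd)
  · exfalso
    apply hi2
    have hc1 : (O.relIndex (M i.succ)).Coprime (Nat.card H) :=
      Nat.Coprime.coprime_dvd_left hdvd hcop
    have hcard : Nat.card (O ⊔ M i.succ : Subgroup G)
        = Nat.card O * O.relIndex (O ⊔ M i.succ) := by
      have := Subgroup.relIndex_mul_relIndex (H := ⊥) (K := O) (L := O ⊔ M i.succ)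
        bot_le le_sup_left
      rw [Subgroup.relIndex_bot_left, Subgroup.relIndex_bot_left] at this
      exact this.symm
    have hc2 : (Nat.card (O ⊔ M i.succ : Subgroup G)).Coprime (Nat.card H) := by
      rw [hcard, hrel]
      exact Nat.Coprime.mul_left hOc hc1
    exact le_trans le_sup_right (hOmax _ inferInstance hc2)

/-- A normal subgroup above `O` with `π(H)`-quotient lies in `O H`. -/
theorem le_sup_of_pi (hTI : Cfsg.IsTISubset (H : Set G)) (hHG : (Nat.card H).Coprime H.index)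
    (O M' : Subgroup G) [hOn : O.Normal] [hMn : M'.Normal] (hOM : O ≤ M')
    (hOc : (Nat.card O).Coprime (Nat.card H))
    (hπ : ∀ q : ℕ, q.Prime → q ∣ O.relIndex M' → q ∣ Nat.card H) : M' ≤ O ⊔ H := by
  have hNc : (Nat.card (O.subgroupOf M')).Coprime (O.subgroupOf M').index := by
    have h1 : Nat.card (O.subgroupOf M') = Nat.card O :=
      Nat.card_congr (Subgroup.subgroupOfEquivOfLe hOM).toEquiv
    rw [h1]
    by_contra hc
    obtain ⟨q, hq, hq1, hq2⟩ := Nat.Prime.not_coprime_iff_dvd.mp hc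
    have hq3 : q ∣ Nat.card H := hπ q hq hq2
    exact (Nat.Prime.not_coprime_iff_dvd.mpr ⟨q, hq, hq1, hq3⟩) hOc
  obtain ⟨L', hL'⟩ := Subgroup.exists_right_complement'_of_coprime hNc
  obtain ⟨L, hLdef⟩ : ∃ L : Subgroup G, L = L'.map M'.subtype := ⟨_, rfl⟩
  have hLcard : Nat.card L = O.relIndex M' := by
    rw [hLdef, Subgroup.card_map_of_injective M'.subtype_injective]
    exact (hL'.symm.index_eq_card).symm
  have hLπ : ∀ q : ℕ, q.Prime → q ∣ Nat.card L → q ∣ Nat.card H := by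
    intro q hq hd
    rw [hLcard] at hd
    exact hπ q hq hd
  have hsup : O ⊔ L = M' := by
    have h1 := hL'.sup_eq_top
    have h2 := congrArg (Subgroup.map M'.subtype) h1
    rw [Subgroup.map_sup, Subgroup.subgroupOf_map_subtype, inf_of_le_left hOM, ← hLdef,
      ← MonoidHom.range_eq_map, Subgroup.range_subtype] at h2
    exact h2
  obtain ⟨g, hg⟩ := Cfsg.Agent.S4116.result H hHG hTI L hLπ
  intro x hx
  have hy : g * x * g⁻¹ ∈ M' := hMn.conj_mem x hx g
  rw [← hsup] at hy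
  have hy' : g * x * g⁻¹ ∈ ((O ⊔ L : Subgroup G) : Set G) := hy
  rw [Subgroup.normal_mul] at hy'
  obtain ⟨o, ho, l, hl, hol⟩ := Set.mem_mul.mp hy'
  obtain ⟨h, hh, hhl⟩ := Subgroup.mem_map.mp (hg hl)
  have hl' : l = g * h * g⁻¹ := by rw [← hhl]; rfl
  have hx' : x = (g⁻¹ * o * g) * h := by
    have h1 : g * x * g⁻¹ = o * (g * h * g⁻¹) := by rw [← hl']; exact hol.symm
    calc x = g⁻¹ * (g * x * g⁻¹) * g := by group
      _ = g⁻¹ * (o * (g * h * g⁻¹)) * g := by rw [h1]
      _ = (g⁻¹ * o * g) * h := by group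
  rw [hx']
  apply Subgroup.mul_mem
  · apply Subgroup.mem_sup_left
    have h1 := hOn.conj_mem o ho g⁻¹
    simpa using h1
  · exact Subgroup.mem_sup_right hh

/-- Frattini argument: `G = N_G(H) M'`. -/
theorem normalizer_sup_eq_top (hTI : Cfsg.IsTISubset (H : Set G))
    (hHG : (Nat.card H).Coprime H.index)
    (O M' : Subgroup G) [hOn : O.Normal] [hMn : M'.Normal] (hOM : O < M')
    (hπ : ∀ q : ℕ, q.Prime → q ∣ O.relIndex M' → q ∣ Nat.card H) :
    Subgroup.normalizer (H : Set G) ⊔ M' = ⊤ := by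
  classical
  have hne : O.relIndex M' ≠ 1 := by
    intro h1
    exact (not_le_of_gt hOM) (Subgroup.relIndex_eq_one.mp h1)
  obtain ⟨p, hp, hpd⟩ := Nat.exists_prime_and_dvd hne
  haveI : Fact p.Prime := ⟨hp⟩
  have hpH : p ∣ Nat.card H := hπ p hp hpd
  have hpM : p ∣ Nat.card M' := dvd_trans hpd (Subgroup.relIndex_dvd_card O M')
  obtain ⟨R⟩ : Nonempty (Sylow p M') := inferInstance
  have hfr := Sylow.normalizer_sup_eq_top R
  obtain ⟨K, hKdef⟩ : ∃ K : Subgroup G, K = (R : Subgroup M').map M'.subtype := ⟨_, rfl⟩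
  rw [← hKdef] at hfr
  have hKp : IsPGroup p K := by
    rw [hKdef]
    exact R.isPGroup'.map _
  have hKne : K ≠ ⊥ := by
    rw [hKdef]
    intro hb
    have := (Subgroup.map_eq_bot_iff_of_injective _ M'.subtype_injective).mp hb
    exact R.ne_bot_of_dvd_card hpM this
  have hKπ : ∀ q : ℕ, q.Prime → q ∣ Nat.card K → q ∣ Nat.card H := by
    intro q hq hqd
    obtain ⟨k, hk⟩ := hKp.exists_card_eq
    rw [hk] at hqd
    have := (Nat.prime_dvd_prime_iff_eq hq hp).mp (hq.dvd_of_dvd_pow hqd)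
    rw [this]
    exact hpH
  obtain ⟨g, hg⟩ := Cfsg.Agent.S4116.result H hHG hTI K hKπ
  obtain ⟨y, hyK, hy1⟩ := K.bot_or_exists_ne_one.resolve_left hKne
  obtain ⟨h, hh, hhy⟩ := Subgroup.mem_map.mp (hg hyK)
  have hy' : y = g * h * g⁻¹ := by rw [← hhy]; rfl
  have hh1 : h ≠ 1 := by
    rintro rfl
    apply hy1
    rw [hy']
    group
  have key : ∀ x ∈ Subgroup.normalizer (K : Set G),
      g⁻¹ * x * g ∈ Subgroup.normalizer (H : Set G) := by
    intro x hx
    have hxy : x * y * x⁻¹ ∈ K := (Subgroup.mem_normalizer_iff.mp hx y).mp hyK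
    obtain ⟨h', hh', hh'y⟩ := Subgroup.mem_map.mp (hg hxy)
    have e1 : x * y * x⁻¹ = g * h' * g⁻¹ := by rw [← hh'y]; rfl
    apply Cfsg.Agent.Lib.Helper6.TIHall.mem_normalizer_of_conj_mem H hTI hh hh1
    have e2 : g⁻¹ * x * g * h * (g⁻¹ * x * g)⁻¹ = h' := by
      have e3 : g⁻¹ * x * g * h * (g⁻¹ * x * g)⁻¹ = g⁻¹ * (x * (g * h * g⁻¹) * x⁻¹) * g := by
        group
      rw [e3, ← hy', e1]
      group
    rw [e2]
    exact hh'
  rw [eq_top_iff]
  intro z _
  have hz : g * z * g⁻¹ ∈ Subgroup.normalizer (K : Set G) ⊔ M' := by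
    rw [hfr]
    trivial
  have hz' : g * z * g⁻¹ ∈ ((Subgroup.normalizer (K : Set G) ⊔ M' : Subgroup G) : Set G) := hz
  rw [Subgroup.mul_normal] at hz'
  obtain ⟨x, hx, m, hm, hxm⟩ := Set.mem_mul.mp hz'
  have hzz : z = (g⁻¹ * x * g) * (g⁻¹ * m * g) := by
    calc z = g⁻¹ * (g * z * g⁻¹) * g := by group
      _ = g⁻¹ * (x * m) * g := by rw [hxm]
      _ = (g⁻¹ * x * g) * (g⁻¹ * m * g) := by group
  rw [hzz]
  apply Subgroup.mul_mem
  · exact Subgroup.mem_sup_left (key x hx)
  · apply Subgroup.mem_sup_right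
    have h1 := hMn.conj_mem m hm g⁻¹
    simpa using h1

/-- The first two claims of S4118, with the basic properties of `O`. -/
theorem claims (hTI : Cfsg.IsTISubset (H : Set G)) (hnn : ¬ H.Normal)
    (hHall : (Nat.card H).Coprime (H.subgroupOf (Subgroup.normalizer (H : Set G))).index)
    (hsep : ∃ (n : ℕ) (M : Fin (n + 1) → Subgroup G), M 0 = ⊥ ∧ M (Fin.last n) = ⊤ ∧
      Monotone M ∧ (∀ i, (M i).Normal) ∧
      ∀ i : Fin n, (∀ q : ℕ, q.Prime → q ∣ (M i.castSucc).relIndex (M i.succ) →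
          q ∣ Nat.card H) ∨
        ((M i.castSucc).relIndex (M i.succ)).Coprime (Nat.card H))
    (O : Subgroup G)
    (hO : O = sSup {K : Subgroup G | K.Normal ∧ (Nat.card K).Coprime (Nat.card H)}) :
    O.Normal ∧ (Nat.card O).Coprime (Nat.card H) ∧
      (∀ K : Subgroup G, K.Normal → (Nat.card K).Coprime (Nat.card H) → K ≤ O) ∧
      O ⊔ Subgroup.normalizer (H : Set G) = ⊤ ∧ (O ⊔ H).Normal := by
  obtain ⟨hOn, hOc, hOmax⟩ := core_props H O hO
  haveI := hOn
  have hHG := Cfsg.Agent.Lib.Helper6.TIHall.hall H hTI hHall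
  have hH1 : H ≠ ⊥ := by
    rintro rfl
    exact hnn inferInstance
  obtain ⟨M', hMn, hOM, hπ⟩ := exists_step H hH1 O hOc hOmax hsep
  haveI := hMn
  have h1 := le_sup_of_pi H hTI hHG O M' hOM.le hOc hπ
  have h2 := normalizer_sup_eq_top H hTI hHG O M' hOM hπ
  have h3 : O ⊔ Subgroup.normalizer (H : Set G) = ⊤ := by
    rw [eq_top_iff, ← h2]
    apply sup_le le_sup_right
    exact le_trans h1 (sup_le_sup_left Subgroup.le_normalizer O)
  refine ⟨hOn, hOc, hOmax, h3, ?_⟩
  rw [← Subgroup.normalizer_eq_top_iff, eq_top_iff, ← h3]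
  apply sup_le
  · exact le_trans le_sup_left Subgroup.le_normalizer
  · rw [Subgroup.le_normalizer_iff]
    intro n hn k hk
    have hk' : k ∈ ((O ⊔ H : Subgroup G) : Set G) := hk
    rw [Subgroup.normal_mul] at hk'
    obtain ⟨o, ho, h, hh, rfl⟩ := Set.mem_mul.mp hk'
    have e : n * (o * h) * n⁻¹ = (n * o * n⁻¹) * (n * h * n⁻¹) := by group
    rw [e]
    apply Subgroup.mul_mem
    · exact Subgroup.mem_sup_left (hOn.conj_mem o ho n)
    · exact Subgroup.mem_sup_right ((Subgroup.mem_normalizer_iff.mp hn h).mp hh)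

end Cfsg.Agent.Lib.Helper6.TIHb
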