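import Mathlib
import Cfsg.Prelude.Def_OddOrderLocal
import Cfsg.Prelude.Def_Solvable
import Cfsg.Agent.S3359
import Cfsg.Agent.Lib.Helper6.TIHb
import Cfsg.Agent.Lib.Helper6.NSFrobE
import Cfsg.Agent.Lib.Helper6.NSFrobC
import Cfsg.Agent.Lib.Helper2.OtB
import Cfsg.Agent.Lib.Helper1.PL5
import Cfsg.Agent.Lib.Lead.UniqueP

/-!
# TI Hall subgroups in separable groups, part 2 (S4118, S4151)

`H` is a Frobenius complement; consequences for its Sylow subgroups.
-/

set_option autoImplicit false
set_option maxHeartbeats 400000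
set_option linter.style.haveILetI false
set_option linter.unusedSectionVars false
open Cfsg

namespace Cfsg.Agent.Lib.Helper6.TIHc

open scoped Pointwise

universe u

variable {G : Type u} [Group G] [Finite G] (H : Subgroup G)

/-- `H` is (isomorphic to) a Frobenius complement: it acts as one on `O`. -/
theorem frob_of_sup (hTI : Cfsg.IsTISubset (H : Set G)) (hnn : ¬ H.Normal)
    (hHall : (Nat.card H).Coprime (H.subgroupOf (Subgroup.normalizer (H : Set G))).index)
    (O : Subgroup G) [hOn : O.Normal] (hOc : (Nat.card O).Coprime (Nat.card H))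
    (hOT : O ⊔ Subgroup.normalizer (H : Set G) = ⊤) :
    ∃ (F : Type u) (_ : Group F) (_ : Finite F) (C : Subgroup F),
      Cfsg.IsFrobeniusComplement C ∧ Nonempty (H ≃* C) := by
  have hHG := Cfsg.Agent.Lib.Helper6.TIHall.hall H hTI hHall
  obtain ⟨X, hX⟩ : ∃ X : Subgroup G, X = O ⊔ H := ⟨_, rfl⟩
  have hHX : H ≤ X := hX ▸ le_sup_right
  have hOX : O ≤ X := hX ▸ le_sup_left
  have hcH : Nat.card (H.subgroupOf X) = Nat.card H :=
    Nat.card_congr (Subgroup.subgroupOfEquivOfLe hHX).toEquiv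
  have hcO : Nat.card (O.subgroupOf X) = Nat.card O :=
    Nat.card_congr (Subgroup.subgroupOfEquivOfLe hOX).toEquiv
  have hTI' : Cfsg.IsTISubset ((H.subgroupOf X : Subgroup X) : Set X) := by
    intro g hg x hx hgx
    have hg' : (g : G) ∉ Subgroup.normalizer (H : Set G) := by
      intro hgn
      apply hg
      rw [Subgroup.mem_normalizer_iff]
      intro y
      rw [Subgroup.mem_subgroupOf, Subgroup.mem_subgroupOf]
      have := Subgroup.mem_normalizer_iff.mp hgn (y : G)
      simpa using this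
    have hx' : (x : G) ∈ H := Subgroup.mem_subgroupOf.mp hx
    have hgx' : (g : G) * (x : G) * (g : G)⁻¹ ∈ H := by
      have := Subgroup.mem_subgroupOf.mp hgx
      simpa using this
    have h1 := hTI (g : G) hg' (x : G) hx' hgx'
    exact Subtype.ext (by simpa using h1)
  have hHall' : (Nat.card (H.subgroupOf X)).Coprime
      ((H.subgroupOf X).subgroupOf
        (Subgroup.normalizer ((H.subgroupOf X : Subgroup X) : Set X))).index := by
    rw [hcH]
    have h2 : ((H.subgroupOf X).subgroupOf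
        (Subgroup.normalizer ((H.subgroupOf X : Subgroup X) : Set X))).index
          ∣ (H.subgroupOf X).index := by
      have := Subgroup.relIndex_mul_index (H := H.subgroupOf X)
        (K := Subgroup.normalizer ((H.subgroupOf X : Subgroup X) : Set X)) Subgroup.le_normalizer
      exact Dvd.intro _ this
    have h3 : (H.subgroupOf X).index ∣ H.index := by
      have := Subgroup.relIndex_mul_index (H := H) (K := X) hHX
      exact Dvd.intro _ this
    exact Nat.Coprime.coprime_dvd_right (dvd_trans h2 h3) hHG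
  have hnn' : ¬ (H.subgroupOf X).Normal := by
    intro hN
    apply hnn
    rw [← Subgroup.normalizer_eq_top_iff, eq_top_iff, ← hOT]
    apply sup_le _ le_rfl
    rw [Subgroup.le_normalizer_iff]
    intro o ho h hh
    have h1 := hN.conj_mem ⟨h, hHX hh⟩ (Subgroup.mem_subgroupOf.mpr hh) ⟨o, hOX ho⟩
    have h2 := Subgroup.mem_subgroupOf.mp h1
    simpa using h2
  haveI : (O.subgroupOf X).Normal := inferInstance
  have hM : (O.subgroupOf X).IsComplement' (H.subgroupOf X) := by
    apply Subgroup.isComplement'_of_coprime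
    · rw [hcO, hcH, hX]
      have hinf : H ⊓ O = ⊥ :=
        disjoint_iff.mp (Subgroup.disjoint_of_coprime_natCard hOc.symm)
      have hHN : H ≤ Subgroup.normalizer (O : Set G) := by
        rw [Subgroup.normalizer_eq_top]
        exact le_top
      have h1 := Cfsg.Agent.Lib.Helper1.PL.card_sup_of_inf_bot hHN hinf
      rw [sup_comm, h1, mul_comm]
    · rw [hcO, hcH]
      exact hOc
  obtain ⟨F, iF, iF', C, hC, ⟨e⟩⟩ :=
    Cfsg.Agent.Lib.Helper6.TIHall.frobenius_complement (H.subgroupOf X) hTI' hHall' hnn'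
      (O.subgroupOf X) hM
  exact ⟨F, iF, iF', C, hC, ⟨(Subgroup.subgroupOfEquivOfLe hHX).symm.trans e⟩⟩

/-- A Frobenius complement with no subgroup `SL(2,5)` is solvable. -/
theorem solvable_of_no_SL25
    (hFC : ∃ (F : Type u) (_ : Group F) (_ : Finite F) (C : Subgroup F),
      Cfsg.IsFrobeniusComplement C ∧ Nonempty (H ≃* C))
    (hno : ∀ K : Subgroup G, K ≤ H →
      ¬ Nonempty (K ≃* Matrix.SpecialLinearGroup (Fin 2) (ZMod 5))) :
    Group.IsSolvable H := by
  by_contra hns
  obtain ⟨F, iF, iF', C, hC, ⟨e⟩⟩ := hFC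
  obtain ⟨L, iL, iL', H0, hH0, ⟨e0⟩⟩ := Cfsg.Agent.Lib.Helper2.Ot.hFC_of_frobenius C hC
  obtain ⟨G₀, -, -, S, M, -, -, -, ⟨f⟩, -, -⟩ :=
    Cfsg.Agent.S3359.result (G := ↥H) hns ⟨L, iL, iL', H0, hH0, ⟨e.trans e0⟩⟩
  exact hno (S.map H.subtype) (Subgroup.map_subtype_le S)
    ⟨(Subgroup.equivMapOfInjective S H.subtype H.subtype_injective).symm.trans f⟩

/-- Abelian subgroups of a Frobenius complement are cyclic. -/
theorem cyc_of_hFC
    (hFC : ∃ (F : Type u) (_ : Group F) (_ : Finite F) (C : Subgroup F),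
      Cfsg.IsFrobeniusComplement C ∧ Nonempty (H ≃* C)) :
    ∀ A : Subgroup ↥H, IsMulCommutative A → IsCyclic A := by
  obtain ⟨F, iF, iF', C, hC, ⟨e⟩⟩ := hFC
  exact Cfsg.Agent.Lib.Helper6.NSFrob.cyc_of_frobenius C hC e

/-- `p`-subgroups are cyclic or generalized quaternion. -/
theorem pgroup_cyc_or_quat {K : Type*} [Group K] [Finite K]
    (hcyc : ∀ A : Subgroup K, IsMulCommutative A → IsCyclic A) (p : ℕ) [Fact p.Prime]
    (P : Subgroup K) (hP : IsPGroup p P) :
    IsCyclic ↥P ∨ (p = 2 ∧ ∃ n : ℕ, Nonempty (↥P ≃* QuaternionGroup (2 ^ n))) :=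
  Cfsg.Agent.Lib.Lead.UniqueP.cyclic_or_quaternion p hP
    (Cfsg.Agent.Lib.Helper6.NSFrob.uop_of_cyc hcyc P hP)

/-- A commutative generalized quaternion group `Q_{4·2^n}` has `n = 0`. -/
theorem quat_comm_eq_zero (n : ℕ)
    (hc : ∀ x y : QuaternionGroup (2 ^ n), x * y = y * x) : n = 0 := by
  by_contra hn
  have h2 : 1 < 2 ^ n := Nat.one_lt_two_pow hn
  haveI : Fact (2 < 2 * 2 ^ n) := ⟨by omega⟩
  have h1 := hc (QuaternionGroup.a 1) (QuaternionGroup.xa 0)
  rw [QuaternionGroup.a_mul_xa, QuaternionGroup.xa_mul_a] at h1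
  have h3 : (0 : ZMod (2 * 2 ^ n)) - 1 = 0 + 1 := QuaternionGroup.xa.inj h1
  rw [zero_sub, zero_add] at h3
  exact ZMod.neg_one_ne_one h3

/-- A commutative group isomorphic to a generalized quaternion group is cyclic. -/
theorem cyclic_of_quat_comm {P : Type*} [Group P] (n : ℕ) (e : P ≃* QuaternionGroup (2 ^ n))
    (hc : ∀ x y : P, x * y = y * x) : IsCyclic P := by
  have hn : n = 0 := by
    apply quat_comm_eq_zero n
    intro x y
    have := hc (e.symm x) (e.symm y)
    have h2 := congrArg e this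
    simpa using h2
  subst hn
  haveI : IsCyclic (QuaternionGroup (2 ^ 0)) := by
    rw [pow_zero]
    exact QuaternionGroup.quaternionGroup_one_isCyclic
  exact isCyclic_of_surjective e.symm e.symm.surjective

/-- If the Sylow `2`-subgroups are abelian, all Sylow subgroups of a Frobenius complement are
cyclic. -/
theorem sylow_cyclic {K : Type*} [Group K] [Finite K]
    (hcyc : ∀ A : Subgroup K, IsMulCommutative A → IsCyclic A)
    (h2 : ∀ P : Sylow 2 K, IsMulCommutative (P : Subgroup K)) :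
    ∀ (p : ℕ) [Fact p.Prime] (P : Sylow p K), IsCyclic (P : Subgroup K) := by
  intro p _ P
  rcases pgroup_cyc_or_quat hcyc p (P : Subgroup K) P.isPGroup' with h | ⟨hp2, n, ⟨e⟩⟩
  · exact h
  · subst hp2
    haveI := h2 P
    exact cyclic_of_quat_comm n e (fun x y => mul_comm' x y)

end Cfsg.Agent.Lib.Helper6.TIHc
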