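import Mathlib
import Cfsg.Prelude.Def_OddOrderLocal
import Cfsg.Prelude.Def_Solvable
import Cfsg.Agent.S4117
import Cfsg.Agent.Lib.Helper6.TIHc
import Cfsg.Agent.Lib.Helper1.CoprimeSylow

/-!
# TI Hall subgroups in separable groups, part 3 (S4151)

If the Sylow `2`-subgroups of `H` are abelian and `Q` is a complement of `H` in `N_G(H)`, then
`C_H(Q)` is a Hall subgroup of `G` with a normal complement.
-/

set_option autoImplicit false
set_option maxHeartbeats 800000
set_option linter.style.haveILetI false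
set_option linter.unusedSectionVars false
open Cfsg

namespace Cfsg.Agent.Lib.Helper6.TIHd

open scoped Pointwise

universe u

variable {G : Type u} [Group G] [Finite G] (H : Subgroup G)

theorem s4151 (hTI : Cfsg.IsTISubset (H : Set G)) (hnn : ¬ H.Normal)
    (hHall : (Nat.card H).Coprime (H.subgroupOf (Subgroup.normalizer (H : Set G))).index)
    (hsep : ∃ (n : ℕ) (M : Fin (n + 1) → Subgroup G), M 0 = ⊥ ∧ M (Fin.last n) = ⊤ ∧
      Monotone M ∧ (∀ i, (M i).Normal) ∧
      ∀ i : Fin n, (∀ q : ℕ, q.Prime → q ∣ (M i.castSucc).relIndex (M i.succ) →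
          q ∣ Nat.card H) ∨
        ((M i.castSucc).relIndex (M i.succ)).Coprime (Nat.card H))
    (h2 : ∀ P : Sylow 2 H, IsMulCommutative (P : Subgroup H))
    (Q : Subgroup G) (hQ : Q ≤ Subgroup.normalizer (H : Set G)) (hQH : Q ⊓ H = ⊥)
    (hQH' : Q ⊔ H = Subgroup.normalizer (H : Set G)) :
    (Nat.card ↥(H ⊓ Subgroup.centralizer (Q : Set G))).Coprime
        (H ⊓ Subgroup.centralizer (Q : Set G)).index ∧
      ∃ N : Subgroup G, N.Normal ∧ N.IsComplement' (H ⊓ Subgroup.centralizer (Q : Set G)) := by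
  classical
  obtain ⟨O, hO⟩ : ∃ O : Subgroup G,
      O = sSup {K : Subgroup G | K.Normal ∧ (Nat.card K).Coprime (Nat.card H)} := ⟨_, rfl⟩
  obtain ⟨hOn, hOc, hOmax, hOT, hXn⟩ :=
    Cfsg.Agent.Lib.Helper6.TIHb.claims H hTI hnn hHall hsep O hO
  haveI := hOn
  have hHG := Cfsg.Agent.Lib.Helper6.TIHall.hall H hTI hHall
  have hFC := Cfsg.Agent.Lib.Helper6.TIHc.frob_of_sup H hTI hnn hHall O hOc hOT
  have hcyc := Cfsg.Agent.Lib.Helper6.TIHc.cyc_of_hFC H hFC
  have hsyl := Cfsg.Agent.Lib.Helper6.TIHc.sylow_cyclic hcyc h2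
  -- the order of `Q`
  have hQcard : Nat.card Q = (H.subgroupOf (Subgroup.normalizer (H : Set G))).index := by
    have h1 := Cfsg.Agent.Lib.Helper1.PL.card_sup_of_inf_bot hQ hQH
    rw [hQH'] at h1
    have h2 := Subgroup.card_mul_index (H.subgroupOf (Subgroup.normalizer (H : Set G)))
    have h3 : Nat.card (H.subgroupOf (Subgroup.normalizer (H : Set G))) = Nat.card H :=
      Nat.card_congr (Subgroup.subgroupOfEquivOfLe Subgroup.le_normalizer).toEquiv
    rw [h3, h1] at h2
    have hpos : 0 < Nat.card H := Nat.card_pos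
    have h4 : Nat.card H * (H.subgroupOf (Subgroup.normalizer (H : Set G))).index
        = Nat.card H * Nat.card Q := by rw [h2, mul_comm]
    exact (Nat.eq_of_mul_eq_mul_left hpos h4).symm
  have hcop : (Nat.card Q).Coprime (Nat.card H) := by
    rw [hQcard]
    exact hHall.symm
  letI := Cfsg.Agent.Lib.Helper1.conjActOfLeNormalizer Q H hQ
  obtain ⟨hA, hB, hC, hD, hE⟩ := Cfsg.Agent.S4117.result (G := ↥H) (A := ↥Q) hcop hsyl
  obtain ⟨D, hDdef⟩ : ∃ D : Subgroup G, D = H ⊓ Subgroup.centralizer (Q : Set G) := ⟨_, rfl⟩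
  rw [← hDdef]
  obtain ⟨K₀, hK₀⟩ : ∃ K₀ : Subgroup ↥H,
      K₀ = Subgroup.closure {y : ↥H | ∃ (a : ↥Q) (g : ↥H), y = g⁻¹ * a • g} := ⟨_, rfl⟩
  rw [← hK₀] at hB hC hD hE
  have hDH : D ≤ H := by rw [hDdef]; exact inf_le_left
  have hDQ : ∀ d ∈ D, ∀ q ∈ Q, d * q * d⁻¹ = q := by
    intro d hd q hq
    rw [hDdef] at hd
    have h1 := Subgroup.mem_centralizer_iff.mp (Subgroup.mem_inf.mp hd).2 q hq
    rw [← h1]
    group
  have hfix : (MulAction.fixedPoints ↥Q ↥H : Set ↥H)
      = ((D.subgroupOf H : Subgroup ↥H) : Set ↥H) := by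
    ext h
    rw [MulAction.mem_fixedPoints, SetLike.mem_coe, Subgroup.mem_subgroupOf, hDdef,
      Subgroup.mem_inf, Subgroup.mem_centralizer_iff]
    constructor
    · intro hf
      refine ⟨h.2, ?_⟩
      intro q hq
      have h1 := congrArg Subtype.val (hf ⟨q, hq⟩)
      have e : q * (h : G) * q⁻¹ = (h : G) := h1
      calc q * (h : G) = (q * (h : G) * q⁻¹) * q := by group
        _ = (h : G) * q := by rw [e]
    · rintro ⟨-, hc⟩ q
      apply Subtype.ext
      show (q : G) * (h : G) * (q : G)⁻¹ = (h : G)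
      rw [hc (q : G) q.2]
      group
  rw [hfix] at hA hD hE
  rw [Subgroup.closure_eq] at hE
  simp only [SetLike.coe_sort_coe] at hA
  obtain ⟨D', hD'⟩ : ∃ D' : Subgroup ↥H, D' = D.subgroupOf H := ⟨_, rfl⟩
  rw [← hD'] at hA hD hE
  have hcD : Nat.card D' = Nat.card D := by
    rw [hD']
    exact Nat.card_congr (Subgroup.subgroupOfEquivOfLe hDH).toEquiv
  have hidx : D'.index = Nat.card ↥H / Nat.card D' := by
    have h1 := Subgroup.card_mul_index D'
    exact (Nat.div_eq_of_eq_mul_right Nat.card_pos h1.symm).symm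
  -- the first claim
  have hclaim1 : (Nat.card D).Coprime D.index := by
    rw [← Subgroup.relIndex_mul_index hDH]
    apply Nat.Coprime.mul_right
    · have h1 : D.relIndex H = D'.index := by rw [hD']; rfl
      rw [h1, hidx, ← hcD]
      exact hA
    · exact Nat.Coprime.coprime_dvd_left (Subgroup.card_dvd_of_le hDH) hHG
  refine ⟨hclaim1, ?_⟩
  -- `K₀` is `Q`-invariant
  have hK₀Q : ∀ (b : ↥Q) (k : ↥H), k ∈ K₀ → b • k ∈ K₀ := by
    intro b k hk
    rw [hK₀] at hk ⊢
    induction hk using Subgroup.closure_induction with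
    | mem x hx =>
      obtain ⟨a, g, rfl⟩ := hx
      apply Subgroup.subset_closure
      refine ⟨b * a * b⁻¹, b • g, ?_⟩
      rw [smul_mul', smul_inv', mul_smul, mul_smul, inv_smul_smul]
    | one => rw [smul_one]; exact Subgroup.one_mem _
    | mul x y _ _ hx hy => rw [smul_mul']; exact Subgroup.mul_mem _ hx hy
    | inv x _ hx => rw [smul_inv']; exact Subgroup.inv_mem _ hx
  obtain ⟨K, hKdef⟩ : ∃ K : Subgroup G, K = K₀.map H.subtype := ⟨_, rfl⟩
  have hKH : K ≤ H := by rw [hKdef]; exact Subgroup.map_subtype_le K₀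
  have hHKD : K ⊔ D = H := by
    have h1 := congrArg (Subgroup.map H.subtype) hE
    rw [Subgroup.map_sup, ← hKdef, hD', Subgroup.subgroupOf_map_subtype, inf_of_le_left hDH,
      ← MonoidHom.range_eq_map, Subgroup.range_subtype] at h1
    exact h1
  have hQn : Q ≤ Subgroup.normalizer (K : Set G) := by
    rw [Subgroup.le_normalizer_iff]
    intro q hq k hk
    rw [hKdef] at hk ⊢
    obtain ⟨k0, hk0, rfl⟩ := Subgroup.mem_map.mp hk
    exact Subgroup.mem_map.mpr ⟨(⟨q, hq⟩ : ↥Q) • k0, hK₀Q ⟨q, hq⟩ k0 hk0, rfl⟩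
  have hDK : D ≤ Subgroup.normalizer (K : Set G) := by
    rw [Subgroup.le_normalizer_iff]
    intro d hd k hk
    rw [hKdef] at hk ⊢
    obtain ⟨k0, hk0, rfl⟩ := Subgroup.mem_map.mp hk
    exact Subgroup.mem_map.mpr ⟨(⟨d, hDH hd⟩ : ↥H) * k0 * (⟨d, hDH hd⟩ : ↥H)⁻¹,
      hC.conj_mem k0 hk0 ⟨d, hDH hd⟩, rfl⟩
  -- orders
  have hprod : Nat.card D' * Nat.card K₀ = Nat.card ↥H := by
    have hn : D' ≤ Subgroup.normalizer (K₀ : Set ↥H) := by
      rw [Subgroup.normalizer_eq_top]
      exact le_top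
    have hinf : D' ⊓ K₀ = ⊥ := by
      rw [eq_bot_iff]
      intro x hx
      have h1 : x ∈ (K₀ : Set ↥H) ∩ ((D' : Subgroup ↥H) : Set ↥H) :=
        ⟨(Subgroup.mem_inf.mp hx).2, (Subgroup.mem_inf.mp hx).1⟩
      rw [hD] at h1
      exact Subgroup.mem_bot.mpr h1
    have h1 := Cfsg.Agent.Lib.Helper1.PL.card_sup_of_inf_bot hn hinf
    rw [sup_comm, hE, Subgroup.card_top] at h1
    exact h1.symm
  have hcK : Nat.card K = Nat.card K₀ := by
    rw [hKdef]
    exact Subgroup.card_map_of_injective H.subtype_injective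
  have hKD : (Nat.card K).Coprime (Nat.card D) := by
    have h1 : Nat.card ↥H / Nat.card D' = Nat.card K₀ :=
      Nat.div_eq_of_eq_mul_right Nat.card_pos hprod.symm
    rw [hcK, ← h1, ← hcD]
    exact hA.symm
  have hQD : (Nat.card Q).Coprime (Nat.card D) :=
    Nat.Coprime.coprime_dvd_right (Subgroup.card_dvd_of_le hDH) hcop
  have hOD : (Nat.card O).Coprime (Nat.card D) :=
    Nat.Coprime.coprime_dvd_right (Subgroup.card_dvd_of_le hDH) hOc
  obtain ⟨N, hNdef⟩ : ∃ N : Subgroup G, N = (K ⊔ Q) ⊔ O := ⟨_, rfl⟩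
  have hON : O ≤ N := by rw [hNdef]; exact le_sup_right
  have hQN : Q ≤ N := by rw [hNdef]; exact le_trans le_sup_right le_sup_left
  have hKN : K ≤ N := by rw [hNdef]; exact le_trans le_sup_left le_sup_left
  have hNDcop : (Nat.card N).Coprime (Nat.card D) := by
    have h1 : Nat.card N ∣ Nat.card (K ⊔ Q : Subgroup G) * Nat.card O := by
      rw [hNdef]
      exact Cfsg.Agent.Lib.Helper1.card_sup_dvd_of_normal (K ⊔ Q) O
    have h2 : Nat.card (K ⊔ Q : Subgroup G) ∣ Nat.card Q * Nat.card K := by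
      rw [sup_comm]
      exact Cfsg.Agent.Lib.Helper1.PL.card_sup_dvd' hQn
    have h3 : Nat.card N ∣ (Nat.card Q * Nat.card K) * Nat.card O :=
      dvd_trans h1 (Nat.mul_dvd_mul_right h2 _)
    exact Nat.Coprime.coprime_dvd_left h3
      (Nat.Coprime.mul_left (Nat.Coprime.mul_left hQD hKD) hOD)
  have hNle : N ≤ Subgroup.normalizer (N : Set G) := Subgroup.le_normalizer
  have hNn : N.Normal := by
    rw [← Subgroup.normalizer_eq_top_iff, eq_top_iff, ← hOT, ← hQH', ← hHKD]
    refine sup_le ?_ (sup_le ?_ (sup_le ?_ ?_))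
    · exact le_trans hON hNle
    · exact le_trans hQN hNle
    · exact le_trans hKN hNle
    · rw [Subgroup.le_normalizer_iff]
      intro d hd x hx
      have hmap : N.map (MulAut.conj d).toMonoidHom ≤ N := by
        rw [hNdef, Subgroup.map_sup, Subgroup.map_sup]
        refine sup_le (sup_le ?_ ?_) ?_
        · refine le_trans ?_ (le_trans le_sup_left le_sup_left)
          rintro _ ⟨k, hk, rfl⟩
          exact (Subgroup.le_normalizer_iff.mp hDK) d hd k hk
        · refine le_trans ?_ (le_trans le_sup_right le_sup_left)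
          rintro _ ⟨q, hq, rfl⟩
          show d * q * d⁻¹ ∈ Q
          rw [hDQ d hd q hq]
          exact hq
        · refine le_trans ?_ le_sup_right
          rintro _ ⟨o, ho, rfl⟩
          exact hOn.conj_mem o ho d
      exact hmap (Subgroup.mem_map_of_mem _ hx)
  have hND : N ⊔ D = ⊤ := by
    rw [eq_top_iff, ← hOT, ← hQH', ← hHKD]
    refine sup_le ?_ (sup_le ?_ (sup_le ?_ ?_))
    · exact le_trans hON le_sup_left
    · exact le_trans hQN le_sup_left
    · exact le_trans hKN le_sup_left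
    · exact le_sup_right
  refine ⟨N, hNn, ?_⟩
  haveI := hNn
  apply Subgroup.isComplement'_of_disjoint_and_mul_eq_univ
  · exact Subgroup.disjoint_of_coprime_natCard hNDcop
  · rw [← Subgroup.normal_mul, hND, Subgroup.coe_top]

end Cfsg.Agent.Lib.Helper6.TIHd
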