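import Mathlib
import Cfsg.Agent.Lib.Helper1.CoprimeSylow
import Cfsg.Agent.Lib.Helper6.NSFrobA

/-!
# Commutators of a coprime operator group centralize cyclic and quaternion Sylow subgroups

If `a, b` normalize a cyclic subgroup `P` then the commutator `a b a⁻¹ b⁻¹` centralizes `P`.
If `Q` has odd order and normalizes a generalized quaternion subgroup `P`, then commutators of
elements of `Q` centralize `P`: an odd order group of automorphisms of a generalized quaternion
group of order at least `16` is trivial, and one of the quaternion group of order `8` is abelian.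
-/

set_option autoImplicit false
set_option linter.style.haveILetI false
set_option linter.unusedSectionVars false
set_option linter.unusedVariables false

namespace Cfsg.Agent.Lib.Helper6.TIHe

open Cfsg.Agent.Lib.Helper1

section cyc

variable {G : Type*} [Group G]

theorem conj_zpow_of_eq (g0 s : G) (i : ℤ) (hs : s * g0 * s⁻¹ = g0 ^ i) (k : ℤ) :
    s * g0 ^ k * s⁻¹ = g0 ^ (i * k) := by
  rw [← conj_zpow, hs, ← zpow_mul]

/-- Commutators of elements normalizing a cyclic subgroup centralize it. -/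
theorem comm_centralizes_cyclic (P : Subgroup G) (hc : IsCyclic P) (a b : G)
    (ha : a ∈ Subgroup.normalizer (P : Set G)) (hb : b ∈ Subgroup.normalizer (P : Set G))
    (x : G) (hx : x ∈ P) : a * b * a⁻¹ * b⁻¹ * x = x * (a * b * a⁻¹ * b⁻¹) := by
  obtain ⟨g, hg⟩ := hc.exists_generator
  have hgen : ∀ y ∈ P, ∃ k : ℤ, (g : G) ^ k = y := by
    intro y hy
    obtain ⟨k, hk⟩ := Subgroup.mem_zpowers_iff.mp (hg ⟨y, hy⟩)
    exact ⟨k, by have := congrArg Subtype.val hk; simpa using this⟩
  obtain ⟨i, hi⟩ := hgen (a * g * a⁻¹) ((Subgroup.mem_normalizer_iff.mp ha g).mp g.2)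
  obtain ⟨j, hj⟩ := hgen (b * g * b⁻¹) ((Subgroup.mem_normalizer_iff.mp hb g).mp g.2)
  have key : ∀ y ∈ P, a * b * y * (a * b)⁻¹ = b * a * y * (b * a)⁻¹ := by
    intro y hy
    obtain ⟨k, hk⟩ := hgen y hy
    subst hk
    have e1 : a * b * (g : G) ^ k * (a * b)⁻¹ = a * (b * (g : G) ^ k * b⁻¹) * a⁻¹ := by group
    have e2 : b * a * (g : G) ^ k * (b * a)⁻¹ = b * (a * (g : G) ^ k * a⁻¹) * b⁻¹ := by group
    rw [e1, e2, conj_zpow_of_eq (g : G) b j hj.symm k, conj_zpow_of_eq (g : G) a i hi.symm (j * k),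
      conj_zpow_of_eq (g : G) a i hi.symm k, conj_zpow_of_eq (g : G) b j hj.symm (i * k),
      mul_left_comm]
  have hba : (b * a)⁻¹ ∈ Subgroup.normalizer (P : Set G) :=
    Subgroup.inv_mem _ (Subgroup.mul_mem _ hb ha)
  have hy : (b * a)⁻¹ * x * (b * a)⁻¹⁻¹ ∈ P := (Subgroup.mem_normalizer_iff.mp hba x).mp hx
  have h := key _ hy
  calc a * b * a⁻¹ * b⁻¹ * x
      = (a * b * ((b * a)⁻¹ * x * (b * a)⁻¹⁻¹) * (a * b)⁻¹) * (a * b * a⁻¹ * b⁻¹) := by group
    _ = (b * a * ((b * a)⁻¹ * x * (b * a)⁻¹⁻¹) * (b * a)⁻¹) * (a * b * a⁻¹ * b⁻¹) := by rw [h]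
    _ = x * (a * b * a⁻¹ * b⁻¹) := by group

end cyc

section quat

open QuaternionGroup

theorem a_pow_nat {m : ℕ} (u : ZMod (2 * m)) (k : ℕ) :
    (a u : QuaternionGroup m) ^ k = a ((k : ZMod (2 * m)) * u) := by
  induction k with
  | zero => simp
  | succ k ih =>
    rw [pow_succ, ih, a_mul_a]
    congr 1
    push_cast
    ring

/-- An automorphism of odd order of a generalized quaternion group of order at least `16` is
trivial. -/
theorem quat_aut_odd_trivial (n : ℕ) (hn : 2 ≤ n) (α : MulAut (QuaternionGroup (2 ^ n))) (k : ℕ)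
    (hk : Odd k) (hαk : α ^ k = 1) : α = 1 := by
  haveI : NeZero (2 ^ n) := ⟨by positivity⟩
  have h4 : 4 ≤ 2 ^ n := by
    calc 4 = 2 ^ 2 := by norm_num
      _ ≤ 2 ^ n := Nat.pow_le_pow_right (by norm_num) hn
  obtain ⟨u, hu⟩ : ∃ u, α (a 1) = a u := by
    rcases h : α (a 1) with u | j
    · exact ⟨u, rfl⟩
    · exfalso
      have h1 := MulEquiv.orderOf_eq α (a 1)
      rw [h, orderOf_xa, orderOf_a_one] at h1
      omega
  have hav : ∀ v : ZMod (2 * 2 ^ n), α (a v) = a (u * v) := by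
    intro v
    have hv : (a v : QuaternionGroup (2 ^ n)) = (a 1) ^ v.val := by
      rw [a_one_pow, ZMod.natCast_zmod_val v]
    rw [hv, map_pow, hu, a_pow_nat, ZMod.natCast_zmod_val v, mul_comm]
  have hpow : ∀ j : ℕ, (α ^ j) (a 1) = a (u ^ j) := by
    intro j
    induction j with
    | zero => simp
    | succ j ih => rw [pow_succ', MulAut.mul_apply, ih, hav, pow_succ']
  have huk : u ^ k = 1 := by
    have h := hpow k
    rw [hαk, MulAut.one_apply] at h
    exact (QuaternionGroup.a.inj h).symm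
  have hk0 : k ≠ 0 := by
    rintro rfl
    simp at hk
  have hu1 : u = 1 := by
    obtain ⟨y, hy⟩ := IsUnit.of_pow_eq_one huk hk0
    have h2 : u ^ (2 ^ n) = 1 := by
      have h3 := ZMod.pow_totient y
      have htot : Nat.totient (2 * 2 ^ n) = 2 ^ n := by
        rw [← pow_succ', Nat.totient_prime_pow_succ Nat.prime_two]
        simp
      rw [htot] at h3
      have h4 := congrArg Units.val h3
      rw [Units.val_pow_eq_pow_val, hy, Units.val_one] at h4
      exact h4
    exact (pow_eq_one_iff_of_coprime (Nat.Coprime.pow_right n hk.coprime_two_right)).mp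
      ⟨huk, h2⟩
  subst hu1
  have hav' : ∀ v : ZMod (2 * 2 ^ n), α (a v) = a v := by
    intro v
    rw [hav, one_mul]
  obtain ⟨t, ht⟩ : ∃ t, α (xa 0) = xa t := by
    rcases h : α (xa 0) with s | t
    · exfalso
      have h1 : α (xa 0) = α (a s) := by rw [h, hav']
      have h2 := α.injective h1
      cases h2
    · exact ⟨t, rfl⟩
  have hxa : ∀ i : ZMod (2 * 2 ^ n), α (xa i) = xa (t + i) := by
    intro i
    have h1 : (xa i : QuaternionGroup (2 ^ n)) = xa 0 * a i := by rw [xa_mul_a, zero_add]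
    rw [h1, map_mul, ht, hav', xa_mul_a]
  have hpow2 : ∀ j : ℕ, (α ^ j) (xa 0) = xa ((j : ZMod (2 * 2 ^ n)) * t) := by
    intro j
    induction j with
    | zero => simp
    | succ j ih =>
      rw [pow_succ', MulAut.mul_apply, ih, hxa]
      congr 1
      push_cast
      ring
  have ht0 : t = 0 := by
    have h := hpow2 k
    rw [hαk, MulAut.one_apply] at h
    have h2 : (k : ZMod (2 * 2 ^ n)) * t = 0 := (QuaternionGroup.xa.inj h).symm
    have hunit : IsUnit (k : ZMod (2 * 2 ^ n)) := by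
      rw [ZMod.isUnit_iff_coprime, ← pow_succ']
      exact Nat.Coprime.pow_right _ hk.coprime_two_right
    exact hunit.mul_right_eq_zero.mp h2
  subst ht0
  ext x
  rw [MulAut.one_apply]
  rcases x with v | i
  · exact hav' v
  · rw [hxa, zero_add]

/-- The central elements of the quaternion group of order `8`. -/
theorem q8_center (z : QuaternionGroup 2) (hz : ∀ x : QuaternionGroup 2, x * z = z * x) :
    z = 1 ∨ z = a 2 := by
  revert z
  decide

theorem q8_a2_central : ∀ x : QuaternionGroup 2, x * a 2 = a 2 * x := by decide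

theorem q8_a2_sq : (a 2 : QuaternionGroup 2) * a 2 = 1 := by decide

theorem q8_a2_ne : (a 2 : QuaternionGroup 2) ≠ 1 := by decide

/-- An automorphism of `Q₈` inducing the identity modulo the centre is an involution. -/
theorem q8_ker_sq (α : MulAut (QuaternionGroup 2))
    (hα : ∀ x : QuaternionGroup 2, x⁻¹ * α x ∈ Subgroup.center (QuaternionGroup 2)) :
    α * α = 1 := by
  have hα2c : ∀ y : QuaternionGroup 2, y * α (a 2) = α (a 2) * y := by
    intro y
    have h := congrArg α (q8_a2_central (α.symm y))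
    simpa using h
  have hα2 : α (a 2) = a 2 := by
    rcases q8_center _ hα2c with h | h
    · exfalso
      have h1 : α (a 2) = α 1 := by rw [h, map_one]
      exact q8_a2_ne (α.injective h1)
    · exact h
  ext x
  rw [MulAut.mul_apply, MulAut.one_apply]
  rcases q8_center _ (Subgroup.mem_center_iff.mp (hα x)) with h | h
  · have h1 : α x = x := (inv_mul_eq_one.mp h).symm
    rw [h1, h1]
  · have h1 : α x = x * a 2 := by rw [← h]; group
    rw [h1, map_mul, h1, hα2, mul_assoc, q8_a2_sq, mul_one]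

theorem q8_card_center : Nat.card (Subgroup.center (QuaternionGroup 2)) = 2 := by
  rw [Nat.card_eq_two_iff]
  refine ⟨⟨1, Subgroup.one_mem _⟩, ⟨a 2, Subgroup.mem_center_iff.mpr q8_a2_central⟩, ?_, ?_⟩
  · intro h
    exact q8_a2_ne (congrArg Subtype.val h).symm
  · apply Set.eq_univ_of_forall
    intro w
    rcases q8_center w.1 (Subgroup.mem_center_iff.mp w.2) with h | h
    · left
      exact Subtype.ext h
    · right
      exact Subtype.ext h

theorem q8_card_quot :
    Nat.card (QuaternionGroup 2 ⧸ Subgroup.center (QuaternionGroup 2)) = 4 := by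
  have h1 := Subgroup.card_eq_card_quotient_mul_card_subgroup
    (Subgroup.center (QuaternionGroup 2))
  rw [q8_card_center, Nat.card_eq_fintype_card, QuaternionGroup.card] at h1
  omega

/-- An odd order group of automorphisms of `Q₈` is abelian. -/
theorem q8_aut_odd_comm (m : ℕ) (hm : m = 2) (A : Subgroup (MulAut (QuaternionGroup m)))
    (hodd : Odd (Nat.card A)) : ∀ α ∈ A, ∀ β ∈ A, α * β = β * α := by
  subst hm
  obtain ⟨χ, hχ⟩ : ∃ χ : MulAut (QuaternionGroup 2) →*
      Equiv.Perm (QuaternionGroup 2 ⧸ Subgroup.center (QuaternionGroup 2)),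
      χ = (MulAut.toPerm _).comp Cfsg.Agent.Lib.Helper6.NSFrob.quotAut := ⟨_, rfl⟩
  have hker : ∀ α : MulAut (QuaternionGroup 2), χ α = 1 → α * α = 1 := by
    intro α hα
    apply q8_ker_sq
    intro x
    have h1 := congrArg (fun f => f (QuotientGroup.mk x)) hα
    rw [hχ] at h1
    have h2 : (QuotientGroup.mk (α x) :
        QuaternionGroup 2 ⧸ Subgroup.center (QuaternionGroup 2)) = QuotientGroup.mk x := h1
    exact QuotientGroup.eq.mp h2.symm
  have hinj : Function.Injective (χ.comp A.subtype) := by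
    rw [injective_iff_map_eq_one]
    intro α hα
    have h1 : (α : MulAut (QuaternionGroup 2)) * α = 1 := hker α hα
    have h2 : (α : MulAut (QuaternionGroup 2)) ^ Nat.card A = 1 := by
      have h3 : α ^ Nat.card A = 1 := pow_card_eq_one'
      have h4 := congrArg Subtype.val h3
      rw [Subgroup.coe_pow, Subgroup.coe_one] at h4
      exact h4
    have h3 : (α : MulAut (QuaternionGroup 2)) ^ 2 = 1 := by rw [pow_two]; exact h1
    have h4 : (α : MulAut (QuaternionGroup 2)) = 1 :=
      (pow_eq_one_iff_of_coprime hodd.coprime_two_right).mp ⟨h2, h3⟩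
    exact Subtype.ext h4
  have hdvd : Nat.card A ∣ 24 := by
    have h1 := Subgroup.card_dvd_of_injective _ hinj
    rw [Nat.card_perm, q8_card_quot] at h1
    exact h1
  have hdvd3 : Nat.card A ∣ 3 := by
    have hc : (Nat.card A).Coprime 8 := by
      have : (8 : ℕ) = 2 ^ 3 := by norm_num
      rw [this]
      exact Nat.Coprime.pow_right _ hodd.coprime_two_right
    exact hc.dvd_of_dvd_mul_right (by simpa using hdvd)
  intro α hα β hβ
  rcases (Nat.dvd_prime Nat.prime_three).mp hdvd3 with h1 | h3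
  · have hA : A = ⊥ := Subgroup.card_eq_one.mp h1
    rw [hA, Subgroup.mem_bot] at hα hβ
    rw [hα, hβ]
  · haveI : Fact (Nat.Prime 3) := ⟨Nat.prime_three⟩
    haveI : IsCyclic A := isCyclic_of_prime_card h3
    letI : CommGroup A := IsCyclic.commGroup
    have h := mul_comm (⟨α, hα⟩ : A) ⟨β, hβ⟩
    exact congrArg Subtype.val h

end quat

section main

variable {G : Type*} [Group G]

/-- Commutators of elements of an odd order group normalizing a generalized quaternion subgroup
centralize it. -/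
theorem comm_centralizes_quat (n : ℕ) (hn : 1 ≤ n) (P Q : Subgroup G)
    (hQP : Q ≤ Subgroup.normalizer (P : Set G)) (hodd : Odd (Nat.card Q))
    (e : P ≃* QuaternionGroup (2 ^ n)) (a b : G) (ha : a ∈ Q) (hb : b ∈ Q) (x : G)
    (hx : x ∈ P) : a * b * a⁻¹ * b⁻¹ * x = x * (a * b * a⁻¹ * b⁻¹) := by
  letI := conjActOfLeNormalizer Q P hQP
  obtain ⟨φ, hφ⟩ : ∃ φ : Q →* MulAut P, φ = MulDistribMulAction.toMulAut Q P := ⟨_, rfl⟩
  obtain ⟨ψ, hψ⟩ : ∃ ψ : Q →* MulAut (QuaternionGroup (2 ^ n)),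
      ψ = (MulAut.congr e).toMonoidHom.comp φ := ⟨_, rfl⟩
  have hAodd : Odd (Nat.card ψ.range) := Odd.of_dvd_nat hodd (Subgroup.card_range_dvd ψ)
  have hcomm : ψ ⟨a, ha⟩ * ψ ⟨b, hb⟩ = ψ ⟨b, hb⟩ * ψ ⟨a, ha⟩ := by
    rcases Nat.lt_or_ge n 2 with h2 | h2
    · have hn1 : n = 1 := by omega
      subst hn1
      exact q8_aut_odd_comm (2 ^ 1) (by norm_num) ψ.range hAodd _ ⟨_, rfl⟩ _ ⟨_, rfl⟩
    · have h1 : ∀ q : Q, ψ q = 1 := by
        intro q
        apply quat_aut_odd_trivial n h2 (ψ q) (Nat.card ψ.range) hAodd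
        have h3 : (⟨ψ q, ⟨q, rfl⟩⟩ : ψ.range) ^ Nat.card ψ.range = 1 := pow_card_eq_one'
        have h4 := congrArg Subtype.val h3
        rw [Subgroup.coe_pow, Subgroup.coe_one] at h4
        exact h4
      rw [h1, h1]
  have hψc : ψ (⟨a, ha⟩ * ⟨b, hb⟩ * ⟨a, ha⟩⁻¹ * ⟨b, hb⟩⁻¹) = 1 := by
    rw [map_mul, map_mul, map_mul, map_inv, map_inv, hcomm, mul_inv_cancel_right,
      mul_inv_cancel]
  have hφc : φ (⟨a, ha⟩ * ⟨b, hb⟩ * ⟨a, ha⟩⁻¹ * ⟨b, hb⟩⁻¹) = 1 := by
    rw [hψ] at hψc
    have h1 : (MulAut.congr e) (φ (⟨a, ha⟩ * ⟨b, hb⟩ * ⟨a, ha⟩⁻¹ * ⟨b, hb⟩⁻¹)) = 1 := hψc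
    exact (MulEquiv.map_eq_one_iff _).mp h1
  have h3 : (a * b * a⁻¹ * b⁻¹) * x * (a * b * a⁻¹ * b⁻¹)⁻¹ = x := by
    rw [hφ] at hφc
    have h := congrArg (fun f : MulAut P => ((f ⟨x, hx⟩ : P) : G)) hφc
    exact h
  exact mul_inv_eq_iff_eq_mul.mp h3

end main

end Cfsg.Agent.Lib.Helper6.TIHe
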