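import Mathlib
import Cfsg.Prelude.Def_OddOrderLocal
import Cfsg.Prelude.Def_Solvable
import Cfsg.Agent.Lib.Helper6.TIHb
import Cfsg.Agent.Lib.Helper6.TIHc
import Cfsg.Agent.Lib.Helper6.TIHe
import Cfsg.Agent.Lib.Helper6.NSFrobB
import Cfsg.Agent.Lib.Helper2.ZrAut
import Cfsg.Agent.Lib.Helper1.CoprimeSylow

/-!
# TI Hall subgroups in `π`-separable groups: the solvability criterion

`G` is solvable iff `O_{π'}(G)` is solvable and `H` has no subgroup isomorphic to `SL(2,5)`.
-/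

set_option autoImplicit false
set_option linter.style.haveILetI false
set_option linter.unusedSectionVars false
set_option linter.unusedVariables false

universe u

open Cfsg

namespace Cfsg.Agent.Lib.Helper6.TIHf

open scoped Pointwise
open Cfsg.Agent.Lib.Helper1 Cfsg.Agent.Lib.Helper6.TIHc Cfsg.Agent.Lib.Helper6.TIHe

variable {G : Type u} [Group G] [Finite G]

/-- A Hall subgroup of its normalizer has a complement there (Schur–Zassenhaus). -/
theorem exists_compl_in_normalizer (H : Subgroup G)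
    (hHall : (Nat.card H).Coprime (H.subgroupOf (Subgroup.normalizer (H : Set G))).index) :
    ∃ Q : Subgroup G, Q ≤ Subgroup.normalizer (H : Set G) ∧
      (Nat.card Q).Coprime (Nat.card H) ∧ H ⊔ Q = Subgroup.normalizer (H : Set G) := by
  obtain ⟨T, hT⟩ : ∃ T : Subgroup G, T = Subgroup.normalizer (H : Set G) := ⟨_, rfl⟩
  have hHT : H ≤ T := hT ▸ Subgroup.le_normalizer
  haveI hn : (H.subgroupOf T).Normal := by
    subst hT
    exact Subgroup.normal_in_normalizer
  have hcard : Nat.card (H.subgroupOf T) = Nat.card H :=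
    Nat.card_congr (Subgroup.subgroupOfEquivOfLe hHT).toEquiv
  have hcop : (Nat.card (H.subgroupOf T)).Coprime (H.subgroupOf T).index := by
    rw [hcard, hT]
    exact hHall
  obtain ⟨Q', hQ'⟩ := Subgroup.exists_right_complement'_of_coprime hcop
  rw [← hT]
  refine ⟨Q'.map T.subtype, Subgroup.map_subtype_le Q', ?_, ?_⟩
  · rw [Subgroup.card_map_of_injective T.subtype_injective, ← hQ'.symm.index_eq_card, ← hcard]
    exact hcop.symm
  · have h1 := hQ'.sup_eq_top
    have h2 := congrArg (Subgroup.map T.subtype) h1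
    rw [Subgroup.map_sup, Subgroup.map_subgroupOf_eq_of_le hHT, ← MonoidHom.range_eq_map,
      Subgroup.range_subtype] at h2
    exact h2

/-- An element centralizing a Sylow `p`-subgroup of `H` for every prime `p` centralizes `H`. -/
theorem mem_centralizer_of_sylows (H : Subgroup G) (c : G)
    (h : ∀ (p : ℕ) [Fact p.Prime], ∃ P : Sylow p H,
      ∀ x ∈ (P : Subgroup H), c * (x : G) = (x : G) * c) :
    c ∈ Subgroup.centralizer (H : Set G) := by
  obtain ⟨D, hD⟩ : ∃ D : Subgroup H,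
      D = (Subgroup.centralizer ({c} : Set G)).subgroupOf H := ⟨_, rfl⟩
  have hmem : ∀ x : H, x ∈ D ↔ c * (x : G) = (x : G) * c := by
    intro x
    rw [hD, Subgroup.mem_subgroupOf, Subgroup.mem_centralizer_iff]
    simp
  have hidx : D.index = 1 := by
    by_contra hne
    obtain ⟨p, hp, hpd⟩ := Nat.exists_prime_and_dvd hne
    haveI : Fact p.Prime := ⟨hp⟩
    obtain ⟨P, hP⟩ := h p
    have hPD : (P : Subgroup H) ≤ D := fun x hx => (hmem x).mpr (hP x hx)
    exact P.not_dvd_index (hpd.trans (Subgroup.index_dvd_of_le hPD))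
  have hDtop : D = ⊤ := Subgroup.index_eq_one.mp hidx
  rw [Subgroup.mem_centralizer_iff]
  intro y hy
  have h1 : (⟨y, hy⟩ : H) ∈ D := by rw [hDtop]; exact Subgroup.mem_top _
  exact ((hmem ⟨y, hy⟩).mp h1).symm

/-- Commutators of a coprime operator group centralize a solvable group all of whose abelian
subgroups are cyclic. -/
theorem comm_mem_centralizer (H : Subgroup G) (hHs : Group.IsSolvable H)
    (hcyc : ∀ A : Subgroup ↥H, IsMulCommutative A → IsCyclic A)
    (Q : Subgroup G) (hQT : Q ≤ Subgroup.normalizer (H : Set G))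
    (hcop : (Nat.card Q).Coprime (Nat.card H))
    (a b : G) (ha : a ∈ Q) (hb : b ∈ Q) :
    a * b * a⁻¹ * b⁻¹ ∈ Subgroup.centralizer (H : Set G) := by
  apply mem_centralizer_of_sylows
  intro p hp
  obtain ⟨P, hP⟩ := coprime_exists_invariant_sylow Q H hQT hcop (Or.inr hHs) p
  refine ⟨P, ?_⟩
  intro x hx
  have eP : (P : Subgroup H) ≃* ((P : Subgroup H).map H.subtype) :=
    Subgroup.equivMapOfInjective _ _ H.subtype_injective
  have hxP0 : (x : G) ∈ (P : Subgroup H).map H.subtype := Subgroup.mem_map_of_mem _ hx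
  by_cases hc : IsCyclic (P : Subgroup H)
  · have hc0 : IsCyclic ((P : Subgroup H).map H.subtype) :=
      isCyclic_of_surjective eP eP.surjective
    exact comm_centralizes_cyclic _ hc0 a b (hP ha) (hP hb) x hxP0
  · rcases pgroup_cyc_or_quat hcyc p (P : Subgroup H) P.isPGroup' with hc' | ⟨hp2, n, ⟨e⟩⟩
    · exact absurd hc' hc
    · have hn : 1 ≤ n := by
        by_contra h0
        have hn0 : n = 0 := by omega
        subst hn0
        apply hc
        haveI : IsCyclic (QuaternionGroup (2 ^ 0)) := by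
          rw [pow_zero]
          exact QuaternionGroup.quaternionGroup_one_isCyclic
        exact isCyclic_of_surjective e.symm e.symm.surjective
      have h2H : 2 ∣ Nat.card H := by
        have h1 : Nat.card (P : Subgroup H) = 4 * 2 ^ n := by
          haveI : NeZero (2 ^ n) := ⟨by positivity⟩
          rw [Nat.card_congr e.toEquiv, Nat.card_eq_fintype_card, QuaternionGroup.card]
        have h2 : Nat.card (P : Subgroup H) ∣ Nat.card H := Subgroup.card_subgroup_dvd_card _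
        rw [h1] at h2
        exact Dvd.dvd.trans ⟨2 * 2 ^ n, by ring⟩ h2
      have hodd : Odd (Nat.card Q) :=
        Nat.coprime_two_right.mp (Nat.Coprime.coprime_dvd_right h2H hcop)
      exact comm_centralizes_quat n hn _ Q hP hodd (eP.symm.trans e) a b ha hb x hxP0

/-- If `O` is normal, `T` normalizes `C` and `G = O T`, then `O C` is normal. -/
theorem sup_normal_of_conj (O C T : Subgroup G) [hOn : O.Normal]
    (hT : ∀ t ∈ T, ∀ x ∈ C, t * x * t⁻¹ ∈ C) (hOT : O ⊔ T = ⊤) : (O ⊔ C).Normal := by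
  have hdecomp : ∀ (K : Subgroup G) (g : G), g ∈ O ⊔ K → ∃ o ∈ O, ∃ k ∈ K, o * k = g := by
    intro K g hg
    have h1 : g ∈ ((O ⊔ K : Subgroup G) : Set G) := hg
    rw [Subgroup.normal_mul] at h1
    exact Set.mem_mul.mp h1
  have hT' : ∀ t ∈ T, ∀ x ∈ O ⊔ C, t * x * t⁻¹ ∈ O ⊔ C := by
    intro t ht x hx
    obtain ⟨o, ho, c, hc, hoc⟩ := hdecomp C x hx
    subst hoc
    have e : t * (o * c) * t⁻¹ = (t * o * t⁻¹) * (t * c * t⁻¹) := by group
    rw [e]
    exact Subgroup.mul_mem _ (Subgroup.mem_sup_left (hOn.conj_mem o ho t))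
      (Subgroup.mem_sup_right (hT t ht c hc))
  constructor
  intro x hx g
  obtain ⟨o, ho, t, ht, hot⟩ := hdecomp T g (by rw [hOT]; exact Subgroup.mem_top g)
  subst hot
  have e : o * t * x * (o * t)⁻¹ = o * (t * x * t⁻¹) * o⁻¹ := by group
  rw [e]
  have ho' : o ∈ O ⊔ C := Subgroup.mem_sup_left ho
  exact Subgroup.mul_mem _ (Subgroup.mul_mem _ ho' (hT' t ht x hx)) (Subgroup.inv_mem _ ho')

/-- The part of the complement `Q` centralizing `H` lies in `O_{π'}(G)`. -/
theorem centralizer_part_le (H O Q : Subgroup G) [hOn : O.Normal]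
    (hOmax : ∀ K : Subgroup G, K.Normal → (Nat.card K).Coprime (Nat.card H) → K ≤ O)
    (hOc : (Nat.card O).Coprime (Nat.card H))
    (hQT : Q ≤ Subgroup.normalizer (H : Set G)) (hcop : (Nat.card Q).Coprime (Nat.card H))
    (hOT : O ⊔ (H ⊔ Q) = ⊤) :
    Q ⊓ Subgroup.centralizer (H : Set G) ≤ O := by
  obtain ⟨C, hC⟩ : ∃ C : Subgroup G, C = Q ⊓ Subgroup.centralizer (H : Set G) := ⟨_, rfl⟩
  rw [← hC]
  have hCmem : ∀ x, x ∈ C ↔ x ∈ Q ∧ ∀ h ∈ H, h * x = x * h := by
    intro x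
    rw [hC, Subgroup.mem_inf, Subgroup.mem_centralizer_iff]
    rfl
  have hHn : H ≤ Subgroup.normalizer (C : Set G) := le_normalizer_of_conj_mem (by
    intro h hh x hx
    have h1 := ((hCmem x).mp hx).2 h hh
    have e : h * x * h⁻¹ = x := by rw [h1, mul_inv_cancel_right]
    rw [e]
    exact hx)
  have hQn : Q ≤ Subgroup.normalizer (C : Set G) := le_normalizer_of_conj_mem (by
    intro q hq x hx
    obtain ⟨hxQ, hxc⟩ := (hCmem x).mp hx
    rw [hCmem]
    refine ⟨Q.mul_mem (Q.mul_mem hq hxQ) (Q.inv_mem hq), ?_⟩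
    intro h hh
    have hq' : q⁻¹ ∈ Subgroup.normalizer (H : Set G) := Subgroup.inv_mem _ (hQT hq)
    have h1 : q⁻¹ * h * q⁻¹⁻¹ ∈ H := (Subgroup.mem_normalizer_iff.mp hq' h).mp hh
    have h2 := hxc _ h1
    calc h * (q * x * q⁻¹) = q * ((q⁻¹ * h * q⁻¹⁻¹) * x) * q⁻¹ := by group
      _ = q * (x * (q⁻¹ * h * q⁻¹⁻¹)) * q⁻¹ := by rw [h2]
      _ = q * x * q⁻¹ * h := by group)
  have hconj : ∀ t ∈ H ⊔ Q, ∀ x ∈ C, t * x * t⁻¹ ∈ C := by
    intro t ht x hx
    exact (Subgroup.mem_normalizer_iff.mp (sup_le hHn hQn ht) x).mp hx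
  haveI hn : (O ⊔ C).Normal := sup_normal_of_conj O C (H ⊔ Q) hconj hOT
  have hcard : (Nat.card (O ⊔ C : Subgroup G)).Coprime (Nat.card H) := by
    have h1 : Nat.card (C ⊔ O : Subgroup G) ∣ Nat.card C * Nat.card O :=
      card_sup_dvd_of_normal C O
    rw [sup_comm] at h1
    have h2 : Nat.card C ∣ Nat.card Q := Subgroup.card_dvd_of_le (by rw [hC]; exact inf_le_left)
    have h3 : (Nat.card C).Coprime (Nat.card H) := Nat.Coprime.coprime_dvd_left h2 hcop
    exact Nat.Coprime.coprime_dvd_left h1 (Nat.Coprime.mul_left h3 hOc)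
  exact le_sup_right.trans (hOmax _ hn hcard)

/-- The join of a solvable normal subgroup with a solvable subgroup is solvable. -/
theorem solvable_sup {N K : Subgroup G} [hN : N.Normal] (hNs : Group.IsSolvable N)
    (hKs : Group.IsSolvable K) : Group.IsSolvable ↥(N ⊔ K) := by
  obtain ⟨π, hπ⟩ : ∃ π : G →* G ⧸ N, π = QuotientGroup.mk' N := ⟨_, rfl⟩
  obtain ⟨R, hR⟩ : ∃ R : Subgroup (G ⧸ N), R = (π.comp K.subtype).range := ⟨_, rfl⟩
  haveI := hKs
  haveI hRs : Group.IsSolvable R := by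
    rw [hR]
    exact solvable_of_surjective (MonoidHom.rangeRestrict_surjective (π.comp K.subtype))
  have hmem : ∀ x : ↥(N ⊔ K), (π.comp (N ⊔ K).subtype) x ∈ R := by
    intro x
    have h1 : (x : G) ∈ ((N ⊔ K : Subgroup G) : Set G) := x.2
    rw [Subgroup.normal_mul] at h1
    obtain ⟨n, hn, k, hk, hnk⟩ := Set.mem_mul.mp h1
    have h2 : π n = 1 := by rw [hπ]; exact (QuotientGroup.eq_one_iff n).mpr hn
    have h3 : (π.comp (N ⊔ K).subtype) x = π k := by
      show π (x : G) = π k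
      rw [← hnk, map_mul, h2, one_mul]
    rw [h3, hR]
    exact ⟨⟨k, hk⟩, rfl⟩
  obtain ⟨g, hg⟩ : ∃ g : ↥(N ⊔ K) →* R,
      g = (π.comp (N ⊔ K).subtype).codRestrict R hmem := ⟨_, rfl⟩
  obtain ⟨f, hf⟩ : ∃ f : N →* ↥(N ⊔ K), f = Subgroup.inclusion le_sup_left := ⟨_, rfl⟩
  have hfg : g.ker ≤ f.range := by
    intro x hx
    have h1 : π (x : G) = 1 := by
      have h0 := MonoidHom.mem_ker.mp hx
      rw [hg] at h0
      exact congrArg Subtype.val h0
    have h2 : (x : G) ∈ N := by rw [hπ] at h1; exact (QuotientGroup.eq_one_iff _).mp h1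
    refine ⟨⟨x, h2⟩, ?_⟩
    rw [hf]
    exact Subtype.ext rfl
  haveI := hNs
  exact solvable_of_ker_le_range f g hfg

/-- If `X` is a solvable normal subgroup, `G = X Q` and commutators of `Q` lie in `X`, then `G`
is solvable. -/
theorem solvable_of_normal_comm (X Q : Subgroup G) [hXn : X.Normal]
    (hXs : Group.IsSolvable X) (hXQ : X ⊔ Q = ⊤)
    (hcomm : ∀ a ∈ Q, ∀ b ∈ Q, a * b * a⁻¹ * b⁻¹ ∈ X) : Group.IsSolvable G := by
  have hq : ∀ y : G ⧸ X, ∃ q ∈ Q, (QuotientGroup.mk q : G ⧸ X) = y := by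
    intro y
    obtain ⟨g, hgy⟩ := QuotientGroup.mk_surjective y
    subst hgy
    have h1 : g ∈ ((X ⊔ Q : Subgroup G) : Set G) := by rw [hXQ]; exact Subgroup.mem_top g
    rw [Subgroup.normal_mul] at h1
    obtain ⟨x, hx, q, hq, hxq⟩ := Set.mem_mul.mp h1
    subst hxq
    refine ⟨q, hq, ?_⟩
    rw [QuotientGroup.mk_mul, (QuotientGroup.eq_one_iff x).mpr hx, one_mul]
  haveI hqs : Group.IsSolvable (G ⧸ X) := by
    apply isSolvable_of_comm
    intro y z
    obtain ⟨a, ha, hay⟩ := hq y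
    obtain ⟨b, hb, hbz⟩ := hq z
    subst hay
    subst hbz
    have h1 := (QuotientGroup.eq_one_iff (N := X) (a * b * a⁻¹ * b⁻¹)).mpr (hcomm a ha b hb)
    rw [QuotientGroup.mk_mul, QuotientGroup.mk_mul, QuotientGroup.mk_mul, QuotientGroup.mk_inv,
      QuotientGroup.mk_inv, mul_inv_eq_one, mul_inv_eq_iff_eq_mul] at h1
    exact h1
  haveI := hXs
  apply solvable_of_ker_le_range X.subtype (QuotientGroup.mk' X)
  rw [QuotientGroup.ker_mk', Subgroup.range_subtype]

theorem not_solvable_SL25 :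
    ¬ Group.IsSolvable (Matrix.SpecialLinearGroup (Fin 2) (ZMod 5)) := by
  intro hs
  haveI : Nontrivial (Matrix.SpecialLinearGroup (Fin 2) (ZMod 5)) := by
    rw [← Finite.one_lt_card_iff_nontrivial, Cfsg.Agent.Lib.Helper6.NSFrob.card_SL25]
    norm_num
  have h2 := Group.IsSolvable.commutator_lt_top_of_nontrivial
    (Matrix.SpecialLinearGroup (Fin 2) (ZMod 5))
  rw [Cfsg.Agent.Lib.Helper2.Zr.sl25_perfect] at h2
  exact lt_irrefl _ h2

/-- Statement S4118. -/
theorem s4118 (H : Subgroup G)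
    (hTI : Cfsg.IsTISubset (H : Set G)) (hnn : ¬ H.Normal)
    (hHall : (Nat.card H).Coprime (H.subgroupOf (Subgroup.normalizer (H : Set G))).index)
    (hsep : ∃ (n : ℕ) (M : Fin (n + 1) → Subgroup G), M 0 = ⊥ ∧ M (Fin.last n) = ⊤ ∧
      Monotone M ∧ (∀ i, (M i).Normal) ∧
      ∀ i : Fin n, (∀ q : ℕ, q.Prime → q ∣ (M i.castSucc).relIndex (M i.succ) →
          q ∣ Nat.card H) ∨
        ((M i.castSucc).relIndex (M i.succ)).Coprime (Nat.card H))
    (O : Subgroup G)
    (hO : O = sSup {K : Subgroup G | K.Normal ∧ (Nat.card K).Coprime (Nat.card H)}) :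
    O ⊔ Subgroup.normalizer (H : Set G) = ⊤ ∧ (O ⊔ H).Normal ∧
    (Group.IsSolvable G ↔ Group.IsSolvable O ∧
      ∀ K : Subgroup G, K ≤ H →
        ¬ Nonempty (K ≃* Matrix.SpecialLinearGroup (Fin 2) (ZMod 5))) := by
  obtain ⟨hOn, hOc, hOmax, hOT, hXn⟩ :=
    Cfsg.Agent.Lib.Helper6.TIHb.claims H hTI hnn hHall hsep O hO
  refine ⟨hOT, hXn, ?_, ?_⟩
  · intro hG
    haveI := hG
    refine ⟨inferInstance, ?_⟩
    rintro K hK ⟨e⟩
    haveI : Group.IsSolvable K := inferInstance
    exact not_solvable_SL25 (solvable_of_surjective (f := e.toMonoidHom) e.surjective)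
  · rintro ⟨hOs, hno⟩
    haveI := hOn
    have hFC := frob_of_sup H hTI hnn hHall O hOc hOT
    have hHs := solvable_of_no_SL25 H hFC hno
    have hcyc := cyc_of_hFC H hFC
    obtain ⟨Q, hQT, hcop, hHQ⟩ := exists_compl_in_normalizer H hHall
    have hOT' : O ⊔ (H ⊔ Q) = ⊤ := by rw [hHQ]; exact hOT
    have hC := centralizer_part_le H O Q hOmax hOc hQT hcop hOT'
    have hcomm : ∀ a ∈ Q, ∀ b ∈ Q, a * b * a⁻¹ * b⁻¹ ∈ O ⊔ H := by
      intro a ha b hb
      apply Subgroup.mem_sup_left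
      apply hC
      refine Subgroup.mem_inf.mpr ⟨?_, comm_mem_centralizer H hHs hcyc Q hQT hcop a b ha hb⟩
      exact Q.mul_mem (Q.mul_mem (Q.mul_mem ha hb) (Q.inv_mem ha)) (Q.inv_mem hb)
    haveI := hXn
    have hXs : Group.IsSolvable ↥(O ⊔ H) := solvable_sup hOs hHs
    exact solvable_of_normal_comm (O ⊔ H) Q hXs (by rw [sup_assoc]; exact hOT') hcomm

end Cfsg.Agent.Lib.Helper6.TIHf
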