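import Mathlib
import Cfsg.Agent.Lib.Helper6.TdF

/-! # Arithmetic helpers and further local facts for the local data `Td.Loc` -/

set_option autoImplicit false
set_option linter.unusedSectionVars false
open Cfsg

namespace Cfsg.Agent.Lib.Helper6.Td

section gram

/-- bilinear expansion with four columns -/
theorem gram4 {ι : Type*} (S : Finset ι) (x y p q p' q' : ι → ℤ)
    (c₁ c₂ c₃ c₄ d₁ d₂ d₃ d₄ : ℤ)
    (hx : ∀ i, 6 * x i = c₁ * p i + c₂ * q i + c₃ * p' i + c₄ * q' i)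
    (hy : ∀ i, 6 * y i = d₁ * p i + d₂ * q i + d₃ * p' i + d₄ * q' i) :
    36 * ∑ i ∈ S, x i * y i
      = c₁ * d₁ * ∑ i ∈ S, p i * p i + c₁ * d₂ * ∑ i ∈ S, p i * q i
        + c₁ * d₃ * ∑ i ∈ S, p i * p' i + c₁ * d₄ * ∑ i ∈ S, p i * q' i
        + c₂ * d₁ * ∑ i ∈ S, q i * p i + c₂ * d₂ * ∑ i ∈ S, q i * q i
        + c₂ * d₃ * ∑ i ∈ S, q i * p' i + c₂ * d₄ * ∑ i ∈ S, q i * q' i
        + c₃ * d₁ * ∑ i ∈ S, p' i * p i + c₃ * d₂ * ∑ i ∈ S, p' i * q i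
        + c₃ * d₃ * ∑ i ∈ S, p' i * p' i + c₃ * d₄ * ∑ i ∈ S, p' i * q' i
        + c₄ * d₁ * ∑ i ∈ S, q' i * p i + c₄ * d₂ * ∑ i ∈ S, q' i * q i
        + c₄ * d₃ * ∑ i ∈ S, q' i * p' i + c₄ * d₄ * ∑ i ∈ S, q' i * q' i := by
  simp only [Finset.mul_sum]
  simp only [← Finset.sum_add_distrib]
  apply Finset.sum_congr rfl
  intro i _
  have : 36 * (x i * y i) = (6 * x i) * (6 * y i) := by ring
  rw [this, hx i, hy i]
  ring

/-- linear expansion with four columns -/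
theorem lin4 {ι : Type*} (S : Finset ι) (x p q p' q' d : ι → ℤ) (c₁ c₂ c₃ c₄ : ℤ)
    (hx : ∀ i, 6 * x i = c₁ * p i + c₂ * q i + c₃ * p' i + c₄ * q' i) :
    6 * ∑ i ∈ S, x i * d i
      = c₁ * ∑ i ∈ S, p i * d i + c₂ * ∑ i ∈ S, q i * d i + c₃ * ∑ i ∈ S, p' i * d i
        + c₄ * ∑ i ∈ S, q' i * d i := by
  simp only [Finset.mul_sum]
  simp only [← Finset.sum_add_distrib]
  apply Finset.sum_congr rfl
  intro i _
  have : 6 * (x i * d i) = (6 * x i) * d i := by ring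
  rw [this, hx i]
  ring

/-- the arithmetic behind the exclusion of quaternionic characters: from the four `D₁₂` parity
relations and the `V₄` parity relation -/
theorem quat_arith (U τ ζ : ℂ) (p p' : ℤ) (k₁ k₂ k₃ k₄ k₅ : ℕ)
    (h1 : U + 2 * (p : ℂ) + ((1 : ℤ) : ℂ) * (τ + 2 * (p' : ℂ)) + ((1 : ℤ) : ℂ) * (3 * τ)
      + ((1 : ℤ) : ℂ) * ((1 : ℤ) : ℂ) * (3 * ζ) = 24 * (k₁ : ℂ))
    (h2 : U + 2 * (p : ℂ) + ((1 : ℤ) : ℂ) * (τ + 2 * (p' : ℂ)) + ((-1 : ℤ) : ℂ) * (3 * τ)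
      + ((1 : ℤ) : ℂ) * ((-1 : ℤ) : ℂ) * (3 * ζ) = 24 * (k₂ : ℂ))
    (h3 : U + 2 * (p : ℂ) + ((-1 : ℤ) : ℂ) * (τ + 2 * (p' : ℂ)) + ((1 : ℤ) : ℂ) * (3 * τ)
      + ((-1 : ℤ) : ℂ) * ((1 : ℤ) : ℂ) * (3 * ζ) = 24 * (k₃ : ℂ))
    (h4 : U + 2 * (p : ℂ) + ((-1 : ℤ) : ℂ) * (τ + 2 * (p' : ℂ)) + ((-1 : ℤ) : ℂ) * (3 * τ)
      + ((-1 : ℤ) : ℂ) * ((-1 : ℤ) : ℂ) * (3 * ζ) = 24 * (k₄ : ℂ))
    (h5 : U + τ + τ + ζ = 8 * (k₅ : ℂ)) :
    p' % 2 = 0 ∧ ¬ (p' = 0 ∧ (p = 2 ∨ p = -2)) := by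
  push_cast at h1 h2 h3 h4
  have e1 : ((p' : ℤ) : ℂ) = ((2 * (k₁ : ℤ) + 4 * k₂ - 4 * k₃ - 2 * k₄ : ℤ) : ℂ) := by
    push_cast
    linear_combination (1 / 8 : ℂ) * (h1 + h2 - h3 - h4) - (1 / 24 : ℂ) * (h1 - h2 + h3 - h4)
  have e1' : p' = 2 * (k₁ : ℤ) + 4 * k₂ - 4 * k₃ - 2 * k₄ := by exact_mod_cast e1
  have e2 : ((12 * (k₁ : ℤ) + 8 * k₃ + 4 * k₄ - 2 * p : ℤ) : ℂ) = ((8 * (k₅ : ℤ) : ℤ) : ℂ) := by
    push_cast
    linear_combination h5 - (1 / 4 : ℂ) * (h1 + h2 + h3 + h4)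
      - (1 / 6 : ℂ) * (h1 - h2 + h3 - h4) - (1 / 12 : ℂ) * (h1 - h2 - h3 + h4)
  have e2' : 12 * (k₁ : ℤ) + 8 * k₃ + 4 * k₄ - 2 * p = 8 * (k₅ : ℤ) := by exact_mod_cast e2
  refine ⟨by omega, ?_⟩
  rintro ⟨h0, hp | hp⟩ <;> omega

end gram

section loc

variable {G : Type*} [Group G] [Finite G] {P : Sylow 3 G} {a b t₁ t₂ w : G}

variable (hcomm : ∀ x ∈ (P : Subgroup G), ∀ y ∈ (P : Subgroup G), x * y = y * x)
  (hexp : ∀ x ∈ (P : Subgroup G), x ^ 3 = 1)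
  (hloc : ∀ s ∈ (P : Subgroup G), s ≠ 1 →
    Subgroup.centralizer ({s} : Set G) ≤ Subgroup.normalizer ((P : Subgroup G) : Set G))
  (L : Loc P a b t₁ t₂ w)

include L hcomm hexp

theorem Loc.orderOf_ab : orderOf (a * b) = 3 := (L.symm' hcomm hexp).orderOf_a hexp

theorem Loc.orderOf_abw : orderOf (a * b * w) = 6 := (L.symm' hcomm hexp).orderOf_at₁ hexp

theorem Loc.w_ab_comm : w * (a * b) = (a * b) * w := (L.symm' hcomm hexp).h₁a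

theorem Loc.at₁_ne_one : a * t₁ ≠ 1 := by
  intro h
  have := L.orderOf_at₁ hexp
  rw [h, orderOf_one] at this
  norm_num at this

theorem Loc.abw_ne_one : a * b * w ≠ 1 := (L.symm' hcomm hexp).at₁_ne_one hcomm hexp

theorem Loc.isConj_t₁_t₂ : IsConj t₁ t₂ := isConj_iff.mpr ⟨w, L.hw₁⟩

/-- `t₂ a = a² t₂` -/
theorem Loc.t₂_mul_a : t₂ * a = a * a * t₂ := by
  have h1 : t₂ * a = (t₂ * a * t₂⁻¹) * t₂ := by group
  have h2 : a * a = a⁻¹ := by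
    have := L.a3 hexp
    have h3 : a * a * a = 1 := by rw [← this, pow_succ, pow_two]
    exact eq_inv_of_mul_eq_one_left h3
  rw [h1, L.h₂a, h2]

include hloc

theorem Loc.not_isConj_at₁_abw : ¬ IsConj (a * t₁) (a * b * w) := by
  intro h
  have h4 := h.pow 4
  rw [L.at₁_pow_four hexp, (L.symm' hcomm hexp).at₁_pow_four hexp] at h4
  exact L.not_isConj_a_ab hcomm hexp hloc h4

theorem Loc.not_isConj_ab_a : ¬ IsConj (a * b) a :=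
  fun h => L.not_isConj_a_ab hcomm hexp hloc h.symm

variable (hcardP : Nat.card (P : Subgroup G) = 9)

include hcardP

theorem Loc.card_centralizer_ab :
    Nat.card (Subgroup.centralizer ({a * b} : Set G)) = 18 :=
  (L.symm' hcomm hexp).card_centralizer_a hcomm hexp hloc hcardP

theorem Loc.card_centralizer_abw :
    Nat.card (Subgroup.centralizer ({a * b * w} : Set G)) = 6 :=
  (L.symm' hcomm hexp).card_centralizer_at₁ hcomm hexp hloc hcardP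

theorem Loc.card_sq_eq_ab : Nat.card {h : G // h * h = a * b} = 4 :=
  (L.symm' hcomm hexp).card_sq_eq_a hcomm hexp hloc hcardP

theorem Loc.card_sq_eq_abw : Nat.card {h : G // h * h = a * b * w} = 0 :=
  (L.symm' hcomm hexp).card_sq_eq_at₁ hcomm hexp hloc hcardP

end loc

end Cfsg.Agent.Lib.Helper6.Td
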