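import Mathlib
import Cfsg.Prelude.Def_Blocks
import Cfsg.Agent.Lib.Helper6.TdG
import Cfsg.Agent.Lib.Helper6.TdH
import Cfsg.Agent.Lib.Helper6.TdI
import Cfsg.Agent.Lib.Helper5.TdPar

/-! # Quaternionic irreducible characters and the local data `Td.Loc` -/

set_option autoImplicit false
set_option linter.unusedSectionVars false
open Cfsg

namespace Cfsg.Agent.Lib.Helper6.Td

open scoped ComplexConjugate
open Cfsg.Agent.Lib.Helper6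
open Cfsg.Agent.Lib.Helper6.Td

section main

variable {G : Type*} [Group G] [Fintype G] {P : Sylow 3 G} {a b t₁ t₂ w : G}

/-- exclusion data for a quaternionic irreducible character -/
theorem Loc.not_quat
    (hcomm : ∀ x ∈ (P : Subgroup G), ∀ y ∈ (P : Subgroup G), x * y = y * x)
    (hexp : ∀ x ∈ (P : Subgroup G), x ^ 3 = 1)
    (L : Loc P a b t₁ t₂ w) {χ : G → ℂ} (hχ : Cfsg.IsIrrCharacter G χ)
    (hq : ∑ g : G, χ (g * g) = -(Nat.card G : ℂ)) (p p' : ℤ) (hp : χ a = (p : ℂ))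
    (hp' : χ (a * t₁) = (p' : ℂ)) :
    p' % 2 = 0 ∧ ¬ (p' = 0 ∧ (p = 2 ∨ p = -2)) := by
  obtain ⟨n, ρ, hρ, rfl⟩ := hχ
  haveI := hρ
  have hx : a * a * a = 1 := by
    have := L.a3 hexp
    rw [← this, pow_succ, pow_two]
  have par := fun (ls lt : ℤ) (hls : ls = 1 ∨ ls = -1) (hlt : lt = 1 ∨ lt = -1) =>
    Cfsg.Agent.Lib.Helper5.TdPar.d12_parity ρ hq a t₁ t₂ hx L.ht₁ L.ht₂ L.h₁a.symm L.h₁₂ (L.t₂_mul_a hcomm hexp)
      ls lt hls hlt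
  obtain ⟨k₁, h1⟩ := par 1 1 (Or.inl rfl) (Or.inl rfl)
  obtain ⟨k₂, h2⟩ := par 1 (-1) (Or.inl rfl) (Or.inr rfl)
  obtain ⟨k₃, h3⟩ := par (-1) 1 (Or.inr rfl) (Or.inl rfl)
  obtain ⟨k₄, h4⟩ := par (-1) (-1) (Or.inr rfl) (Or.inr rfl)
  obtain ⟨k₅, h5⟩ := Cfsg.Agent.Lib.Helper5.TdPar.v4_parity ρ hq t₁ t₂ L.ht₁ L.ht₂ L.h₁₂
  have hτ : ρ.character t₂ = ρ.character t₁ := by
    rw [← L.hw₁, Representation.char_conj]
  rw [hτ, hp, hp'] at h1 h2 h3 h4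
  rw [hτ] at h5
  exact quat_arith (ρ.character 1) (ρ.character t₁) (ρ.character (t₁ * t₂)) p p'
    k₁ k₂ k₃ k₄ k₅ h1 h2 h3 h4 h5

end main

end Cfsg.Agent.Lib.Helper6.Td
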