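import Mathlib
import Cfsg.Prelude.Def_Blocks
import Cfsg.Agent.Lib.Helper6.TdG
import Cfsg.Agent.Lib.Helper6.TdI
import Cfsg.Agent.Lib.Helper6.TdJ
import Cfsg.Agent.Lib.Helper5.TdDeg
import Cfsg.Agent.Lib.Helper9.Dc8A
import Cfsg.Agent.Lib.Helper6.TvH
import Cfsg.Agent.Lib.Helper6.BlkReal
import Cfsg.Agent.Lib.Helper6.Multiplicity
import Cfsg.Agent.Lib.Helper6.BLSimple2
import Cfsg.Agent.Lib.Helper8.AFT3
import Cfsg.Agent.Lib.Helper9.Nm9A

/-! # A Sylow 3-subgroup `3²` with normalizer `3² : D₈` and `C(s) ≤ N(P)`: the group has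
order 72 or 720 -/

set_option autoImplicit false
set_option linter.unusedSectionVars false
set_option maxHeartbeats 1600000
open Cfsg

namespace Cfsg.Agent.Lib.Helper6.Td

open scoped ComplexConjugate
open Cfsg.Agent.Lib.Helper6
open Cfsg.Agent.Lib.Helper6.Td
open Cfsg.Agent.Lib.Helper6.Tv (gram_int deg_int class_sum ne_zero_of_principal vanish_section)
open Cfsg.Agent.Lib.Helper8.FS Cfsg.Agent.Lib.Helper8.AFT

section main

variable {G : Type*} [Group G] [Fintype G] [DecidableEq G]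
variable [Fintype (Cfsg.IrrCharacter G)]
variable {M : Ideal Cfsg.AlgInt} {P : Sylow 3 G} {a b t₁ t₂ w : G}

theorem card_cases (hM : Cfsg.IsPModular 3 M)
    (hcomm : ∀ x ∈ (P : Subgroup G), ∀ y ∈ (P : Subgroup G), x * y = y * x)
    (hexp : ∀ x ∈ (P : Subgroup G), x ^ 3 = 1)
    (hloc : ∀ s ∈ (P : Subgroup G), s ≠ 1 →
      Subgroup.centralizer ({s} : Set G) ≤ Subgroup.normalizer ((P : Subgroup G) : Set G))
    (hCP : Subgroup.centralizer ((P : Subgroup G) : Set G) ≤ (P : Subgroup G))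
    (hcardP : Nat.card (P : Subgroup G) = 9)
    (L : Loc P a b t₁ t₂ w) :
    Nat.card G = 72 ∨ (Nat.card G = 720 ∧ ∃ χ : Cfsg.IrrCharacter G,
      Cfsg.charDegree (χ : G → ℂ) = 1 ∧ (χ : G → ℂ) a = 1 ∧ (χ : G → ℂ) (a * t₁) = -1 ∧
      (χ : G → ℂ) (a * b) = 1 ∧ (χ : G → ℂ) (a * b * w) = -1 ∧ IsRe χ) := by
  classical
  haveI : Fact (Nat.Prime 3) := ⟨Nat.prime_three⟩
  have hχc : ∀ χ : Cfsg.IrrCharacter G, Cfsg.IsCharacter G (χ : G → ℂ) :=
    fun χ => IsIrrCharacter.isCharacter χ.2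
  have L' := L.symm' hcomm hexp
  choose A B C D hint using fun χ : Cfsg.IrrCharacter G => L.exists_int hcomm hexp (hχc χ)
  -- the integer-valued columns
  obtain ⟨vp, hvpdef⟩ : ∃ vp : Cfsg.IrrCharacter G → ℤ,
    vp = fun χ => 2 * (C χ + D χ) - (A χ + B χ) := ⟨_, rfl⟩
  obtain ⟨vq, hvqdef⟩ : ∃ vq : Cfsg.IrrCharacter G → ℤ,
    vq = fun χ => 2 * (A χ + B χ) - (C χ + D χ) := ⟨_, rfl⟩
  obtain ⟨vp', hvp'def⟩ : ∃ vp' : Cfsg.IrrCharacter G → ℤ, vp' = fun χ => A χ - B χ := ⟨_, rfl⟩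
  obtain ⟨vq', hvq'def⟩ : ∃ vq' : Cfsg.IrrCharacter G → ℤ, vq' = fun χ => C χ - D χ := ⟨_, rfl⟩
  have hvp : ∀ χ : Cfsg.IrrCharacter G, (χ : G → ℂ) a = (vp χ : ℂ) := by
    intro χ; rw [(hint χ).1, hvpdef]; push_cast; ring
  have hvq : ∀ χ : Cfsg.IrrCharacter G, (χ : G → ℂ) (a * b) = (vq χ : ℂ) := by
    intro χ; rw [(hint χ).2.1, hvqdef]; push_cast; ring
  have hvp' : ∀ χ : Cfsg.IrrCharacter G, (χ : G → ℂ) (a * t₁) = (vp' χ : ℂ) := by
    intro χ; rw [(hint χ).2.2.1, hvp'def]; push_cast; ring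
  have hvq' : ∀ χ : Cfsg.IrrCharacter G, (χ : G → ℂ) (a * b * w) = (vq' χ : ℂ) := by
    intro χ; rw [(hint χ).2.2.2, hvq'def]; push_cast; ring
  have h6A : ∀ χ, 6 * A χ = 1 * vp χ + 2 * vq χ + 3 * vp' χ + 0 * vq' χ := by
    intro χ; rw [hvpdef, hvqdef, hvp'def, hvq'def]; ring
  have h6B : ∀ χ, 6 * B χ = 1 * vp χ + 2 * vq χ + (-3) * vp' χ + 0 * vq' χ := by
    intro χ; rw [hvpdef, hvqdef, hvp'def, hvq'def]; ring
  have h6C : ∀ χ, 6 * C χ = 2 * vp χ + 1 * vq χ + 0 * vp' χ + 3 * vq' χ := by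
    intro χ; rw [hvpdef, hvqdef, hvp'def, hvq'def]; ring
  have h6D : ∀ χ, 6 * D χ = 2 * vp χ + 1 * vq χ + 0 * vp' χ + (-3) * vq' χ := by
    intro χ; rw [hvpdef, hvqdef, hvp'def, hvq'def]; ring
  -- orders, non-conjugacy
  have oa := L.orderOf_a hexp
  have oc := L.orderOf_ab hcomm hexp
  have ot := L.orderOf_at₁ hexp
  have os := L.orderOf_abw hcomm hexp
  have nord : ∀ {g h : G}, orderOf g ≠ orderOf h → ¬ IsConj g h :=
    fun h => Cfsg.Agent.Lib.Helper8.Gl.not_isConj_of_orderOf_ne h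
  have nac : ¬ IsConj a (a * b) := L.not_isConj_a_ab hcomm hexp hloc
  have nts : ¬ IsConj (a * t₁) (a * b * w) := L.not_isConj_at₁_abw hcomm hexp hloc
  have ca := L.card_centralizer_a hcomm hexp hloc hcardP
  have cc := L.card_centralizer_ab hcomm hexp hloc hcardP
  have ct := L.card_centralizer_at₁ hcomm hexp hloc hcardP
  have cs := L.card_centralizer_abw hcomm hexp hloc hcardP
  -- Gram sums
  have Spp : ∑ χ, vp χ * vp χ = 18 := by
    have := (gram_int a a vp vp hvp hvp).1 (IsConj.refl a); rw [ca] at this; exact_mod_cast this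
  have Sqq : ∑ χ, vq χ * vq χ = 18 := by
    have := (gram_int _ _ vq vq hvq hvq).1 (IsConj.refl (a * b)); rw [cc] at this
    exact_mod_cast this
  have Stt : ∑ χ, vp' χ * vp' χ = 6 := by
    have := (gram_int _ _ vp' vp' hvp' hvp').1 (IsConj.refl (a * t₁)); rw [ct] at this
    exact_mod_cast this
  have Sss : ∑ χ, vq' χ * vq' χ = 6 := by
    have := (gram_int _ _ vq' vq' hvq' hvq').1 (IsConj.refl (a * b * w)); rw [cs] at this
    exact_mod_cast this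
  have Spq : ∑ χ, vp χ * vq χ = 0 := (gram_int _ _ vp vq hvp hvq).2 nac
  have Sqp : ∑ χ, vq χ * vp χ = 0 := (gram_int _ _ vq vp hvq hvp).2 (fun h => nac h.symm)
  have Spt : ∑ χ, vp χ * vp' χ = 0 :=
    (gram_int _ _ vp vp' hvp hvp').2 (nord (by rw [oa, ot]; norm_num))
  have Stp : ∑ χ, vp' χ * vp χ = 0 :=
    (gram_int _ _ vp' vp hvp' hvp).2 (nord (by rw [oa, ot]; norm_num))
  have Sps : ∑ χ, vp χ * vq' χ = 0 :=
    (gram_int _ _ vp vq' hvp hvq').2 (nord (by rw [oa, os]; norm_num))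
  have Ssp : ∑ χ, vq' χ * vp χ = 0 :=
    (gram_int _ _ vq' vp hvq' hvp).2 (nord (by rw [oa, os]; norm_num))
  have Sqt : ∑ χ, vq χ * vp' χ = 0 :=
    (gram_int _ _ vq vp' hvq hvp').2 (nord (by rw [oc, ot]; norm_num))
  have Stq : ∑ χ, vp' χ * vq χ = 0 :=
    (gram_int _ _ vp' vq hvp' hvq).2 (nord (by rw [oc, ot]; norm_num))
  have Sqs : ∑ χ, vq χ * vq' χ = 0 :=
    (gram_int _ _ vq vq' hvq hvq').2 (nord (by rw [oc, os]; norm_num))
  have Ssq : ∑ χ, vq' χ * vq χ = 0 :=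
    (gram_int _ _ vq' vq hvq' hvq).2 (nord (by rw [oc, os]; norm_num))
  have Sts : ∑ χ, vp' χ * vq' χ = 0 := (gram_int _ _ vp' vq' hvp' hvq').2 nts
  have Sst : ∑ χ, vq' χ * vp' χ = 0 :=
    (gram_int _ _ vq' vp' hvq' hvp').2 (fun h => nts h.symm)
  have gram : ∀ (x y : Cfsg.IrrCharacter G → ℤ) (c₁ c₂ c₃ c₄ d₁ d₂ d₃ d₄ : ℤ),
      (∀ χ, 6 * x χ = c₁ * vp χ + c₂ * vq χ + c₃ * vp' χ + c₄ * vq' χ) →
      (∀ χ, 6 * y χ = d₁ * vp χ + d₂ * vq χ + d₃ * vp' χ + d₄ * vq' χ) →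
      36 * ∑ χ, x χ * y χ = 18 * (c₁ * d₁) + 18 * (c₂ * d₂) + 6 * (c₃ * d₃) + 6 * (c₄ * d₄) := by
    intro x y c₁ c₂ c₃ c₄ d₁ d₂ d₃ d₄ hx hy
    have := gram4 Finset.univ x y vp vq vp' vq' c₁ c₂ c₃ c₄ d₁ d₂ d₃ d₄ hx hy
    rw [Spp, Spq, Spt, Sps, Sqp, Sqq, Sqt, Sqs, Stp, Stq, Stt, Sts, Ssp, Ssq, Sst, Sss] at this
    rw [this]; ring
  have hAA : ∑ χ, A χ * A χ = 4 := by have := gram A A _ _ _ _ _ _ _ _ h6A h6A; omega
  have hBB : ∑ χ, B χ * B χ = 4 := by have := gram B B _ _ _ _ _ _ _ _ h6B h6B; omega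
  have hCC : ∑ χ, C χ * C χ = 4 := by have := gram C C _ _ _ _ _ _ _ _ h6C h6C; omega
  have hDD : ∑ χ, D χ * D χ = 4 := by have := gram D D _ _ _ _ _ _ _ _ h6D h6D; omega
  have hAB : ∑ χ, A χ * B χ = 1 := by have := gram A B _ _ _ _ _ _ _ _ h6A h6B; omega
  have hCD : ∑ χ, C χ * D χ = 1 := by have := gram C D _ _ _ _ _ _ _ _ h6C h6D; omega
  have hAC : ∑ χ, A χ * C χ = 2 := by have := gram A C _ _ _ _ _ _ _ _ h6A h6C; omega
  have hAD : ∑ χ, A χ * D χ = 2 := by have := gram A D _ _ _ _ _ _ _ _ h6A h6D; omega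
  have hBC : ∑ χ, B χ * C χ = 2 := by have := gram B C _ _ _ _ _ _ _ _ h6B h6C; omega
  have hBD : ∑ χ, B χ * D χ = 2 := by have := gram B D _ _ _ _ _ _ _ _ h6B h6D; omega
  -- degree sums
  obtain ⟨deg, hdegdef⟩ : ∃ deg : Cfsg.IrrCharacter G → ℤ,
    deg = fun χ : Cfsg.IrrCharacter G => (Cfsg.charDegree (χ : G → ℂ) : ℤ) := ⟨_, rfl⟩
  have Dp : ∑ χ, vp χ * deg χ = 0 := by rw [hdegdef]; exact deg_int a L.ha1 vp hvp
  have Dq : ∑ χ, vq χ * deg χ = 0 := by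
    rw [hdegdef]; exact deg_int _ (L.ab_ne_one hcomm hexp) vq hvq
  have Dt : ∑ χ, vp' χ * deg χ = 0 := by
    rw [hdegdef]; exact deg_int _ (L.at₁_ne_one hcomm hexp) vp' hvp'
  have Ds : ∑ χ, vq' χ * deg χ = 0 := by
    rw [hdegdef]; exact deg_int _ (L.abw_ne_one hcomm hexp) vq' hvq'
  have lin : ∀ (x : Cfsg.IrrCharacter G → ℤ) (c₁ c₂ c₃ c₄ : ℤ),
      (∀ χ, 6 * x χ = c₁ * vp χ + c₂ * vq χ + c₃ * vp' χ + c₄ * vq' χ) →
      ∑ χ, x χ * deg χ = 0 := by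
    intro x c₁ c₂ c₃ c₄ hx
    have := lin4 Finset.univ x vp vq vp' vq' deg c₁ c₂ c₃ c₄ hx
    rw [Dp, Dq, Dt, Ds] at this
    omega
  have hdA := lin A _ _ _ _ h6A
  have hdB := lin B _ _ _ _ h6B
  have hdC := lin C _ _ _ _ h6C
  have hdD := lin D _ _ _ _ h6D
  have hdeg : ∀ χ, 0 < deg χ := by
    intro χ
    rw [hdegdef]
    show (0 : ℤ) < (Cfsg.charDegree (χ : G → ℂ) : ℤ)
    exact_mod_cast IsIrrCharacter.charDegree_pos χ.2
  have hdo : deg (oneIrr G) = 1 := by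
    rw [hdegdef]
    show (Cfsg.charDegree (fun _ : G => (1 : ℂ)) : ℤ) = 1
    rw [charDegree_one_fun]; rfl
  -- the trivial character
  have hone : ∀ g : G, ((oneIrr G : Cfsg.IrrCharacter G) : G → ℂ) g = 1 := fun g => rfl
  have o_p : vp (oneIrr G) = 1 := by
    have := hvp (oneIrr G); rw [hone] at this; exact_mod_cast this.symm
  have o_q : vq (oneIrr G) = 1 := by
    have := hvq (oneIrr G); rw [hone] at this; exact_mod_cast this.symm
  have o_t : vp' (oneIrr G) = 1 := by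
    have := hvp' (oneIrr G); rw [hone] at this; exact_mod_cast this.symm
  have o_s : vq' (oneIrr G) = 1 := by
    have := hvq' (oneIrr G); rw [hone] at this; exact_mod_cast this.symm
  have h0 : A (oneIrr G) = 1 ∧ B (oneIrr G) = 0 ∧ C (oneIrr G) = 1 ∧ D (oneIrr G) = 0 := by
    have h1 := h6A (oneIrr G)
    have h2 := h6B (oneIrr G)
    have h3 := h6C (oneIrr G)
    have h4 := h6D (oneIrr G)
    rw [o_p, o_q, o_t, o_s] at h1 h2 h3 h4
    refine ⟨by omega, by omega, by omega, by omega⟩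
  -- vanishing outside the principal block, non-vanishing inside
  have hPle : ∀ s ∈ (P : Subgroup G), (P : Subgroup G) ≤ Subgroup.centralizer ({s} : Set G) := by
    intro s hs x hx
    rw [Subgroup.mem_centralizer_iff]
    intro y hy
    rw [Set.mem_singleton_iff] at hy
    rw [hy]
    exact hcomm s hs x hx
  have hidx : ∀ s ∈ (P : Subgroup G), ¬ 3 ∣ (Subgroup.centralizer ({s} : Set G)).index := by
    intro s hs h
    exact P.not_dvd_index (dvd_trans h (Subgroup.index_dvd_of_le (hPle s hs)))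
  have hnv : ∀ χ, (A χ ≠ 0 ∨ B χ ≠ 0 ∨ C χ ≠ 0 ∨ D χ ≠ 0) →
      2 * (C χ + D χ) - (A χ + B χ) ≠ 0 ∧ 2 * (A χ + B χ) - (C χ + D χ) ≠ 0 := by
    intro χ hne
    by_cases hχ : χ ∈ Cfsg.principalBlock M G
    · have h1 := ne_zero_of_principal hM χ hχ a (hidx a L.haP)
      have h2 := ne_zero_of_principal hM χ hχ (a * b) (hidx _ (L.abP hcomm hexp))
      rw [hvp χ] at h1
      rw [hvq χ] at h2
      rw [hvpdef] at h1
      rw [hvqdef] at h2
      exact ⟨by exact_mod_cast h1, by exact_mod_cast h2⟩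
    · exfalso
      have o1 : ¬ 3 ∣ orderOf (1 : G) := by rw [orderOf_one]; norm_num
      have e1 := vanish_section hM P hcomm hCP hloc χ hχ a L.haP L.ha1 1 (by group) o1
      have e2 := vanish_section hM P hcomm hCP hloc χ hχ a L.haP L.ha1 t₁ L.h₁a
        (by rw [L.orderOf_t₁ hexp]; norm_num)
      have e3 := vanish_section hM P hcomm hCP hloc χ hχ (a * b) (L.abP hcomm hexp)
        (L.ab_ne_one hcomm hexp) 1 (by group) o1
      have e4 := vanish_section hM P hcomm hCP hloc χ hχ (a * b) (L.abP hcomm hexp)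
        (L.ab_ne_one hcomm hexp) w (L.w_ab_comm hcomm hexp)
        (by rw [L'.orderOf_t₁ hexp]; norm_num)
      rw [mul_one] at e1 e3
      rw [hvp χ] at e1
      rw [hvp' χ] at e2
      rw [hvq χ] at e3
      rw [hvq' χ] at e4
      have z1 : vp χ = 0 := by exact_mod_cast e1
      have z2 : vp' χ = 0 := by exact_mod_cast e2
      have z3 : vq χ = 0 := by exact_mod_cast e3
      have z4 : vq' χ = 0 := by exact_mod_cast e4
      have h1 := h6A χ
      have h2 := h6B χ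
      have h3 := h6C χ
      have h4 := h6D χ
      rw [z1, z2, z3, z4] at h1 h2 h3 h4
      rcases hne with h | h | h | h <;> omega
  -- degrees mod 9
  have hmod : ∀ χ, (deg χ + 4 * (A χ + B χ + C χ + D χ)) % 9 = 0 := by
    intro χ
    obtain ⟨m, hm⟩ := Cfsg.Agent.Lib.Helper5.TdDeg.deg_mod_nine hcomm hexp L hcardP (hχc χ)
    rw [hvp χ, hvq χ, IsCharacter.apply_one_eq_charDegree (hχc χ)] at hm
    have h1 : ((deg χ + 4 * vp χ + 4 * vq χ : ℤ) : ℂ) = ((9 * (m : ℤ) : ℤ) : ℂ) := by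
      rw [hdegdef]; push_cast; exact hm
    have h2 : deg χ + 4 * vp χ + 4 * vq χ = 9 * (m : ℤ) := by exact_mod_cast h1
    have h3 : vp χ + vq χ = A χ + B χ + C χ + D χ := by rw [hvpdef, hvqdef]; ring
    omega
  -- Frobenius–Schur
  obtain ⟨ν, hνdef⟩ : ∃ ν : Cfsg.IrrCharacter G → ℤ, ν = fun χ => nuZ χ := ⟨_, rfl⟩
  have hFS : ∀ (g : G) (v : Cfsg.IrrCharacter G → ℤ) (n : ℕ),
      (∀ χ : Cfsg.IrrCharacter G, (χ : G → ℂ) g = (v χ : ℂ)) →
      Nat.card {h : G // h * h = g} = n → ∑ χ, ν χ * v χ = (n : ℤ) := by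
    intro g v n hv hn
    have h1 := sqrtCount_eq g
    unfold sqrtCount at h1
    rw [hn] at h1
    have h2 : ((∑ χ, ν χ * v χ : ℤ) : ℂ) = ((n : ℤ) : ℂ) := by
      push_cast
      rw [h1]
      apply Finset.sum_congr rfl
      intro χ _
      rw [hνdef, hv χ, nuZ_cast]
    exact_mod_cast h2
  have hν1 : ∑ χ, ν χ * (2 * (C χ + D χ) - (A χ + B χ)) = 4 := by
    have := hFS a vp 4 hvp (L.card_sq_eq_a hcomm hexp hloc hcardP)
    rw [hvpdef] at this
    exact_mod_cast this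
  have hν2 : ∑ χ, ν χ * (2 * (A χ + B χ) - (C χ + D χ)) = 4 := by
    have := hFS (a * b) vq 4 hvq (L.card_sq_eq_ab hcomm hexp hloc hcardP)
    rw [hvqdef] at this
    exact_mod_cast this
  have hν3 : ∑ χ, ν χ * (A χ - B χ) = 0 := by
    have := hFS (a * t₁) vp' 0 hvp' (L.card_sq_eq_at₁ hcomm hexp hloc hcardP)
    rw [hvp'def] at this
    exact_mod_cast this
  have hν4 : ∑ χ, ν χ * (C χ - D χ) = 0 := by
    have := hFS (a * b * w) vq' 0 hvq' (L.card_sq_eq_abw hcomm hexp hloc hcardP)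
    rw [hvq'def] at this
    exact_mod_cast this
  -- reality and the sign
  have hreal : ∀ χ : Cfsg.IrrCharacter G,
      (∀ ψ : Cfsg.IrrCharacter G, A ψ = A χ → B ψ = B χ → C ψ = C χ → D ψ = D χ → ψ = χ) →
      IsRe χ := by
    intro χ huniq
    obtain ⟨ψ, hψ⟩ : ∃ ψ : Cfsg.IrrCharacter G,
      ψ = ⟨fun g => conj ((χ : G → ℂ) g), IsIrrCharacter.conj χ.2⟩ := ⟨_, rfl⟩
    have hval : ∀ g : G, (ψ : G → ℂ) g = conj ((χ : G → ℂ) g) := by
      intro g; rw [hψ]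
    have hsame : ∀ (g : G) (v : Cfsg.IrrCharacter G → ℤ),
        (∀ φ : Cfsg.IrrCharacter G, (φ : G → ℂ) g = (v φ : ℂ)) → v ψ = v χ := by
      intro g v hv
      have h1 := hval g
      rw [hv ψ, hv χ, map_intCast] at h1
      exact_mod_cast h1
    have s1 := hsame a vp hvp
    have s2 := hsame _ vq hvq
    have s3 := hsame _ vp' hvp'
    have s4 := hsame _ vq' hvq'
    have e1 := h6A ψ
    have e2 := h6B ψ
    have e3 := h6C ψ
    have e4 := h6D ψ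
    have f1 := h6A χ
    have f2 := h6B χ
    have f3 := h6C χ
    have f4 := h6D χ
    rw [s1, s2, s3, s4] at e1 e2 e3 e4
    have := huniq ψ (by omega) (by omega) (by omega) (by omega)
    intro g
    rw [← hval g, this]
  have hν : ∀ χ, (A χ ≠ 0 ∨ B χ ≠ 0 ∨ C χ ≠ 0 ∨ D χ ≠ 0) →
      (∀ ψ, A ψ = A χ → B ψ = B χ → C ψ = C χ → D ψ = D χ → ψ = χ) →
      ν χ = 1 ∨ (ν χ = -1 ∧ (A χ - B χ) % 2 = 0 ∧ (C χ - D χ) % 2 = 0 ∧
        ¬ (A χ - B χ = 0 ∧ (2 * (C χ + D χ) - (A χ + B χ) = 2 ∨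
          2 * (C χ + D χ) - (A χ + B χ) = -2))) := by
    intro χ _ huniq
    have hre := hreal χ huniq
    rw [hνdef]
    rcases nuZ_of_re χ hre with h | h
    · left; exact h
    · right
      refine ⟨h, ?_⟩
      have h1 := nuZ_cast χ
      rw [h] at h1
      have hq : ∑ g : G, (χ : G → ℂ) (g * g) = -(Nat.card G : ℂ) := by
        unfold fsInd at h1
        have hG0 : (Nat.card G : ℂ) ≠ 0 := card_ne_zero'
        push_cast at h1
        field_simp at h1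
        linear_combination -h1
      have n1 := Loc.not_quat hcomm hexp L χ.2 hq (vp χ) (vp' χ) (hvp χ) (hvp' χ)
      have n2 := Loc.not_quat hcomm hexp L' χ.2 hq (vq χ) (vq' χ) (hvq χ) (hvq' χ)
      rw [hvpdef, hvp'def] at n1
      rw [hvq'def] at n2
      exact ⟨n1.1, n2.1, n1.2⟩
  -- the class equations
  have hG0 : (Nat.card G : ℚ) ≠ 0 := by exact_mod_cast Nat.card_pos.ne'
  have hdegQ : ∀ χ, (deg χ : ℚ) = (Cfsg.charDegree (χ : G → ℂ) : ℚ) := by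
    intro χ; rw [hdegdef]; push_cast; rfl
  have E1 := class_sum a a (a * b) vp vp vq hvp hvp hvq
  rw [L.card_mul_aa_c hcomm hexp hloc hcardP, ca] at E1
  have E2 := class_sum a (a * b) (a * b) vp vq vq hvp hvq hvq
  rw [L.card_mul_ac_c hcomm hexp hloc hcardP, ca, cc] at E2
  have hcls1 : (Nat.card G : ℚ) * ∑ χ, (((2 * (C χ + D χ) - (A χ + B χ))
      * (2 * (C χ + D χ) - (A χ + B χ)) * (2 * (A χ + B χ) - (C χ + D χ)) : ℤ) : ℚ)
      / (deg χ : ℚ) = 648 := by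
    have : ∑ χ, (((2 * (C χ + D χ) - (A χ + B χ))
      * (2 * (C χ + D χ) - (A χ + B χ)) * (2 * (A χ + B χ) - (C χ + D χ)) : ℤ) : ℚ)
      / (deg χ : ℚ) = ∑ χ : Cfsg.IrrCharacter G,
        ((vp χ * vp χ * vq χ : ℤ) : ℚ) / (Cfsg.charDegree (χ : G → ℂ) : ℚ) := by
      apply Finset.sum_congr rfl
      intro χ _
      rw [hdegQ, hvpdef, hvqdef]
    rw [this, E1]; norm_num
  have hcls2 : (Nat.card G : ℚ) * ∑ χ, (((2 * (C χ + D χ) - (A χ + B χ))
      * (2 * (A χ + B χ) - (C χ + D χ)) * (2 * (A χ + B χ) - (C χ + D χ)) : ℤ) : ℚ)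
      / (deg χ : ℚ) = 648 := by
    have : ∑ χ, (((2 * (C χ + D χ) - (A χ + B χ))
      * (2 * (A χ + B χ) - (C χ + D χ)) * (2 * (A χ + B χ) - (C χ + D χ)) : ℤ) : ℚ)
      / (deg χ : ℚ) = ∑ χ : Cfsg.IrrCharacter G,
        ((vp χ * vq χ * vq χ : ℤ) : ℚ) / (Cfsg.charDegree (χ : G → ℂ) : ℚ) := by
      apply Finset.sum_congr rfl
      intro χ _
      rw [hdegQ, hvpdef, hvqdef]
    rw [this, E2]; norm_num
  -- divisibility and size
  have hdvd : ∀ χ, deg χ ∣ (Nat.card G : ℤ) := by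
    intro χ
    rw [hdegdef]
    show ((Cfsg.charDegree (χ : G → ℂ) : ℕ) : ℤ) ∣ (Nat.card G : ℤ)
    exact_mod_cast IsIrrCharacter.charDegree_dvd_card χ.2
  have hsq : ∑ χ, deg χ ^ 2 ≤ (Nat.card G : ℤ) := by
    have := sum_sq_charDegree_le (G := G) Finset.univ
    rw [hdegdef]
    show ∑ χ : Cfsg.IrrCharacter G, ((Cfsg.charDegree (χ : G → ℂ) : ℕ) : ℤ) ^ 2
      ≤ (Nat.card G : ℤ)
    exact_mod_cast this
  have hidxN := Cfsg.Agent.Lib.Helper9.Nm9.index_normalizer_mod_nine P hcardP hcomm hloc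
  have hNG : (Subgroup.normalizer ((P : Subgroup G) : Set G)).index * 72 = Nat.card G := by
    rw [← L.hcardN]; exact Subgroup.index_mul_card _
  have hg72 : 72 ∣ Nat.card G := ⟨_, by rw [← hNG]; ring⟩
  have hk : (Nat.card G / 72) % 9 = 1 := by
    rw [← hNG, Nat.mul_div_cancel _ (by norm_num)]; exact hidxN
  have hfin := Cfsg.Agent.Lib.Helper9.Dc8.d8_comb A B C D deg ν (Nat.card G) Nat.card_pos hAA hBB hCC hDD hAB hCD
    hAC hAD hBC hBD (oneIrr G) h0 hdo hnv hdeg hdA hdB hdC hdD hmod hν1 hν2 hν3 hν4 hν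
    hcls1 hcls2 hdvd hsq hg72 hk
  rcases hfin with h | ⟨h, χ, hd, hA, hB, hC, hD, hνχ⟩
  · left; exact h
  · right
    refine ⟨h, χ, ?_, ?_, ?_, ?_, ?_, ?_⟩
    · rw [hdegdef] at hd
      have hd' : ((Cfsg.charDegree (χ : G → ℂ) : ℕ) : ℤ) = 1 := hd
      exact_mod_cast hd'
    · rw [hvp χ, hvpdef]; simp only; rw [hA, hB, hC, hD]; norm_num
    · rw [hvp' χ, hvp'def]; simp only; rw [hA, hB]; norm_num
    · rw [hvq χ, hvqdef]; simp only; rw [hA, hB, hC, hD]; norm_num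
    · rw [hvq' χ, hvq'def]; simp only; rw [hC, hD]; norm_num
    · by_contra hnre
      have := nuZ_of_not_re χ hnre
      rw [hνdef] at hνχ
      simp only at hνχ
      rw [this] at hνχ
      norm_num at hνχ

end main

end Cfsg.Agent.Lib.Helper6.Td
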