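import Mathlib
import Cfsg.Prelude.Def_Blocks
import Cfsg.Agent.Lib.Helper6.Linear
import Cfsg.Agent.Lib.Helper8.AFT3

/-! # A real linear character taking the value `-1` has a kernel of index two -/

set_option autoImplicit false
open Cfsg

namespace Cfsg.Agent.Lib.Helper6.Td

open scoped ComplexConjugate
open Cfsg.Agent.Lib.Helper6
open Cfsg.Agent.Lib.Helper8.AFT

variable {G : Type*} [Group G] [Fintype G]

/-- a real linear character taking the value `-1` has a kernel of index two -/
theorem exists_index_two_of_linear (χ : Cfsg.IrrCharacter G)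
    (hd : Cfsg.charDegree (χ : G → ℂ) = 1) (hre : IsRe χ) (t : G) (ht : (χ : G → ℂ) t = -1) :
    ∃ K : Subgroup G, K.Normal ∧ K.index = 2 ∧ ∀ g, g ∈ K ↔ (χ : G → ℂ) g = 1 := by
  have hχc := IsIrrCharacter.isCharacter χ.2
  have h1 : (χ : G → ℂ) 1 = 1 := by
    rw [IsCharacter.apply_one_eq_charDegree hχc, hd]; simp
  have hmul := IsCharacter.mul_of_apply_one_eq_one hχc h1
  have hpm : ∀ g : G, (χ : G → ℂ) g = 1 ∨ (χ : G → ℂ) g = -1 := by
    intro g
    have hpow : ∀ n : ℕ, (χ : G → ℂ) (g ^ n) = (χ : G → ℂ) g ^ n := by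
      intro n
      induction n with
      | zero => rw [pow_zero, pow_zero, h1]
      | succ k ih => rw [pow_succ, hmul, ih, pow_succ]
    have h2 : (χ : G → ℂ) g ^ orderOf g = 1 := by
      rw [← hpow, pow_orderOf_eq_one, h1]
    obtain ⟨r, hr⟩ := Complex.conj_eq_iff_real.mp (hre g)
    rw [hr] at h2 ⊢
    have h3 : r ^ orderOf g = 1 := by exact_mod_cast h2
    have hpos : orderOf g ≠ 0 := (orderOf_pos g).ne'
    rcases pow_eq_one_iff_cases.mp h3 with h | h | ⟨h, _⟩
    · exact absurd h hpos
    · left; rw [h]; simp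
    · right; rw [h]; simp
  have hinv : ∀ g : G, (χ : G → ℂ) g⁻¹ * (χ : G → ℂ) g = 1 := by
    intro g; rw [← hmul, inv_mul_cancel, h1]
  obtain ⟨K, hK⟩ : ∃ K : Subgroup G, ∀ g, g ∈ K ↔ (χ : G → ℂ) g = 1 := by
    refine ⟨{ carrier := {g | (χ : G → ℂ) g = 1}
              mul_mem' := ?_
              one_mem' := h1
              inv_mem' := ?_ }, fun g => Iff.rfl⟩
    · intro x y hx hy
      simp only [Set.mem_setOf_eq] at hx hy ⊢
      rw [hmul, hx, hy, mul_one]
    · intro x hx
      simp only [Set.mem_setOf_eq] at hx ⊢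
      have := hinv x
      rw [hx, mul_one] at this
      exact this
  refine ⟨K, ?_, ?_, hK⟩
  · constructor
    intro n hn g
    rw [hK] at hn ⊢
    rw [hmul, hmul, hn, mul_one, ← hmul, mul_inv_cancel, h1]
  · rw [Subgroup.index_eq_two_iff]
    refine ⟨t, fun g => ?_⟩
    rw [hK, hK, hmul, ht]
    rcases hpm g with h | h
    · rw [h]
      right
      constructor
      · rfl
      · norm_num
    · rw [h]
      left
      constructor
      · norm_num
      · norm_num

end Cfsg.Agent.Lib.Helper6.Td
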