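import Mathlib
import Cfsg.Agent.Lib.Helper6.TnB
import Cfsg.Agent.Lib.Helper6.BLAct

/-! # The conjugates in `P` of an element of `P`, and local counts -/

set_option autoImplicit false
open Cfsg

namespace Cfsg.Agent.Lib.Helper6.Tn

section elem

variable {G : Type*} [Group G]

theorem ne_inv_of_cube {y : G} (hy3 : y ^ 3 = 1) (hy1 : y ≠ 1) : y ≠ y⁻¹ := by
  intro h
  apply hy1
  have h1 := mul_self_of_cube hy3
  rw [← h] at h1
  -- `y * y = y`
  calc y = y⁻¹ * (y * y) := by group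
    _ = y⁻¹ * y := by rw [h1]
    _ = 1 := by group

theorem eq_one_of_inv_eq_self {w : G} (hw3 : w ^ 3 = 1) (h : w⁻¹ = w) : w = 1 := by
  by_contra h1
  exact ne_inv_of_cube hw3 h1 h.symm

end elem

section orbit

variable {G : Type*} [Group G] [Finite G]

/-- the order of the normalizer is divisible by the relative index -/
theorem relIndex_dvd_card_normalizer (P : Sylow 3 G) :
    (Subgroup.centralizer ((P : Subgroup G) : Set G)).relIndex
      (Subgroup.normalizer ((P : Subgroup G) : Set G))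
      ∣ Nat.card (Subgroup.normalizer ((P : Subgroup G) : Set G)) :=
  Subgroup.index_dvd_card _

/-- `c` with `3`-part `y' ∈ P \ 1` equals `y'` -/
theorem eq_of_isPPart (P : Sylow 3 G)
    (hexp : ∀ a ∈ (P : Subgroup G), a ^ 3 = 1)
    (hcent : ∀ s ∈ (P : Subgroup G), s ≠ 1 →
      Subgroup.centralizer ({s} : Set G) = (P : Subgroup G))
    (y' c : G) (hy' : y' ∈ (P : Subgroup G)) (hy'1 : y' ≠ 1) (hc : Cfsg.IsPPart 3 c y') :
    c = y' := by
  obtain ⟨v, hv, hcomm, _, hv3⟩ := hc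
  have h1 : v ∈ (P : Subgroup G) := by
    rw [← hcent y' hy' hy'1, Subgroup.mem_centralizer_singleton_iff]
    exact hcomm.eq.symm
  have h2 := hexp v h1
  have h3 : orderOf v ∣ 3 := orderOf_dvd_of_pow_eq_one h2
  have h4 : orderOf v = 1 := by
    rcases (Nat.dvd_prime Nat.prime_three).mp h3 with h | h
    · exact h
    · exact absurd (h ▸ dvd_refl _) hv3
  rw [orderOf_eq_one_iff] at h4
  rw [← hv, h4, mul_one]

theorem isPPart_self (P : Sylow 3 G) (hexp : ∀ a ∈ (P : Subgroup G), a ^ 3 = 1)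
    (y' : G) (hy' : y' ∈ (P : Subgroup G)) (hy'1 : y' ≠ 1) : Cfsg.IsPPart 3 y' y' := by
  refine ⟨1, mul_one _, Commute.one_right _, ⟨1, ?_⟩, by simp⟩
  rw [pow_one]
  exact orderOf_eq_prime (hexp y' hy') hy'1

/-- for `|N : C| = 2` the conjugates of `y` in `P` are `y` and `y⁻¹` -/
theorem conj_two (P : Sylow 3 G) (hab : IsMulCommutative P)
    (hexp : ∀ a ∈ (P : Subgroup G), a ^ 3 = 1)
    (hcent : ∀ s ∈ (P : Subgroup G), s ≠ 1 →
      Subgroup.centralizer ({s} : Set G) = (P : Subgroup G))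
    (hCN : (Subgroup.centralizer ((P : Subgroup G) : Set G)).relIndex
      (Subgroup.normalizer ((P : Subgroup G) : Set G)) = 2)
    (y : G) (hy : y ∈ (P : Subgroup G)) (hy1 : y ≠ 1)
    (w : G) (hw : w ∈ (P : Subgroup G)) (hw1 : w ≠ 1) (hyw : IsConj y w) :
    w = y ∨ w = y⁻¹ := by
  classical
  have hfrob := hfrob_of_hcent P hab hcent
  have hcard := card_conj_in_sylow P hab hfrob y hy hy1
  rw [hCN] at hcard
  have hev : 2 ∣ Nat.card (Subgroup.normalizer ((P : Subgroup G) : Set G)) := by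
    have := relIndex_dvd_card_normalizer P
    rwa [hCN] at this
  have hinv := isConj_inv_of_even P hab hexp hcent hev y hy
  have hyinv1 : y⁻¹ ≠ 1 := by simpa using hy1
  let T := {w : (P : Subgroup G) // (w : G) ≠ 1 ∧ IsConj y (w : G)}
  let y0 : T := ⟨⟨y, hy⟩, hy1, IsConj.refl y⟩
  let y1 : T := ⟨⟨y⁻¹, Subgroup.inv_mem _ hy⟩, hyinv1, hinv⟩
  have h01 : y1 ≠ y0 := by
    intro h
    have h' : y⁻¹ = y := congrArg (fun t : T => ((t.1 : (P : Subgroup G)) : G)) h
    exact ne_inv_of_cube (hexp y hy) hy1 h'.symm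
  obtain ⟨z, hz1, hz2⟩ := (Nat.card_eq_two_iff' y0).mp hcard
  have hzy1 : z = y1 := (hz2 y1 h01).symm
  let w0 : T := ⟨⟨w, hw⟩, hw1, hyw⟩
  by_cases hw0 : w0 = y0
  · left
    exact congrArg (fun t : T => ((t.1 : (P : Subgroup G)) : G)) hw0
  · right
    have := hz2 w0 hw0
    rw [hzy1] at this
    exact congrArg (fun t : T => ((t.1 : (P : Subgroup G)) : G)) this

/-- for `|N : C| = 2` no product of two conjugates of `y` has `3`-part `y'` -/
theorem no_mul_two (P : Sylow 3 G) (hab : IsMulCommutative P)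
    (hexp : ∀ a ∈ (P : Subgroup G), a ^ 3 = 1)
    (hcent : ∀ s ∈ (P : Subgroup G), s ≠ 1 →
      Subgroup.centralizer ({s} : Set G) = (P : Subgroup G))
    (hCN : (Subgroup.centralizer ((P : Subgroup G) : Set G)).relIndex
      (Subgroup.normalizer ((P : Subgroup G) : Set G)) = 2)
    (y y' : G) (hy : y ∈ (P : Subgroup G)) (hy1 : y ≠ 1) (hy' : y' ∈ (P : Subgroup G))
    (hy'1 : y' ≠ 1) (hnc : ¬ IsConj y y')
    (c : G) (hc : Cfsg.IsPPart 3 c y') (g h : G) : g * y * g⁻¹ * (h * y * h⁻¹) ≠ c := by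
  intro hmul
  rw [eq_of_isPPart P hexp hcent y' c hy' hy'1 hc] at hmul
  have hev : 2 ∣ Nat.card (Subgroup.normalizer ((P : Subgroup G) : Set G)) := by
    have := relIndex_dvd_card_normalizer P
    rwa [hCN] at this
  have hinv := isConj_inv_of_even P hab hexp hcent hev y hy
  have hca : IsConj y (g * y * g⁻¹) := isConj_iff.mpr ⟨g, rfl⟩
  have hcb : IsConj y (h * y * h⁻¹) := isConj_iff.mpr ⟨h, rfl⟩
  obtain ⟨haP, hbP⟩ := mem_sylow_of_mul P hab hexp hcent y y' _ _ hy hy1 hy' hy'1 hinv hnc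
    hca hcb hmul
  have hne : ∀ k : G, k * y * k⁻¹ ≠ 1 := by
    intro k hk
    apply hy1
    have : y = k⁻¹ * (k * y * k⁻¹) * k := by group
    rw [this, hk]; group
  have hy3 := hexp y hy
  rcases conj_two P hab hexp hcent hCN y hy hy1 _ haP (hne g) hca with ha | ha <;>
  rcases conj_two P hab hexp hcent hCN y hy hy1 _ hbP (hne h) hcb with hb | hb <;>
  rw [ha, hb] at hmul
  · rw [mul_self_of_cube hy3] at hmul
    exact hnc (hmul ▸ hinv)
  · rw [mul_inv_cancel] at hmul
    exact hy'1 hmul.symm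
  · rw [inv_mul_cancel] at hmul
    exact hy'1 hmul.symm
  · rw [inv_mul_inv_of_cube hy3] at hmul
    exact hnc (hmul ▸ IsConj.refl y)

end orbit

end Cfsg.Agent.Lib.Helper6.Tn
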