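import Mathlib
import Cfsg.Agent.Lib.Helper6.TnC

/-! # The case `|N : C| = 4` : the conjugates in `P` and the local count -/

set_option autoImplicit false
open Cfsg

namespace Cfsg.Agent.Lib.Helper6.Tn

section orbit4

variable {G : Type*} [Group G] [Finite G]

/-- for `|N : C| = 4` the conjugates of `y` in `P` are `y, y⁻¹, z, z⁻¹` -/
theorem conj_four (P : Sylow 3 G) (hab : IsMulCommutative P)
    (hexp : ∀ a ∈ (P : Subgroup G), a ^ 3 = 1)
    (hcent : ∀ s ∈ (P : Subgroup G), s ≠ 1 →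
      Subgroup.centralizer ({s} : Set G) = (P : Subgroup G))
    (hCN : (Subgroup.centralizer ((P : Subgroup G) : Set G)).relIndex
      (Subgroup.normalizer ((P : Subgroup G) : Set G)) = 4)
    (y : G) (hy : y ∈ (P : Subgroup G)) (hy1 : y ≠ 1) :
    ∃ z : G, z ∈ (P : Subgroup G) ∧ z ≠ 1 ∧ IsConj y z ∧ z ≠ y ∧ z ≠ y⁻¹ ∧
      ∀ w : G, w ∈ (P : Subgroup G) → w ≠ 1 → IsConj y w →
        w = y ∨ w = y⁻¹ ∨ w = z ∨ w = z⁻¹ := by
  classical
  have hfrob := hfrob_of_hcent P hab hcent
  have hcard := card_conj_in_sylow P hab hfrob y hy hy1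
  rw [hCN] at hcard
  have hev : 2 ∣ Nat.card (Subgroup.normalizer ((P : Subgroup G) : Set G)) := by
    have := relIndex_dvd_card_normalizer P
    rw [hCN] at this
    exact dvd_trans (by norm_num) this
  have hinvall := isConj_inv_of_even P hab hexp hcent hev
  have hinv := hinvall y hy
  have hyinv1 : y⁻¹ ≠ 1 := by simpa using hy1
  let T := {w : (P : Subgroup G) // (w : G) ≠ 1 ∧ IsConj y (w : G)}
  haveI : Fintype T := Fintype.ofFinite T
  have hcard : Fintype.card T = 4 := by
    rw [← Nat.card_eq_fintype_card]; exact hcard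
  let val : T → G := fun t => ((t.1 : (P : Subgroup G)) : G)
  have hval : Function.Injective val := by
    intro s t hst
    exact Subtype.ext (Subtype.ext hst)
  let y0 : T := ⟨⟨y, hy⟩, hy1, IsConj.refl y⟩
  let y1 : T := ⟨⟨y⁻¹, Subgroup.inv_mem _ hy⟩, hyinv1, hinv⟩
  have h01 : y0 ≠ y1 := by
    intro h
    have h' : y = y⁻¹ := congrArg val h
    exact ne_inv_of_cube (hexp y hy) hy1 h'
  -- a third element
  have h3 : ∃ z0 : T, z0 ≠ y0 ∧ z0 ≠ y1 := by
    by_contra hcon
    have hall : ∀ t : T, t ∈ ({y0, y1} : Finset T) := by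
      intro t
      by_contra ht
      apply hcon
      refine ⟨t, ?_, ?_⟩
      · intro h; apply ht; rw [h]; simp
      · intro h; apply ht; rw [h]; simp
    have h4 : Fintype.card T ≤ ({y0, y1} : Finset T).card := by
      rw [← Finset.card_univ]
      exact Finset.card_le_card (fun t _ => hall t)
    have h5 : ({y0, y1} : Finset T).card ≤ 2 := Finset.card_le_two
    omega
  obtain ⟨z0, hz0, hz1⟩ := h3
  obtain ⟨z, hz⟩ : ∃ z : G, z = val z0 := ⟨_, rfl⟩
  have hzP : z ∈ (P : Subgroup G) := by rw [hz]; exact z0.1.2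
  have hz1' : z ≠ 1 := by rw [hz]; exact z0.2.1
  have hzc : IsConj y z := by rw [hz]; exact z0.2.2
  have hzy : z ≠ y := by
    intro h
    apply hz0
    apply hval
    rw [← hz, h]
  have hzy' : z ≠ y⁻¹ := by
    intro h
    apply hz1
    apply hval
    rw [← hz, h]
  have hz3 := hexp z hzP
  have hzinv1 : z⁻¹ ≠ 1 := by simpa using hz1'
  have hzinvc : IsConj y z⁻¹ := hzc.trans (hinvall z hzP)
  let z1 : T := ⟨⟨z⁻¹, Subgroup.inv_mem _ hzP⟩, hzinv1, hzinvc⟩
  have hz0val : val z0 = z := hz.symm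
  have hz1z0 : z1 ≠ z0 := by
    intro h
    have h' : z⁻¹ = z := by
      have := congrArg val h
      rw [hz0val] at this
      exact this
    exact hz1' (eq_one_of_inv_eq_self hz3 h')
  have hz1y0 : z1 ≠ y0 := by
    intro h
    have h' : z⁻¹ = y := congrArg val h
    apply hzy'
    rw [← h', inv_inv]
  have hz1y1 : z1 ≠ y1 := by
    intro h
    have h' : z⁻¹ = y⁻¹ := congrArg val h
    exact hzy (inv_injective h')
  have hcard4 : ({y0, y1, z0, z1} : Finset T).card = 4 := by
    rw [Finset.card_insert_of_notMem, Finset.card_insert_of_notMem, Finset.card_pair hz1z0.symm]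
    · simp only [Finset.mem_insert, Finset.mem_singleton, not_or]
      exact ⟨hz1.symm, hz1y1.symm⟩
    · simp only [Finset.mem_insert, Finset.mem_singleton, not_or]
      exact ⟨h01, hz0.symm, hz1y0.symm⟩
  have huniv : ({y0, y1, z0, z1} : Finset T) = Finset.univ := by
    apply Finset.eq_univ_of_card
    rw [hcard4, hcard]
  refine ⟨z, hzP, hz1', hzc, hzy, hzy', ?_⟩
  intro w hw hw1 hyw
  let w0 : T := ⟨⟨w, hw⟩, hw1, hyw⟩
  have hw0 : w0 ∈ ({y0, y1, z0, z1} : Finset T) := by rw [huniv]; exact Finset.mem_univ _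
  simp only [Finset.mem_insert, Finset.mem_singleton] at hw0
  rcases hw0 with h | h | h | h
  · left; exact congrArg val h
  · right; left; exact congrArg val h
  · right; right; left
    have := congrArg val h
    rw [hz0val] at this
    exact this
  · right; right; right; exact congrArg val h

end orbit4

section elem4

variable {G : Type*} [Group G]

/-- the products of two elements of `{y, y⁻¹, z, z⁻¹}` equal to `y z` -/
theorem pair_cases (y z a b : G) (hyz : y * z = z * y) (hy3 : y ^ 3 = 1) (hz3 : z ^ 3 = 1)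
    (hy1 : y ≠ 1) (hz1 : z ≠ 1) (hzy : z ≠ y) (hzy' : z ≠ y⁻¹)
    (ha : a = y ∨ a = y⁻¹ ∨ a = z ∨ a = z⁻¹) (hb : b = y ∨ b = y⁻¹ ∨ b = z ∨ b = z⁻¹)
    (hmul : a * b = y * z) : (a = y ∧ b = z) ∨ (a = z ∧ b = y) := by
  have hyy : y * y = y⁻¹ := mul_self_of_cube hy3
  have hzz : z * z = z⁻¹ := mul_self_of_cube hz3
  have hyne : y ≠ y⁻¹ := ne_inv_of_cube hy3 hy1
  have hzne : z ≠ z⁻¹ := ne_inv_of_cube hz3 hz1
  have hyz1 : y * z ≠ 1 := by
    intro h
    exact hzy' (eq_inv_of_mul_eq_one_right h)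
  have hyz3 : (y * z) ^ 3 = 1 := by
    rw [(Commute.mul_pow (show Commute y z from hyz)), hy3, hz3, one_mul]
  have hyzinv : (y * z)⁻¹ ≠ y * z := fun h => hyz1 (eq_one_of_inv_eq_self hyz3 h)
  rcases ha with rfl | rfl | rfl | rfl <;> rcases hb with rfl | rfl | rfl | rfl
  · exact absurd (mul_left_cancel hmul).symm hzy
  · rw [mul_inv_cancel] at hmul; exact absurd hmul.symm hyz1
  · left; exact ⟨rfl, rfl⟩
  · exact absurd (mul_left_cancel hmul).symm hzne
  · rw [inv_mul_cancel] at hmul; exact absurd hmul.symm hyz1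
  · rw [inv_mul_inv_of_cube hy3] at hmul
    exfalso; apply hz1
    have : y * 1 = y * z := by rw [mul_one]; exact hmul
    exact (mul_left_cancel this).symm
  · exact absurd (mul_right_cancel hmul).symm hyne
  · exfalso; apply hyzinv
    calc (y * z)⁻¹ = (z * y)⁻¹ := by rw [hyz]
      _ = y⁻¹ * z⁻¹ := by rw [mul_inv_rev]
      _ = y * z := hmul
  · right; exact ⟨rfl, rfl⟩
  · rw [hyz] at hmul
    exact absurd (mul_left_cancel hmul).symm hyne
  · exact absurd (mul_right_cancel hmul) hzy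
  · rw [mul_inv_cancel] at hmul; exact absurd hmul.symm hyz1
  · rw [hyz] at hmul
    exact absurd (mul_right_cancel hmul).symm hzne
  · exfalso; apply hyzinv
    calc (y * z)⁻¹ = z⁻¹ * y⁻¹ := by rw [mul_inv_rev]
      _ = y * z := hmul
  · rw [inv_mul_cancel] at hmul; exact absurd hmul.symm hyz1
  · rw [inv_mul_inv_of_cube hz3] at hmul
    exfalso; apply hy1
    have : 1 * z = y * z := by rw [one_mul]; exact hmul
    exact (mul_right_cancel this).symm

/-- `y z` is none of `1, y, y⁻¹, z, z⁻¹` -/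
theorem mul_not_mem (y z : G) (hy3 : y ^ 3 = 1) (hz3 : z ^ 3 = 1)
    (hy1 : y ≠ 1) (hz1 : z ≠ 1) (hzy : z ≠ y) (hzy' : z ≠ y⁻¹) :
    y * z ≠ 1 ∧ y * z ≠ y ∧ y * z ≠ y⁻¹ ∧ y * z ≠ z ∧ y * z ≠ z⁻¹ := by
  refine ⟨?_, ?_, ?_, ?_, ?_⟩
  · intro h
    exact hzy' (eq_inv_of_mul_eq_one_right h)
  · intro h
    apply hz1
    have : y * z = y * 1 := by rw [mul_one]; exact h
    exact mul_left_cancel this
  · intro h
    apply hzy
    have h1 : y * z = y * y := by rw [mul_self_of_cube hy3]; exact h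
    exact mul_left_cancel h1
  · intro h
    apply hy1
    have : y * z = 1 * z := by rw [one_mul]; exact h
    exact mul_right_cancel this
  · intro h
    apply hzy
    have h1 : y * z = z * z := by rw [mul_self_of_cube hz3]; exact h
    exact (mul_right_cancel h1).symm

end elem4

section count4

variable {G : Type*} [Group G] [Finite G]

/-- the local count in the case `|N : C| = 4` -/
theorem card_pairs_four (P : Sylow 3 G) (hab : IsMulCommutative P)
    (hexp : ∀ a ∈ (P : Subgroup G), a ^ 3 = 1)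
    (hcent : ∀ s ∈ (P : Subgroup G), s ≠ 1 →
      Subgroup.centralizer ({s} : Set G) = (P : Subgroup G))
    (hCN : (Subgroup.centralizer ((P : Subgroup G) : Set G)).relIndex
      (Subgroup.normalizer ((P : Subgroup G) : Set G)) = 4)
    (y : G) (hy : y ∈ (P : Subgroup G)) (hy1 : y ≠ 1) :
    ∃ y' : G, y' ∈ (P : Subgroup G) ∧ y' ≠ 1 ∧ ¬ IsConj y y' ∧
      Nat.card {p : G × G // IsConj y p.1 ∧ IsConj y p.2 ∧ p.1 * p.2 = y'} ≤ 2 := by
  classical
  obtain ⟨z, hzP, hz1, hzc, hzy, hzy', hall⟩ := conj_four P hab hexp hcent hCN y hy hy1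
  have hy3 := hexp y hy
  have hz3 := hexp z hzP
  have hyz : y * z = z * y := mul_comm_of_mem_sylow P hab y z hy hzP
  obtain ⟨m1, m2, m3, m4, m5⟩ := mul_not_mem y z hy3 hz3 hy1 hz1 hzy hzy'
  have hyzP : y * z ∈ (P : Subgroup G) := Subgroup.mul_mem _ hy hzP
  have hnc : ¬ IsConj y (y * z) := by
    intro h
    rcases hall (y * z) hyzP m1 h with h | h | h | h
    · exact m2 h
    · exact m3 h
    · exact m4 h
    · exact m5 h
  have hev : 2 ∣ Nat.card (Subgroup.normalizer ((P : Subgroup G) : Set G)) := by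
    have := relIndex_dvd_card_normalizer P
    rw [hCN] at this
    exact dvd_trans (by norm_num) this
  have hinv := isConj_inv_of_even P hab hexp hcent hev y hy
  refine ⟨y * z, hyzP, m1, hnc, ?_⟩
  let T := {p : G × G // IsConj y p.1 ∧ IsConj y p.2 ∧ p.1 * p.2 = y * z}
  let f : Bool → T := fun b =>
    if b then ⟨(y, z), IsConj.refl y, hzc, rfl⟩ else ⟨(z, y), hzc, IsConj.refl y, hyz.symm⟩
  have hf : Function.Surjective f := by
    rintro ⟨⟨a, b⟩, hca, hcb, hmul⟩
    have hmul' : a * b = y * z := hmul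
    obtain ⟨haP, hbP⟩ := mem_sylow_of_mul P hab hexp hcent y (y * z) a b hy hy1 hyzP m1 hinv hnc
      hca hcb hmul'
    have hne : ∀ w : G, IsConj y w → w ≠ 1 := by
      intro w hw h
      rw [h] at hw
      exact hy1 (isConj_one_right.mp hw.symm)
    rcases pair_cases y z a b hyz hy3 hz3 hy1 hz1 hzy hzy' (hall a haP (hne a hca) hca)
      (hall b hbP (hne b hcb) hcb) hmul' with ⟨h1, h2⟩ | ⟨h1, h2⟩
    · refine ⟨true, ?_⟩
      apply Subtype.ext
      simp only [f, if_true]
      rw [h1, h2]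
    · refine ⟨false, ?_⟩
      apply Subtype.ext
      simp only [f, Bool.false_eq_true, if_false]
      rw [h1, h2]
  have h1 := Nat.card_le_card_of_surjective f hf
  have h2 : Nat.card Bool = 2 := by simp
  rw [h2] at h1
  exact h1

end count4

end Cfsg.Agent.Lib.Helper6.Tn
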