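import Mathlib
import Cfsg.Agent.Lib.Helper6.BLLin

/-! # Sums over the linear characters of a finite abelian group of products of partial sums -/

set_option autoImplicit false
open Cfsg

namespace Cfsg.Agent.Lib.Helper6.Tn

section homsum

variable {A : Type*} [Group A] [Fintype (A →* ℂˣ)]

theorem sum_mul_sum_hom (ψ : A →* ℂˣ) (s t : Finset A) :
    (∑ w ∈ s, ((ψ w : ℂˣ) : ℂ)) * (∑ w ∈ t, ((ψ w : ℂˣ) : ℂ))
      = ∑ q ∈ s ×ˢ t, ((ψ (q.1 * q.2) : ℂˣ) : ℂ) := by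
  rw [Finset.sum_mul_sum, Finset.sum_product]
  apply Finset.sum_congr rfl
  intro a _
  apply Finset.sum_congr rfl
  intro b _
  rw [map_mul, Units.val_mul]

open Classical in
theorem sum_hom_mul_sum [Finite A] (hA : IsMulCommutative A) (s t : Finset A) :
    ∑ ψ : A →* ℂˣ, (∑ w ∈ s, ((ψ w : ℂˣ) : ℂ)) * (∑ w ∈ t, ((ψ w : ℂˣ) : ℂ))
      = (Nat.card A : ℂ) * (((s ×ˢ t).filter (fun q => q.1 * q.2 = 1)).card : ℂ) := by
  rw [Finset.sum_congr rfl (fun ψ _ => sum_mul_sum_hom ψ s t), Finset.sum_comm]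
  rw [Finset.sum_congr rfl (fun q _ => sum_homs_apply hA (q.1 * q.2))]
  rw [Finset.sum_ite, Finset.sum_const_zero, add_zero, Finset.sum_const, nsmul_eq_mul, mul_comm]

open Classical in
theorem sum_hom_mul_sum_mul_sum [Finite A] (hA : IsMulCommutative A) (s t u : Finset A) :
    ∑ ψ : A →* ℂˣ, (∑ w ∈ s, ((ψ w : ℂˣ) : ℂ)) * (∑ w ∈ t, ((ψ w : ℂˣ) : ℂ))
        * (∑ w ∈ u, ((ψ w : ℂˣ) : ℂ))
      = (Nat.card A : ℂ)
        * ((((s ×ˢ t) ×ˢ u).filter (fun q => q.1.1 * q.1.2 * q.2 = 1)).card : ℂ) := by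
  have h1 : ∀ ψ : A →* ℂˣ, (∑ w ∈ s, ((ψ w : ℂˣ) : ℂ)) * (∑ w ∈ t, ((ψ w : ℂˣ) : ℂ))
        * (∑ w ∈ u, ((ψ w : ℂˣ) : ℂ))
      = ∑ q ∈ (s ×ˢ t) ×ˢ u, ((ψ (q.1.1 * q.1.2 * q.2) : ℂˣ) : ℂ) := by
    intro ψ
    rw [sum_mul_sum_hom ψ s t, Finset.sum_mul_sum]
    conv_rhs => rw [Finset.sum_product]
    apply Finset.sum_congr rfl
    intro a _
    apply Finset.sum_congr rfl
    intro b _
    rw [map_mul (ψ) (a.1 * a.2) b, Units.val_mul]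
  rw [Finset.sum_congr rfl (fun ψ _ => h1 ψ), Finset.sum_comm]
  rw [Finset.sum_congr rfl (fun q _ => sum_homs_apply hA (q.1.1 * q.1.2 * q.2))]
  rw [Finset.sum_ite, Finset.sum_const_zero, add_zero, Finset.sum_const, nsmul_eq_mul, mul_comm]

open Classical in
/-- removing the trivial character -/
theorem sum_ne_one_eq (F : (A →* ℂˣ) → ℂ) :
    ∑ ψ ∈ Finset.univ.filter (fun ψ : A →* ℂˣ => ψ ≠ 1), F ψ
      = ∑ ψ : A →* ℂˣ, F ψ - F 1 := by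
  rw [Finset.filter_ne' Finset.univ (1 : A →* ℂˣ), Finset.sum_erase_eq_sub (Finset.mem_univ _)]

end homsum

end Cfsg.Agent.Lib.Helper6.Tn
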