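import Mathlib
import Cfsg.Prelude.Def_Blocks
import Cfsg.Agent.Lib.Helper6.BLThree2
import Cfsg.Agent.Lib.Helper6.BLTwo
import Cfsg.Agent.Lib.Helper6.BLInvOdd
import Cfsg.Agent.Lib.Helper6.TnE

/-! # Power sums of the exceptional characters in the Brauer–Leonard situation -/

set_option autoImplicit false
set_option linter.unusedSectionVars false
open Cfsg

namespace Cfsg.Agent.Lib.Helper6.Tn

open scoped ComplexConjugate
open Cfsg.Agent.Lib.Helper6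

section tnf

variable {G : Type*} [Group G] [Fintype G] [DecidableEq G]
variable {p : ℕ} {M : Ideal Cfsg.AlgInt}
variable {P : Sylow p G} [Fintype ↥(P : Subgroup G)] [Fintype (↥(P : Subgroup G) →* ℂˣ)]
    [Fintype (Cfsg.IrrCharacter G)] [DecidableEq (Cfsg.IrrCharacter G)] {m : ℕ}

open Classical in
/-- the nonidentity conjugates of `y` inside `P` -/
noncomputable def conjSet (P : Sylow p G) [Fintype ↥(P : Subgroup G)]
    (y : ↥(P : Subgroup G)) : Finset ↥(P : Subgroup G) :=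
  Finset.univ.filter (fun w : ↥(P : Subgroup G) => (w : G) ≠ 1 ∧ IsConj (y : G) (w : G))

theorem mem_conjSet (y w : ↥(P : Subgroup G)) :
    w ∈ conjSet P y ↔ (w : G) ≠ 1 ∧ IsConj (y : G) (w : G) := by
  classical
  unfold conjSet
  simp

theorem card_conjSet [Fact p.Prime] (hab : IsMulCommutative P)
    (hfrob : ∀ y : G, y ∈ (P : Subgroup G) → y ≠ 1 →
      Subgroup.centralizer ({y} : Set G) ⊓ Subgroup.normalizer ((P : Subgroup G) : Set G)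
        = Subgroup.centralizer ((P : Subgroup G) : Set G))
    (hCN : (Subgroup.centralizer ((P : Subgroup G) : Set G)).relIndex
      (Subgroup.normalizer ((P : Subgroup G) : Set G)) = m)
    (y : ↥(P : Subgroup G)) (hy : y ≠ 1) : (conjSet P y).card = m := by
  classical
  have hy1 : (y : G) ≠ 1 := by
    intro h
    apply hy
    exact Subtype.ext h
  unfold conjSet
  rw [← hCN, ← card_conj_in_sylow P hab hfrob (y : G) y.2 hy1, Nat.card_eq_fintype_card,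
    Fintype.card_subtype]

open Classical in
/-- a sum over the exceptional characters as a sum over the nontrivial linear characters -/
theorem sum_Y_mul [Fact p.Prime] (D : BLData M P m) (hab : IsMulCommutative P)
    (hfrob : ∀ y : G, y ∈ (P : Subgroup G) → y ≠ 1 →
      Subgroup.centralizer ({y} : Set G) ⊓ Subgroup.normalizer ((P : Subgroup G) : Set G)
        = Subgroup.centralizer ((P : Subgroup G) : Set G))
    (hCN : (Subgroup.centralizer ((P : Subgroup G) : Set G)).relIndex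
      (Subgroup.normalizer ((P : Subgroup G) : Set G)) = m)
    (f : Cfsg.IrrCharacter G → ℂ) :
    (m : ℂ) * ∑ η ∈ D.Y, f η
      = ∑ ψ ∈ Finset.univ.filter (fun ψ : ↥(P : Subgroup G) →* ℂˣ => ψ ≠ 1), f (D.Θ ψ) := by
  rw [Finset.mul_sum]
  unfold BLData.Y
  refine Finset.sum_image' (fun ψ => f (D.Θ ψ)) ?_
  intro ψ₀ hψ₀
  rw [Finset.mem_filter] at hψ₀
  have h3 : ((Finset.univ.filter (fun ψ : ↥(P : Subgroup G) →* ℂˣ => ψ ≠ 1)).filter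
      (fun ψ => D.Θ ψ = D.Θ ψ₀))
      = Finset.univ.filter (fun ψ => blRel (P : Subgroup G) ψ₀ ψ) := by
    ext ψ
    simp only [Finset.mem_filter, Finset.mem_univ, true_and]
    constructor
    · rintro ⟨h4, h5⟩
      exact (D.hΘ ψ₀ ψ hψ₀.2 h4).mp h5.symm
    · intro h4
      have h5 := blRel_ne_one _ h4 hψ₀.2
      exact ⟨h5, ((D.hΘ ψ₀ ψ hψ₀.2 h5).mpr h4).symm⟩
  have h4 : ∀ j ∈ ((Finset.univ.filter (fun ψ : ↥(P : Subgroup G) →* ℂˣ => ψ ≠ 1)).filter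
      (fun ψ => D.Θ ψ = D.Θ ψ₀)), f (D.Θ j) = f (D.Θ ψ₀) := by
    intro j hj
    rw [(Finset.mem_filter.mp hj).2]
  have h5 : (Finset.univ.filter (fun ψ => blRel (P : Subgroup G) ψ₀ ψ)).card = m := by
    rw [← hCN, ← card_blRel P hab hfrob ψ₀ hψ₀.2, Nat.card_eq_fintype_card, Fintype.card_subtype]
  rw [Finset.sum_congr rfl h4, Finset.sum_const, nsmul_eq_mul, h3, h5]

/-- values of the exceptional characters on `P` when `d = 0` -/
theorem val_Y_conjSet [Fact p.Prime] (D : BLData M P m) (hd : D.d = 0)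
    (hab : IsMulCommutative P)
    (hfrob : ∀ y : G, y ∈ (P : Subgroup G) → y ≠ 1 →
      Subgroup.centralizer ({y} : Set G) ⊓ Subgroup.normalizer ((P : Subgroup G) : Set G)
        = Subgroup.centralizer ((P : Subgroup G) : Set G))
    (ψ : ↥(P : Subgroup G) →* ℂˣ) (hψ : ψ ≠ 1) (y : ↥(P : Subgroup G)) (hy : y ≠ 1) :
    ((D.Θ ψ : Cfsg.IrrCharacter G) : G → ℂ) (y : G)
      = (D.δ : ℂ) * ∑ w ∈ conjSet P y, ((ψ w : ℂˣ) : ℂ) := by
  classical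
  have hy1 : (y : G) ≠ 1 := by
    intro h
    apply hy
    exact Subtype.ext h
  rw [D.val_Y hab ψ hψ y hy, hd, orbSum_eq_sum_isConj P hab hfrob ψ hψ y hy1]
  unfold conjSet
  rw [Finset.sum_filter]
  simp

theorem sum_conjSet_one (y : ↥(P : Subgroup G)) :
    ∑ w ∈ conjSet P y, (((1 : ↥(P : Subgroup G) →* ℂˣ) w : ℂˣ) : ℂ) = ((conjSet P y).card : ℂ) := by
  simp

/-- removing the trivial character, for an arbitrary decidability instance -/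
theorem sum_ne_one_eq' {A : Type*} [Group A] [Fintype (A →* ℂˣ)]
    [DecidablePred (fun ψ : A →* ℂˣ => ψ ≠ 1)] (F : (A →* ℂˣ) → ℂ) :
    ∑ ψ ∈ Finset.univ.filter (fun ψ : A →* ℂˣ => ψ ≠ 1), F ψ
      = ∑ ψ : A →* ℂˣ, F ψ - F 1 := by
  classical
  have h : Finset.univ.filter (fun ψ : A →* ℂˣ => ψ ≠ 1) = Finset.univ.erase 1 := by
    ext ψ
    simp
  rw [h, Finset.sum_erase_eq_sub (Finset.mem_univ _)]

open Classical in
/-- the quadratic sums -/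
theorem sum_Y_two [Fact p.Prime] (D : BLData M P m) (hd : D.d = 0)
    (hab : IsMulCommutative P)
    (hfrob : ∀ y : G, y ∈ (P : Subgroup G) → y ≠ 1 →
      Subgroup.centralizer ({y} : Set G) ⊓ Subgroup.normalizer ((P : Subgroup G) : Set G)
        = Subgroup.centralizer ((P : Subgroup G) : Set G))
    (hCN : (Subgroup.centralizer ((P : Subgroup G) : Set G)).relIndex
      (Subgroup.normalizer ((P : Subgroup G) : Set G)) = m)
    (y₁ y₂ : ↥(P : Subgroup G)) (h₁ : y₁ ≠ 1) (h₂ : y₂ ≠ 1) (N : ℕ)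
    (hN : Set.ncard {q : ↥(P : Subgroup G) × ↥(P : Subgroup G) |
      q.1 ∈ conjSet P y₁ ∧ q.2 ∈ conjSet P y₂ ∧ q.1 * q.2 = 1} = N) :
    (m : ℂ) * ∑ η ∈ D.Y, (η : G → ℂ) (y₁ : G) * (η : G → ℂ) (y₂ : G)
      = (Nat.card P : ℂ) * (N : ℂ) - (m : ℂ) * (m : ℂ) := by
  rw [sum_Y_mul D hab hfrob hCN (fun η => (η : G → ℂ) (y₁ : G) * (η : G → ℂ) (y₂ : G))]
  have hδ : (D.δ : ℂ) * (D.δ : ℂ) = 1 := by exact_mod_cast D.δ_mul_δ
  have h3 : ∀ ψ ∈ Finset.univ.filter (fun ψ : ↥(P : Subgroup G) →* ℂˣ => ψ ≠ 1),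
      ((D.Θ ψ : Cfsg.IrrCharacter G) : G → ℂ) (y₁ : G)
        * ((D.Θ ψ : Cfsg.IrrCharacter G) : G → ℂ) (y₂ : G)
      = (∑ w ∈ conjSet P y₁, ((ψ w : ℂˣ) : ℂ)) * (∑ w ∈ conjSet P y₂, ((ψ w : ℂˣ) : ℂ)) := by
    intro ψ hψ
    rw [Finset.mem_filter] at hψ
    rw [val_Y_conjSet D hd hab hfrob ψ hψ.2 y₁ h₁, val_Y_conjSet D hd hab hfrob ψ hψ.2 y₂ h₂]
    linear_combination (∑ w ∈ conjSet P y₁, ((ψ w : ℂˣ) : ℂ))
      * (∑ w ∈ conjSet P y₂, ((ψ w : ℂˣ) : ℂ)) * hδ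
  rw [Finset.sum_congr rfl h3,
    sum_ne_one_eq' (fun ψ : ↥(P : Subgroup G) →* ℂˣ =>
      (∑ w ∈ conjSet P y₁, ((ψ w : ℂˣ) : ℂ)) * (∑ w ∈ conjSet P y₂, ((ψ w : ℂˣ) : ℂ))),
    sum_hom_mul_sum hab, sum_conjSet_one, sum_conjSet_one,
    card_conjSet hab hfrob hCN y₁ h₁, card_conjSet hab hfrob hCN y₂ h₂]
  congr 3
  rw [← hN, ← Set.ncard_coe_finset]
  congr 1
  ext q
  simp [and_assoc]

open Classical in
/-- the cubic sums -/
theorem sum_Y_three [Fact p.Prime] (D : BLData M P m) (hd : D.d = 0)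
    (hab : IsMulCommutative P)
    (hfrob : ∀ y : G, y ∈ (P : Subgroup G) → y ≠ 1 →
      Subgroup.centralizer ({y} : Set G) ⊓ Subgroup.normalizer ((P : Subgroup G) : Set G)
        = Subgroup.centralizer ((P : Subgroup G) : Set G))
    (hCN : (Subgroup.centralizer ((P : Subgroup G) : Set G)).relIndex
      (Subgroup.normalizer ((P : Subgroup G) : Set G)) = m)
    (y₁ y₂ y₃ : ↥(P : Subgroup G)) (h₁ : y₁ ≠ 1) (h₂ : y₂ ≠ 1) (h₃ : y₃ ≠ 1) (N : ℕ)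
    (hN : Set.ncard {q : (↥(P : Subgroup G) × ↥(P : Subgroup G)) × ↥(P : Subgroup G) |
      q.1.1 ∈ conjSet P y₁ ∧ q.1.2 ∈ conjSet P y₂ ∧ q.2 ∈ conjSet P y₃
        ∧ q.1.1 * q.1.2 * q.2 = 1} = N) :
    (m : ℂ) * ∑ η ∈ D.Y, (η : G → ℂ) (y₁ : G) * (η : G → ℂ) (y₂ : G) * (η : G → ℂ) (y₃ : G)
      = (D.δ : ℂ) * ((Nat.card P : ℂ) * (N : ℂ) - (m : ℂ) * (m : ℂ) * (m : ℂ)) := by
  rw [sum_Y_mul D hab hfrob hCN
    (fun η => (η : G → ℂ) (y₁ : G) * (η : G → ℂ) (y₂ : G) * (η : G → ℂ) (y₃ : G))]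
  have hδ : (D.δ : ℂ) * (D.δ : ℂ) = 1 := by exact_mod_cast D.δ_mul_δ
  have h3 : ∀ ψ ∈ Finset.univ.filter (fun ψ : ↥(P : Subgroup G) →* ℂˣ => ψ ≠ 1),
      ((D.Θ ψ : Cfsg.IrrCharacter G) : G → ℂ) (y₁ : G)
        * ((D.Θ ψ : Cfsg.IrrCharacter G) : G → ℂ) (y₂ : G)
        * ((D.Θ ψ : Cfsg.IrrCharacter G) : G → ℂ) (y₃ : G)
      = (D.δ : ℂ) * ((∑ w ∈ conjSet P y₁, ((ψ w : ℂˣ) : ℂ))
          * (∑ w ∈ conjSet P y₂, ((ψ w : ℂˣ) : ℂ)) * (∑ w ∈ conjSet P y₃, ((ψ w : ℂˣ) : ℂ))) := by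
    intro ψ hψ
    rw [Finset.mem_filter] at hψ
    rw [val_Y_conjSet D hd hab hfrob ψ hψ.2 y₁ h₁, val_Y_conjSet D hd hab hfrob ψ hψ.2 y₂ h₂,
      val_Y_conjSet D hd hab hfrob ψ hψ.2 y₃ h₃]
    linear_combination (D.δ : ℂ) * (∑ w ∈ conjSet P y₁, ((ψ w : ℂˣ) : ℂ))
      * (∑ w ∈ conjSet P y₂, ((ψ w : ℂˣ) : ℂ)) * (∑ w ∈ conjSet P y₃, ((ψ w : ℂˣ) : ℂ)) * hδ
  rw [Finset.sum_congr rfl h3, ← Finset.mul_sum,
    sum_ne_one_eq' (fun ψ : ↥(P : Subgroup G) →* ℂˣ =>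
      (∑ w ∈ conjSet P y₁, ((ψ w : ℂˣ) : ℂ)) * (∑ w ∈ conjSet P y₂, ((ψ w : ℂˣ) : ℂ))
        * (∑ w ∈ conjSet P y₃, ((ψ w : ℂˣ) : ℂ))),
    sum_hom_mul_sum_mul_sum hab, sum_conjSet_one, sum_conjSet_one, sum_conjSet_one,
    card_conjSet hab hfrob hCN y₁ h₁, card_conjSet hab hfrob hCN y₂ h₂,
    card_conjSet hab hfrob hCN y₃ h₃]
  congr 4
  rw [← hN, ← Set.ncard_coe_finset]
  congr 1
  ext q
  simp [and_assoc]

end tnf

end Cfsg.Agent.Lib.Helper6.Tn
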