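import Mathlib
import Cfsg.Prelude.Def_Blocks
import Cfsg.Agent.Lib.Helper6.TnC
import Cfsg.Agent.Lib.Helper6.TnF
import Cfsg.Agent.Lib.Helper6.BLSimple2
import Cfsg.Agent.Lib.Helper6.BlkClassMult
import Cfsg.Agent.Lib.Helper6.Auto

/-! # Elementary abelian Sylow 3-subgroup of order 9 with `|N : C| = 2`: a contradiction -/

set_option autoImplicit false
set_option linter.unusedSectionVars false
open Cfsg

namespace Cfsg.Agent.Lib.Helper6.Tn

open scoped ComplexConjugate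
open Cfsg.Agent.Lib.Helper6

section tng0

variable {G : Type*} [Group G]

theorem triple_two (y y' a b c : G) (hy3 : y ^ 3 = 1) (hy'1 : y' ≠ 1) (h1 : y' ≠ y)
    (h2 : y' ≠ y⁻¹) (ha : a = y ∨ a = y⁻¹) (hb : b = y ∨ b = y⁻¹) (hc : c = y' ∨ c = y'⁻¹) :
    a * b * c ≠ 1 := by
  intro h
  have hyy : y * y = y⁻¹ := mul_self_of_cube hy3
  have hyy' : y⁻¹ * y⁻¹ = y := inv_mul_inv_of_cube hy3
  have hc' : c = (a * b)⁻¹ := eq_inv_of_mul_eq_one_right h
  rcases ha with ha | ha <;> rcases hb with hb | hb <;> rw [ha, hb] at hc'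
  · rw [hyy, inv_inv] at hc'
    rcases hc with hc | hc
    · exact h1 (hc.symm.trans hc')
    · apply h2
      rw [← hc', hc, inv_inv]
  · rw [mul_inv_cancel, inv_one] at hc'
    rcases hc with hc | hc
    · exact hy'1 (hc.symm.trans hc')
    · apply hy'1
      rw [← inv_inv y', ← hc, hc', inv_one]
  · rw [inv_mul_cancel, inv_one] at hc'
    rcases hc with hc | hc
    · exact hy'1 (hc.symm.trans hc')
    · apply hy'1
      rw [← inv_inv y', ← hc, hc', inv_one]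
  · rw [hyy'] at hc'
    rcases hc with hc | hc
    · exact h2 (hc.symm.trans hc')
    · apply h1
      rw [← inv_inv y', ← hc, hc', inv_inv]

theorem ncard_triple_eq_zero {A : Type*} [Group A] (s t u : Finset A)
    (h : ∀ a ∈ s, ∀ b ∈ t, ∀ c ∈ u, a * b * c ≠ 1) :
    Set.ncard {q : (A × A) × A | q.1.1 ∈ s ∧ q.1.2 ∈ t ∧ q.2 ∈ u ∧ q.1.1 * q.1.2 * q.2 = 1} = 0 := by
  have : {q : (A × A) × A | q.1.1 ∈ s ∧ q.1.2 ∈ t ∧ q.2 ∈ u ∧ q.1.1 * q.1.2 * q.2 = 1} = ∅ := by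
    ext q
    simp only [Set.mem_setOf_eq, Set.mem_empty_iff_false, iff_false]
    rintro ⟨h1, h2, h3, h4⟩
    exact h _ h1 _ h2 _ h3 h4
  rw [this, Set.ncard_empty]

theorem ncard_pair_eq_zero {A : Type*} [Group A] (s t : Finset A)
    (h : ∀ a ∈ s, ∀ b ∈ t, a * b ≠ 1) :
    Set.ncard {q : A × A | q.1 ∈ s ∧ q.2 ∈ t ∧ q.1 * q.2 = 1} = 0 := by
  have : {q : A × A | q.1 ∈ s ∧ q.2 ∈ t ∧ q.1 * q.2 = 1} = ∅ := by
    ext q
    simp only [Set.mem_setOf_eq, Set.mem_empty_iff_false, iff_false]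
    rintro ⟨h1, h2, h3⟩
    exact h _ h1 _ h2 h3
  rw [this, Set.ncard_empty]

theorem ncard_pair_self {A : Type*} [Group A] (s : Finset A)
    (h : ∀ a ∈ s, a⁻¹ ∈ s) :
    Set.ncard {q : A × A | q.1 ∈ s ∧ q.2 ∈ s ∧ q.1 * q.2 = 1} = s.card := by
  have : {q : A × A | q.1 ∈ s ∧ q.2 ∈ s ∧ q.1 * q.2 = 1}
      = (fun a : A => (a, a⁻¹)) '' (s : Set A) := by
    ext q
    simp only [Set.mem_setOf_eq, Set.mem_image, Finset.mem_coe]
    constructor
    · rintro ⟨h1, h2, h3⟩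
      refine ⟨q.1, h1, ?_⟩
      rw [← eq_inv_of_mul_eq_one_right h3]
    · rintro ⟨a, ha, rfl⟩
      exact ⟨ha, h a ha, mul_inv_cancel a⟩
  rw [this, Set.ncard_image_of_injective _ (fun a b hab => (Prod.mk.inj hab).1),
    Set.ncard_coe_finset]

end tng0

section tng

variable {G : Type*} [Group G] [Fintype G] [DecidableEq G]
variable {M : Ideal Cfsg.AlgInt}
variable {P : Sylow 3 G} [Fintype ↥(P : Subgroup G)] [Fintype (↥(P : Subgroup G) →* ℂˣ)]
    [Fintype (Cfsg.IrrCharacter G)] [DecidableEq (Cfsg.IrrCharacter G)]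

/-- there are two nonconjugate nonidentity elements when `|N : C| = 2` -/
theorem exists_pair_two (hab : IsMulCommutative P)
    (hexp : ∀ a ∈ (P : Subgroup G), a ^ 3 = 1)
    (hcent : ∀ s ∈ (P : Subgroup G), s ≠ 1 →
      Subgroup.centralizer ({s} : Set G) = (P : Subgroup G))
    (hcard : Nat.card P = 9)
    (hCN : (Subgroup.centralizer ((P : Subgroup G) : Set G)).relIndex
      (Subgroup.normalizer ((P : Subgroup G) : Set G)) = 2) :
    ∃ y y' : ↥(P : Subgroup G), (y : G) ≠ 1 ∧ (y' : G) ≠ 1 ∧ (y' : G) ≠ (y : G)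
      ∧ (y' : G) ≠ (y : G)⁻¹ ∧ ¬ IsConj (y : G) (y' : G) := by
  classical
  have hcardP : Fintype.card ↥(P : Subgroup G) = 9 := by
    rw [← Nat.card_eq_fintype_card]; exact hcard
  obtain ⟨y, hy⟩ : ∃ y : ↥(P : Subgroup G), y ≠ 1 := by
    by_contra hcon
    push Not at hcon
    have : Fintype.card ↥(P : Subgroup G) ≤ 1 :=
      Fintype.card_le_one_iff.mpr (fun a b => by rw [hcon a, hcon b])
    omega
  obtain ⟨y', hy'⟩ : ∃ y' : ↥(P : Subgroup G),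
      y' ∉ ({1, y, y⁻¹} : Finset ↥(P : Subgroup G)) := by
    by_contra hcon
    push Not at hcon
    have h1 : (Finset.univ : Finset ↥(P : Subgroup G)) ⊆ {1, y, y⁻¹} := fun a _ => hcon a
    have h2 := Finset.card_le_card h1
    have h3 : ({1, y, y⁻¹} : Finset ↥(P : Subgroup G)).card ≤ 3 := Finset.card_le_three
    rw [Finset.card_univ, hcardP] at h2
    omega
  simp only [Finset.mem_insert, Finset.mem_singleton, not_or] at hy'
  obtain ⟨hy'1, hy'y, hy'yi⟩ := hy'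
  have hy1G : (y : G) ≠ 1 := fun h => hy (Subtype.ext h)
  have hy'1G : (y' : G) ≠ 1 := fun h => hy'1 (Subtype.ext h)
  have hy'yG : (y' : G) ≠ (y : G) := fun h => hy'y (Subtype.ext h)
  have hy'yiG : (y' : G) ≠ (y : G)⁻¹ := fun h => hy'yi (Subtype.ext (by rw [h]; simp))
  refine ⟨y, y', hy1G, hy'1G, hy'yG, hy'yiG, ?_⟩
  intro h
  rcases conj_two P hab hexp hcent hCN (y : G) y.2 hy1G (y' : G) y'.2 hy'1G h with h | h
  · exact hy'yG h
  · exact hy'yiG h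

/-- the cubic sum vanishes combinatorially when `|N : C| = 2` -/
theorem cubic_two (hM : Cfsg.IsPModular 3 M) (hab : IsMulCommutative P)
    (hexp : ∀ a ∈ (P : Subgroup G), a ^ 3 = 1)
    (hcent : ∀ s ∈ (P : Subgroup G), s ≠ 1 →
      Subgroup.centralizer ({s} : Set G) = (P : Subgroup G))
    (hcard : Nat.card P = 9)
    (hCN : (Subgroup.centralizer ((P : Subgroup G) : Set G)).relIndex
      (Subgroup.normalizer ((P : Subgroup G) : Set G)) = 2)
    (D : BLData M P 2) (hd : D.d = 0)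
    (y y' : ↥(P : Subgroup G)) (hy1 : (y : G) ≠ 1) (hy'1 : (y' : G) ≠ 1)
    (hy'y : (y' : G) ≠ (y : G)) (hy'yi : (y' : G) ≠ (y : G)⁻¹) :
    ∑ η ∈ D.Y, (η : G → ℂ) (y : G) * (η : G → ℂ) (y : G) * conj ((η : G → ℂ) (y' : G))
      = -4 * (D.δ : ℂ) := by
  classical
  haveI : Fact (Nat.Prime 3) := ⟨Nat.prime_three⟩
  have hfrob := hfrob_of_hcent P hab hcent
  have hy : y ≠ 1 := fun h => hy1 (by rw [h]; rfl)
  have hy' : y' ≠ 1 := fun h => hy'1 (by rw [h]; rfl)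
  have hy'i : y'⁻¹ ≠ 1 := inv_ne_one.mpr hy'
  have hN : Set.ncard {q : (↥(P : Subgroup G) × ↥(P : Subgroup G)) × ↥(P : Subgroup G) |
      q.1.1 ∈ conjSet P y ∧ q.1.2 ∈ conjSet P y ∧ q.2 ∈ conjSet P y'⁻¹
        ∧ q.1.1 * q.1.2 * q.2 = 1} = 0 := by
    apply ncard_triple_eq_zero
    intro a ha b hb c hc habc
    rw [mem_conjSet] at ha hb hc
    have ha' := conj_two P hab hexp hcent hCN (y : G) y.2 hy1 (a : G) a.2 ha.1 ha.2
    have hb' := conj_two P hab hexp hcent hCN (y : G) y.2 hy1 (b : G) b.2 hb.1 hb.2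
    have hy'i1 : ((y'⁻¹ : ↥(P : Subgroup G)) : G) ≠ 1 := fun h => hy'i (Subtype.ext h)
    have hc' := conj_two P hab hexp hcent hCN ((y'⁻¹ : ↥(P : Subgroup G)) : G) (y'⁻¹).2 hy'i1
      (c : G) c.2 hc.1 hc.2
    have hc'' : (c : G) = (y' : G) ∨ (c : G) = (y' : G)⁻¹ := by
      rcases hc' with h | h
      · right; rw [h]; simp
      · left; rw [h]; simp
    refine triple_two (y : G) (y' : G) (a : G) (b : G) (c : G) (hexp _ y.2) hy'1 hy'y hy'yi
      ha' hb' hc'' ?_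
    have := congrArg (fun t : ↥(P : Subgroup G) => (t : G)) habc
    simpa using this
  have h3 := sum_Y_three D hd hab hfrob hCN y y y'⁻¹ hy hy hy'i 0 hN
  have hconj : ∀ η ∈ D.Y, (η : G → ℂ) (y : G) * (η : G → ℂ) (y : G) * conj ((η : G → ℂ) (y' : G))
      = (η : G → ℂ) (y : G) * (η : G → ℂ) (y : G)
        * (η : G → ℂ) ((y'⁻¹ : ↥(P : Subgroup G)) : G) := by
    intro η _
    rw [Subgroup.coe_inv, IsCharacter.apply_inv (IsIrrCharacter.isCharacter η.2)]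
  rw [Finset.sum_congr rfl hconj]
  rw [hcard] at h3
  push_cast at h3
  linear_combination (1 / 2 : ℂ) * h3

/-- `|N : C| = 2` is impossible -/
theorem false_of_two [IsSimpleGroup G] (hM : Cfsg.IsPModular 3 M)
    (hab : IsMulCommutative P) (hexp : ∀ a ∈ (P : Subgroup G), a ^ 3 = 1)
    (hcent : ∀ s ∈ (P : Subgroup G), s ≠ 1 →
      Subgroup.centralizer ({s} : Set G) = (P : Subgroup G))
    (hcard : Nat.card P = 9)
    (hCN : (Subgroup.centralizer ((P : Subgroup G) : Set G)).relIndex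
      (Subgroup.normalizer ((P : Subgroup G) : Set G)) = 2)
    (D : BLData M P 2) : False := by
  classical
  haveI : Fact (Nat.Prime 3) := ⟨Nat.prime_three⟩
  have hfrob := hfrob_of_hcent P hab hcent
  have hY : D.Y.card = 4 := by
    have := D.card_Y hab hfrob hCN
    rw [hcard] at this
    omega
  obtain ⟨hw1, hΘ1⟩ := D.one hM
  have h1X := D.one_mem_X hM
  have hXne : ∀ χ ∈ D.X, D.w χ ≠ 0 := by
    intro χ hχ
    obtain ⟨h1, h2⟩ := (D.mem_X χ).mp hχ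
    exact D.w_ne_zero hM hab hfrob χ h1 h2
  have hnorm := D.norm_eq
  rw [hY] at hnorm
  have hsplit := Finset.add_sum_erase D.X (fun χ => D.w χ ^ 2) h1X
  simp only [hw1] at hsplit
  have hS0 : 0 ≤ ∑ χ ∈ D.X.erase (oneIrr G), D.w χ ^ 2 :=
    Finset.sum_nonneg (fun i _ => sq_nonneg _)
  have hδ2 : D.δ ^ 2 = 1 := by rw [sq]; exact D.δ_mul_δ
  have hd : D.d = 0 := by
    by_contra hd
    have h1 : 1 ≤ D.d ^ 2 := one_le_sq_of_ne_zero hd
    have h2 : 0 ≤ (D.d - D.δ) ^ 2 := sq_nonneg _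
    push_cast at hnorm
    nlinarith
  have hS : ∑ χ ∈ D.X.erase (oneIrr G), D.w χ ^ 2 = 1 := by
    rw [hd] at hnorm
    push_cast at hnorm
    nlinarith
  obtain ⟨χ₂, hX2, hw₂⟩ := exists_of_sum_sq_eq_one (D.X.erase (oneIrr G)) D.w
    (fun i hi => hXne i (Finset.mem_of_mem_erase hi)) hS
  have hχ₂mem : χ₂ ∈ D.X.erase (oneIrr G) := by rw [hX2]; simp
  have hχ₂X : χ₂ ∈ D.X := Finset.mem_of_mem_erase hχ₂mem
  have hχ₂1 : χ₂ ≠ oneIrr G := Finset.ne_of_mem_erase hχ₂mem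
  have hXeq : D.X = insert (oneIrr G) {χ₂} := by
    rw [← Finset.insert_erase h1X, hX2]
  have hnot : oneIrr G ∉ ({χ₂} : Finset (Cfsg.IrrCharacter G)) := by
    simp only [Finset.mem_singleton]
    exact Ne.symm hχ₂1
  obtain ⟨y, y', hy1, hy'1, hy'y, hy'yi, hnc⟩ := exists_pair_two hab hexp hcent hcard hCN
  have hy : y ≠ 1 := fun h => hy1 (by rw [h]; rfl)
  have hy' : y' ≠ 1 := fun h => hy'1 (by rw [h]; rfl)
  -- the common degree of the exceptional characters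
  obtain ⟨η₀, hη₀⟩ : D.Y.Nonempty := by rw [← Finset.card_pos, hY]; norm_num
  have h1reg : ¬ 3 ∣ orderOf (1 : G) := by rw [orderOf_one]; norm_num
  have hdeg : ∀ η ∈ D.Y, (η : G → ℂ) 1 = (η₀ : G → ℂ) 1 :=
    fun η hη => D.pRegular_eq η η₀ hη hη₀ 1 h1reg
  have hrel := D.pRegular_rel η₀ hη₀ 1 h1reg
  rw [hY, hd, hXeq, Finset.sum_insert hnot, Finset.sum_singleton, hw1] at hrel
  have hone : ∀ g : G, ((oneIrr G : Cfsg.IrrCharacter G) : G → ℂ) g = 1 := fun g => rfl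
  rw [hone] at hrel
  -- the block sum
  have hbs := block_sum_classMult_eq_zero hM (y : G) (y : G) (y' : G)
    (isPPart_self P hexp (y' : G) y'.2 hy'1)
    (fun c hc g h => no_mul_two P hab hexp hcent hCN (y : G) (y' : G) y.2 hy1 y'.2 hy'1 hnc
      c hc g h) (oneIrr G)
  have hbs' : ∑ χ ∈ prinFinset M G, ((χ : G → ℂ) (y : G) * (χ : G → ℂ) (y : G) / (χ : G → ℂ) 1)
      * conj ((χ : G → ℂ) (y' : G)) = 0 := by
    rw [prinFinset_eq_filter_blockOf]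
    convert hbs
  rw [← Finset.sum_sdiff D.Y_subset] at hbs'
  have hXdef : prinFinset M G \ D.Y = D.X := rfl
  rw [hXdef, hXeq, Finset.sum_insert hnot, Finset.sum_singleton] at hbs'
  simp only [hone] at hbs'
  rw [D.val_X hab χ₂ hχ₂X y hy, D.val_X hab χ₂ hχ₂X y' hy'] at hbs'
  have hYsum : ∑ η ∈ D.Y, ((η : G → ℂ) (y : G) * (η : G → ℂ) (y : G) / (η : G → ℂ) 1)
      * conj ((η : G → ℂ) (y' : G)) = (-4 * (D.δ : ℂ)) / (η₀ : G → ℂ) 1 := by
    rw [← cubic_two hM hab hexp hcent hcard hCN D hd y y' hy1 hy'1 hy'y hy'yi, Finset.sum_div]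
    apply Finset.sum_congr rfl
    intro η hη
    rw [hdeg η hη]
    ring
  rw [hYsum] at hbs'
  -- the algebra
  obtain ⟨n, hn⟩ : ∃ n : ℕ, n = Cfsg.charDegree (χ₂ : G → ℂ) := ⟨_, rfl⟩
  have hx : (χ₂ : G → ℂ) 1 = (n : ℂ) := by
    rw [hn]; exact IsCharacter.apply_one_eq_charDegree (IsIrrCharacter.isCharacter χ₂.2)
  obtain ⟨t, ht⟩ : ∃ t : ℕ, t = Cfsg.charDegree (η₀ : G → ℂ) := ⟨_, rfl⟩
  have hθ : (η₀ : G → ℂ) 1 = (t : ℂ) := by
    rw [ht]; exact IsCharacter.apply_one_eq_charDegree (IsIrrCharacter.isCharacter η₀.2)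
  have hn0 : 0 < n := by rw [hn]; exact IsIrrCharacter.charDegree_pos χ₂.2
  have ht0 : 0 < t := by rw [ht]; exact IsIrrCharacter.charDegree_pos η₀.2
  have hGnp : ¬ (Nat.card G).Prime := by
    intro hp
    have h9 : Nat.card P ∣ Nat.card G := Subgroup.card_subgroup_dvd_card _
    rw [hcard] at h9
    rcases (Nat.dvd_prime hp).mp h9 with h | h
    · omega
    · rw [← h] at hp
      norm_num at hp
  have hn1 : n ≠ 1 := by rw [hn]; exact charDegree_ne_one_of_simple hGnp χ₂ hχ₂1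
  rw [hx, hθ] at hbs'
  rw [hx, hθ] at hrel
  have hnC : (n : ℂ) ≠ 0 := by exact_mod_cast hn0.ne'
  have htC : (t : ℂ) ≠ 0 := by exact_mod_cast ht0.ne'
  have hδC : (D.δ : ℂ) * (D.δ : ℂ) = 1 := by exact_mod_cast D.δ_mul_δ
  obtain ⟨ε, hεdef⟩ : ∃ ε : ℂ, ε = (D.w χ₂ : ℂ) := ⟨_, rfl⟩
  have hε : ε * ε = 1 := by
    rw [hεdef]
    rcases hw₂ with h | h <;> rw [h] <;> norm_num
  have hεc : (starRingEnd ℂ) ((D.w χ₂ : ℤ) : ℂ) = ((D.w χ₂ : ℤ) : ℂ) := map_intCast (starRingEnd ℂ) (D.w χ₂)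
  rw [hεc, ← hεdef] at hbs'
  rw [← hεdef] at hrel
  have hrel' : (t : ℂ) = (D.δ : ℂ) * (1 + ε * (n : ℂ)) := by
    push_cast at hrel
    linear_combination (-(D.δ : ℂ)) * hrel - (t : ℂ) * hδC
  have h6 : (1 * 1 / 1 * (starRingEnd ℂ) 1 + ε * ε / (n : ℂ) * ε + -4 * (D.δ : ℂ) / (t : ℂ))
      * ((n : ℂ) * (t : ℂ))
      = (n : ℂ) * (t : ℂ) + ε * ε * ε * (t : ℂ) - 4 * (D.δ : ℂ) * (n : ℂ) := by
    rw [map_one]
    field_simp
    ring
  rw [hbs', zero_mul] at h6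
  have h5 : (n : ℂ) * (t : ℂ) + ε * (t : ℂ) - 4 * (D.δ : ℂ) * (n : ℂ) = 0 := by
    linear_combination (-1 : ℂ) * h6 - ε * (t : ℂ) * hε
  rw [hrel'] at h5
  have h8 : (1 + ε * (n : ℂ)) * ((n : ℂ) + ε) - 4 * (n : ℂ) = 0 := by
    linear_combination (D.δ : ℂ) * h5 - ((1 + ε * (n : ℂ)) * ((n : ℂ) + ε) - 4 * (n : ℂ)) * hδC
  have h9 : ((n : ℂ) - ε) ^ 2 = 0 := by
    linear_combination ε * h8 - ((n : ℂ) ^ 2 + ε * (n : ℂ)) * hε
  have h10 : (n : ℂ) = ε := by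
    have := pow_eq_zero_iff (two_ne_zero) |>.mp h9
    linear_combination this
  rw [hεdef] at h10
  rcases hw₂ with h | h
  · rw [h] at h10
    apply hn1
    have : (n : ℂ) = ((1 : ℕ) : ℂ) := by rw [h10]; norm_num
    exact_mod_cast this
  · rw [h] at h10
    have : ((n + 1 : ℕ) : ℂ) = 0 := by
      push_cast
      rw [h10]
      norm_num
    have h11 : n + 1 = 0 := by exact_mod_cast this
    omega

end tng

end Cfsg.Agent.Lib.Helper6.Tn
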