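import Mathlib
import Cfsg.Prelude.Def_Blocks
import Cfsg.Agent.Lib.Helper6.TnD
import Cfsg.Agent.Lib.Helper6.TnG
import Cfsg.Agent.Lib.Helper6.BLSec
import Cfsg.Agent.Lib.Helper6.BLGroup

/-! # Elementary abelian Sylow 3-subgroup of order 9 with `|N : C| = 4`: the exceptional characters -/

set_option autoImplicit false
set_option linter.unusedSectionVars false
open Cfsg

namespace Cfsg.Agent.Lib.Helper6.Tn

open scoped ComplexConjugate
open Cfsg.Agent.Lib.Helper6

section tnh0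

theorem isConj_inv_inv {G : Type*} [Group G] {a b : G} (h : IsConj a b) : IsConj a⁻¹ b⁻¹ := by
  obtain ⟨c, hc⟩ := isConj_iff.mp h
  rw [isConj_iff]
  refine ⟨c, ?_⟩
  rw [← hc]
  group

theorem exists_of_sum_sq_eq_three {ι : Type*} [DecidableEq ι] (S : Finset ι) (w : ι → ℤ)
    (hne : ∀ i ∈ S, w i ≠ 0) (hs : ∑ i ∈ S, w i ^ 2 = 3) :
    S.card = 3 ∧ ∀ i ∈ S, w i = 1 ∨ w i = -1 := by
  have hge : ∀ χ ∈ S, 1 ≤ w χ ^ 2 := fun χ hχ => one_le_sq_of_ne_zero (hne χ hχ)
  have hsq : ∀ χ ∈ S, w χ ^ 2 = 1 := by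
    intro χ hχ
    by_contra hne'
    have h1 := hge χ hχ
    have h2 : 2 ≤ w χ ^ 2 := by omega
    have h3 : 4 ≤ w χ ^ 2 := by
      by_contra h4
      push Not at h4
      have h5 : -2 < w χ := by nlinarith
      have h6 : w χ < 2 := by nlinarith
      have h7 : w χ = -1 ∨ w χ = 0 ∨ w χ = 1 := by omega
      rcases h7 with h | h | h <;> rw [h] at h2 <;> norm_num at h2
    have h4 : w χ ^ 2 ≤ ∑ χ ∈ S, w χ ^ 2 :=
      Finset.single_le_sum (f := fun χ => w χ ^ 2) (fun i _ => sq_nonneg _) hχ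
    omega
  constructor
  · have : ∑ χ ∈ S, w χ ^ 2 = S.card := by
      rw [Finset.sum_congr rfl hsq]
      simp
    rw [this] at hs
    exact_mod_cast hs
  · intro χ hχ
    exact sq_eq_one_int (hsq χ hχ)

end tnh0

section tnh

variable {G : Type*} [Group G] [Fintype G] [DecidableEq G]
variable {M : Ideal Cfsg.AlgInt}
variable {P : Sylow 3 G} [Fintype ↥(P : Subgroup G)] [Fintype (↥(P : Subgroup G) →* ℂˣ)]
    [Fintype (Cfsg.IrrCharacter G)] [DecidableEq (Cfsg.IrrCharacter G)]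

/-- characters outside the principal block vanish on the nonidentity elements of `P` -/
theorem vanish_of_not_principal (hM : Cfsg.IsPModular 3 M) (hab : IsMulCommutative P)
    (hexp : ∀ a ∈ (P : Subgroup G), a ^ 3 = 1)
    (hcent : ∀ s ∈ (P : Subgroup G), s ≠ 1 →
      Subgroup.centralizer ({s} : Set G) = (P : Subgroup G))
    (χ : Cfsg.IrrCharacter G) (hχ : χ ∉ Cfsg.principalBlock M G)
    (y : G) (hy : y ∈ (P : Subgroup G)) (hy1 : y ≠ 1) : (χ : G → ℂ) y = 0 := by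
  classical
  haveI : Fact (Nat.Prime 3) := ⟨Nat.prime_three⟩
  have hfrob := hfrob_of_hcent P hab hcent
  haveI : Fintype (Subgroup.centralizer ({y} : Set G)) := Fintype.ofFinite _
  obtain ⟨hidx, hreg⟩ := centralizer_pPrimeCore_data P hab hfrob y hy hy1
  have hx : ∃ k : ℕ, orderOf y = 3 ^ k := by
    obtain ⟨k, hk⟩ := (IsPGroup.iff_orderOf.mp P.2) ⟨y, hy⟩
    exact ⟨k, by rw [← hk, Subgroup.orderOf_mk]⟩
  have hnc : ∃ k : ℕ, (Cfsg.pPrimeCore 3
      (Subgroup.centralizer ({y} : Set G))).index = 3 ^ k := by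
    rw [hidx]
    exact IsPGroup.iff_card.mp P.2
  have h3 := sum_core_eq_zero_of_not_principal hM y hx _ rfl hnc χ hχ
  have h4 : (Finset.univ.filter (fun v : Subgroup.centralizer ({y} : Set G) =>
      v ∈ Cfsg.pPrimeCore 3 (Subgroup.centralizer ({y} : Set G)))) = {1} := by
    ext v
    simp only [Finset.mem_filter, Finset.mem_univ, true_and, Finset.mem_singleton]
    constructor
    · intro hv
      have h5 := (hreg v).mpr hv
      have hvP : (v : G) ∈ (P : Subgroup G) := by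
        rw [← hcent y hy hy1]
        exact v.2
      have h6 : (v : G) ^ 3 = 1 := hexp _ hvP
      have h7 : orderOf v ∣ 3 := by
        rw [← Subgroup.orderOf_coe]
        exact orderOf_dvd_of_pow_eq_one h6
      rcases (Nat.dvd_prime Nat.prime_three).mp h7 with h | h
      · exact orderOf_eq_one_iff.mp h
      · exfalso
        apply h5
        rw [h]
    · rintro rfl
      exact Subgroup.one_mem _
  rw [h4, Finset.sum_singleton] at h3
  simpa using h3

/-- every element of `P` is conjugate to its inverse when `|N : C| = 4` -/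
theorem isConj_inv_four (hab : IsMulCommutative P)
    (hexp : ∀ a ∈ (P : Subgroup G), a ^ 3 = 1)
    (hcent : ∀ s ∈ (P : Subgroup G), s ≠ 1 →
      Subgroup.centralizer ({s} : Set G) = (P : Subgroup G))
    (hCN : (Subgroup.centralizer ((P : Subgroup G) : Set G)).relIndex
      (Subgroup.normalizer ((P : Subgroup G) : Set G)) = 4)
    (y : G) (hy : y ∈ (P : Subgroup G)) : IsConj y y⁻¹ := by
  apply isConj_inv_of_even P hab hexp hcent _ y hy
  have h1 := relIndex_dvd_card_normalizer P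
  rw [hCN] at h1
  exact dvd_trans (by norm_num) h1

theorem inv_mem_conjSet_four (hab : IsMulCommutative P)
    (hexp : ∀ a ∈ (P : Subgroup G), a ^ 3 = 1)
    (hcent : ∀ s ∈ (P : Subgroup G), s ≠ 1 →
      Subgroup.centralizer ({s} : Set G) = (P : Subgroup G))
    (hCN : (Subgroup.centralizer ((P : Subgroup G) : Set G)).relIndex
      (Subgroup.normalizer ((P : Subgroup G) : Set G)) = 4)
    (y : ↥(P : Subgroup G)) : ∀ a ∈ conjSet P y, a⁻¹ ∈ conjSet P y := by
  intro a ha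
  rw [mem_conjSet] at ha ⊢
  refine ⟨?_, ?_⟩
  · intro h
    apply ha.1
    have : (a : G)⁻¹ = 1 := by simpa using h
    exact inv_eq_one.mp this
  · rw [Subgroup.coe_inv]
    exact (isConj_inv_four hab hexp hcent hCN (y : G) y.2).trans (isConj_inv_inv ha.2)

/-- the sum of the squares of the values of the exceptional characters -/
theorem quad_self_four (hab : IsMulCommutative P)
    (hexp : ∀ a ∈ (P : Subgroup G), a ^ 3 = 1)
    (hcent : ∀ s ∈ (P : Subgroup G), s ≠ 1 →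
      Subgroup.centralizer ({s} : Set G) = (P : Subgroup G))
    (hcard : Nat.card P = 9)
    (hCN : (Subgroup.centralizer ((P : Subgroup G) : Set G)).relIndex
      (Subgroup.normalizer ((P : Subgroup G) : Set G)) = 4)
    (D : BLData M P 4) (hd : D.d = 0) (y : ↥(P : Subgroup G)) (hy : y ≠ 1) :
    ∑ η ∈ D.Y, (η : G → ℂ) (y : G) * (η : G → ℂ) (y : G) = 5 := by
  classical
  haveI : Fact (Nat.Prime 3) := ⟨Nat.prime_three⟩
  have hfrob := hfrob_of_hcent P hab hcent
  have hN := ncard_pair_self (conjSet P y) (inv_mem_conjSet_four hab hexp hcent hCN y)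
  rw [card_conjSet hab hfrob hCN y hy] at hN
  have h3 := sum_Y_two D hd hab hfrob hCN y y hy hy 4 hN
  rw [hcard] at h3
  push_cast at h3
  linear_combination (1 / 4 : ℂ) * h3

/-- the mixed sum of the values of the exceptional characters -/
theorem quad_cross_four (hab : IsMulCommutative P)
    (hexp : ∀ a ∈ (P : Subgroup G), a ^ 3 = 1)
    (hcent : ∀ s ∈ (P : Subgroup G), s ≠ 1 →
      Subgroup.centralizer ({s} : Set G) = (P : Subgroup G))
    (hcard : Nat.card P = 9)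
    (hCN : (Subgroup.centralizer ((P : Subgroup G) : Set G)).relIndex
      (Subgroup.normalizer ((P : Subgroup G) : Set G)) = 4)
    (D : BLData M P 4) (hd : D.d = 0) (y y' : ↥(P : Subgroup G)) (hy : y ≠ 1) (hy' : y' ≠ 1)
    (hnc : ¬ IsConj (y : G) (y' : G)) :
    ∑ η ∈ D.Y, (η : G → ℂ) (y : G) * (η : G → ℂ) (y' : G) = -4 := by
  classical
  haveI : Fact (Nat.Prime 3) := ⟨Nat.prime_three⟩
  have hfrob := hfrob_of_hcent P hab hcent
  have hN : Set.ncard {q : ↥(P : Subgroup G) × ↥(P : Subgroup G) |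
      q.1 ∈ conjSet P y ∧ q.2 ∈ conjSet P y' ∧ q.1 * q.2 = 1} = 0 := by
    apply ncard_pair_eq_zero
    intro a ha b hb hab1
    have hb' : b = a⁻¹ := eq_inv_of_mul_eq_one_right hab1
    have ha' := inv_mem_conjSet_four hab hexp hcent hCN y a ha
    rw [← hb'] at ha'
    rw [mem_conjSet] at ha' hb
    exact hnc (ha'.2.trans hb.2.symm)
  have h3 := sum_Y_two D hd hab hfrob hCN y y' hy hy' 0 hN
  rw [hcard] at h3
  push_cast at h3
  linear_combination (1 / 4 : ℂ) * h3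

/-- the cubic sum when `|N : C| = 4` -/
theorem cubic_four (hab : IsMulCommutative P)
    (hexp : ∀ a ∈ (P : Subgroup G), a ^ 3 = 1)
    (hcent : ∀ s ∈ (P : Subgroup G), s ≠ 1 →
      Subgroup.centralizer ({s} : Set G) = (P : Subgroup G))
    (hcard : Nat.card P = 9)
    (hCN : (Subgroup.centralizer ((P : Subgroup G) : Set G)).relIndex
      (Subgroup.normalizer ((P : Subgroup G) : Set G)) = 4)
    (D : BLData M P 4) (hd : D.d = 0) (hY : D.Y.card = 2)
    (y y' : ↥(P : Subgroup G)) (hy : y ≠ 1) (hy' : y' ≠ 1)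
    (hnc : ¬ IsConj (y : G) (y' : G)) :
    ∑ η ∈ D.Y, (η : G → ℂ) (y : G) * (η : G → ℂ) (y : G) * conj ((η : G → ℂ) (y' : G))
      = 2 * (D.δ : ℂ) := by
  classical
  have hconj : ∀ η ∈ D.Y, (η : G → ℂ) (y : G) * (η : G → ℂ) (y : G) * conj ((η : G → ℂ) (y' : G))
      = (η : G → ℂ) (y : G) * (η : G → ℂ) (y : G) * (η : G → ℂ) (y' : G) := by
    intro η _
    rw [← IsCharacter.apply_inv (IsIrrCharacter.isCharacter η.2)]
    obtain ⟨c, hc⟩ := isConj_iff.mp (isConj_inv_four hab hexp hcent hCN (y' : G) y'.2)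
    rw [← hc, IsIrrCharacter.isClassFunction η.2]
  rw [Finset.sum_congr rfl hconj]
  have s1 := D.sum_Y_apply hd hab y hy
  have s2 := D.sum_Y_apply hd hab y' hy'
  have q1 := quad_self_four hab hexp hcent hcard hCN D hd y hy
  have q2 := quad_self_four hab hexp hcent hcard hCN D hd y' hy'
  have c := quad_cross_four hab hexp hcent hcard hCN D hd y y' hy hy' hnc
  obtain ⟨η₁, η₂, hne, hYeq⟩ := Finset.card_eq_two.mp hY
  rw [hYeq, Finset.sum_pair hne] at s1 s2 q1 q2 c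
  rw [hYeq, Finset.sum_pair hne]
  have dd : (D.δ : ℂ) * (D.δ : ℂ) = 1 := by exact_mod_cast D.δ_mul_δ
  obtain ⟨a₁, ha₁⟩ : ∃ a₁ : ℂ, a₁ = (η₁ : G → ℂ) (y : G) := ⟨_, rfl⟩
  obtain ⟨a₂, ha₂⟩ : ∃ a₂ : ℂ, a₂ = (η₂ : G → ℂ) (y : G) := ⟨_, rfl⟩
  obtain ⟨b₁, hb₁⟩ : ∃ b₁ : ℂ, b₁ = (η₁ : G → ℂ) (y' : G) := ⟨_, rfl⟩
  obtain ⟨b₂, hb₂⟩ : ∃ b₂ : ℂ, b₂ = (η₂ : G → ℂ) (y' : G) := ⟨_, rfl⟩
  rw [← ha₁, ← ha₂] at s1 q1 c
  rw [← hb₁, ← hb₂] at s2 q2 c
  rw [← ha₁, ← ha₂, ← hb₁, ← hb₂]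
  have e1 : a₂ = -(D.δ : ℂ) - a₁ := by linear_combination s1
  have e2 : b₂ = -(D.δ : ℂ) - b₁ := by linear_combination s2
  rw [e1] at q1 c
  rw [e2] at q2 c
  have hp : (a₁ + b₁ + (D.δ : ℂ)) ^ 2 = 0 := by
    linear_combination (1 / 2 : ℂ) * q1 + (1 / 2 : ℂ) * q2 + c - dd
  have hp' : a₁ + b₁ + (D.δ : ℂ) = 0 := pow_eq_zero_iff (two_ne_zero) |>.mp hp
  have e3 : b₁ = -(D.δ : ℂ) - a₁ := by linear_combination hp'
  rw [e2, e1, e3]
  linear_combination ((D.δ : ℂ) / 2) * q1 - ((D.δ : ℂ) / 2) * dd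

end tnh

end Cfsg.Agent.Lib.Helper6.Tn
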