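import Mathlib
import Cfsg.Prelude.Def_Blocks
import Cfsg.Agent.Lib.Helper6.TnH
import Cfsg.Agent.Lib.Helper6.ClassMult

/-! # Elementary abelian Sylow 3-subgroup of order 9 with `|N : C| = 4`: the order of the group -/

set_option autoImplicit false
set_option linter.unusedSectionVars false
open Cfsg

namespace Cfsg.Agent.Lib.Helper6.Tn

open scoped ComplexConjugate
open Cfsg.Agent.Lib.Helper6

section tni

variable {G : Type*} [Group G] [Fintype G] [DecidableEq G]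
variable {M : Ideal Cfsg.AlgInt}
variable {P : Sylow 3 G} [Fintype ↥(P : Subgroup G)] [Fintype (↥(P : Subgroup G) →* ℂˣ)]
    [Fintype (Cfsg.IrrCharacter G)] [DecidableEq (Cfsg.IrrCharacter G)]

/-- the class multiplication count in terms of the principal block -/
theorem count_four [IsSimpleGroup G] (hM : Cfsg.IsPModular 3 M)
    (hab : IsMulCommutative P) (hexp : ∀ a ∈ (P : Subgroup G), a ^ 3 = 1)
    (hcent : ∀ s ∈ (P : Subgroup G), s ≠ 1 →
      Subgroup.centralizer ({s} : Set G) = (P : Subgroup G))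
    (hcard : Nat.card P = 9)
    (hCN : (Subgroup.centralizer ((P : Subgroup G) : Set G)).relIndex
      (Subgroup.normalizer ((P : Subgroup G) : Set G)) = 4)
    (D : BLData M P 4) (hd : D.d = 0) (hY : D.Y.card = 2)
    (η₀ : Cfsg.IrrCharacter G) (hη₀ : η₀ ∈ D.Y) :
    ∃ cnt : ℕ, cnt ≤ 162 ∧ (cnt : ℂ) = (Nat.card G : ℂ) * (1
      + ∑ χ ∈ D.X.erase (oneIrr G), (D.w χ : ℂ) * (D.w χ : ℂ) * (D.w χ : ℂ)
          / (Cfsg.charDegree (χ : G → ℂ) : ℂ)
      + 2 * (D.δ : ℂ) / (Cfsg.charDegree (η₀ : G → ℂ) : ℂ)) := by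
  classical
  haveI : Fact (Nat.Prime 3) := ⟨Nat.prime_three⟩
  have hfrob := hfrob_of_hcent P hab hcent
  have h1X := D.one_mem_X hM
  have hcardP : Fintype.card ↥(P : Subgroup G) = 9 := by
    rw [← Nat.card_eq_fintype_card]; exact hcard
  obtain ⟨y, hy⟩ : ∃ y : ↥(P : Subgroup G), y ≠ 1 := by
    by_contra hcon
    push Not at hcon
    have : Fintype.card ↥(P : Subgroup G) ≤ 1 :=
      Fintype.card_le_one_iff.mpr (fun a b => by rw [hcon a, hcon b])
    omega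
  have hy1 : (y : G) ≠ 1 := fun h => hy (Subtype.ext h)
  obtain ⟨y'G, hy'P, hy'1, hnc, hN⟩ := card_pairs_four P hab hexp hcent hCN (y : G) y.2 hy1
  obtain ⟨y', hy'def⟩ : ∃ y' : ↥(P : Subgroup G), (y' : G) = y'G := ⟨⟨y'G, hy'P⟩, rfl⟩
  rw [← hy'def] at hy'1 hnc hN
  have hy' : y' ≠ 1 := fun h => hy'1 (by rw [h]; rfl)
  have hcnt1 := card_conj_pairs (y : G) (y : G) (y' : G)
  rw [hcent (y : G) y.2 hy1, hcard] at hcnt1
  have hcnt2 := card_conj_mul_conj_eq (y : G) (y : G) (y' : G)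
  refine ⟨_, ?_, hcnt2.trans ?_⟩
  · rw [hcnt1]
    calc 9 * 9 * Nat.card {p : G × G // IsConj (y : G) p.1 ∧ IsConj (y : G) p.2
          ∧ p.1 * p.2 = (y' : G)} ≤ 9 * 9 * 2 := Nat.mul_le_mul_left _ hN
      _ = 162 := by norm_num
  congr 1
  have hone : ∀ g : G, ((oneIrr G : Cfsg.IrrCharacter G) : G → ℂ) g = 1 := fun g => rfl
  have h1reg : ¬ 3 ∣ orderOf (1 : G) := by rw [orderOf_one]; norm_num
  have hdeg : ∀ η ∈ D.Y, (η : G → ℂ) 1 = (η₀ : G → ℂ) 1 :=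
    fun η hη => D.pRegular_eq η η₀ hη hη₀ 1 h1reg
  have hvan : ∀ χ ∈ (Finset.univ : Finset (Cfsg.IrrCharacter G)), χ ∉ prinFinset M G →
      (χ : G → ℂ) (y : G) * (χ : G → ℂ) (y : G) * conj ((χ : G → ℂ) (y' : G)) / (χ : G → ℂ) 1
        = 0 := by
    intro χ _ hχ
    rw [mem_prinFinset] at hχ
    rw [vanish_of_not_principal hM hab hexp hcent χ hχ (y : G) y.2 hy1]
    simp
  rw [← Finset.sum_subset (Finset.subset_univ (prinFinset M G)) hvan,
    ← Finset.sum_sdiff D.Y_subset]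
  have hXdef : prinFinset M G \ D.Y = D.X := rfl
  rw [hXdef, ← Finset.add_sum_erase D.X _ h1X]
  simp only [hone]
  have hX' : ∀ χ ∈ D.X.erase (oneIrr G),
      (χ : G → ℂ) (y : G) * (χ : G → ℂ) (y : G) * conj ((χ : G → ℂ) (y' : G)) / (χ : G → ℂ) 1
        = (D.w χ : ℂ) * (D.w χ : ℂ) * (D.w χ : ℂ) / (Cfsg.charDegree (χ : G → ℂ) : ℂ) := by
    intro χ hχ
    have hχX := Finset.mem_of_mem_erase hχ
    rw [D.val_X hab χ hχX y hy, D.val_X hab χ hχX y' hy',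
      IsCharacter.apply_one_eq_charDegree (IsIrrCharacter.isCharacter χ.2),
      map_intCast (starRingEnd ℂ) (D.w χ)]
  have hYs : ∑ η ∈ D.Y,
      (η : G → ℂ) (y : G) * (η : G → ℂ) (y : G) * conj ((η : G → ℂ) (y' : G)) / (η : G → ℂ) 1
        = 2 * (D.δ : ℂ) / (Cfsg.charDegree (η₀ : G → ℂ) : ℂ) := by
    rw [← cubic_four hab hexp hcent hcard hCN D hd hY y y' hy hy' hnc, Finset.sum_div,
      ← IsCharacter.apply_one_eq_charDegree (IsIrrCharacter.isCharacter η₀.2)]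
    apply Finset.sum_congr rfl
    intro η hη
    rw [hdeg η hη]
  rw [Finset.sum_congr rfl hX', hYs]
  simp

/-- `|N : C| = 4` bounds the order of the group -/
theorem bound_of_four [IsSimpleGroup G] (hM : Cfsg.IsPModular 3 M)
    (hab : IsMulCommutative P) (hexp : ∀ a ∈ (P : Subgroup G), a ^ 3 = 1)
    (hcent : ∀ s ∈ (P : Subgroup G), s ≠ 1 →
      Subgroup.centralizer ({s} : Set G) = (P : Subgroup G))
    (hcard : Nat.card P = 9)
    (hCN : (Subgroup.centralizer ((P : Subgroup G) : Set G)).relIndex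
      (Subgroup.normalizer ((P : Subgroup G) : Set G)) = 4)
    (D : BLData M P 4) (hd : D.d = 0) :
    Nat.card G ≤ 336 ∨ (Nat.card G ≤ 720 ∧ 5 ∣ Nat.card G) := by
  classical
  haveI : Fact (Nat.Prime 3) := ⟨Nat.prime_three⟩
  have hfrob := hfrob_of_hcent P hab hcent
  have hY : D.Y.card = 2 := by
    have := D.card_Y hab hfrob hCN
    rw [hcard] at this
    omega
  obtain ⟨hw1, hΘ1⟩ := D.one hM
  have h1X := D.one_mem_X hM
  have hXne : ∀ χ ∈ D.X, D.w χ ≠ 0 := by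
    intro χ hχ
    obtain ⟨h1, h2⟩ := (D.mem_X χ).mp hχ
    exact D.w_ne_zero hM hab hfrob χ h1 h2
  have hnorm := D.norm_eq
  rw [hY, hd] at hnorm
  have hsplit := Finset.add_sum_erase D.X (fun χ => D.w χ ^ 2) h1X
  simp only [hw1] at hsplit
  have hδ2 : D.δ ^ 2 = 1 := by rw [sq]; exact D.δ_mul_δ
  have hS : ∑ χ ∈ D.X.erase (oneIrr G), D.w χ ^ 2 = 3 := by
    push_cast at hnorm
    nlinarith
  obtain ⟨hX3, hwpm⟩ := exists_of_sum_sq_eq_three (D.X.erase (oneIrr G)) D.w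
    (fun i hi => hXne i (Finset.mem_of_mem_erase hi)) hS
  have hGnp : ¬ (Nat.card G).Prime := by
    intro hp
    have h9 : Nat.card P ∣ Nat.card G := Subgroup.card_subgroup_dvd_card _
    rw [hcard] at h9
    rcases (Nat.dvd_prime hp).mp h9 with h | h
    · omega
    · rw [← h] at hp
      norm_num at hp
  -- the degrees of the nonexceptional characters
  have hcong : ∀ χ ∈ D.X.erase (oneIrr G),
      (9 : ℤ) ∣ (Cfsg.charDegree (χ : G → ℂ) : ℤ) - D.w χ := by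
    intro χ hχ
    have := D.degree_congr hab χ (Finset.mem_of_mem_erase hχ)
    rw [hcard] at this
    exact_mod_cast this
  have hdeg8 : ∀ χ ∈ D.X.erase (oneIrr G), 8 ≤ Cfsg.charDegree (χ : G → ℂ) := by
    intro χ hχ
    obtain ⟨k, hk⟩ := hcong χ hχ
    have h1 := charDegree_ne_one_of_simple hGnp χ (Finset.ne_of_mem_erase hχ)
    have h2 := IsIrrCharacter.charDegree_pos χ.2
    rcases hwpm χ hχ with h | h <;> rw [h] at hk <;> omega
  obtain ⟨η₀, hη₀⟩ : D.Y.Nonempty := by rw [← Finset.card_pos, hY]; norm_num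
  obtain ⟨t, ht⟩ : ∃ t : ℕ, t = Cfsg.charDegree (η₀ : G → ℂ) := ⟨_, rfl⟩
  have ht0 : 0 < t := by rw [ht]; exact IsIrrCharacter.charDegree_pos η₀.2
  have htdvd : t ∣ Nat.card G := by rw [ht]; exact IsIrrCharacter.charDegree_dvd_card η₀.2
  -- the degree relation
  have h1reg : ¬ 3 ∣ orderOf (1 : G) := by rw [orderOf_one]; norm_num
  have hone : ∀ g : G, ((oneIrr G : Cfsg.IrrCharacter G) : G → ℂ) g = 1 := fun g => rfl
  have hrel := D.pRegular_rel η₀ hη₀ 1 h1reg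
  rw [hY, hd, ← Finset.add_sum_erase D.X _ h1X, hw1, hone,
    IsCharacter.apply_one_eq_charDegree (IsIrrCharacter.isCharacter η₀.2), ← ht] at hrel
  have hrel2 : ∑ χ ∈ D.X.erase (oneIrr G), (D.w χ : ℂ) * (χ : G → ℂ) 1
      = ((∑ χ ∈ D.X.erase (oneIrr G), D.w χ * (Cfsg.charDegree (χ : G → ℂ) : ℤ) : ℤ) : ℂ) := by
    push_cast
    apply Finset.sum_congr rfl
    intro χ _
    rw [IsCharacter.apply_one_eq_charDegree (IsIrrCharacter.isCharacter χ.2)]
  rw [hrel2] at hrel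
  have hrelZ : -D.δ * (t : ℤ) + 1
      + ∑ χ ∈ D.X.erase (oneIrr G), D.w χ * (Cfsg.charDegree (χ : G → ℂ) : ℤ) = 0 := by
    have : ((-D.δ * (t : ℤ) + 1
      + ∑ χ ∈ D.X.erase (oneIrr G), D.w χ * (Cfsg.charDegree (χ : G → ℂ) : ℤ) : ℤ) : ℂ) = 0 := by
      push_cast
      push_cast at hrel
      linear_combination hrel
    exact_mod_cast this
  have hdvd : (9 : ℤ) ∣ ∑ χ ∈ D.X.erase (oneIrr G),
      (D.w χ * (Cfsg.charDegree (χ : G → ℂ) : ℤ) - 1) := by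
    apply Finset.dvd_sum
    intro χ hχ
    obtain ⟨k, hk⟩ := hcong χ hχ
    refine ⟨D.w χ * k, ?_⟩
    rcases hwpm χ hχ with h | h <;> rw [h] at hk ⊢ <;> linarith
  have h31 : (3 : ℕ) • (1 : ℤ) = 3 := by norm_num
  rw [Finset.sum_sub_distrib, Finset.sum_const, hX3, h31] at hdvd
  have hdvd' : (9 : ℤ) ∣ D.δ * (t : ℤ) - 4 := by
    have : D.δ * (t : ℤ) - 4 = ∑ χ ∈ D.X.erase (oneIrr G),
        D.w χ * (Cfsg.charDegree (χ : G → ℂ) : ℤ) - 3 := by
      linarith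
    rw [this]
    exact hdvd
  -- the class multiplication count
  obtain ⟨cnt, hcnt, hC⟩ := count_four hM hab hexp hcent hcard hCN D hd hY η₀ hη₀
  rw [← ht] at hC
  have hR : (cnt : ℝ) = (Nat.card G : ℝ) * (1
      + ∑ χ ∈ D.X.erase (oneIrr G), (D.w χ : ℝ) * (D.w χ : ℝ) * (D.w χ : ℝ)
          / (Cfsg.charDegree (χ : G → ℂ) : ℝ)
      + 2 * (D.δ : ℝ) / (t : ℝ)) := by
    apply Complex.ofReal_injective
    push_cast
    exact hC
  have hterm : ∀ χ ∈ D.X.erase (oneIrr G), (-1 / 8 : ℝ) ≤ (D.w χ : ℝ) * (D.w χ : ℝ) * (D.w χ : ℝ)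
      / (Cfsg.charDegree (χ : G → ℂ) : ℝ) := by
    intro χ hχ
    have h8 : (8 : ℝ) ≤ (Cfsg.charDegree (χ : G → ℂ) : ℝ) := by exact_mod_cast hdeg8 χ hχ
    have hpos : (0 : ℝ) < (Cfsg.charDegree (χ : G → ℂ) : ℝ) := by linarith
    rcases hwpm χ hχ with h | h <;> rw [h]
    · have : (0 : ℝ) ≤ ((1 : ℤ) : ℝ) * ((1 : ℤ) : ℝ) * ((1 : ℤ) : ℝ)
          / (Cfsg.charDegree (χ : G → ℂ) : ℝ) := by
        push_cast
        positivity
      linarith
    · push_cast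
      rw [div_le_div_iff₀ (by norm_num) hpos]
      linarith
  have hSig := Finset.card_nsmul_le_sum (D.X.erase (oneIrr G))
    (fun χ => (D.w χ : ℝ) * (D.w χ : ℝ) * (D.w χ : ℝ) / (Cfsg.charDegree (χ : G → ℂ) : ℝ))
    (-1 / 8 : ℝ) hterm
  rw [hX3] at hSig
  simp only [nsmul_eq_mul] at hSig
  have hg0 : (0 : ℝ) ≤ (Nat.card G : ℝ) := Nat.cast_nonneg _
  have hcntR : (cnt : ℝ) ≤ 162 := by exact_mod_cast hcnt
  have htR : (0 : ℝ) < (t : ℝ) := by exact_mod_cast ht0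
  rcases D.hδ with hδ | hδ
  · -- δ = 1
    left
    rw [hδ] at hR
    have h2t : (0 : ℝ) < 2 * ((1 : ℤ) : ℝ) / (t : ℝ) := by
      push_cast
      positivity
    have hA : (5 / 8 : ℝ) ≤ 1 + ∑ χ ∈ D.X.erase (oneIrr G),
        (D.w χ : ℝ) * (D.w χ : ℝ) * (D.w χ : ℝ) / (Cfsg.charDegree (χ : G → ℂ) : ℝ)
        + 2 * ((1 : ℤ) : ℝ) / (t : ℝ) := by
      push_cast at hSig ⊢
      linarith
    have h3 : (Nat.card G : ℝ) * (5 / 8) ≤ 162 := by
      calc (Nat.card G : ℝ) * (5 / 8) ≤ (Nat.card G : ℝ) * _ :=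
            mul_le_mul_of_nonneg_left hA hg0
        _ = (cnt : ℝ) := hR.symm
        _ ≤ 162 := hcntR
    have h4 : (Nat.card G : ℝ) ≤ 336 := by linarith
    exact_mod_cast h4
  · -- δ = -1
    rw [hδ] at hR hdvd'
    have ht5 : t = 5 ∨ 14 ≤ t := by
      obtain ⟨k, hk⟩ := hdvd'
      omega
    rcases ht5 with ht5 | ht14
    · right
      refine ⟨?_, by rw [← ht5]; exact htdvd⟩
      rw [ht5] at hR
      have hA : (9 / 40 : ℝ) ≤ 1 + ∑ χ ∈ D.X.erase (oneIrr G),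
          (D.w χ : ℝ) * (D.w χ : ℝ) * (D.w χ : ℝ) / (Cfsg.charDegree (χ : G → ℂ) : ℝ)
          + 2 * ((-1 : ℤ) : ℝ) / ((5 : ℕ) : ℝ) := by
        push_cast at hSig ⊢
        linarith
      have h3 : (Nat.card G : ℝ) * (9 / 40) ≤ 162 := by
        calc (Nat.card G : ℝ) * (9 / 40) ≤ (Nat.card G : ℝ) * _ :=
              mul_le_mul_of_nonneg_left hA hg0
          _ = (cnt : ℝ) := hR.symm
          _ ≤ 162 := hcntR
      have h4 : (Nat.card G : ℝ) ≤ 720 := by linarith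
      exact_mod_cast h4
    · left
      have ht14R : (14 : ℝ) ≤ (t : ℝ) := by exact_mod_cast ht14
      have h2t : (-1 / 7 : ℝ) ≤ 2 * ((-1 : ℤ) : ℝ) / (t : ℝ) := by
        push_cast
        rw [div_le_div_iff₀ (by norm_num) htR]
        linarith
      have hA : (27 / 56 : ℝ) ≤ 1 + ∑ χ ∈ D.X.erase (oneIrr G),
          (D.w χ : ℝ) * (D.w χ : ℝ) * (D.w χ : ℝ) / (Cfsg.charDegree (χ : G → ℂ) : ℝ)
          + 2 * ((-1 : ℤ) : ℝ) / (t : ℝ) := by
        push_cast at hSig ⊢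
        linarith
      have h3 : (Nat.card G : ℝ) * (27 / 56) ≤ 162 := by
        calc (Nat.card G : ℝ) * (27 / 56) ≤ (Nat.card G : ℝ) * _ :=
              mul_le_mul_of_nonneg_left hA hg0
          _ = (cnt : ℝ) := hR.symm
          _ ≤ 162 := hcntR
      have h4 : (Nat.card G : ℝ) ≤ 336 := by linarith
      exact_mod_cast h4

end tni

end Cfsg.Agent.Lib.Helper6.Tn
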