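import Mathlib
import Cfsg.Prelude.Def_Blocks
import Cfsg.Agent.Lib.Helper6.TnI
import Cfsg.Agent.Lib.Helper6.BLThree
import Cfsg.Agent.Lib.Helper6.BlkVanish
import Cfsg.Agent.S0496

/-! # Simple groups with a self-centralizing elementary abelian Sylow 3-subgroup of order 9 -/

set_option autoImplicit false
set_option linter.unusedSectionVars false
open Cfsg

namespace Cfsg.Agent.Lib.Helper6.Tn

open scoped ComplexConjugate
open Cfsg.Agent.Lib.Helper6

section tnj

variable {G : Type*} [Group G] [Finite G]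

/-- `N(P) ≤ C(P)` is impossible in a simple group by Burnside's transfer theorem -/
theorem false_of_one [IsSimpleGroup G] (P : Sylow 3 G) (hab : IsMulCommutative P)
    (hcard : Nat.card P = 9)
    (hle : Subgroup.normalizer ((P : Subgroup G) : Set G)
      ≤ Subgroup.centralizer ((P : Subgroup G) : Set G)) : False := by
  haveI : Fact (Nat.Prime 3) := ⟨Nat.prime_three⟩
  have hc := MonoidHom.ker_transferSylow_isComplement' P hle
  have hcm := hc.card_mul
  rw [hcard] at hcm
  rcases (MonoidHom.normal_ker (MonoidHom.transferSylow P hle)).eq_bot_or_eq_top with h | h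
  · rw [h, Subgroup.card_bot, one_mul] at hcm
    have htop : (P : Subgroup G) = ⊤ := Subgroup.eq_top_of_card_eq _ (by rw [hcard, hcm])
    haveI : IsMulCommutative G := ⟨⟨fun a b =>
      mul_comm_of_mem_sylow P hab a b (by rw [htop]; trivial) (by rw [htop]; trivial)⟩⟩
    have hp := (Group.is_simple_iff_prime_card (α := G)).mp inferInstance
    rw [← hcm] at hp
    norm_num at hp
  · rw [h, Subgroup.card_top] at hcm
    have h0 : 0 < Nat.card G := Nat.card_pos
    omega

end tnj

section tnj2

variable {G : Type*} [Group G] [Fintype G] [DecidableEq G]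
variable {M : Ideal Cfsg.AlgInt}
variable {P : Sylow 3 G} [Fintype ↥(P : Subgroup G)] [Fintype (↥(P : Subgroup G) →* ℂˣ)]
    [Fintype (Cfsg.IrrCharacter G)] [DecidableEq (Cfsg.IrrCharacter G)]

/-- `|N : C| = 8` forces a single class of elements of order three -/
theorem false_of_eight (hab : IsMulCommutative P)
    (hcent : ∀ s ∈ (P : Subgroup G), s ≠ 1 →
      Subgroup.centralizer ({s} : Set G) = (P : Subgroup G))
    (hcard : Nat.card P = 9)
    (hCN : (Subgroup.centralizer ((P : Subgroup G) : Set G)).relIndex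
      (Subgroup.normalizer ((P : Subgroup G) : Set G)) = 8)
    (hclasses : ∃ a b : G, orderOf a = 3 ∧ orderOf b = 3 ∧ ∀ g : G, g * a * g⁻¹ ≠ b) : False := by
  classical
  haveI : Fact (Nat.Prime 3) := ⟨Nat.prime_three⟩
  have hfrob := hfrob_of_hcent P hab hcent
  have hcardP : Fintype.card ↥(P : Subgroup G) = 9 := by
    rw [← Nat.card_eq_fintype_card]; exact hcard
  obtain ⟨y, hy⟩ : ∃ y : ↥(P : Subgroup G), y ≠ 1 := by
    by_contra hcon
    push Not at hcon
    have : Fintype.card ↥(P : Subgroup G) ≤ 1 :=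
      Fintype.card_le_one_iff.mpr (fun a b => by rw [hcon a, hcon b])
    omega
  have hm := card_conjSet hab hfrob hCN y hy
  have hsub : conjSet P y ⊆ (Finset.univ : Finset ↥(P : Subgroup G)).erase 1 := by
    intro w hw
    rw [mem_conjSet] at hw
    rw [Finset.mem_erase]
    exact ⟨fun h => hw.1 (by rw [h]; rfl), Finset.mem_univ _⟩
  have heq : conjSet P y = (Finset.univ : Finset ↥(P : Subgroup G)).erase 1 := by
    apply Finset.eq_of_subset_of_card_le hsub
    rw [Finset.card_erase_of_mem (Finset.mem_univ _), Finset.card_univ, hcardP, hm]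
  have hall : ∀ u : G, orderOf u = 3 → IsConj (y : G) u := by
    intro u hu
    obtain ⟨g, hg⟩ := exists_conj_mem_sylow_of_pElement P u ⟨1, by rw [hu]; norm_num⟩
    have hne : g * u * g⁻¹ ≠ 1 := by
      intro h
      have hu1 : u = 1 := by
        have := congrArg (fun t => g⁻¹ * t * g) h
        simpa [mul_assoc] using this
      rw [hu1, orderOf_one] at hu
      norm_num at hu
    have hmem : (⟨g * u * g⁻¹, hg⟩ : ↥(P : Subgroup G)) ∈ conjSet P y := by
      rw [heq, Finset.mem_erase]
      exact ⟨fun h => hne (congrArg Subtype.val h), Finset.mem_univ _⟩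
    rw [mem_conjSet] at hmem
    exact hmem.2.trans (isConj_iff.mpr ⟨g, rfl⟩).symm
  obtain ⟨a, b, ha, hb, hne⟩ := hclasses
  obtain ⟨c, hc⟩ := isConj_iff.mp ((hall a ha).symm.trans (hall b hb))
  exact hne c hc

end tnj2

section tnj3

variable {G : Type*} [Group G] [Finite G]

/-- the order of the group is 360 -/
theorem card_eq_360 [IsSimpleGroup G] (P : Sylow 3 G) (hab : IsMulCommutative P)
    (hexp : ∀ a ∈ (P : Subgroup G), a ^ 3 = 1) (hcard : Nat.card P = 9)
    (hclasses : ∃ a b : G, orderOf a = 3 ∧ orderOf b = 3 ∧ ∀ g : G, g * a * g⁻¹ ≠ b)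
    (hcent : ∀ s ∈ (P : Subgroup G), s ≠ 1 →
      Subgroup.centralizer ({s} : Set G) = (P : Subgroup G)) :
    Nat.card G = 360 := by
  classical
  haveI : Fintype G := Fintype.ofFinite G
  haveI : Fact (Nat.Prime 3) := ⟨Nat.prime_three⟩
  obtain ⟨M, hM⟩ := exists_isPModular 3
  haveI : Fintype ↥(P : Subgroup G) := Fintype.ofFinite _
  haveI : Finite (↥(P : Subgroup G) →* ℂˣ) :=
    Nat.finite_of_card_ne_zero (by rw [card_homs_of_comm hab]; exact Nat.card_pos.ne')
  haveI : Fintype (↥(P : Subgroup G) →* ℂˣ) := Fintype.ofFinite _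
  haveI : Fintype (Cfsg.IrrCharacter G) := Fintype.ofFinite _
  have hfrob := hfrob_of_hcent P hab hcent
  have hcardP : Fintype.card ↥(P : Subgroup G) = 9 := by
    rw [← Nat.card_eq_fintype_card]; exact hcard
  have h9 : 9 ∣ Nat.card G := by
    have h9 : Nat.card P ∣ Nat.card G := Subgroup.card_subgroup_dvd_card _
    rwa [hcard] at h9
  have hGnp : ¬ (Nat.card G).Prime := by
    intro hp
    rcases (Nat.dvd_prime hp).mp h9 with h | h
    · omega
    · rw [← h] at hp
      norm_num at hp
  have hncomm : ¬ IsMulCommutative G := by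
    intro hc
    exact hGnp ((Group.is_simple_iff_prime_card (α := G)).mp inferInstance)
  obtain ⟨m, hCN⟩ : ∃ m : ℕ, (Subgroup.centralizer ((P : Subgroup G) : Set G)).relIndex
      (Subgroup.normalizer ((P : Subgroup G) : Set G)) = m := ⟨_, rfl⟩
  obtain ⟨y, hy⟩ : ∃ y : ↥(P : Subgroup G), y ≠ 1 := by
    by_contra hcon
    push Not at hcon
    have : Fintype.card ↥(P : Subgroup G) ≤ 1 :=
      Fintype.card_le_one_iff.mpr (fun a b => by rw [hcon a, hcon b])
    omega
  have hy1 : (y : G) ≠ 1 := fun h => hy (Subtype.ext h)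
  have hm := card_conjSet hab hfrob hCN y hy
  have hsub : conjSet P y ⊆ (Finset.univ : Finset ↥(P : Subgroup G)).erase 1 := by
    intro w hw
    rw [mem_conjSet] at hw
    rw [Finset.mem_erase]
    exact ⟨fun h => hw.1 (by rw [h]; rfl), Finset.mem_univ _⟩
  have hm8 : m ≤ 8 := by
    have := Finset.card_le_card hsub
    rw [Finset.card_erase_of_mem (Finset.mem_univ _), Finset.card_univ, hcardP, hm] at this
    omega
  have hm0 : 0 < m := by
    rw [← hm, Finset.card_pos]
    exact ⟨y, (mem_conjSet y y).mpr ⟨hy1, IsConj.refl _⟩⟩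
  by_cases hm1 : m = 1
  · exfalso
    rw [hm1] at hCN
    exact false_of_one P hab hcard (Subgroup.relIndex_eq_one.mp hCN)
  by_cases hm8' : m = 8
  · exfalso
    rw [hm8'] at hCN
    exact false_of_eight hab hcent hcard hCN hclasses
  have hm1' : 1 < m := by omega
  have hm2 : m + 1 < Nat.card P := by rw [hcard]; omega
  obtain ⟨D⟩ := exists_blData hM P hab hfrob m hm1' hm2 hCN
  have hYm := D.card_Y hab hfrob hCN
  rw [hcard] at hYm
  have hm24 : m = 2 ∨ m = 4 := by
    have hdvd : m ∣ 8 := ⟨D.Y.card, by rw [mul_comm]; omega⟩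
    have : m ≤ 7 := by omega
    interval_cases m <;> omega
  rcases hm24 with rfl | rfl
  · exact (false_of_two hM hab hexp hcent hcard hCN D).elim
  · have hY : D.Y.card = 2 := by omega
    obtain ⟨D', hd'⟩ : ∃ D' : BLData M P 4, D'.d = 0 := by
      by_cases hd : D.d = 0
      · exact ⟨D, hd⟩
      · apply D.exists_swap _ hY
        obtain ⟨hw1, -⟩ := D.one hM
        have h1X := D.one_mem_X hM
        have hnorm := D.norm_eq
        rw [hY] at hnorm
        have hsplit := Finset.add_sum_erase D.X (fun χ => D.w χ ^ 2) h1X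
        simp only [hw1] at hsplit
        have hS0 : 0 ≤ ∑ χ ∈ D.X.erase (oneIrr G), D.w χ ^ 2 :=
          Finset.sum_nonneg (fun i _ => sq_nonneg _)
        push_cast at hnorm
        by_contra hne
        rcases D.hδ with hδ | hδ
        · rw [hδ] at hnorm hne
          have h2 : D.d ≤ -1 ∨ 2 ≤ D.d := by omega
          rcases h2 with h2 | h2 <;> nlinarith
        · rw [hδ] at hnorm hne
          have h2 : D.d ≤ -2 ∨ 1 ≤ D.d := by omega
          rcases h2 with h2 | h2 <;> nlinarith
    have hb := bound_of_four hM hab hexp hcent hcard hCN D' hd'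
    rcases hb with hb | ⟨hb, h5⟩
    · rcases Cfsg.Agent.S0496.result hncomm (by omega) with h | h | h | h | h | h <;> omega
    · rcases Cfsg.Agent.S0496.result hncomm (by omega) with h | h | h | h | h | h <;> omega

end tnj3

end Cfsg.Agent.Lib.Helper6.Tn
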