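import Mathlib
import Cfsg.Agent.Lib.Helper8.W2Defs

/-!
# Farm W2 (S4402), unit EXISTS-TRANSPORT (helper6)

The structure `WD` is transported along an injective homomorphism `f : T →* S`:
`WD P0 V1 V2 B Z0 z1 z2 τ → WD (P0.map f) (V1.map f) (V2.map f) (B.map f) (Z0.map f) (f z1) (f z2) (f τ)`.
-/

set_option autoImplicit false
set_option linter.unusedVariables false
set_option linter.unusedSectionVars false
set_option linter.style.longLine false

namespace Cfsg.Agent.Lib.Helper6.W2T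

open Cfsg.Agent.Lib.Helper8.W2

universe u v

variable {T : Type v} [Group T] {S : Type u} [Group S]

theorem cm_map (f : T →* S) (a b : T) : cm (f a) (f b) = f (cm a b) := by
  unfold cm
  simp only [map_mul, map_inv]

theorem InC_map (f : T →* S) (hf : Function.Injective f) (B : Subgroup T) (zi u : T) :
    InC (B.map f) (f zi) (f u) ↔ InC B zi u := by
  unfold InC
  constructor
  · rintro ⟨h1, h2⟩
    refine ⟨(Subgroup.mem_map_iff_mem hf).mp h1, ?_⟩
    intro d hd
    have := h2 (f d) (Subgroup.mem_map_of_mem f hd)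
    rw [cm_map] at this
    rcases this with h | h
    · left; apply hf; rw [h, map_one]
    · right; exact hf h
  · rintro ⟨h1, h2⟩
    refine ⟨Subgroup.mem_map_of_mem f h1, ?_⟩
    rintro _ ⟨d, hd, rfl⟩
    rw [cm_map]
    rcases h2 d hd with h | h
    · left; rw [h, map_one]
    · right; rw [h]

theorem elem_map (f : T →* S) {V : Subgroup T} (hV : Cfsg.IsElementaryAbelian 2 V) :
    Cfsg.IsElementaryAbelian 2 (V.map f) := by
  obtain ⟨hc, he⟩ := hV
  refine ⟨⟨⟨?_⟩⟩, ?_⟩
  · rintro ⟨_, ⟨a, ha, rfl⟩⟩ ⟨_, ⟨b, hb, rfl⟩⟩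
    apply Subtype.ext
    show f a * f b = f b * f a
    have h1 : (⟨a, ha⟩ : V) * ⟨b, hb⟩ = ⟨b, hb⟩ * ⟨a, ha⟩ := hc.is_comm.comm _ _
    have h2 : a * b = b * a := congrArg Subtype.val h1
    rw [← map_mul, ← map_mul, h2]
  · rintro _ ⟨a, ha, rfl⟩
    rw [← map_pow, he a ha, map_one]

theorem elem_comap (f : T →* S) (hf : Function.Injective f) {V : Subgroup S}
    (hV : Cfsg.IsElementaryAbelian 2 V) : Cfsg.IsElementaryAbelian 2 (V.comap f) := by
  obtain ⟨hc, he⟩ := hV
  refine ⟨⟨⟨?_⟩⟩, ?_⟩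
  · rintro ⟨a, ha⟩ ⟨b, hb⟩
    apply Subtype.ext
    show a * b = b * a
    rw [Subgroup.mem_comap] at ha hb
    have h1 : (⟨f a, ha⟩ : V) * ⟨f b, hb⟩ = ⟨f b, hb⟩ * ⟨f a, ha⟩ := hc.is_comm.comm _ _
    have h2 : f a * f b = f b * f a := congrArg Subtype.val h1
    apply hf
    rw [map_mul, map_mul, h2]
  · intro a ha
    rw [Subgroup.mem_comap] at ha
    apply hf
    rw [map_pow, he _ ha, map_one]

/-- **TRANSPORT** -/
theorem transport (f : T →* S) (hf : Function.Injective f) {P0 V1 V2 B Z0 : Subgroup T} {z1 z2 τ : T}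
    (w : WD P0 V1 V2 B Z0 z1 z2 τ) :
    WD (P0.map f) (V1.map f) (V2.map f) (B.map f) (Z0.map f) (f z1) (f z2) (f τ) where
  cardP := by rw [Subgroup.card_map_of_injective hf, w.cardP]
  V1le := Subgroup.map_mono w.V1le
  V2le := Subgroup.map_mono w.V2le
  V1n := by
    rintro _ ⟨g, hg, rfl⟩ _ ⟨v, hv, rfl⟩
    rw [← map_inv, ← map_mul, ← map_mul]
    exact Subgroup.mem_map_of_mem f (w.V1n g hg v hv)
  V2n := by
    rintro _ ⟨g, hg, rfl⟩ _ ⟨v, hv, rfl⟩
    rw [← map_inv, ← map_mul, ← map_mul]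
    exact Subgroup.mem_map_of_mem f (w.V2n g hg v hv)
  V1e := elem_map f w.V1e
  V2e := elem_map f w.V2e
  V1c := by rw [Subgroup.card_map_of_injective hf, w.V1c]
  V2c := by rw [Subgroup.card_map_of_injective hf, w.V2c]
  ne12 := fun h => w.ne12 (Subgroup.map_injective hf h)
  uniq := by
    intro V hVP hVn hVe hVc
    have hVr : V ≤ f.range := hVP.trans (Subgroup.map_le_range f P0)
    have hmc : (V.comap f).map f = V := Subgroup.map_comap_eq_self hVr
    have hle : V.comap f ≤ P0 := by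
      intro t ht
      rw [Subgroup.mem_comap] at ht
      exact (Subgroup.mem_map_iff_mem hf).mp (hVP ht)
    have hn : ∀ g ∈ P0, ∀ v ∈ V.comap f, g * v * g⁻¹ ∈ V.comap f := by
      intro g hg v hv
      rw [Subgroup.mem_comap] at hv ⊢
      rw [map_mul, map_mul, map_inv]
      exact hVn (f g) (Subgroup.mem_map_of_mem f hg) (f v) hv
    have hc : Nat.card (V.comap f) = 16 := by
      rw [← Subgroup.card_map_of_injective hf, hmc, hVc]
    rcases w.uniq (V.comap f) hle hn (elem_comap f hf hVe) hc with h | h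
    · left; rw [← hmc, h]
    · right; rw [← hmc, h]
  hB := by rw [w.hB, Subgroup.map_sup]
  hZ0 := by rw [w.hZ0, Subgroup.map_inf _ _ f hf]
  cardB := by rw [Subgroup.card_map_of_injective hf, w.cardB]
  memZ0 := by
    intro x
    constructor
    · rintro ⟨c, hc, rfl⟩
      rcases (w.memZ0 c).mp hc with h | h | h | h
      · left; rw [h, map_one]
      · right; left; rw [h]
      · right; right; left; rw [h]
      · right; right; right; rw [h, map_mul]
    · rintro (h | h | h | h)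
      · rw [h]; exact Subgroup.one_mem _
      · rw [h]; exact Subgroup.mem_map_of_mem f ((w.memZ0 z1).mpr (Or.inr (Or.inl rfl)))
      · rw [h]; exact Subgroup.mem_map_of_mem f ((w.memZ0 z2).mpr (Or.inr (Or.inr (Or.inl rfl))))
      · rw [h, ← map_mul]
        exact Subgroup.mem_map_of_mem f ((w.memZ0 (z1 * z2)).mpr (Or.inr (Or.inr (Or.inr rfl))))
  z1ne := fun h => w.z1ne (hf (by rw [h, map_one]))
  z2ne := fun h => w.z2ne (hf (by rw [h, map_one]))
  z12 := fun h => w.z12 (hf h)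
  center := by
    rintro _ ⟨c, hc, rfl⟩ hcen
    have : ∀ g ∈ P0, c * g = g * c := by
      intro g hg
      apply hf
      rw [map_mul, map_mul]
      exact hcen (f g) (Subgroup.mem_map_of_mem f hg)
    rcases w.center c hc this with h | h
    · left; rw [h, map_one]
    · right; rw [h, map_mul]
  zcentral := by
    rintro _ ⟨g, hg, rfl⟩
    rw [← map_mul, ← map_mul, ← map_mul, w.zcentral g hg]
  sqB := by
    rintro _ ⟨d, hd, rfl⟩
    rw [← map_mul]
    exact Subgroup.mem_map_of_mem f (w.sqB d hd)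
  commB := by
    rintro _ ⟨d, hd, rfl⟩ _ ⟨d', hd', rfl⟩
    rw [cm_map]
    exact Subgroup.mem_map_of_mem f (w.commB d hd d' hd')
  Z0c := by
    rintro _ ⟨c, hc, rfl⟩ _ ⟨d, hd, rfl⟩
    rw [← map_mul, ← map_mul, w.Z0c c hc d hd]
  selfC := by
    rintro _ ⟨d, hd, rfl⟩ hcen
    apply Subgroup.mem_map_of_mem f
    apply w.selfC d hd
    intro d' hd'
    apply hf
    rw [map_mul, map_mul]
    exact hcen (f d') (Subgroup.mem_map_of_mem f hd')
  τP := Subgroup.mem_map_of_mem f w.τP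
  τB := fun h => w.τB ((Subgroup.mem_map_iff_mem hf).mp h)
  τsq := by rw [← map_mul, w.τsq, map_one]
  τz := by rw [← map_inv, ← map_mul, ← map_mul, w.τz]
  invol := by
    rintro _ ⟨t, ht, rfl⟩ htB htsq
    have h1 : t ∉ B := fun h => htB (Subgroup.mem_map_of_mem f h)
    have h2 : t * t = 1 := by
      apply hf; rw [map_mul, htsq, map_one]
    obtain ⟨p, hp, hpt⟩ := w.invol t ht h1 h2
    refine ⟨f p, Subgroup.mem_map_of_mem f hp, ?_⟩
    rw [hpt, map_mul, map_mul, map_inv]
  centτ := by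
    have : (P0.map f ⊓ Subgroup.centralizer {f τ} : Subgroup S) =
        (P0 ⊓ Subgroup.centralizer {τ} : Subgroup T).map f := by
      ext x
      simp only [Subgroup.mem_inf, Subgroup.mem_map, Subgroup.mem_centralizer_singleton_iff]
      constructor
      · rintro ⟨⟨t, ht, rfl⟩, h2⟩
        refine ⟨t, ⟨ht, ?_⟩, rfl⟩
        apply hf
        rw [map_mul, map_mul, h2]
      · rintro ⟨t, ⟨ht1, ht2⟩, rfl⟩
        refine ⟨⟨t, ht1, rfl⟩, ?_⟩
        rw [← map_mul, ← map_mul, ht2]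
    rw [this, Subgroup.card_map_of_injective hf, w.centτ]
  Z2 := by
    rintro _ ⟨n, hn, rfl⟩ hall
    apply Subgroup.mem_map_of_mem f
    apply w.Z2 n hn
    intro g hg
    have := hall (f g) (Subgroup.mem_map_of_mem f hg)
    rw [cm_map] at this
    rcases this with h | h
    · left; apply hf; rw [h, map_one]
    · right; apply hf; rw [h, map_mul]
  p8a := by
    intro zi hzi u u' huu hu hu' hnu hnu'
    -- `u, u'` lie in the image of `f`
    have huB : u ∈ B.map f := hu.1
    have hu'B : u' ∈ B.map f := hu'.1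
    obtain ⟨a, haB, rfl⟩ := huB
    obtain ⟨a', ha'B, rfl⟩ := hu'B
    have hzi' : ∃ zi0, (zi0 = z1 ∨ zi0 = z2) ∧ zi = f zi0 := by
      rcases hzi with h | h
      · exact ⟨z1, Or.inl rfl, h⟩
      · exact ⟨z2, Or.inr rfl, h⟩
    obtain ⟨zi0, hzi0, rfl⟩ := hzi'
    have h1 := (InC_map f hf B zi0 a).mp hu
    have h2 := (InC_map f hf B zi0 a').mp hu'
    have h3 : a ∉ Z0 := fun h => hnu (Subgroup.mem_map_of_mem f h)
    have h4 : a' ∉ Z0 := fun h => hnu' (Subgroup.mem_map_of_mem f h)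
    have h5 : (a ∈ V1 ∧ a' ∈ V1) ∨ (a ∈ V2 ∧ a' ∈ V2) := by
      rcases huu with ⟨h, h'⟩ | ⟨h, h'⟩
      · exact Or.inl ⟨(Subgroup.mem_map_iff_mem hf).mp h, (Subgroup.mem_map_iff_mem hf).mp h'⟩
      · exact Or.inr ⟨(Subgroup.mem_map_iff_mem hf).mp h, (Subgroup.mem_map_iff_mem hf).mp h'⟩
    have := w.p8a zi0 hzi0 a a' h5 h1 h2 h3 h4
    rw [← map_inv, ← map_mul]
    exact Subgroup.mem_map_of_mem f this
  p8b := by
    have h1 := Subgroup.map_mono (f := f) w.p8b
    rw [MonoidHom.map_closure] at h1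
    refine h1.trans (Subgroup.closure_mono ?_)
    rintro _ ⟨u, ⟨hu1, hu2⟩, rfl⟩
    refine ⟨?_, ?_⟩
    · rcases hu1 with h | h
      · exact Or.inl (Subgroup.mem_map_of_mem f h)
      · exact Or.inr (Subgroup.mem_map_of_mem f h)
    · rcases hu2 with h | h
      · exact Or.inl ((InC_map f hf B z1 u).mpr h)
      · exact Or.inr ((InC_map f hf B z2 u).mpr h)

end Cfsg.Agent.Lib.Helper6.W2T
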