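import Mathlib
import Cfsg.Agent.Lib.Helper6.W2Transport

/-!
# Farm W2 (S4402), unit EXISTS from CONC (helper6)
-/

set_option autoImplicit false
set_option linter.unusedVariables false
set_option linter.unusedSectionVars false
set_option linter.style.longLine false

namespace Cfsg.Agent.Lib.Helper6.W2T

open Cfsg.Agent.Lib.Helper8.W2

universe u

variable {S : Type u} [Group S]

/-- **EXISTS** from **CONC** (a concrete group `T0` with the facts `WD ⊤ ...`, isomorphic to every Sylow 2-subgroup of `S₈`). -/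
theorem exists_wd_of
    (hconc : ∃ (T0 : Type) (_ : Group T0) (V1 V2 B Z0 : Subgroup T0) (z1 z2 τ : T0),
      WD (⊤ : Subgroup T0) V1 V2 B Z0 z1 z2 τ ∧
      ∀ T : Sylow 2 (Equiv.Perm (Fin 8)), Nonempty (T0 ≃* ↥(T : Subgroup (Equiv.Perm (Fin 8)))))
    (P : Subgroup S)
    (hP : ∃ T : Sylow 2 (Equiv.Perm (Fin 8)), Nonempty (↥P ≃* ↥(T : Subgroup (Equiv.Perm (Fin 8))))) :
    ∃ (V1 V2 B Z0 : Subgroup S) (z1 z2 τ : S), WD P V1 V2 B Z0 z1 z2 τ := by
  obtain ⟨T, ⟨e⟩⟩ := hP
  obtain ⟨T0, _, V1, V2, B, Z0, z1, z2, τ, w, hall⟩ := hconc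
  obtain ⟨e0⟩ := hall T
  let f : T0 →* S := P.subtype.comp (e.symm.toMonoidHom.comp e0.toMonoidHom)
  have hf : Function.Injective f := by
    intro a b hab
    have h1 : e.symm (e0 a) = e.symm (e0 b) := Subtype.ext hab
    exact e0.injective (e.symm.injective h1)
  have hrange : (⊤ : Subgroup T0).map f = P := by
    ext x
    constructor
    · rintro ⟨t, -, rfl⟩
      exact (e.symm (e0 t)).2
    · intro hx
      refine ⟨e0.symm (e ⟨x, hx⟩), Subgroup.mem_top _, ?_⟩
      show ((e.symm (e0 (e0.symm (e ⟨x, hx⟩)))) : S) = x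
      rw [MulEquiv.apply_symm_apply, MulEquiv.symm_apply_apply]
  have w' := transport f hf w
  rw [hrange] at w'
  exact ⟨_, _, _, _, _, _, _, w'⟩

end Cfsg.Agent.Lib.Helper6.W2T
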