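import Mathlib
import Cfsg.Agent.Lib.Helper8.W2Defs

/-!
# Farm W2 (S4402), units STEP2 / STEP3 tools (helper6)

`cj x V = x V x⁻¹`; an element of `N_S(P)` sends `V1` to `V1` or `V2` (`cj_cases`);
`step2'_of`, `step2_of`: `|N_S(P) : P| = 2` from STEP1 given as a hypothesis.
-/

set_option autoImplicit false
set_option linter.unusedVariables false
set_option linter.unusedSectionVars false
set_option linter.style.longLine false

namespace Cfsg.Agent.Lib.Helper6.W2S2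

open Cfsg.Agent.Lib.Helper8.W2

universe u

variable {S : Type u} [Group S]

/-- the conjugate subgroup `x V x⁻¹` -/
def cj (x : S) (V : Subgroup S) : Subgroup S := V.map (MulAut.conj x).toMonoidHom

theorem mem_cj {x : S} {V : Subgroup S} {g : S} : g ∈ cj x V ↔ x⁻¹ * g * x ∈ V := by
  unfold cj
  rw [Subgroup.mem_map]
  constructor
  · rintro ⟨v, hv, rfl⟩
    have : x⁻¹ * ((MulAut.conj x).toMonoidHom v) * x = v := by
      show x⁻¹ * (x * v * x⁻¹) * x = v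
      group
    rw [this]
    exact hv
  · intro h
    refine ⟨x⁻¹ * g * x, h, ?_⟩
    show x * (x⁻¹ * g * x) * x⁻¹ = g
    group

theorem conj_mem_cj {x : S} {V : Subgroup S} {v : S} (hv : v ∈ V) : x * v * x⁻¹ ∈ cj x V := by
  rw [mem_cj]
  have : x⁻¹ * (x * v * x⁻¹) * x = v := by group
  rw [this]
  exact hv

theorem card_cj (x : S) (V : Subgroup S) : Nat.card (cj x V) = Nat.card V := by
  unfold cj
  exact Subgroup.card_map_of_injective (MulAut.conj x).injective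

theorem cj_elem {x : S} {V : Subgroup S} (hV : Cfsg.IsElementaryAbelian 2 V) :
    Cfsg.IsElementaryAbelian 2 (cj x V) := by
  obtain ⟨hc, he⟩ := hV
  refine ⟨⟨⟨?_⟩⟩, ?_⟩
  · rintro ⟨a, ha⟩ ⟨b, hb⟩
    apply Subtype.ext
    show a * b = b * a
    rw [mem_cj] at ha hb
    have h1 : (⟨x⁻¹ * a * x, ha⟩ : V) * ⟨x⁻¹ * b * x, hb⟩ = ⟨x⁻¹ * b * x, hb⟩ * ⟨x⁻¹ * a * x, ha⟩ :=
      hc.is_comm.comm _ _
    have h2 : (x⁻¹ * a * x) * (x⁻¹ * b * x) = (x⁻¹ * b * x) * (x⁻¹ * a * x) := congrArg Subtype.val h1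
    calc a * b = x * ((x⁻¹ * a * x) * (x⁻¹ * b * x)) * x⁻¹ := by group
      _ = x * ((x⁻¹ * b * x) * (x⁻¹ * a * x)) * x⁻¹ := by rw [h2]
      _ = b * a := by group
  · intro a ha
    rw [mem_cj] at ha
    have h1 := he _ ha
    calc a ^ 2 = x * (x⁻¹ * a * x) ^ 2 * x⁻¹ := by
          rw [pow_two, pow_two]; group
      _ = 1 := by rw [h1]; group

theorem cj_le {P : Subgroup S} {x : S} (hx : x ∈ Subgroup.normalizer (P : Set S)) {V : Subgroup S}
    (hV : V ≤ P) : cj x V ≤ P := by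
  intro g hg
  rw [mem_cj] at hg
  have h1 : x⁻¹ * g * x ∈ P := hV hg
  have h2 := (Subgroup.mem_normalizer_iff.mp hx (x⁻¹ * g * x)).mp h1
  have : x * (x⁻¹ * g * x) * x⁻¹ = g := by group
  rwa [this] at h2

theorem cj_normal {P : Subgroup S} {x : S} (hx : x ∈ Subgroup.normalizer (P : Set S)) {V : Subgroup S}
    (hVn : ∀ g ∈ P, ∀ v ∈ V, g * v * g⁻¹ ∈ V) : ∀ g ∈ P, ∀ v ∈ cj x V, g * v * g⁻¹ ∈ cj x V := by
  intro g hg v hv
  rw [mem_cj] at hv ⊢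
  have hg' : x⁻¹ * g * x ∈ P := by
    have hxi : x⁻¹ ∈ Subgroup.normalizer (P : Set S) := Subgroup.inv_mem _ hx
    have := (Subgroup.mem_normalizer_iff.mp hxi g).mp hg
    simpa using this
  have h := hVn _ hg' _ hv
  have e : x⁻¹ * (g * v * g⁻¹) * x = (x⁻¹ * g * x) * (x⁻¹ * v * x) * (x⁻¹ * g * x)⁻¹ := by group
  rw [e]
  exact h

variable [Finite S] {P V1 V2 B Z0 : Subgroup S} {z1 z2 τ : S}

/-- an element of `N_S(P)` sends `V1` to `V1` or `V2` -/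
theorem cj_cases (w : WD P V1 V2 B Z0 z1 z2 τ) {x : S} (hx : x ∈ Subgroup.normalizer (P : Set S)) :
    cj x V1 = V1 ∨ cj x V1 = V2 :=
  w.uniq (cj x V1) (cj_le hx w.V1le) (cj_normal hx w.V1n) (cj_elem w.V1e)
    (by rw [card_cj, w.V1c])

/-- an element of `N_S(P)` sends any normal `E16` of `P` to `V1` or `V2` -/
theorem cj_cases' (w : WD P V1 V2 B Z0 z1 z2 τ) {x : S} (hx : x ∈ Subgroup.normalizer (P : Set S))
    (V : Subgroup S) (hVP : V ≤ P) (hVn : ∀ g ∈ P, ∀ v ∈ V, g * v * g⁻¹ ∈ V)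
    (hVe : Cfsg.IsElementaryAbelian 2 V) (hVc : Nat.card V = 16) :
    cj x V = V1 ∨ cj x V = V2 :=
  w.uniq (cj x V) (cj_le hx hVP) (cj_normal hx hVn) (cj_elem hVe)
    (by rw [card_cj, hVc])

theorem cj_eq_of_norm {x : S} {V : Subgroup S} (h : cj x V = V) : ∀ v ∈ V, x * v * x⁻¹ ∈ V := by
  intro v hv
  rw [← h]
  exact conj_mem_cj hv

theorem cj_mul (x y : S) (V : Subgroup S) : cj (x * y) V = cj x (cj y V) := by
  ext g
  rw [mem_cj, mem_cj, mem_cj]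
  have : (x * y)⁻¹ * g * (x * y) = y⁻¹ * (x⁻¹ * g * x) * y := by group
  rw [this]

theorem cj_inv_of_eq {x : S} {V V' : Subgroup S} (h : cj x V = V') : cj x⁻¹ V' = V := by
  rw [← h, ← cj_mul]
  ext g
  rw [mem_cj]
  have : (x⁻¹ * x)⁻¹ * g * (x⁻¹ * x) = g := by group
  rw [this]

/-- **STEP2'** from STEP1 -/
theorem step2'_of (w : WD P V1 V2 B Z0 z1 z2 τ) (h2 : IsPGroup 2 S) (hPlt : P ≠ ⊤)
    (hstep1 : ∀ x ∈ Subgroup.normalizer (P : Set S), (∀ v ∈ V1, x * v * x⁻¹ ∈ V1) → x ∈ P) :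
    ∃ x0 ∈ Subgroup.normalizer (P : Set S), x0 ∉ P ∧
      ∀ y ∈ Subgroup.normalizer (P : Set S), y ∈ P ∨ y * x0⁻¹ ∈ P := by
  haveI : Fact (Nat.Prime 2) := ⟨Nat.prime_two⟩
  haveI : Group.IsNilpotent S := h2.isNilpotent
  have hnc := Group.normalizerCondition_of_isNilpotent (G := S) P (lt_top_iff_ne_top.mpr hPlt)
  obtain ⟨x0, hx0N, hx0P⟩ := SetLike.exists_of_lt hnc
  refine ⟨x0, hx0N, hx0P, ?_⟩
  have key : ∀ y ∈ Subgroup.normalizer (P : Set S), y ∉ P → cj y V1 = V2 := by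
    intro y hy hyP
    rcases cj_cases w hy with h | h
    · exact absurd (hstep1 y hy (cj_eq_of_norm h)) hyP
    · exact h
  intro y hy
  by_cases hyP : y ∈ P
  · exact Or.inl hyP
  right
  have h1 := key y hy hyP
  have h0 := key x0 hx0N hx0P
  -- `x0⁻¹ * y` normalises `V1`
  have h3 : cj (x0⁻¹ * y) V1 = V1 := by
    rw [cj_mul, h1]
    exact cj_inv_of_eq h0
  have hmem : x0⁻¹ * y ∈ Subgroup.normalizer (P : Set S) :=
    Subgroup.mul_mem _ (Subgroup.inv_mem _ hx0N) hy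
  have h4 : x0⁻¹ * y ∈ P := hstep1 _ hmem (cj_eq_of_norm h3)
  have h5 := (Subgroup.mem_normalizer_iff.mp hx0N (x0⁻¹ * y)).mp h4
  have : x0 * (x0⁻¹ * y) * x0⁻¹ = y * x0⁻¹ := by group
  rwa [this] at h5

/-- **STEP2** from STEP1 -/
theorem step2_of (w : WD P V1 V2 B Z0 z1 z2 τ) (h2 : IsPGroup 2 S) (hPlt : P ≠ ⊤)
    (hstep1 : ∀ x ∈ Subgroup.normalizer (P : Set S), (∀ v ∈ V1, x * v * x⁻¹ ∈ V1) → x ∈ P) :
    P.relIndex (Subgroup.normalizer (P : Set S)) = 2 := by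
  obtain ⟨x0, hx0N, hx0P, hall⟩ := step2'_of w h2 hPlt hstep1
  rw [Subgroup.relIndex_eq_two_iff]
  refine ⟨x0⁻¹, Subgroup.inv_mem _ hx0N, ?_⟩
  intro b hb
  by_cases hbP : b ∈ P
  · right
    refine ⟨hbP, ?_⟩
    intro h
    apply hx0P
    have h1 : b⁻¹ * (b * x0⁻¹) ∈ P := Subgroup.mul_mem _ (Subgroup.inv_mem _ hbP) h
    have h2' : b⁻¹ * (b * x0⁻¹) = x0⁻¹ := by group
    rw [h2'] at h1
    simpa using Subgroup.inv_mem _ h1
  · left
    refine ⟨?_, hbP⟩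
    rcases hall b hb with h | h
    · exact absurd h hbP
    · exact h

end Cfsg.Agent.Lib.Helper6.W2S2
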