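import Mathlib
import Cfsg.Agent.Lib.Helper6.W2Step2

/-!
# Farm W2 (S4402), unit STEP3 (helper6), of-form: `N_S(V) = P` for every normal `E16` of `P`,
from STEP1 given as a hypothesis.
-/

set_option autoImplicit false
set_option linter.unusedVariables false
set_option linter.unusedSectionVars false
set_option linter.style.longLine false

namespace Cfsg.Agent.Lib.Helper6.W2S2

open Cfsg.Agent.Lib.Helper8.W2

universe u

variable {S : Type u} [Group S]

theorem cj_eq_of_mem_normalizer {x : S} {V : Subgroup S} (hx : x ∈ Subgroup.normalizer (V : Set S)) :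
    cj x V = V := by
  ext g
  rw [mem_cj]
  have hxi : x⁻¹ ∈ Subgroup.normalizer (V : Set S) := Subgroup.inv_mem _ hx
  have h := Subgroup.mem_normalizer_iff.mp hxi g
  rw [inv_inv] at h
  exact h.symm

theorem le_normalizer_of_conj {P V : Subgroup S} (hVn : ∀ g ∈ P, ∀ v ∈ V, g * v * g⁻¹ ∈ V) :
    P ≤ Subgroup.normalizer (V : Set S) := by
  intro g hg
  rw [Subgroup.mem_normalizer_iff]
  intro h
  constructor
  · intro hh
    exact hVn g hg h hh
  · intro hh
    have := hVn g⁻¹ (Subgroup.inv_mem _ hg) _ hh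
    have e : g⁻¹ * (g * h * g⁻¹) * g⁻¹⁻¹ = h := by group
    rwa [e] at this

/-- in a finite `2`-group, a subgroup `P` properly contained in `M` is properly contained in `N_M(P)` -/
theorem exists_normalizing_of_lt [Finite S] (h2 : IsPGroup 2 S) {P M : Subgroup S} (hPM : P ≤ M) (hne : P ≠ M) :
    ∃ x ∈ M, x ∈ Subgroup.normalizer (P : Set S) ∧ x ∉ P := by
  haveI : Fact (Nat.Prime 2) := ⟨Nat.prime_two⟩
  haveI : Group.IsNilpotent S := h2.isNilpotent
  haveI : Group.IsNilpotent M := inferInstance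
  have hlt : P.subgroupOf M < ⊤ := by
    rw [lt_top_iff_ne_top]
    intro h
    apply hne
    apply le_antisymm hPM
    rw [Subgroup.subgroupOf_eq_top] at h
    exact h
  have hnc := Group.normalizerCondition_of_isNilpotent (G := M) (P.subgroupOf M) hlt
  obtain ⟨y, hyN, hyP⟩ := SetLike.exists_of_lt hnc
  refine ⟨y.1, y.2, ?_, ?_⟩
  · rw [Subgroup.mem_normalizer_iff]
    intro h
    constructor
    · intro hh
      have h1 : (⟨h, hPM hh⟩ : M) ∈ P.subgroupOf M := by
        rw [Subgroup.mem_subgroupOf]; exact hh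
      have h2' := (Subgroup.mem_normalizer_iff.mp hyN _).mp h1
      rw [Subgroup.mem_subgroupOf] at h2'
      simpa using h2'
    · intro hh
      have hhM : h ∈ M := by
        have h1 : (y.1)⁻¹ * ((y.1) * h * (y.1)⁻¹) * (y.1) ∈ M :=
          M.mul_mem (M.mul_mem (M.inv_mem y.2) (hPM hh)) y.2
        have e : (y.1)⁻¹ * ((y.1) * h * (y.1)⁻¹) * (y.1) = h := by group
        rwa [e] at h1
      have h1 : y * (⟨h, hhM⟩ : M) * y⁻¹ ∈ P.subgroupOf M := by
        rw [Subgroup.mem_subgroupOf]; simpa using hh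
      have h2' := (Subgroup.mem_normalizer_iff.mp hyN _).mpr h1
      rw [Subgroup.mem_subgroupOf] at h2'
      exact h2'
  · intro h
    apply hyP
    rw [Subgroup.mem_subgroupOf]
    exact h

variable [Finite S] {P V1 V2 B Z0 : Subgroup S} {z1 z2 τ : S}

/-- **STEP3** from STEP1 -/
theorem step3_of (w : WD P V1 V2 B Z0 z1 z2 τ) (h2 : IsPGroup 2 S)
    (hstep1 : ∀ x ∈ Subgroup.normalizer (P : Set S), (∀ v ∈ V1, x * v * x⁻¹ ∈ V1) → x ∈ P)
    (V : Subgroup S) (hVP : V ≤ P) (hVn : ∀ g ∈ P, ∀ v ∈ V, g * v * g⁻¹ ∈ V) (hVe : Cfsg.IsElementaryAbelian 2 V)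
    (hVc : Nat.card V = 16) : Subgroup.normalizer (V : Set S) = P := by
  have hle : P ≤ Subgroup.normalizer (V : Set S) := le_normalizer_of_conj hVn
  by_contra hne
  obtain ⟨x, hxM, hxN, hxP⟩ := exists_normalizing_of_lt h2 hle (fun h => hne h.symm)
  apply hxP
  apply hstep1 x hxN
  apply cj_eq_of_norm
  have hxV : cj x V = V := cj_eq_of_mem_normalizer hxM
  rcases w.uniq V hVP hVn hVe hVc with h | h
  · rw [h] at hxV; exact hxV
  · rw [h] at hxV
    rcases cj_cases w hxN with h1 | h1
    · exact h1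
    · exfalso
      apply w.ne12
      have := cj_inv_of_eq h1
      rw [← this, cj_inv_of_eq hxV]

end Cfsg.Agent.Lib.Helper6.W2S2
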