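import Mathlib
import Cfsg.Agent.Lib.Helper8.W2Step1b
import Cfsg.Agent.Lib.Helper6.W2Step3

/-!
# Farm W2 (S4402), units STEP2, STEP2', STEP3 VERBATIM (helper6)
-/

set_option autoImplicit false
set_option linter.unusedVariables false
set_option linter.unusedSectionVars false
set_option linter.style.longLine false

namespace Cfsg.Agent.Lib.Helper6.W2S2

open Cfsg.Agent.Lib.Helper8.W2

universe u

variable {S : Type u} [Group S] [Finite S] {P V1 V2 B Z0 : Subgroup S} {z1 z2 τ : S}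

/-- **STEP2** -/
theorem step2 (w : WD P V1 V2 B Z0 z1 z2 τ) (hr : Cfsg.SectionalPRankLE 2 4 S) (h2 : IsPGroup 2 S) (hPlt : P ≠ ⊤) :
    P.relIndex (Subgroup.normalizer (P : Set S)) = 2 :=
  step2_of w h2 hPlt (fun x hxN hxV => Cfsg.Agent.Lib.Helper8.W2.step1 w hr h2 x hxN hxV)

/-- **STEP2'** -/
theorem step2' (w : WD P V1 V2 B Z0 z1 z2 τ) (hr : Cfsg.SectionalPRankLE 2 4 S) (h2 : IsPGroup 2 S) (hPlt : P ≠ ⊤) :
    ∃ x0 ∈ Subgroup.normalizer (P : Set S), x0 ∉ P ∧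
      ∀ y ∈ Subgroup.normalizer (P : Set S), y ∈ P ∨ y * x0⁻¹ ∈ P :=
  step2'_of w h2 hPlt (fun x hxN hxV => Cfsg.Agent.Lib.Helper8.W2.step1 w hr h2 x hxN hxV)

/-- **STEP3** -/
theorem step3 (w : WD P V1 V2 B Z0 z1 z2 τ) (hr : Cfsg.SectionalPRankLE 2 4 S) (h2 : IsPGroup 2 S)
    (V : Subgroup S) (hVP : V ≤ P) (hVn : ∀ g ∈ P, ∀ v ∈ V, g * v * g⁻¹ ∈ V) (hVe : Cfsg.IsElementaryAbelian 2 V)
    (hVc : Nat.card V = 16) : Subgroup.normalizer (V : Set S) = P :=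
  step3_of w h2 (fun x hxN hxV => Cfsg.Agent.Lib.Helper8.W2.step1 w hr h2 x hxN hxV) V hVP hVn hVe hVc

end Cfsg.Agent.Lib.Helper6.W2S2
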