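import Mathlib
import Cfsg.Agent.Lib.Helper6.W2Step23
import Cfsg.Agent.Lib.Helper6.W2Exists
import Cfsg.Agent.Lib.Helper7.W2H7b

/-!
# Farm W2 (S4402): final glue in of-form (helper6) — everything except CONC.
-/

set_option autoImplicit false
set_option linter.unusedVariables false
set_option linter.unusedSectionVars false
set_option linter.style.longLine false

namespace Cfsg.Agent.Lib.Helper6.W2T

open Cfsg.Agent.Lib.Helper8.W2

universe u

/-- **S4402 from CONC** -/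
theorem s4402_of
    (hconc : ∃ (T0 : Type) (_ : Group T0) (V1 V2 B Z0 : Subgroup T0) (z1 z2 τ : T0),
      WD (⊤ : Subgroup T0) V1 V2 B Z0 z1 z2 τ ∧
      ∀ T : Sylow 2 (Equiv.Perm (Fin 8)), Nonempty (T0 ≃* ↥(T : Subgroup (Equiv.Perm (Fin 8)))))
    {S : Type u} [Group S] [Finite S] (h2 : IsPGroup 2 S) (hr : Cfsg.SectionalPRankLE 2 4 S)
    (P : Subgroup S) (hPlt : P ≠ ⊤)
    (hP : ∃ T : Sylow 2 (Equiv.Perm (Fin 8)), Nonempty (↥P ≃* ↥(T : Subgroup (Equiv.Perm (Fin 8))))) :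
    Subgroup.center S = (Subgroup.center ↥P).map P.subtype ∧ Nat.card ↥(Subgroup.center S) = 2 ∧
    P.relIndex (Subgroup.normalizer (P : Set S)) = 2 ∧
    (∃ (_ : ((Subgroup.center S).subgroupOf (Subgroup.normalizer (P : Set S))).Normal) (T : Sylow 2 (Equiv.Perm (Fin 8))),
      Nonempty (↥(Subgroup.normalizer (P : Set S)) ⧸ (Subgroup.center S).subgroupOf (Subgroup.normalizer (P : Set S)) ≃*
        ↥(T : Subgroup (Equiv.Perm (Fin 8))))) ∧
    ∀ V : Subgroup S, V ≤ P → (∀ g ∈ P, ∀ v ∈ V, g * v * g⁻¹ ∈ V) → Cfsg.IsElementaryAbelian 2 V → Nat.card ↥V = 16 →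
      Subgroup.normalizer (V : Set S) = P := by
  obtain ⟨V1, V2, B, Z0, z1, z2, τ, w⟩ := exists_wd_of hconc P hP
  have hs1 : ∀ x : S, x ∈ Subgroup.normalizer (P : Set S) → (∀ v ∈ V1, x * v * x⁻¹ ∈ V1) → x ∈ P :=
    fun x hxN hxV => Cfsg.Agent.Lib.Helper8.W2.step1 w hr h2 x hxN hxV
  obtain ⟨-, h4a, h4b⟩ := Cfsg.Agent.Lib.Helper7.W2.step4_of w h2 hs1
  exact ⟨h4a, h4b, Cfsg.Agent.Lib.Helper6.W2S2.step2 w hr h2 hPlt,
    Cfsg.Agent.Lib.Helper7.W2.step5_of w h2 hs1 hPlt,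
    fun V hVP hVn hVe hVc => Cfsg.Agent.Lib.Helper6.W2S2.step3 w hr h2 V hVP hVn hVe hVc⟩

end Cfsg.Agent.Lib.Helper6.W2T
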