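import Mathlib
import Cfsg.Prelude.Def_Characters
import Cfsg.Agent.Lib.Helper6.GaloisConj
import Cfsg.Agent.Lib.Helper6.GaloisRat
import Cfsg.Agent.Lib.Helper6.Orthogonality
import Cfsg.Agent.Lib.Helper6.IrrBasis
import Cfsg.Agent.Lib.Helper6.PermChar

/-! Integrality of the two nontrivial constituents of a rational valued character
`1 + χ + ψ` with `χ 1 ≠ ψ 1`. -/

set_option autoImplicit false
open Cfsg

namespace Cfsg.Agent.Lib.Helper6

open scoped ComplexConjugate

section rank3int

variable {G : Type*} [Group G] [Fintype G]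

/-- If `θ = 1 + χ + ψ` with `χ, ψ` irreducible of different degrees and `θ` is invariant under
all the power maps prime to the group order, then `χ` is invariant as well. -/
theorem pow_invariant_of_rank3 (theta chi psi : G → ℂ) (hchi : Cfsg.IsIrrCharacter G chi)
    (hpsi : Cfsg.IsIrrCharacter G psi) (hth : theta = (fun _ => 1) + chi + psi)
    (hdeg : chi 1 ≠ psi 1)
    (hpow : ∀ k : ℕ, k.Coprime (Nat.card G) → ∀ g, theta (g ^ k) = theta g)
    (k : ℕ) (hk : k.Coprime (Nat.card G)) (g : G) : chi (g ^ k) = chi g := by
  have hck := IsIrrCharacter.comp_pow hchi hk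
  have hpk := IsIrrCharacter.comp_pow hpsi hk
  have hsum : (fun g => chi (g ^ k)) + (fun g => psi (g ^ k)) = chi + psi := by
    funext x
    have h1 := hpow k hk x
    rw [hth] at h1
    simp only [Pi.add_apply] at h1 ⊢
    linear_combination h1
  have hin : Cfsg.classInner (fun g => chi (g ^ k)) (chi + psi) =
      Cfsg.classInner (fun g => chi (g ^ k)) ((fun g => chi (g ^ k)) + (fun g => psi (g ^ k))) := by
    rw [hsum]
  rw [classInner_add_right, classInner_add_right, classInner_isIrrCharacter hck hchi,
    classInner_isIrrCharacter hck hpsi, classInner_isIrrCharacter hck hck,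
    classInner_isIrrCharacter hck hpk] at hin
  have hne : (fun g => chi (g ^ k)) ≠ psi := by
    intro h
    have := congrFun h 1
    simp only [one_pow] at this
    exact hdeg this
  rw [if_neg hne, if_pos rfl] at hin
  by_cases h1 : (fun g => chi (g ^ k)) = chi
  · exact congrFun h1 g
  · exfalso
    rw [if_neg h1] at hin
    split_ifs at hin
    · norm_num at hin
    · norm_num at hin

/-- Step E of Ito `2p`: `χ` is integer valued. -/
theorem int_valued_of_rank3 (theta chi psi : G → ℂ) (hchi : Cfsg.IsIrrCharacter G chi)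
    (hpsi : Cfsg.IsIrrCharacter G psi) (hth : theta = (fun _ => 1) + chi + psi)
    (hdeg : chi 1 ≠ psi 1)
    (hpow : ∀ k : ℕ, k.Coprime (Nat.card G) → ∀ g, theta (g ^ k) = theta g) :
    ∀ g, ∃ z : ℤ, chi g = z := by
  intro g
  have hn : 0 < Nat.card G := Nat.card_pos
  have : NeZero (Nat.card G) := ⟨hn.ne'⟩
  have hgn : g ^ Nat.card G = 1 := pow_card_eq_one'
  obtain ⟨m, μ, hμ, hμk⟩ := IsCharacter.exists_eigen_pow (IsIrrCharacter.isCharacter hchi) g (Nat.card G) hn hgn
  have hinv : ∀ k : (ZMod (Nat.card G))ˣ, ∑ i, μ i ^ (k : ZMod (Nat.card G)).val = ∑ i, μ i := by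
    intro k
    have hcop : ((k : ZMod (Nat.card G)).val).Coprime (Nat.card G) := ZMod.val_coe_unit_coprime k
    have h1 := pow_invariant_of_rank3 theta chi psi hchi hpsi hth hdeg hpow _ hcop g
    rw [hμk] at h1
    have h2 := hμk 1
    rw [pow_one] at h2
    rw [h1, h2]
    simp
  obtain ⟨z, hz⟩ := exists_int_of_pow_invariant (Nat.card G) μ hμ hinv
  refine ⟨z, ?_⟩
  have h2 := hμk 1
  rw [pow_one] at h2
  rw [h2, ← hz]
  simp

/-- the permutation character is invariant under the power maps prime to the group order -/
theorem permChar_pow_coprime (X : Type*) [MulAction G X] {k : ℕ} (hk : k.Coprime (Nat.card G))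
    (g : G) : permChar G X (g ^ k) = permChar G X g := by
  have hcop : k.Coprime (orderOf g) := Nat.Coprime.coprime_dvd_right (orderOf_dvd_natCard g) hk
  obtain ⟨m, hm⟩ := exists_pow_eq_self_of_coprime hcop
  have hset : MulAction.fixedBy X (g ^ k) = MulAction.fixedBy X g := by
    ext x
    simp only [MulAction.mem_fixedBy]
    constructor
    · intro h
      have h2 : ((g ^ k) ^ m) • x = x := by
        clear hm
        induction m with
        | zero => simp
        | succ m ih => rw [pow_succ, mul_smul, h, ih]
      rwa [hm] at h2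
    · intro h
      clear hm hcop hk
      induction k with
      | zero => simp
      | succ k ih => rw [pow_succ, mul_smul, h, ih]
  unfold permChar
  rw [hset]

/-- Step E of Ito `2p` for a permutation character. -/
theorem int_valued_permChar (X : Type*) [MulAction G X] (chi psi : G → ℂ)
    (hchi : Cfsg.IsIrrCharacter G chi) (hpsi : Cfsg.IsIrrCharacter G psi)
    (hth : permChar G X = (fun _ => 1) + chi + psi) (hdeg : chi 1 ≠ psi 1) :
    ∀ g, ∃ z : ℤ, chi g = z :=
  int_valued_of_rank3 (permChar G X) chi psi hchi hpsi hth hdeg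
    (fun _ hk g => permChar_pow_coprime X hk g)

end rank3int

end Cfsg.Agent.Lib.Helper6
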