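import Mathlib
import Cfsg.Prelude.Def_ChevStructure
import Cfsg.Agent.Lib.Helper5.ChevUOrd
import Cfsg.Agent.Lib.Helper1.ChevRootFill

set_option autoImplicit false

/-!
Unit S6 of the S2244 farm (weakly closed subgroups of `U` are the `U_J`).

Let `X ≤ U` satisfy the peeling property (unit S4): `x_k(t) u' ∈ X` with `u' ∈ U_{>k}` forces
`x_k(t) ∈ X`.  Then every factor of the ordered product `x = ∏ x_r(t_r)` of an element of `X`
lies in `X` (`coords_mem`), and if moreover `X` is `H`-stable then `X` is generated by the root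
subgroups it contains (`eq_closure_roots`).
-/

namespace Cfsg.Agent.Lib.Helper6.Wc

open Cfsg Cfsg.Lie Cfsg.Agent.Lib.Helper5.ChevSym Cfsg.Agent.Lib.Helper5.ChevStruct
  Cfsg.Agent.Lib.Helper1.ChevRootFill

variable {F : Type*} [Field F]

/-- the peeling property of unit S4 -/
def Peel (D : ChevalleyDatum) (hD : D ∈ Seven) (X : Subgroup (GL D.Idx F)) : Prop :=
  ∀ k, D.IsPosRoot k → ∀ (t : F) (u' : GL D.Idx F), u' ∈ upperSub D F (k + 1) →
    xGL D hD k t * u' ∈ X → xGL D hD k t ∈ X

theorem h6_coords_aux (D : ChevalleyDatum) (hD : D ∈ Seven) (X : Subgroup (GL D.Idx F))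
    (hpeel : Peel D hD X) (m : ℕ) :
    ∀ k, D.nroots ≤ k + m → ∀ x ∈ X, x ∈ upperSub D F k → ∀ t : ℕ → F,
      (x : Matrix D.Idx D.Idx F) = D.wordMat F ((posFrom D k).map fun r => (r, t r)) →
      ∀ r ∈ posFrom D k, xGL D hD r (t r) ∈ X := by
  induction m with
  | zero =>
    intro k hk x _ _ t _ r hr
    rw [posFrom_of_ge D k (by omega)] at hr
    exact absurd hr (List.not_mem_nil)
  | succ m ih =>
    intro k hk x hxX hxU t hxt r hr
    by_cases hkn : D.nroots ≤ k
    · rw [posFrom_of_ge D k hkn] at hr
      exact absurd hr (List.not_mem_nil)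
    · have hklt : k < D.nroots := by omega
      by_cases hp : D.IsPosRoot k
      · obtain ⟨t0, u, hu, hxu⟩ := upperSub_decomp D hD k hp x hxU
        have h1 : xGL D hD k t0 ∈ X := hpeel k hp t0 u hu (hxu ▸ hxX)
        have huX : u ∈ X := by
          have : u = (xGL D hD k t0)⁻¹ * x := by rw [hxu]; group
          rw [this]
          exact mul_mem (inv_mem h1) hxX
        obtain ⟨t'', ht''⟩ := upperSub_exists D hD m (k + 1) (by omega) u hu
        -- the coordinates of `x` are `t0` and those of `u`
        have hx2 : (x : Matrix D.Idx D.Idx F)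
            = D.wordMat F ((posFrom D k).map fun r => (r, Function.update t'' k t0 r)) := by
          rw [posFrom_succ D k hklt, if_pos hp]
          have e : (posFrom D (k + 1)).map (fun r => (r, Function.update t'' k t0 r))
              = (posFrom D (k + 1)).map (fun r => (r, t'' r)) := by
            apply List.map_congr_left
            intro r hr
            have := ((mem_posFrom D (k + 1) r).1 hr).1
            rw [Function.update_of_ne (by omega)]
          rw [List.map_cons, wordMat_cons, e, hxu, Units.val_mul, xGL_val, ht'',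
            Function.update_self]
        have huniq := upperSub_unique D hD (m + 1) k hk t (Function.update t'' k t0)
          (hxt.symm.trans hx2) r hr
        rw [huniq]
        rw [posFrom_succ D k hklt, if_pos hp, List.mem_cons] at hr
        rcases hr with rfl | hr
        · rw [Function.update_self]
          exact h1
        · have := ((mem_posFrom D (k + 1) r).1 hr).1
          rw [Function.update_of_ne (by omega)]
          exact ih (k + 1) (by omega) u huX hu t'' ht'' r hr
      · rw [posFrom_succ D k hklt, if_neg hp] at hxt hr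
        rw [upperSub_of_not_pos D k hp] at hxU
        exact ih (k + 1) (by omega) x hxX hxU t hxt r hr

/-- **S6a**: the factors of the ordered product of an element of `X` lie in `X` -/
theorem coords_mem (D : ChevalleyDatum) (hD : D ∈ Seven) (X : Subgroup (GL D.Idx F))
    (hXU : X ≤ D.posUnipotent F) (hpeel : Peel D hD X) (x : GL D.Idx F) (hx : x ∈ X)
    (t : ℕ → F)
    (hxt : (x : Matrix D.Idx D.Idx F) = D.wordMat F (D.posRoots.map fun r => (r, t r)))
    (r : ℕ) (hr : D.IsPosRoot r) : xGL D hD r (t r) ∈ X := by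
  have hxU : x ∈ upperSub D F 0 := by
    rw [upperSub_zero]
    exact hXU hx
  rw [← posFrom_zero] at hxt
  exact h6_coords_aux D hD X hpeel D.nroots 0 (by omega) x hx hxU t hxt r
    ((mem_posFrom D 0 r).2 ⟨Nat.zero_le _, hr⟩)

/-- a word all of whose letters lie in a subgroup lies in it -/
theorem h6_wordGL_mem (D : ChevalleyDatum) (hD : D ∈ Seven) (K : Subgroup (GL D.Idx F))
    (w : List (ℕ × F)) (h : ∀ p ∈ w, xGL D hD p.1 p.2 ∈ K) : wordGL D hD w ∈ K := by
  unfold wordGL
  apply Subgroup.list_prod_mem
  intro g hg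
  rw [List.mem_map] at hg
  obtain ⟨p, hp, rfl⟩ := hg
  exact h p hp

/-- **S6b**: `X` is generated by the root subgroups it contains -/
theorem eq_closure_roots [Fintype F] (D : ChevalleyDatum) (hD : D ∈ Seven)
    (X : Subgroup (GL D.Idx F)) (hXU : X ≤ D.posUnipotent F) (hpeel : Peel D hD X)
    (hX : ∀ h ∈ D.diagonalSubgroup F, ∀ x ∈ X, h * x * h⁻¹ ∈ X) :
    X = Subgroup.closure {g : GL D.Idx F | ∃ (r : ℕ) (t : F), D.IsPosRoot r ∧
      D.rootSubgroup F r ≤ X ∧ (g : Matrix D.Idx D.Idx F) = D.x F r t} := by
  apply le_antisymm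
  · intro x hx
    have hxU : x ∈ upperSub D F 0 := by
      rw [upperSub_zero]
      exact hXU hx
    obtain ⟨t, ht⟩ := upperSub_exists D hD D.nroots 0 (by omega) x hxU
    rw [posFrom_zero] at ht
    have hx' : x = wordGL D hD (D.posRoots.map fun r => (r, t r)) := by
      apply Units.ext
      rw [ht, wordGL_val]
    rw [hx']
    apply h6_wordGL_mem
    intro p hp
    rw [List.mem_map] at hp
    obtain ⟨r, hr, rfl⟩ := hp
    have hrp : D.IsPosRoot r := by
      unfold ChevalleyDatum.posRoots at hr
      rw [List.mem_filter, decide_eq_true_eq] at hr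
      exact hr.2
    have hmem := coords_mem D hD X hXU hpeel x hx t ht r hrp
    show xGL D hD r (t r) ∈ _
    by_cases h0 : t r = 0
    · have : xGL D hD r (t r) = 1 := by
        apply Units.ext
        rw [xGL_val, h0, x_at_zero, Units.val_one]
      rw [this]
      exact one_mem _
    · exact Subgroup.subset_closure ⟨r, t r, hrp,
        rootSubgroup_le_of_mem D hD X hX r hrp.1 (t r) h0 hmem, xGL_val D hD r (t r)⟩
  · rw [Subgroup.closure_le]
    rintro g ⟨r, t, _, hle, hg⟩
    apply hle
    exact Subgroup.subset_closure ⟨t, hg⟩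

end Cfsg.Agent.Lib.Helper6.Wc
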