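import Mathlib
import Cfsg.Prelude.Def_ChevStructure
import Cfsg.Agent.Lib.Helper5.ChevUOrd
import Cfsg.Agent.Lib.Helper5.ChevRootSet
import Cfsg.Agent.Lib.Helper6.WcS6

set_option autoImplicit false

/-!
Units U5 and U6 of the S2244 farm (coordinator helper8), stated with the definitions `Psi` and
`Peel` of the stub file unfolded (so they match the stubs definitionally).

* `eq_rootSetSub_Psi` (U5): `X` is generated by the root subgroups it contains;
* `word_mem` (U6): peeling an ordered word.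
-/

namespace Cfsg.Agent.Lib.Helper6.Wc

open Cfsg Cfsg.Lie Cfsg.Agent.Lib.Helper5.ChevSym Cfsg.Agent.Lib.Helper5.ChevStruct

variable {F : Type*} [Field F]

/-- **U5** -/
theorem eq_rootSetSub_Psi (D : ChevalleyDatum) (hD : D ∈ Seven)
    (X : Subgroup (GL D.Idx F)) (hXU : X ≤ D.posUnipotent F)
    (hpeel : ∀ k, D.IsPosRoot k →
      ∀ t : F, ∀ u' ∈ upperSub D F (k + 1), xGL D hD k t * u' ∈ X → xGL D hD k t ∈ X)
    (hfull : ∀ k, D.IsPosRoot k → ∀ t : F, t ≠ 0 → xGL D hD k t ∈ X →
      ∀ t' : F, xGL D hD k t' ∈ X) :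
    X = rootSetSub D F {r | D.IsPosRoot r ∧ ∀ t : F, xGL D hD r t ∈ X} := by
  apply le_antisymm
  · intro x hx
    have hxU : x ∈ upperSub D F 0 := by
      rw [upperSub_zero]
      exact hXU hx
    obtain ⟨t, ht⟩ := upperSub_exists D hD D.nroots 0 (by omega) x hxU
    rw [posFrom_zero] at ht
    have hx' : x = wordGL D hD (D.posRoots.map fun r => (r, t r)) := by
      apply Units.ext
      rw [ht, wordGL_val]
    rw [hx']
    apply h6_wordGL_mem
    intro p hp
    rw [List.mem_map] at hp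
    obtain ⟨r, hr, rfl⟩ := hp
    have hrp : D.IsPosRoot r := by
      unfold ChevalleyDatum.posRoots at hr
      rw [List.mem_filter, decide_eq_true_eq] at hr
      exact hr.2
    have hmem := coords_mem D hD X hXU hpeel x hx t ht r hrp
    show xGL D hD r (t r) ∈ _
    by_cases h0 : t r = 0
    · have : xGL D hD r (t r) = 1 := by
        apply Units.ext
        rw [xGL_val, h0, x_at_zero, Units.val_one]
      rw [this]
      exact one_mem _
    · have hrP : r ∈ {r | D.IsPosRoot r ∧ ∀ t : F, xGL D hD r t ∈ X} :=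
        ⟨hrp, hfull r hrp (t r) h0 hmem⟩
      exact xGL_mem_rootSetSub D hD _ r hrP (t r)
  · unfold rootSetSub
    rw [Subgroup.closure_le]
    rintro g ⟨s, t, hs, hg⟩
    have : g = xGL D hD s t := by
      apply Units.ext
      rw [hg, xGL_val]
    rw [this]
    exact hs.2 t

theorem h6_wordGL_cons (D : ChevalleyDatum) (hD : D ∈ Seven) (p : ℕ × F) (w : List (ℕ × F)) :
    wordGL D hD (p :: w) = xGL D hD p.1 p.2 * wordGL D hD w := by
  simp [wordGL]

/-- **U6** -/
theorem word_mem (D : ChevalleyDatum) (hD : D ∈ Seven)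
    (X : Subgroup (GL D.Idx F))
    (hpeel : ∀ k, D.IsPosRoot k →
      ∀ t : F, ∀ u' ∈ upperSub D F (k + 1), xGL D hD k t * u' ∈ X → xGL D hD k t ∈ X)
    (w : List (ℕ × F)) (hpos : ∀ p ∈ w, D.IsPosRoot p.1)
    (hsort : (w.map Prod.fst).Pairwise (· < ·)) (hw : wordGL D hD w ∈ X) :
    ∀ p ∈ w, xGL D hD p.1 p.2 ∈ X := by
  induction w with
  | nil =>
    intro p hp
    exact absurd hp (List.not_mem_nil)
  | cons q w ih =>
    rw [List.map_cons, List.pairwise_cons] at hsort
    rw [h6_wordGL_cons] at hw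
    have htail : wordGL D hD w ∈ upperSub D F (q.1 + 1) := by
      apply h6_wordGL_mem
      intro p hp
      unfold upperSub
      have hlt := hsort.1 p.1 (List.mem_map.2 ⟨p, hp, rfl⟩)
      have hpS : p.1 ∈ {s | q.1 + 1 ≤ s ∧ D.IsPosRoot s} :=
        ⟨hlt, hpos p (List.mem_cons_of_mem _ hp)⟩
      exact xGL_mem_rootSetSub D hD _ p.1 hpS p.2
    have hq : xGL D hD q.1 q.2 ∈ X :=
      hpeel q.1 (hpos q List.mem_cons_self) q.2 (wordGL D hD w) htail hw
    have hwX : wordGL D hD w ∈ X := by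
      have : wordGL D hD w = (xGL D hD q.1 q.2)⁻¹ * (xGL D hD q.1 q.2 * wordGL D hD w) := by
        group
      rw [this]
      exact mul_mem (inv_mem hq) hw
    intro p hp
    rw [List.mem_cons] at hp
    rcases hp with rfl | hp
    · exact hq
    · exact ih (fun p hp => hpos p (List.mem_cons_of_mem _ hp)) hsort.2 hwX p hp

end Cfsg.Agent.Lib.Helper6.Wc
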