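import Mathlib
import Cfsg.Prelude.Def_ChevStructure
import Cfsg.Agent.Lib.Helper5.ChevComm
import Cfsg.Agent.Lib.Helper5.ChevGen
import Cfsg.Agent.Lib.Helper5.ChevBnB
import Cfsg.Agent.Lib.Helper8.WCDefs
import Cfsg.Agent.Lib.Helper6.WCU5

set_option autoImplicit false

/-!
Unit U10 of the S2244 farm (coordinator helper8): the commutator step.
If `X_{p_i} ≤ X`, `X` is normalized by `B`, and `r` occurs in the commutator formula of
`x_{p_i}` and `x_b` with exponent `1` at `b` and coefficient `±1`, then `X_r ≤ X`.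
-/

namespace Cfsg.Agent.Lib.Helper6.Wc

open Cfsg Cfsg.Lie Cfsg.Agent.Lib.Helper5.ChevSym Cfsg.Agent.Lib.Helper5.ChevStruct
  Cfsg.Agent.Lib.Helper8.WC

variable {F : Type*} [Field F]

/-- **U10** -/
theorem comm_mem_Psi (D : ChevalleyDatum) (hD : D ∈ Seven)
    (X : Subgroup (GL D.Idx F)) (hB : BNormal D X)
    (hpeel : ∀ k, D.IsPosRoot k → Cfsg.Agent.Lib.Helper8.WC.Peel D hD X k)
    (i : ℕ) (hi : i < D.rank) (hiP : D.simple i ∈ Psi D hD X)
    (b : ℕ) (hb : D.IsPosRoot b) (hbi : b ≠ D.simple i) (hbn : b ≠ D.neg (D.simple i))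
    (hpos : ∀ c ∈ D.commTerms (D.simple i) b, D.IsPosRoot c.1)
    (hsort : ((D.commTerms (D.simple i) b).map fun c => c.1).Pairwise (· < ·))
    (r : ℕ) (hr : ∃ c ∈ D.commTerms (D.simple i) b, c.1 = r ∧ c.2.2.2 = 1 ∧
      (c.2.1 = 1 ∨ c.2.1 = -1)) :
    r ∈ Psi D hD X := by
  obtain ⟨c, hc, hcr, hc1, hcpm⟩ := hr
  have hrpos : D.IsPosRoot r := hcr ▸ hpos c hc
  have ha : D.simple i < D.nroots := hiP.1.1
  -- the commutator word lies in `X`
  have hword : ∀ t u : F, wordGL D hD (D.commWord F (D.simple i) b t u) ∈ X := by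
    intro t u
    have hcf := comm_formula (F := F) D hD (D.simple i) b ha hb.1 hbi hbn t u
    have e : wordGL D hD (D.commWord F (D.simple i) b t u)
        = ((xGL D hD b u)⁻¹ * (xGL D hD (D.simple i) t)⁻¹ * ((xGL D hD b u)⁻¹)⁻¹)
          * xGL D hD (D.simple i) t := by
      have h1 : xGL D hD b u * xGL D hD (D.simple i) t
          = xGL D hD (D.simple i) t * xGL D hD b u
            * wordGL D hD (D.commWord F (D.simple i) b t u) := by
        apply Units.ext
        simp only [Units.val_mul, xGL_val, wordGL_val]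
        exact hcf
      have h2 : wordGL D hD (D.commWord F (D.simple i) b t u)
          = (xGL D hD (D.simple i) t * xGL D hD b u)⁻¹
            * (xGL D hD b u * xGL D hD (D.simple i) t) := by
        rw [h1]; group
      rw [h2]; group
    rw [e]
    have hbB : (xGL D hD b u)⁻¹ ∈ D.borelSubgroup F :=
      inv_mem (pos_le_borel D (xGL_mem_pos D hD b hb u))
    exact mul_mem (hB _ hbB _ (inv_mem (hiP.2 t))) (hiP.2 t)
  -- every letter of the word lies in `X`
  have hletters : ∀ t u : F, ∀ p ∈ D.commWord F (D.simple i) b t u, xGL D hD p.1 p.2 ∈ X := by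
    intro t u
    apply word_mem D hD X hpeel
    · intro p hp
      unfold ChevalleyDatum.commWord at hp
      rw [List.mem_map] at hp
      obtain ⟨c', hc', rfl⟩ := hp
      exact hpos c' hc'
    · have : (D.commWord F (D.simple i) b t u).map Prod.fst
          = (D.commTerms (D.simple i) b).map fun c => c.1 := by
        unfold ChevalleyDatum.commWord
        rw [List.map_map]
        rfl
      rw [this]
      exact hsort
    · exact hword t u
  refine ⟨hrpos, fun t' => ?_⟩
  rcases hcpm with h1 | h1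
  · have hmem : (c.1, ((c.2.1 : ℤ) : F) * (-(-1 : F)) ^ c.2.2.1 * t' ^ c.2.2.2)
        ∈ D.commWord F (D.simple i) b (-1) t' := by
      unfold ChevalleyDatum.commWord
      exact List.mem_map.2 ⟨c, hc, rfl⟩
    have := hletters (-1) t' _ hmem
    simp only [hcr, hc1, h1, neg_neg, one_pow, pow_one, Int.cast_one, one_mul] at this
    exact this
  · have hmem : (c.1, ((c.2.1 : ℤ) : F) * (-(-1 : F)) ^ c.2.2.1 * (-t') ^ c.2.2.2)
        ∈ D.commWord F (D.simple i) b (-1) (-t') := by
      unfold ChevalleyDatum.commWord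
      exact List.mem_map.2 ⟨c, hc, rfl⟩
    have := hletters (-1) (-t') _ hmem
    simp only [hcr, hc1, h1, neg_neg, one_pow, pow_one, Int.cast_one, Int.cast_neg, mul_one,
      neg_mul, one_mul] at this
    exact this

end Cfsg.Agent.Lib.Helper6.Wc
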