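import Mathlib
import Cfsg.Prelude.Def_ChevStructure
import Cfsg.Agent.Lib.Helper5.ChevParaNorm
import Cfsg.Agent.Lib.Helper5.ChevWPerm
import Cfsg.Agent.Lib.Helper5.ChevWRel
import Cfsg.Agent.Lib.Helper8.WCDefs
import Cfsg.Agent.Lib.Helper6.WCU10

set_option autoImplicit false

/-!
Unit U11 of the S2244 farm (coordinator helper8): `Psi = radSet J` for
`J = {j | p_j ∉ Psi}`, with the two table units U8 (`exists_lowering`) and U9 (`exists_bottom`)
as explicit hypotheses `hlow`, `hbot` of exactly the stub shapes.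
-/

namespace Cfsg.Agent.Lib.Helper6.Wc

open Cfsg Cfsg.Lie Cfsg.Agent.Lib.Helper5.ChevSym Cfsg.Agent.Lib.Helper5.ChevStruct
  Cfsg.Agent.Lib.Helper8.WC

variable {F : Type*} [Field F]

/-- **U11**, with U8 and U9 as hypotheses -/
theorem Psi_eq_radSet_of (D : ChevalleyDatum) (hD : D ∈ Seven)
    (hlow : ∀ r, D.IsPosRoot r → (∀ i < D.rank, r ≠ D.simple i) →
      ∃ i < D.rank, 0 < crt D r i ∧ 0 < D.cartan i r ∧ D.IsPosRoot (D.reflectRoot i r) ∧
        msum D (D.reflectRoot i r) < msum D r)
    (hbot : ∀ r, D.IsPosRoot r → ∀ i, i < D.rank → r ≠ D.simple i → 0 < D.cartan i r →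
      ∃ b, D.IsPosRoot b ∧ b ≠ D.simple i ∧ b ≠ D.neg (D.simple i) ∧
        (∀ c ∈ D.commTerms (D.simple i) b, D.IsPosRoot c.1) ∧
        ((D.commTerms (D.simple i) b).map fun c => c.1).Pairwise (· < ·) ∧
        ∃ c ∈ D.commTerms (D.simple i) b, c.1 = r ∧ c.2.2.2 = 1 ∧ (c.2.1 = 1 ∨ c.2.1 = -1))
    (X : Subgroup (GL D.Idx F)) (hB : BNormal D X)
    (hpeel : ∀ k, D.IsPosRoot k → Cfsg.Agent.Lib.Helper8.WC.Peel D hD X k)
    (hrefl : ∀ j < D.rank, D.simple j ∉ Psi D hD X → ∀ r ∈ Psi D hD X,
      D.reflectRoot j r ∈ Psi D hD X) :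
    Psi D hD X = radSet D {j | j < D.rank ∧ D.simple j ∉ Psi D hD X} := by
  set J : Set ℕ := {j | j < D.rank ∧ D.simple j ∉ Psi D hD X} with hJ
  -- (A) no root of `Psi` lies in `Φ_J`
  have hA : ∀ n : ℕ, ∀ r, msum D r < n → r ∈ Psi D hD X → D.InRootSub J r → False := by
    intro n
    induction n with
    | zero => intro r h; omega
    | succ n ih =>
      intro r hn hrP hrJ
      by_cases hs : ∃ i < D.rank, r = D.simple i
      · obtain ⟨i, hi, rfl⟩ := hs
        have hco := co_simple D hD i hi i hi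
        have hiJ : i ∈ J := by
          by_contra hiJ
          have := hrJ.2 i hi hiJ
          unfold co basisVec at hco
          rw [this, if_pos rfl] at hco
          exact zero_ne_one hco
        exact hiJ.2 hrP
      · push Not at hs
        obtain ⟨i, hi, hcrt, -, hpos', hlt⟩ := hlow r hrP.1 hs
        have hiJ : i ∈ J := by
          by_contra hiJ
          have := hrJ.2 i hi hiJ
          unfold crt at hcrt
          omega
        exact ih (D.reflectRoot i r) (by omega) (hrefl i hi hiJ.2 r hrP)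
          (inRootSub_reflect D hD J i hi hiJ r hrJ)
  -- (B) every positive root outside `Φ_J` lies in `Psi`
  have hBB : ∀ n : ℕ, ∀ r, msum D r < n → r ∈ radSet D J → r ∈ Psi D hD X := by
    intro n
    induction n with
    | zero => intro r h; omega
    | succ n ih =>
      intro r hn hr
      by_cases hs : ∃ i < D.rank, r = D.simple i
      · obtain ⟨i, hi, rfl⟩ := hs
        by_contra hnP
        exact hr.2 (inRootSub_simple D hD J i hi ⟨hi, hnP⟩)
      · push Not at hs
        obtain ⟨i, hi, -, hcart, hpos', hlt⟩ := hlow r hr.1 hs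
        by_cases hiJ : i ∈ J
        · have h1 : D.reflectRoot i r ∈ Psi D hD X :=
            ih (D.reflectRoot i r) (by omega) (reflect_mem_radSet D hD J i hi hiJ r hr)
          have h2 := hrefl i hi hiJ.2 _ h1
          rwa [(reflectRoot_invol D hD i hi r hr.1.1).2] at h2
        · have hiP : D.simple i ∈ Psi D hD X := by
            by_contra hnP
            exact hiJ ⟨hi, hnP⟩
          obtain ⟨b, hb, hbi, hbn, hposc, hsort, hc⟩ := hbot r hr.1 i hi (hs i hi) hcart
          exact comm_mem_Psi D hD X hB hpeel i hi hiP b hb hbi hbn hposc hsort r hc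
  ext r
  constructor
  · intro hr
    exact ⟨hr.1, fun hin => hA (msum D r + 1) r (by omega) hr hin⟩
  · intro hr
    exact hBB (msum D r + 1) r (by omega) hr

end Cfsg.Agent.Lib.Helper6.Wc
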