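import Mathlib
import Cfsg.Agent.Lib.Helper6.BLLin

/-!
Abstract lemmas for Watanabe's theorem: an orbit counting identity, constancy of a function on a
finite abelian group whose non-trivial Fourier coefficients vanish, and a coprime action lemma.
-/

set_option autoImplicit false
set_option linter.unusedSectionVars false
open Cfsg

namespace Cfsg.Agent.Lib.Helper6.Wat

open Cfsg.Agent.Lib.Helper6
open scoped ComplexConjugate

section orbit

variable {Γ X : Type*} [Group Γ] [Fintype Γ] [DecidableEq X] (act : Γ → X → X)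
  (h1 : ∀ x, act 1 x = x) (hmul : ∀ a b x, act (a * b) x = act a (act b x))

include h1 hmul

theorem act_inv_act (g : Γ) (x : X) : act g⁻¹ (act g x) = x := by
  rw [← hmul, inv_mul_cancel, h1]

theorem act_act_inv (g : Γ) (x : X) : act g (act g⁻¹ x) = x := by
  rw [← hmul, mul_inv_cancel, h1]

/-- the fibres of an orbit map have the size of the stabilizer of the image point -/
theorem card_fiber (T : Subgroup Γ) [DecidablePred (· ∈ T)] (x y : X) (t₁ : Γ) (ht₁ : t₁ ∈ T)
    (hxy : act t₁ x = y) :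
    (Finset.univ.filter (fun g : Γ => g ∈ T ∧ act g x = y)).card
      = (Finset.univ.filter (fun g : Γ => g ∈ T ∧ act g y = y)).card := by
  have hinv : act t₁⁻¹ y = x := by
    rw [← hxy]
    exact act_inv_act act h1 hmul t₁ x
  apply Finset.card_bij' (fun g _ => g * t₁⁻¹) (fun a _ => a * t₁)
  · intro g hg
    simp only [Finset.mem_filter, Finset.mem_univ, true_and] at hg ⊢
    refine ⟨T.mul_mem hg.1 (T.inv_mem ht₁), ?_⟩
    rw [hmul, hinv]
    exact hg.2
  · intro a ha
    simp only [Finset.mem_filter, Finset.mem_univ, true_and] at ha ⊢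
    refine ⟨T.mul_mem ha.1 ht₁, ?_⟩
    rw [hmul, hxy]
    exact ha.2
  · intro g _
    exact inv_mul_cancel_right g t₁
  · intro a _
    exact mul_inv_cancel_right a t₁

/-- orbit counting: comparing the orbit sum of an invariant weight over a stable set `Ω` with the
orbit sum over a subset `S` meeting every orbit, on which the fusion is controlled by `T` -/
theorem orbit_count (T : Subgroup Γ) [DecidablePred (· ∈ T)] (Ω S : Finset X)
    (hΩ : ∀ g, ∀ ω ∈ Ω, act g ω ∈ Ω)
    (hS : ∀ t ∈ T, ∀ s ∈ S, act t s ∈ S) (hSΩ : S ⊆ Ω)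
    (ha : ∀ ω ∈ Ω, ∃ g, act g ω ∈ S)
    (hb : ∀ s ∈ S, ∀ g, act g s ∈ S → ∃ t ∈ T, act t s = act g s)
    (W : X → ℂ) (hW : ∀ g, ∀ ω ∈ Ω, W (act g ω) = W ω) :
    ((Finset.univ.filter (fun g : Γ => g ∈ T)).card : ℂ)
        * ∑ ω ∈ Ω, ((Finset.univ.filter (fun g : Γ => act g ω = ω)).card : ℂ) * W ω
      = (Fintype.card Γ : ℂ)
        * ∑ s ∈ S, ((Finset.univ.filter (fun g : Γ => g ∈ T ∧ act g s = s)).card : ℂ) * W s := by
  classical
  have hi : ∀ s ∈ S, ∑ ω ∈ Ω, ((Finset.univ.filter (fun g : Γ => act g s = ω)).card : ℂ) * W ω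
      = (Fintype.card Γ : ℂ) * W s := by
    intro s hs
    have hsΩ := hSΩ hs
    calc ∑ ω ∈ Ω, ((Finset.univ.filter (fun g : Γ => act g s = ω)).card : ℂ) * W ω
        = ∑ ω ∈ Ω, ∑ g : Γ, (if act g s = ω then W ω else 0) := by
          apply Finset.sum_congr rfl
          intro ω _
          rw [Finset.card_filter, Nat.cast_sum, Finset.sum_mul]
          apply Finset.sum_congr rfl
          intro g _
          split_ifs <;> simp
      _ = ∑ g : Γ, ∑ ω ∈ Ω, (if act g s = ω then W ω else 0) := Finset.sum_comm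
      _ = ∑ g : Γ, W s := by
          apply Finset.sum_congr rfl
          intro g _
          rw [Finset.sum_ite_eq Ω (act g s) W, if_pos (hΩ g s hsΩ), hW g s hsΩ]
      _ = (Fintype.card Γ : ℂ) * W s := by
          rw [Finset.sum_const, Finset.card_univ, nsmul_eq_mul]
  have hii : ∀ ω ∈ Ω,
      ∑ s ∈ S, ((Finset.univ.filter (fun g : Γ => g ∈ T ∧ act g s = s)).card : ℂ)
        * ((Finset.univ.filter (fun g : Γ => act g s = ω)).card : ℂ)
      = ((Finset.univ.filter (fun g : Γ => g ∈ T)).card : ℂ)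
        * ((Finset.univ.filter (fun g : Γ => act g ω = ω)).card : ℂ) := by
    intro ω hω
    obtain ⟨g₀, hg₀⟩ := ha ω hω
    obtain ⟨s₀, hs₀def⟩ : ∃ s₀, s₀ = act g₀ ω := ⟨_, rfl⟩
    rw [← hs₀def] at hg₀
    have hterm : ∀ s ∈ S, ((Finset.univ.filter (fun g : Γ => g ∈ T ∧ act g s = s)).card : ℂ)
        * ((Finset.univ.filter (fun g : Γ => act g s = ω)).card : ℂ)
        = ((Finset.univ.filter (fun g : Γ => g ∈ T ∧ act g s₀ = s)).card : ℂ)
          * ((Finset.univ.filter (fun g : Γ => act g ω = ω)).card : ℂ) := by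
      intro s hs
      by_cases hex : ∃ t ∈ T, act t s₀ = s
      · obtain ⟨t₁, ht₁, ht₁s⟩ := hex
        rw [card_fiber act h1 hmul T s₀ s t₁ ht₁ ht₁s]
        have hg₁ : act (g₀⁻¹ * t₁⁻¹) s = ω := by
          rw [hmul, ← ht₁s, act_inv_act act h1 hmul, hs₀def, act_inv_act act h1 hmul]
        have h3 := card_fiber act h1 hmul ⊤ s ω (g₀⁻¹ * t₁⁻¹) (Subgroup.mem_top _) hg₁
        simp only [Subgroup.mem_top, true_and] at h3
        rw [h3]
      · have h0 : (Finset.univ.filter (fun g : Γ => g ∈ T ∧ act g s₀ = s)) = ∅ := by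
          apply Finset.filter_eq_empty_iff.mpr
          intro g _ hg
          exact hex ⟨g, hg.1, hg.2⟩
        have h0' : (Finset.univ.filter (fun g : Γ => act g s = ω)) = ∅ := by
          apply Finset.filter_eq_empty_iff.mpr
          intro g _ hg
          apply hex
          have h2 : act (g₀ * g) s = s₀ := by rw [hmul, hg, hs₀def]
          obtain ⟨t, ht, hts⟩ := hb s hs (g₀ * g) (by rw [h2]; exact hg₀)
          refine ⟨t⁻¹, T.inv_mem ht, ?_⟩
          rw [← h2, ← hts, act_inv_act act h1 hmul]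
        rw [h0, h0']
        simp
    rw [Finset.sum_congr rfl hterm, ← Finset.sum_mul]
    congr 1
    rw [← Nat.cast_sum]
    congr 1
    have h4 := Finset.card_eq_sum_card_fiberwise
      (s := Finset.univ.filter (fun g : Γ => g ∈ T)) (t := S) (f := fun g => act g s₀) (by
        intro g hg
        rw [Finset.mem_coe, Finset.mem_filter] at hg
        exact Finset.mem_coe.mpr (hS g hg.2 s₀ hg₀))
    rw [h4]
    apply Finset.sum_congr rfl
    intro s _
    rw [Finset.filter_filter]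
  calc ((Finset.univ.filter (fun g : Γ => g ∈ T)).card : ℂ)
        * ∑ ω ∈ Ω, ((Finset.univ.filter (fun g : Γ => act g ω = ω)).card : ℂ) * W ω
      = ∑ ω ∈ Ω, (∑ s ∈ S, ((Finset.univ.filter (fun g : Γ => g ∈ T ∧ act g s = s)).card : ℂ)
          * ((Finset.univ.filter (fun g : Γ => act g s = ω)).card : ℂ)) * W ω := by
        rw [Finset.mul_sum]
        apply Finset.sum_congr rfl
        intro ω hω
        rw [hii ω hω]
        ring
    _ = ∑ s ∈ S, ((Finset.univ.filter (fun g : Γ => g ∈ T ∧ act g s = s)).card : ℂ)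
          * ∑ ω ∈ Ω, ((Finset.univ.filter (fun g : Γ => act g s = ω)).card : ℂ) * W ω := by
        simp_rw [Finset.sum_mul, Finset.mul_sum]
        rw [Finset.sum_comm]
        apply Finset.sum_congr rfl
        intro s _
        apply Finset.sum_congr rfl
        intro ω _
        ring
    _ = (Fintype.card Γ : ℂ)
        * ∑ s ∈ S, ((Finset.univ.filter (fun g : Γ => g ∈ T ∧ act g s = s)).card : ℂ) * W s := by
        rw [Finset.mul_sum]
        apply Finset.sum_congr rfl
        intro s hs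
        rw [hi s hs]
        ring

end orbit

section orbit2

theorem card_filter_eq_natCard {α : Type*} [Fintype α] (q : α → Prop) [DecidablePred q] :
    (Finset.univ.filter q).card = Nat.card {a // q a} := by
  rw [← Fintype.card_subtype, Nat.card_eq_fintype_card]

/-- orbit counting with instance-free stabilizer counts -/
theorem orbit_count' {Γ X : Type*} [Group Γ] [Finite Γ] (act : Γ → X → X)
    (h1 : ∀ x, act 1 x = x) (hmul : ∀ a b x, act (a * b) x = act a (act b x))
    (T : Subgroup Γ) (Ω S : Finset X)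
    (hΩ : ∀ g, ∀ ω ∈ Ω, act g ω ∈ Ω)
    (hS : ∀ t ∈ T, ∀ s ∈ S, act t s ∈ S) (hSΩ : S ⊆ Ω)
    (ha : ∀ ω ∈ Ω, ∃ g, act g ω ∈ S)
    (hb : ∀ s ∈ S, ∀ g, act g s ∈ S → ∃ t ∈ T, act t s = act g s)
    (W : X → ℂ) (hW : ∀ g, ∀ ω ∈ Ω, W (act g ω) = W ω)
    (cΓ cT : X → ℕ) (hcΓ : ∀ ω ∈ Ω, cΓ ω = Nat.card {g : Γ // act g ω = ω})
    (hcT : ∀ s ∈ S, cT s = Nat.card {g : Γ // g ∈ T ∧ act g s = s}) :
    (Nat.card T : ℂ) * ∑ ω ∈ Ω, (cΓ ω : ℂ) * W ω
      = (Nat.card Γ : ℂ) * ∑ s ∈ S, (cT s : ℂ) * W s := by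
  classical
  haveI : Fintype Γ := Fintype.ofFinite _
  have h := orbit_count act h1 hmul T Ω S hΩ hS hSΩ ha hb W hW
  simp only [card_filter_eq_natCard] at h
  have e1 : ∑ ω ∈ Ω, (cΓ ω : ℂ) * W ω
      = ∑ ω ∈ Ω, (Nat.card {g : Γ // act g ω = ω} : ℂ) * W ω := by
    apply Finset.sum_congr rfl
    intro ω hω
    rw [hcΓ ω hω]
  have e2 : ∑ s ∈ S, (cT s : ℂ) * W s
      = ∑ s ∈ S, (Nat.card {g : Γ // g ∈ T ∧ act g s = s} : ℂ) * W s := by
    apply Finset.sum_congr rfl
    intro s hs
    rw [hcT s hs]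
  rw [e1, e2, Nat.card_eq_fintype_card (α := Γ)]
  exact h

end orbit2

section fourier

variable {A : Type*} [Group A] [Finite A]

/-- a function on a finite abelian group whose Fourier coefficients at the non-trivial linear
characters vanish is constant -/
theorem const_of_fourier (hA : IsMulCommutative A) [Fintype A] (F : A → ℂ)
    (h : ∀ lam : A →* ℂˣ, lam ≠ 1 → ∑ b : A, F b * ((lam b : ℂˣ) : ℂ) = 0) (a : A) :
    F a = F 1 := by
  classical
  haveI : Fintype (A →* ℂˣ) := Fintype.ofFinite _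
  have hcoef : ∀ ψ : A →* ℂˣ, ψ ≠ 1 → ∑ b : A, F b * conj ((ψ b : ℂˣ) : ℂ) = 0 := by
    intro ψ hψ
    obtain ⟨lam', hlam'⟩ : ∃ lam' : A →* ℂˣ, ∀ b, lam' b = (ψ b)⁻¹ :=
      ⟨{ toFun := fun b => (ψ b)⁻¹
         map_one' := by simp
         map_mul' := by
          intro x y
          simp only [map_mul, mul_inv_rev]
          exact mul_comm _ _ }, fun b => rfl⟩
    have h1 : lam' ≠ 1 := by
      intro h2
      apply hψ
      apply MonoidHom.ext
      intro b
      have h4 := hlam' b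
      rw [h2, MonoidHom.one_apply] at h4
      rw [MonoidHom.one_apply, ← inv_inv (ψ b), ← h4, inv_one]
    have h3 := h lam' h1
    rw [← h3]
    apply Finset.sum_congr rfl
    intro b _
    rw [hom_conj, hlam', map_inv]
  have hexp : ∀ a : A, F a = (Nat.card A : ℂ)⁻¹ * ∑ b : A, F b := by
    intro a
    rw [hom_expansion hA F a, Finset.sum_eq_single (1 : A →* ℂˣ)]
    · simp
    · intro ψ _ hψ
      rw [hcoef ψ hψ, mul_zero, zero_mul]
    · intro h0
      exact absurd (Finset.mem_univ _) h0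
  rw [hexp a, hexp 1]

end fourier

section coprime

variable {P : Type*} [Group P] [Finite P]

/-- coprime action on an abelian group: a fixed point in the commutator subgroup is trivial -/
theorem eq_one_of_mem_commutator_of_fixed (hP : IsMulCommutative P) (A : Subgroup (MulAut P))
    (w : P)
    (hw : w ∈ Subgroup.closure {z : P | ∃ (x : P) (a : MulAut P), a ∈ A ∧ z = x⁻¹ * a x})
    (hfix : ∀ a ∈ A, a w = w) (hcop : (Nat.card A).Coprime (orderOf w)) : w = 1 := by
  classical
  haveI : Fintype P := Fintype.ofFinite _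
  haveI : Fintype (P →* ℂˣ) := Fintype.ofFinite _
  haveI : Fintype ↥A := Fintype.ofFinite _
  by_contra hw1
  -- a linear character not trivial at `w`
  obtain ⟨lam, hlam⟩ : ∃ lam : P →* ℂˣ, lam w ≠ 1 := by
    by_contra hcon
    push Not at hcon
    have h1 := sum_homs_apply hP w
    rw [if_neg hw1] at h1
    have h2 : ∑ ψ : P →* ℂˣ, ((ψ w : ℂˣ) : ℂ) = (Fintype.card (P →* ℂˣ) : ℂ) := by
      rw [Finset.sum_congr rfl (fun ψ _ => by rw [hcon ψ, Units.val_one]),
        Finset.sum_const, Finset.card_univ, nsmul_eq_mul, mul_one]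
    rw [h2] at h1
    have h3 : (Fintype.card (P →* ℂˣ) : ℂ) ≠ 0 := by
      exact_mod_cast (Fintype.card_pos (α := P →* ℂˣ)).ne'
    exact h3 h1
  -- the averaged character
  obtain ⟨μ, hμdef⟩ : ∃ μ : P →* ℂˣ,
      μ = ∏ a : ↥A, lam.comp ((a : MulAut P) : P ≃* P).toMonoidHom := ⟨_, rfl⟩
  have hμapp : ∀ x : P, μ x = ∏ a : ↥A, lam ((a : MulAut P) x) := by
    intro x
    rw [hμdef, MonoidHom.finset_prod_apply]
    rfl
  have hμinv : ∀ a₀ ∈ A, ∀ x : P, μ (a₀ x) = μ x := by
    intro a₀ ha₀ x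
    rw [hμapp, hμapp]
    apply Fintype.prod_equiv (Equiv.mulRight (⟨a₀, ha₀⟩ : ↥A))
    intro a
    rfl
  have hker : Subgroup.closure {z : P | ∃ (x : P) (a : MulAut P), a ∈ A ∧ z = x⁻¹ * a x}
      ≤ μ.ker := by
    rw [Subgroup.closure_le]
    rintro z ⟨x, a, ha, rfl⟩
    rw [SetLike.mem_coe, MonoidHom.mem_ker, map_mul, map_inv, hμinv a ha, inv_mul_cancel]
  have hμw : μ w = 1 := MonoidHom.mem_ker.mp (hker hw)
  have hpow : (lam w) ^ Nat.card A = 1 := by
    rw [← hμw, hμapp]
    rw [Finset.prod_congr rfl (fun a _ => by rw [hfix (a : MulAut P) a.2]),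
      Finset.prod_const, Finset.card_univ, Nat.card_eq_fintype_card]
  have hpow2 : (lam w) ^ orderOf w = 1 := by
    rw [← map_pow, pow_orderOf_eq_one, map_one]
  have hd1 := orderOf_dvd_of_pow_eq_one hpow
  have hd2 := orderOf_dvd_of_pow_eq_one hpow2
  have hd3 : orderOf (lam w) ∣ 1 := by
    have := Nat.dvd_gcd hd1 hd2
    rwa [hcop] at this
  apply hlam
  exact orderOf_eq_one_iff.mp (Nat.dvd_one.mp hd3)

end coprime

end Cfsg.Agent.Lib.Helper6.Wat
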