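import Mathlib
import Cfsg.Agent.Lib.Helper6.StarFocal
import Cfsg.Agent.Lib.Helper6.BrAbel
import Cfsg.Agent.Lib.Helper6.BrSat3
import Cfsg.Agent.Lib.Helper6.BrCyc
import Cfsg.Agent.Lib.Helper6.BrConj2
import Cfsg.Agent.Lib.Helper6.MajorFusion

/-!
Fusion of Brauer pairs below a maximal pair with abelian first component is controlled by the
inertial group.
-/

set_option autoImplicit false
set_option linter.unusedSectionVars false
set_option maxHeartbeats 1600000

open Cfsg

namespace Cfsg.Agent.Lib.Helper6.Wat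

open Cfsg.Agent.Lib.Helper6 Cfsg.Agent.Lib.Helper6.Star
open scoped ComplexConjugate

section fus

variable {G : Type*} [Group G] [Fintype G] [DecidableEq G] {p : ℕ} [hp : Fact p.Prime]
  {M : Ideal Cfsg.AlgInt} {B : Set (IrrCharacter G)}

/-- an element fixing a pair normalizes its group and stabilizes its block -/
theorem stab_of_conjPair_eq (P : Subgroup G)
    (e : Set (IrrCharacter (Subgroup.centralizer (P : Set G)))) (t : G)
    (h : conjPair t ⟨P, e⟩ = ⟨P, e⟩) :
    t ∈ Subgroup.normalizer (P : Set G) ∧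
      StabilizesBlock (Subgroup.centralizer (P : Set G)) e t := by
  have h1 : P.map (MulAut.conj t).toMonoidHom = P := congrArg Sigma.fst h
  have ht := mem_normalizer_of_map_conj_eq h1
  refine ⟨ht, ?_⟩
  rw [conjPair_of_mem_normalizer P ht e] at h
  have h2 := eq_of_heq (Sigma.mk.inj h).2
  rw [stabilizesBlock_iff]
  exact ⟨normalizer_le_normalizer_centralizer P ht, h2⟩

/-- elements of `C_G(Q)` fix every pair on `Q` -/
theorem conjPair_of_mem_centralizer (Q : Subgroup G)
    (f : Set (IrrCharacter (Subgroup.centralizer (Q : Set G)))) {z : G}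
    (hz : z ∈ Subgroup.centralizer (Q : Set G)) : conjPair z ⟨Q, f⟩ = ⟨Q, f⟩ :=
  conjPair_of_stab Q f (Subgroup.centralizer_le_normalizer _ hz)
    (stabilizesBlock_of_mem_sup Q f (Subgroup.mem_sup_right hz))

/-- the maximal pair `(P, e)`, with `P` abelian, read inside `C_G(Q)` for `(Q, f) ≤ (P, e)`, is a
maximal pair of `f` -/
theorem isMaximalBrauerPair_rel_of_abelian (hM : IsPModular p M) (B : Set (IrrCharacter G))
    (P : Subgroup G) (e : Set (IrrCharacter (Subgroup.centralizer (P : Set G))))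
    (hmax : IsMaximalBrauerPair p M B P e) (hab : ∀ x ∈ P, ∀ y ∈ P, x * y = y * x)
    (Q : Subgroup G) (f : Set (IrrCharacter (Subgroup.centralizer (Q : Set G))))
    (hle : SubpairLE p M Q f P e) (hPL : P ≤ Subgroup.centralizer (Q : Set G))
    (hCL : Subgroup.centralizer (P : Set G) ≤ Subgroup.centralizer (Q : Set G)) :
    IsMaximalBrauerPair p M f (P.subgroupOf (Subgroup.centralizer (Q : Set G)))
      (mapIrr (cE (Subgroup.centralizer (Q : Set G)) (P.subgroupOf (Subgroup.centralizer (Q : Set G)))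
        P (Subgroup.map_subgroupOf_eq_of_le hPL) hCL).symm '' e) := by
  classical
  haveI : Fintype (Subgroup.centralizer (Q : Set G)) := Fintype.ofFinite _
  have hB := hmax.1.2.1
  have hQP : Q ≤ P := le_of_chain ⟨Q, f⟩ ⟨P, e⟩ hle
  have hBQ : IsBrauerPairOf p M B Q f :=
    (isBrauerPairOf_iff_of_chain hM B hB ⟨Q, f⟩ ⟨P, e⟩ hle).mp hmax.1
  have hQf := hBQ.1
  have hdef := isDefectGroup_of_abelian hM B P e hmax hab Q f hQP hQf.2 hle
  have hPNQ : P ≤ Subgroup.normalizer (Q : Set G) :=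
    hPL.trans (Subgroup.centralizer_le_normalizer _)
  have n1 : IsNormalSubpair p M Q f P e :=
    isNormalSubpair_of_chain hM ⟨Q, f⟩ ⟨P, e⟩ hle hQf hPNQ
  have hrel := PairRel.mk' (Subgroup.centralizer (Q : Set G)) P hPL hCL e
  have hpair := (isBrauerPairOf_of_pairRel (p := p) (M := M) _ _ _ hrel f).mpr
    ⟨n1.2.1.1, n1.2.1.2, hQf.2, n1.2.2.2.2.2⟩
  exact isMaximalBrauerPair_of_isDefectGroup hM f _ _ hdef hpair

/-- **fusion in the abelian case**: if `b` and its conjugate by `y` both lie below the maximal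
pair `(P, e)` with `P` abelian, then `y` is the product of an element of the inertial group and an
element centralizing the group of `b` -/
theorem fusion_abelian (hM : IsPModular p M) (B : Set (IrrCharacter G))
    (P : Subgroup G) (e : Set (IrrCharacter (Subgroup.centralizer (P : Set G))))
    (hmax : IsMaximalBrauerPair p M B P e) (hab : ∀ x ∈ P, ∀ y ∈ P, x * y = y * x)
    (b : BrauerPairIdx G) (hb : Relation.ReflTransGen (NormalSubpairRel p M) b ⟨P, e⟩) (y : G)
    (hy : Relation.ReflTransGen (NormalSubpairRel p M) (conjPair y b) ⟨P, e⟩) :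
    ∃ t z : G, t ∈ Subgroup.normalizer (P : Set G) ∧
      StabilizesBlock (Subgroup.centralizer (P : Set G)) e t ∧
      z ∈ Subgroup.centralizer (b.1 : Set G) ∧ y = t * z := by
  classical
  obtain ⟨Q, f⟩ := b
  haveI : Fintype (Subgroup.centralizer (Q : Set G)) := Fintype.ofFinite _
  have hB := hmax.1.2.1
  obtain ⟨m', hm'def⟩ : ∃ m' : BrauerPairIdx G, m' = conjPair y⁻¹ ⟨P, e⟩ := ⟨_, rfl⟩
  have hb' : Relation.ReflTransGen (NormalSubpairRel p M) ⟨Q, f⟩ m' := by
    have h1 := chain_conj y⁻¹ _ _ hy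
    rw [← conjPair_mul, inv_mul_cancel, conjPair_one, ← hm'def] at h1
    exact h1
  have hPD : IsDefectGroup p M B P := isDefectGroup_of_isMaximalBrauerPair hM B P e hmax
  have hm'pair : IsBrauerPairOf p M B m'.1 m'.2 := by
    rw [hm'def]
    exact isBrauerPairOf_conj B P y⁻¹ e hmax.1
  have hm'D : IsDefectGroup p M B m'.1 := by
    rw [hm'def]
    have h1 := IsDefectGroup.mapIrr (p := p) (M := M) (MulAut.conj y⁻¹ : G ≃* G) hPD
    rw [mapIrr_conj_image] at h1
    exact h1
  have hm'max : IsMaximalBrauerPair p M B m'.1 m'.2 :=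
    isMaximalBrauerPair_of_isDefectGroup hM B m'.1 m'.2 hm'D hm'pair
  have hm'ab : ∀ x ∈ m'.1, ∀ z ∈ m'.1, x * z = z * x := by
    rw [hm'def]
    intro x hx z hz
    change x ∈ P.map (MulAut.conj y⁻¹).toMonoidHom at hx
    change z ∈ P.map (MulAut.conj y⁻¹).toMonoidHom at hz
    rw [mem_map_conj_iff] at hx hz
    have h1 := hab _ hx _ hz
    have h2 : x * z = y⁻¹ * ((y⁻¹)⁻¹ * x * y⁻¹ * ((y⁻¹)⁻¹ * z * y⁻¹)) * (y⁻¹)⁻¹ := by group
    rw [h2, h1]
    group
  obtain ⟨P', e'⟩ := m'
  have hQP : Q ≤ P := le_of_chain ⟨Q, f⟩ ⟨P, e⟩ hb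
  have hQP' : Q ≤ P' := le_of_chain ⟨Q, f⟩ ⟨P', e'⟩ hb'
  have hPL : P ≤ Subgroup.centralizer (Q : Set G) := by
    intro u hu
    rw [Subgroup.mem_centralizer_iff]
    intro q hq
    exact hab q (hQP hq) u hu
  have hP'L : P' ≤ Subgroup.centralizer (Q : Set G) := by
    intro u hu
    rw [Subgroup.mem_centralizer_iff]
    intro q hq
    exact hm'ab q (hQP' hq) u hu
  have hCL : Subgroup.centralizer (P : Set G) ≤ Subgroup.centralizer (Q : Set G) :=
    Subgroup.centralizer_le hQP
  have hC'L : Subgroup.centralizer (P' : Set G) ≤ Subgroup.centralizer (Q : Set G) :=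
    Subgroup.centralizer_le hQP'
  have hmaxL := isMaximalBrauerPair_rel_of_abelian hM B P e hmax hab Q f hb hPL hCL
  have hmaxL' := isMaximalBrauerPair_rel_of_abelian hM B P' e' hm'max hm'ab Q f hb' hP'L hC'L
  obtain ⟨aL, haL⟩ : ∃ aL : BrauerPairIdx ↥(Subgroup.centralizer (Q : Set G)),
      aL = ⟨P.subgroupOf (Subgroup.centralizer (Q : Set G)),
        mapIrr (cE (Subgroup.centralizer (Q : Set G))
          (P.subgroupOf (Subgroup.centralizer (Q : Set G)))
          P (Subgroup.map_subgroupOf_eq_of_le hPL) hCL).symm '' e⟩ := ⟨_, rfl⟩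
  obtain ⟨bL, hbL⟩ : ∃ bL : BrauerPairIdx ↥(Subgroup.centralizer (Q : Set G)),
      bL = ⟨P'.subgroupOf (Subgroup.centralizer (Q : Set G)),
        mapIrr (cE (Subgroup.centralizer (Q : Set G))
          (P'.subgroupOf (Subgroup.centralizer (Q : Set G)))
          P' (Subgroup.map_subgroupOf_eq_of_le hP'L) hC'L).symm '' e'⟩ := ⟨_, rfl⟩
  have hmaxA : IsMaximalBrauerPair p M f aL.1 aL.2 := by rw [haL]; exact hmaxL
  have hmaxB : IsMaximalBrauerPair p M f bL.1 bL.2 := by rw [hbL]; exact hmaxL'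
  obtain ⟨x, hx⟩ := isMaximalBrauerPair_conj hM f aL bL hmaxA hmaxB
  have hrel : PairRel (Subgroup.centralizer (Q : Set G)) aL ⟨P, e⟩ := by
    rw [haL]
    exact PairRel.mk' (Subgroup.centralizer (Q : Set G)) P hPL hCL e
  have hrel' : PairRel (Subgroup.centralizer (Q : Set G)) bL ⟨P', e'⟩ := by
    rw [hbL]
    exact PairRel.mk' (Subgroup.centralizer (Q : Set G)) P' hP'L hC'L e'
  rw [hx] at hrel'
  obtain ⟨H, eL⟩ := aL
  have hrelc := PairRel.conj (Subgroup.centralizer (Q : Set G)) hrel x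
  have heq : (⟨P', e'⟩ : BrauerPairIdx G) = conjPair (x : G) ⟨P, e⟩ :=
    PairRel.unique (Subgroup.centralizer (Q : Set G)) hrel' hrelc
  have hfix : conjPair (y * (x : G)) ⟨P, e⟩ = ⟨P, e⟩ := by
    rw [conjPair_mul, ← heq, hm'def, ← conjPair_mul, mul_inv_cancel, conjPair_one]
  obtain ⟨htN, htS⟩ := stab_of_conjPair_eq P e (y * (x : G)) hfix
  refine ⟨y * (x : G), (x : G)⁻¹, htN, htS, Subgroup.inv_mem _ x.2, ?_⟩
  group

/-- the commutator subgroup `[P, T]`, as a subgroup of `P` -/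
def commSub (P T : Subgroup G) : Subgroup ↥P :=
  Subgroup.closure {z : ↥P | ∃ (x : ↥P) (t : G), t ∈ T ∧
    (z : G) = (x : G)⁻¹ * (t * (x : G) * t⁻¹)}

theorem commSub_normal (P T : Subgroup G) (hab : ∀ x ∈ P, ∀ y ∈ P, x * y = y * x) :
    (commSub P T).Normal := by
  constructor
  intro n hn g
  have h1 : g * n * g⁻¹ = n := by
    apply Subtype.ext
    simp only [Subgroup.coe_mul, Subgroup.coe_inv]
    rw [hab _ g.2 _ n.2]
    group
  rw [h1]
  exact hn

/-- the fusion of the subpairs of a maximal pair with abelian group is controlled modulo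
`[P, T]` -/
theorem fusControl_commSub (hM : IsPModular p M) (B : Set (IrrCharacter G))
    (P : Subgroup G) (e : Set (IrrCharacter (Subgroup.centralizer (P : Set G))))
    (hmax : IsMaximalBrauerPair p M B P e) (hab : ∀ x ∈ P, ∀ y ∈ P, x * y = y * x)
    (T : Subgroup G)
    (hT : ∀ g : G, g ∈ T ↔ (g ∈ Subgroup.normalizer (P : Set G) ∧
      StabilizesBlock (Subgroup.centralizer (P : Set G)) e g))
    [(commSub P T).Normal] :
    FusControl P (commSub P T) p M ⟨P, e⟩ := by
  intro b hb y hy u hu h1 h2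
  obtain ⟨t, z, htN, htS, hz, hyz⟩ := fusion_abelian hM B P e hmax hab b hb y hy
  apply Subgroup.subset_closure
  refine ⟨⟨u, h1⟩, t, (hT t).mpr ⟨htN, htS⟩, ?_⟩
  have hzu : z * u * z⁻¹ = u := by
    have h3 := Subgroup.mem_centralizer_iff.mp hz u hu
    rw [← h3]
    group
  simp only [Subgroup.coe_mul, Subgroup.coe_inv]
  rw [hyz]
  calc u⁻¹ * (t * z * u * (t * z)⁻¹) = u⁻¹ * (t * (z * u * z⁻¹) * t⁻¹) := by group
    _ = u⁻¹ * (t * u * t⁻¹) := by rw [hzu]

end fus

end Cfsg.Agent.Lib.Helper6.Wat
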