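import Mathlib
import Cfsg.Agent.Lib.Helper6.WatAbs
import Cfsg.Agent.Lib.Helper6.WatFus
import Cfsg.Agent.Lib.Helper6.StarNil
import Cfsg.Agent.Lib.Helper6.SubContrib
import Cfsg.Agent.Lib.Helper6.KfTop

/-!
The star identity for a block with abelian defect group: the linear characters of `P / [P, T]`
act freely on the block, and the resulting inner products are computed through the subsections.
-/

set_option autoImplicit false
set_option linter.unusedSectionVars false
set_option maxHeartbeats 1600000

open Cfsg

namespace Cfsg.Agent.Lib.Helper6.Wat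

open Cfsg.Agent.Lib.Helper6 Cfsg.Agent.Lib.Helper6.Star
open scoped ComplexConjugate

section star

variable {G : Type*} [Group G] [Fintype G] [DecidableEq G] {p : ℕ} [hp : Fact p.Prime]
  {M : Ideal Cfsg.AlgInt} {B : Set (IrrCharacter G)}

/-- the star construction vanishes on characters outside the block -/
theorem starFun_of_not_mem (hM : IsPModular p M) (m : BrauerPairIdx G) (η : G → ℂ)
    (χ : IrrCharacter G) (hχ : χ ∉ B) : starFun p M B m η (χ : G → ℂ) = 0 := by
  classical
  funext g
  have hu := orderOf_ppEl (p := p) g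
  have hs : prEl p g ∈ Subgroup.centralizer
      ((Subgroup.zpowers (ppEl p g) : Subgroup G) : Set G) := by
    rw [centralizer_zpowers_eq, mem_centralizer_singleton_iff]
    exact (commute_ppEl_prEl g).eq
  have hsreg : ¬ p ∣ orderOf (⟨prEl p g, hs⟩ : Subgroup.centralizer
      ((Subgroup.zpowers (ppEl p g) : Subgroup G) : Set G)) := by
    rw [Subgroup.orderOf_mk]; exact prEl_pRegular g
  haveI : Fintype (Subgroup.centralizer ((Subgroup.zpowers (ppEl p g) : Subgroup G) : Set G)) :=
    Fintype.ofFinite _
  have h1 := starFun_apply_shift (B := B) hM m η (χ : G → ℂ)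
    (IsIrrCharacter.isClassFunction χ.2) (ppEl p g) hu ⟨prEl p g, hs⟩ hsreg
  have h2 : ppEl p g * ((⟨prEl p g, hs⟩ : Subgroup.centralizer
      ((Subgroup.zpowers (ppEl p g) : Subgroup G) : Set G)) : G) = g := ppEl_mul_prEl p g
  rw [h2] at h1
  rw [h1]
  apply Finset.sum_eq_zero
  intro b hb
  rw [blockPart_shift_eq_zero_of_not_mem hM (ppEl p g) hu _ (centralizer_zpowers_eq _)
    ((mem_inducingBlocks _ _ _).mp hb) χ hχ _ hsreg, mul_zero]

variable {P : Subgroup G} {N : Subgroup ↥P} [N.Normal]

open Classical in
/-- the sum over the block of the inner products of the twisted characters with the originals: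
the twist acts freely when `P` is abelian -/
theorem sum_classInner_starFun_etaOf (hM : IsPModular p M)
    (e : Set (IrrCharacter (Subgroup.centralizer (P : Set G))))
    (hmax : IsMaximalBrauerPair p M B P e) (hab : ∀ x ∈ P, ∀ y ∈ P, x * y = y * x)
    (hfus : FusControl P N p M ⟨P, e⟩) (lam : (↥P ⧸ N) →* ℂˣ) [Fintype (IrrCharacter G)] :
    ∑ χ : IrrCharacter G, (if χ ∈ B then
        classInner (starFun p M B ⟨P, e⟩ (etaOf P N lam) (χ : G → ℂ)) (χ : G → ℂ) else 0)
      = if lam = 1 then (Nat.card B : ℂ) else 0 := by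
  classical
  have hterm : ∀ χ : IrrCharacter G, χ ∈ B →
      classInner (starFun p M B ⟨P, e⟩ (etaOf P N lam) (χ : G → ℂ)) (χ : G → ℂ)
        = if lam = 1 then 1 else 0 := by
    intro χ hχ
    obtain ⟨act, h1, hmul, hact⟩ := exists_act hM e hmax hfus (blockHeight p B (χ : G → ℂ))
    obtain ⟨x, hxdef⟩ : ∃ x : {χ' : IrrCharacter G // χ' ∈ B ∧
        blockHeight p B (χ' : G → ℂ) = blockHeight p B (χ : G → ℂ)}, x = ⟨χ, hχ, rfl⟩ :=
      ⟨_, rfl⟩
    have hx1 : (x.1 : IrrCharacter G) = χ := by rw [hxdef]
    have h2 := hact lam x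
    rw [hx1] at h2
    rw [← h2, classInner_irrCharacter]
    by_cases hl : lam = 1
    · rw [if_pos hl, hl, h1, hx1, if_pos rfl]
    · rw [if_neg hl, if_neg]
      intro hfixed
      apply hl
      have hfix : starFun p M B ⟨P, e⟩ (etaOf P N lam) (χ : G → ℂ) = (χ : G → ℂ) := by
        rw [← h2, hfixed]
      apply MonoidHom.ext
      intro q
      induction q using QuotientGroup.induction_on with
      | _ w =>
        have hcen : (w : G) ∈ Subgroup.centralizer (P : Set G) := by
          rw [Subgroup.mem_centralizer_iff]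
          intro z hz
          exact hab z hz w w.2
        have h3 := lam_eq_one_of_fixed hM e hmax hfus lam χ hfix (w : G) w.2 (by
          intro f hf hchain hind
          exact exists_blockPart_ne_zero_of_center hM e hmax (w : G) w.2 hcen f hf hchain hind
            χ hχ)
        rw [show (QuotientGroup.mk w : ↥P ⧸ N) = QuotientGroup.mk ⟨(w : G), w.2⟩ from rfl, h3]
        rfl
  have h4 : ∀ χ : IrrCharacter G, (if χ ∈ B then
        classInner (starFun p M B ⟨P, e⟩ (etaOf P N lam) (χ : G → ℂ)) (χ : G → ℂ) else 0)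
      = if χ ∈ B then (if lam = 1 then (1 : ℂ) else 0) else 0 := by
    intro χ
    by_cases hχ : χ ∈ B
    · rw [if_pos hχ, if_pos hχ, hterm χ hχ]
    · rw [if_neg hχ, if_neg hχ]
  rw [Finset.sum_congr rfl (fun χ _ => h4 χ)]
  by_cases hl : lam = 1
  · simp only [if_pos hl]
    rw [Finset.sum_boole]
    congr 1
    rw [← Fintype.card_subtype, Nat.card_eq_fintype_card]
  · simp only [if_neg hl]
    simp

open Classical in
/-- the sum over all irreducible characters of the products of the twisted and the untwisted
star constructions, in terms of the subsections -/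
theorem sum_starFun_mul_conj_eq (hM : IsPModular p M) (m : BrauerPairIdx G)
    (hmax : IsMaximalBrauerPair p M B m.1 m.2) (η : G → ℂ) [Fintype (IrrCharacter G)] :
    ∑ χ : IrrCharacter G, ∑ g : G, starFun p M B m η (χ : G → ℂ) g
        * conj (starFun p M B m (fun _ => 1) (χ : G → ℂ) g)
      = ∑ u : G, if (∃ k : ℕ, orderOf u = p ^ k) then
          ∑ b ∈ inducingBlocks M
              (Subgroup.centralizer ((Subgroup.zpowers u : Subgroup G) : Set G)) B,
            etaFam p M m η ⟨Subgroup.zpowers u, b⟩ u
              * (Nat.card (Subgroup.centralizer ((Subgroup.zpowers u : Subgroup G) : Set G)) : ℂ)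
              * (blockRank p b : ℂ)
        else 0 := by
  classical
  have hB := hmax.1.2.1
  have h1 : ∀ χ : IrrCharacter G, ∑ g : G, starFun p M B m η (χ : G → ℂ) g
        * conj (starFun p M B m (fun _ => 1) (χ : G → ℂ) g)
      = ∑ u : G, ∑ g : G, if ppEl p g = u then starFun p M B m η (χ : G → ℂ) g
        * conj (starFun p M B m (fun _ => 1) (χ : G → ℂ) g) else 0 :=
    fun χ => sum_eq_sum_ppEl (p := p) _
  rw [Finset.sum_congr rfl (fun χ _ => h1 χ), Finset.sum_comm]
  apply Finset.sum_congr rfl
  intro u _
  by_cases hu : ∃ k : ℕ, orderOf u = p ^ k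
  · rw [if_pos hu]
    haveI : Fintype (Subgroup.centralizer ((Subgroup.zpowers u : Subgroup G) : Set G)) :=
      Fintype.ofFinite _
    have hC : (Nat.card (Subgroup.centralizer ((Subgroup.zpowers u : Subgroup G) : Set G)) : ℂ)
        ≠ 0 := by
      exact_mod_cast (Nat.card_pos (α := Subgroup.centralizer
        ((Subgroup.zpowers u : Subgroup G) : Set G))).ne'
    have h2 : ∀ χ : IrrCharacter G, ∑ g : G, (if ppEl p g = u then
          starFun p M B m η (χ : G → ℂ) g
            * conj (starFun p M B m (fun _ => 1) (χ : G → ℂ) g) else 0)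
        = ∑ b ∈ inducingBlocks M
            (Subgroup.centralizer ((Subgroup.zpowers u : Subgroup G) : Set G)) B,
            etaFam p M m η ⟨Subgroup.zpowers u, b⟩ u
              * ((Nat.card (Subgroup.centralizer
                  ((Subgroup.zpowers u : Subgroup G) : Set G)) : ℂ)
                * subContrib p u (Subgroup.centralizer
                  ((Subgroup.zpowers u : Subgroup G) : Set G)) b (χ : G → ℂ) (χ : G → ℂ)) := by
      intro χ
      rw [sum_ppEl_starFun_mul_conj (B := B) hM m η (fun _ => 1) (χ : G → ℂ) (χ : G → ℂ)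
        (IsIrrCharacter.isClassFunction χ.2) (IsIrrCharacter.isClassFunction χ.2) u hu]
      apply Finset.sum_congr rfl
      intro b hb
      have hind := (mem_inducingBlocks _ _ _).mp hb
      have hBP : IsBrauerPairOf p M B (Subgroup.zpowers u) b :=
        (isBrauerPairOf_iff_isInducedBlock hM _ (isPGroup_zpowers u hu) b B).mpr hind
      have hex := exists_conj_le hM B m hmax ⟨Subgroup.zpowers u, b⟩ hBP
      rw [etaFam_one hex, map_one, mul_one]
      congr 1
      unfold subContrib
      rw [← mul_assoc, mul_inv_cancel₀ hC, one_mul]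
    rw [Finset.sum_congr rfl (fun χ _ => h2 χ), Finset.sum_comm]
    apply Finset.sum_congr rfl
    intro b hb
    have hind := (mem_inducingBlocks _ _ _).mp hb
    obtain ⟨ξ₀, hξ₀⟩ := hind.1
    subst hξ₀
    have h3 := sum_subContrib_self hM u hu
      (Subgroup.centralizer ((Subgroup.zpowers u : Subgroup G) : Set G))
      (centralizer_zpowers_eq u) ξ₀
    rw [← Finset.mul_sum, ← Finset.mul_sum, h3]
    ring
  · rw [if_neg hu]
    apply Finset.sum_eq_zero
    intro χ _
    exact sum_ppEl_eq_zero_of_not u hu _

end star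

end Cfsg.Agent.Lib.Helper6.Wat
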