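import Mathlib
import Cfsg.Agent.Lib.Helper6.WatStar
import Cfsg.Agent.Lib.Helper6.BlkSections
import Cfsg.Agent.Lib.Helper6.BrInert

/-!
The orbit count turning the subsection sum of the star identity into a sum over the defect group.
-/

set_option autoImplicit false
set_option linter.unusedSectionVars false
set_option maxHeartbeats 1600000

open Cfsg

namespace Cfsg.Agent.Lib.Helper6.Wat

open Cfsg.Agent.Lib.Helper6 Cfsg.Agent.Lib.Helper6.Star
open scoped ComplexConjugate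

section orb

variable {G : Type*} [Group G] [Fintype G] [DecidableEq G] {p : ℕ} [hp : Fact p.Prime]
  {M : Ideal Cfsg.AlgInt} {B : Set (IrrCharacter G)}

/-- conjugation on pairs (element, Brauer pair) -/
noncomputable def actX (g : G) (ω : G × BrauerPairIdx G) : G × BrauerPairIdx G :=
  (g * ω.1 * g⁻¹, conjPair g ω.2)

theorem actX_one (ω : G × BrauerPairIdx G) : actX 1 ω = ω := by
  apply Prod.ext
  · show (1 : G) * ω.1 * (1 : G)⁻¹ = ω.1
    group
  · show conjPair 1 ω.2 = ω.2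
    exact conjPair_one ω.2

theorem actX_mul (a b : G) (ω : G × BrauerPairIdx G) :
    actX (a * b) ω = actX a (actX b ω) := by
  apply Prod.ext
  · show a * b * ω.1 * (a * b)⁻¹ = a * (b * ω.1 * b⁻¹) * a⁻¹
    group
  · show conjPair (a * b) ω.2 = conjPair a (conjPair b ω.2)
    exact conjPair_mul a b ω.2

/-- the pairs (p-element, Brauer pair of `B` on the cyclic group it generates) -/
def OmegaPred (p : ℕ) (M : Ideal Cfsg.AlgInt) (B : Set (IrrCharacter G))
    (ω : G × BrauerPairIdx G) : Prop :=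
  (∃ k : ℕ, orderOf ω.1 = p ^ k) ∧ ω.2 ∈ pairsAt p M B ω.1

/-- the pairs (element of `P`, the Brauer pair on its cyclic group below `(P, e)`) -/
def SPred (p : ℕ) (M : Ideal Cfsg.AlgInt) (P : Subgroup G)
    (e : Set (IrrCharacter (Subgroup.centralizer (P : Set G))))
    (ω : G × BrauerPairIdx G) : Prop :=
  ω.1 ∈ P ∧ ω.2.1 = Subgroup.zpowers ω.1 ∧
    Relation.ReflTransGen (NormalSubpairRel p M) ω.2 ⟨P, e⟩

theorem map_conj_zpowers (g u : G) :
    (Subgroup.zpowers u).map (MulAut.conj g).toMonoidHom = Subgroup.zpowers (g * u * g⁻¹) := by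
  rw [MonoidHom.map_zpowers]
  rfl

theorem omegaPred_actX (g : G) {ω : G × BrauerPairIdx G} (h : OmegaPred p M B ω) :
    OmegaPred p M B (actX g ω) := by
  obtain ⟨⟨k, hk⟩, h1, h2⟩ := h
  refine ⟨⟨k, ?_⟩, ?_, ?_⟩
  · show orderOf (g * ω.1 * g⁻¹) = p ^ k
    rw [← hk, ← MulAut.conj_apply]
    exact MulEquiv.orderOf_eq _ _
  · show (ω.2.1).map (MulAut.conj g).toMonoidHom = Subgroup.zpowers (g * ω.1 * g⁻¹)
    rw [h1, map_conj_zpowers]
  · exact isBrauerPairOf_conj B ω.2.1 g ω.2.2 h2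

variable {P : Subgroup G} {e : Set (IrrCharacter (Subgroup.centralizer (P : Set G)))}

theorem sPred_actX (t : G) (htN : t ∈ Subgroup.normalizer (P : Set G))
    (htS : StabilizesBlock (Subgroup.centralizer (P : Set G)) e t)
    {ω : G × BrauerPairIdx G} (h : SPred p M P e ω) : SPred p M P e (actX t ω) := by
  obtain ⟨h1, h2, h3⟩ := h
  refine ⟨(Subgroup.mem_normalizer_iff.mp htN ω.1).mp h1, ?_, ?_⟩
  · show (ω.2.1).map (MulAut.conj t).toMonoidHom = Subgroup.zpowers (t * ω.1 * t⁻¹)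
    rw [h2, map_conj_zpowers]
  · have h4 := chain_conj t ω.2 ⟨P, e⟩ h3
    rw [conjPair_of_stab P e htN htS] at h4
    exact h4

theorem omegaPred_of_sPred (hM : IsPModular p M) (hmax : IsMaximalBrauerPair p M B P e)
    {ω : G × BrauerPairIdx G} (h : SPred p M P e ω) : OmegaPred p M B ω :=
  ⟨orderOf_of_mem_pGroup hmax.1.1.1 h.1, h.2.1,
    (isBrauerPairOf_iff_of_chain hM B hmax.1.2.1 ω.2 ⟨P, e⟩ h.2.2).mp hmax.1⟩

theorem exists_actX_sPred (hM : IsPModular p M) (hmax : IsMaximalBrauerPair p M B P e)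
    {ω : G × BrauerPairIdx G} (h : OmegaPred p M B ω) : ∃ g, SPred p M P e (actX g ω) := by
  obtain ⟨_, h1, h2⟩ := h
  obtain ⟨x, hx⟩ := exists_conj_le hM B ⟨P, e⟩ hmax ω.2 h2
  refine ⟨x, ?_, ?_, hx⟩
  · exact le_of_chain _ _ hx
      (conj_mem_map_conj ω.2.1 x (by rw [h1]; exact Subgroup.mem_zpowers _))
  · show (ω.2.1).map (MulAut.conj x).toMonoidHom = Subgroup.zpowers (x * ω.1 * x⁻¹)
    rw [h1, map_conj_zpowers]

theorem actX_eq_self_of_mem {ω : G × BrauerPairIdx G} (h1 : ω.2.1 = Subgroup.zpowers ω.1)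
    {z : G} (hz : z ∈ Subgroup.centralizer (ω.2.1 : Set G)) : actX z ω = ω := by
  obtain ⟨u, ⟨Q, f⟩⟩ := ω
  simp only at h1 hz
  apply Prod.ext
  · show z * u * z⁻¹ = u
    have h3 := Subgroup.mem_centralizer_iff.mp hz u (by rw [h1]; exact Subgroup.mem_zpowers u)
    rw [← h3]
    group
  · show conjPair z ⟨Q, f⟩ = ⟨Q, f⟩
    exact conjPair_of_mem_centralizer Q f hz

theorem mem_centralizer_of_conj_eq {ω : G × BrauerPairIdx G}
    (h1 : ω.2.1 = Subgroup.zpowers ω.1) {g : G} (hg : g * ω.1 * g⁻¹ = ω.1) :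
    g ∈ Subgroup.centralizer (ω.2.1 : Set G) := by
  rw [h1, centralizer_zpowers_eq, mem_centralizer_singleton_iff]
  calc ω.1 * g = (g * ω.1 * g⁻¹) * g := by rw [hg]
    _ = g * ω.1 := by group

theorem exists_actX_eq (hM : IsPModular p M) (hmax : IsMaximalBrauerPair p M B P e)
    (hab : ∀ x ∈ P, ∀ y ∈ P, x * y = y * x) {s : G × BrauerPairIdx G}
    (hs : SPred p M P e s) (g : G) (hgs : SPred p M P e (actX g s)) :
    ∃ t, (t ∈ Subgroup.normalizer (P : Set G) ∧
      StabilizesBlock (Subgroup.centralizer (P : Set G)) e t) ∧ actX t s = actX g s := by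
  obtain ⟨t, z, htN, htS, hz, hgz⟩ := fusion_abelian hM B P e hmax hab s.2 hs.2.2 g hgs.2.2
  refine ⟨t, ⟨htN, htS⟩, ?_⟩
  rw [hgz, actX_mul, actX_eq_self_of_mem hs.2.1 hz]

theorem weight_actX (hM : IsPModular p M) (hmax : IsMaximalBrauerPair p M B P e) {η : G → ℂ}
    (hη : IsStableFn p M ⟨P, e⟩ η) (g : G) {ω : G × BrauerPairIdx G}
    (h : OmegaPred p M B ω) :
    etaFam p M ⟨P, e⟩ η (actX g ω).2 (actX g ω).1 * (blockRank p (actX g ω).2.2 : ℂ)
      = etaFam p M ⟨P, e⟩ η ω.2 ω.1 * (blockRank p ω.2.2 : ℂ) := by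
  obtain ⟨_, h1, h2⟩ := h
  have hex := exists_conj_le hM B ⟨P, e⟩ hmax ω.2 h2
  have hmem : ω.1 ∈ ω.2.1 := by rw [h1]; exact Subgroup.mem_zpowers _
  have e1 : etaFam p M ⟨P, e⟩ η (actX g ω).2 (actX g ω).1 = etaFam p M ⟨P, e⟩ η ω.2 ω.1 :=
    etaFam_conj hη g hex hmem
  have e2 : blockRank p (actX g ω).2.2 = blockRank p ω.2.2 := by
    show blockRank p (conjBlock ω.2.1 g ω.2.2) = _
    rw [conjBlock_eq, blockRank_mapIrr_image]
  rw [e1, e2]

theorem card_stab_actX {ω : G × BrauerPairIdx G} (h : OmegaPred p M B ω) :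
    Nat.card (Subgroup.centralizer ((Subgroup.zpowers ω.1 : Subgroup G) : Set G))
      = Nat.card {g : G // actX g ω = ω} := by
  obtain ⟨_, h1, _⟩ := h
  apply Nat.card_congr
  apply Equiv.subtypeEquivRight
  intro g
  constructor
  · intro hg
    apply actX_eq_self_of_mem h1
    rw [h1]
    exact hg
  · intro hg
    have h3 : g * ω.1 * g⁻¹ = ω.1 := congrArg Prod.fst hg
    have h4 := mem_centralizer_of_conj_eq h1 h3
    rw [h1] at h4
    exact h4

theorem card_stab_T {s : G × BrauerPairIdx G} (hs : SPred p M P e s) (T : Subgroup G) :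
    Nat.card {g : G // g ∈ T ∧ g * s.1 * g⁻¹ = s.1}
      = Nat.card {g : G // g ∈ T ∧ actX g s = s} := by
  apply Nat.card_congr
  apply Equiv.subtypeEquivRight
  intro g
  constructor
  · rintro ⟨h1, h2⟩
    exact ⟨h1, actX_eq_self_of_mem hs.2.1 (mem_centralizer_of_conj_eq hs.2.1 h2)⟩
  · rintro ⟨h1, h2⟩
    exact ⟨h1, congrArg Prod.fst h2⟩

open Classical in
/-- **the star identity** for a maximal pair with abelian group -/
theorem star_identity (hM : IsPModular p M) (P : Subgroup G)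
    (e : Set (IrrCharacter (Subgroup.centralizer (P : Set G))))
    (hmax : IsMaximalBrauerPair p M B P e) (hab : ∀ x ∈ P, ∀ y ∈ P, x * y = y * x)
    (T : Subgroup G)
    (hT : ∀ g : G, g ∈ T ↔ (g ∈ Subgroup.normalizer (P : Set G) ∧
      StabilizesBlock (Subgroup.centralizer (P : Set G)) e g))
    [(commSub P T).Normal] (lam : (↥P ⧸ commSub P T) →* ℂˣ) (ℓs : G → ℕ)
    (hℓ : ∀ v ∈ P, ∀ b : Set (IrrCharacter
        (Subgroup.centralizer ((Subgroup.zpowers v : Subgroup G) : Set G))),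
      SubpairLE p M (Subgroup.zpowers v) b P e → blockRank p b = ℓs v) :
    (Nat.card T : ℂ) * (if lam = 1 then (Nat.card B : ℂ) else 0)
      = ∑ v : ↥P, (Nat.card {g : G // g ∈ T ∧ g * (v : G) * g⁻¹ = (v : G)} : ℂ)
          * ((lam (QuotientGroup.mk v) : ℂˣ) : ℂ) * (ℓs (v : G) : ℂ) := by
  haveI : Fintype (IrrCharacter G) := Fintype.ofFinite _
  haveI : Fintype (BrauerPairIdx G) := Fintype.ofFinite _
  have hB := hmax.1.2.1
  have hPe := hmax.1.1
  have hfus := fusControl_commSub hM B P e hmax hab T hT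
  obtain ⟨η, hηdef⟩ : ∃ η : G → ℂ, η = etaOf P (commSub P T) lam := ⟨_, rfl⟩
  have hη : IsStableFn p M ⟨P, e⟩ η := by
    rw [hηdef]
    exact isStableFn_etaOf rfl hfus lam
  have hG : (Nat.card G : ℂ) ≠ 0 := by exact_mod_cast (Nat.card_pos (α := G)).ne'
  -- Step A
  have hA : ∑ χ : IrrCharacter G, ∑ g : G, starFun p M B ⟨P, e⟩ η (χ : G → ℂ) g
        * conj (starFun p M B ⟨P, e⟩ (fun _ => 1) (χ : G → ℂ) g)
      = (Nat.card G : ℂ) * (if lam = 1 then (Nat.card B : ℂ) else 0) := by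
    rw [← sum_classInner_starFun_etaOf hM e hmax hab hfus lam, Finset.mul_sum]
    apply Finset.sum_congr rfl
    intro χ _
    by_cases hχ : χ ∈ B
    · rw [if_pos hχ, starFun_one hM hB ⟨P, e⟩ hmax χ hχ, ← hηdef]
      unfold classInner
      rw [← mul_assoc, mul_inv_cancel₀ hG, one_mul]
    · rw [if_neg hχ, mul_zero, starFun_of_not_mem hM ⟨P, e⟩ (fun _ => 1) χ hχ]
      simp
  rw [sum_starFun_mul_conj_eq hM ⟨P, e⟩ hmax η] at hA
  -- Step C
  obtain ⟨W, hWdef⟩ : ∃ W : G × BrauerPairIdx G → ℂ,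
      W = fun ω => etaFam p M ⟨P, e⟩ η ω.2 ω.1 * (blockRank p ω.2.2 : ℂ) := ⟨_, rfl⟩
  obtain ⟨cΓ, hcΓdef⟩ : ∃ cΓ : G × BrauerPairIdx G → ℕ,
      cΓ = fun ω => Nat.card (Subgroup.centralizer
        ((Subgroup.zpowers ω.1 : Subgroup G) : Set G)) := ⟨_, rfl⟩
  obtain ⟨cT, hcTdef⟩ : ∃ cT : G × BrauerPairIdx G → ℕ,
      cT = fun s => Nat.card {g : G // g ∈ T ∧ g * s.1 * g⁻¹ = s.1} := ⟨_, rfl⟩
  obtain ⟨ΩX, hΩdef⟩ : ∃ ΩX : Finset (G × BrauerPairIdx G),
      ΩX = Finset.univ.filter (fun ω => OmegaPred p M B ω) := ⟨_, rfl⟩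
  obtain ⟨SX, hSdef⟩ : ∃ SX : Finset (G × BrauerPairIdx G),
      SX = Finset.univ.filter (fun ω => SPred p M P e ω) := ⟨_, rfl⟩
  have hΩmem : ∀ ω, ω ∈ ΩX ↔ OmegaPred p M B ω := by
    intro ω
    rw [hΩdef]
    simp
  have hSmem : ∀ ω, ω ∈ SX ↔ SPred p M P e ω := by
    intro ω
    rw [hSdef]
    simp
  have hC : (∑ u : G, if (∃ k : ℕ, orderOf u = p ^ k) then
          ∑ b ∈ inducingBlocks M
              (Subgroup.centralizer ((Subgroup.zpowers u : Subgroup G) : Set G)) B,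
            etaFam p M ⟨P, e⟩ η ⟨Subgroup.zpowers u, b⟩ u
              * (Nat.card (Subgroup.centralizer ((Subgroup.zpowers u : Subgroup G) : Set G)) : ℂ)
              * (blockRank p b : ℂ)
        else 0)
      = ∑ ω ∈ ΩX, (cΓ ω : ℂ) * W ω := by
    rw [hΩdef, Finset.sum_filter, Fintype.sum_prod_type]
    apply Finset.sum_congr rfl
    intro u _
    by_cases hu : ∃ k : ℕ, orderOf u = p ^ k
    · rw [if_pos hu]
      have hfp : ∑ᶠ 𝔰 ∈ pairsAt p M B u, etaFam p M ⟨P, e⟩ η 𝔰 u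
            * (Nat.card (Subgroup.centralizer ((Subgroup.zpowers u : Subgroup G) : Set G)) : ℂ)
            * (blockRank p 𝔰.2 : ℂ)
          = ∑ b ∈ inducingBlocks M
              (Subgroup.centralizer ((Subgroup.zpowers u : Subgroup G) : Set G)) B,
            etaFam p M ⟨P, e⟩ η ⟨Subgroup.zpowers u, b⟩ u
              * (Nat.card (Subgroup.centralizer ((Subgroup.zpowers u : Subgroup G) : Set G)) : ℂ)
              * (blockRank p b : ℂ) :=
        finsum_pairsAt (B := B) hM u hu (fun 𝔰 => etaFam p M ⟨P, e⟩ η 𝔰 u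
            * (Nat.card (Subgroup.centralizer ((Subgroup.zpowers u : Subgroup G) : Set G)) : ℂ)
            * (blockRank p 𝔰.2 : ℂ))
      rw [← hfp, finsum_mem_eq_sum_filter_lib, Finset.sum_filter]
      apply Finset.sum_congr rfl
      intro 𝔰 _
      by_cases h𝔰 : 𝔰 ∈ pairsAt p M B u
      · have hom : OmegaPred p M B (u, 𝔰) := ⟨hu, h𝔰⟩
        rw [if_pos h𝔰, if_pos hom, hWdef, hcΓdef]
        ring
      · have hom : ¬ OmegaPred p M B (u, 𝔰) := fun h => h𝔰 h.2
        rw [if_neg h𝔰, if_neg hom]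
    · rw [if_neg hu]
      symm
      apply Finset.sum_eq_zero
      intro 𝔰 _
      rw [if_neg]
      exact fun h => hu h.1
  rw [hC] at hA
  -- Step D
  have hOC := orbit_count' (actX (G := G)) actX_one actX_mul T ΩX SX
    (fun g ω h => (hΩmem _).mpr (omegaPred_actX g ((hΩmem _).mp h)))
    (fun t ht s h => (hSmem _).mpr (sPred_actX t ((hT t).mp ht).1 ((hT t).mp ht).2
      ((hSmem _).mp h)))
    (fun s h => (hΩmem _).mpr (omegaPred_of_sPred hM hmax ((hSmem _).mp h)))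
    (fun ω h => by
      obtain ⟨g, hg⟩ := exists_actX_sPred (P := P) (e := e) hM hmax ((hΩmem _).mp h)
      exact ⟨g, (hSmem _).mpr hg⟩)
    (fun s hs g hg => by
      obtain ⟨t, ht, h⟩ := exists_actX_eq hM hmax hab ((hSmem _).mp hs) g ((hSmem _).mp hg)
      exact ⟨t, (hT t).mpr ht, h⟩)
    W (by
      intro g ω h
      rw [hWdef]
      exact weight_actX hM hmax hη g ((hΩmem _).mp h))
    cΓ cT (by
      intro ω h
      rw [hcΓdef]
      exact card_stab_actX ((hΩmem _).mp h))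
    (by
      intro s h
      rw [hcTdef]
      exact card_stab_T ((hSmem _).mp h) T)
  -- Step E
  have hE : ∑ s ∈ SX, (cT s : ℂ) * W s
      = ∑ v : ↥P, (Nat.card {g : G // g ∈ T ∧ g * (v : G) * g⁻¹ = (v : G)} : ℂ)
          * ((lam (QuotientGroup.mk v) : ℂˣ) : ℂ) * (ℓs (v : G) : ℂ) := by
    have hsub : ∀ v : ↥P, ∃ b : Set (IrrCharacter
        (Subgroup.centralizer ((Subgroup.zpowers (v : G) : Subgroup G) : Set G))),
        IsPBlock M b ∧ SubpairLE p M (Subgroup.zpowers (v : G)) b P e :=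
      fun v => exists_subpair hM hPe (by rw [Subgroup.zpowers_le]; exact v.2)
    choose β hβ1 hβ2 using hsub
    refine Finset.sum_bij' (s := SX) (t := (Finset.univ : Finset ↥P))
      (fun (s : G × BrauerPairIdx G) (hs : s ∈ SX) => (⟨s.1, ((hSmem s).mp hs).1⟩ : ↥P))
      (fun (v : ↥P) _ => ((v : G), (⟨Subgroup.zpowers (v : G), β v⟩ : BrauerPairIdx G)))
      ?_ ?_ ?_ ?_ ?_
    · intro s hs
      exact Finset.mem_univ _
    · intro v _
      exact (hSmem _).mpr ⟨v.2, rfl, hβ2 v⟩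
    · intro s hs
      obtain ⟨h1, h2, h3⟩ := (hSmem s).mp hs
      obtain ⟨u, ⟨Q, f⟩⟩ := s
      simp only at h1 h2 h3 ⊢
      subst h2
      have h5 : β ⟨u, h1⟩ = f := subpair_unique hM hPe (hβ2 ⟨u, h1⟩) h3
      rw [h5]
    · intro v _
      rfl
    · intro s hs
      obtain ⟨h1, h2, h3⟩ := (hSmem s).mp hs
      rw [hcTdef, hWdef]
      simp only
      have hconj1 : Relation.ReflTransGen (NormalSubpairRel p M) (conjPair 1 s.2) ⟨P, e⟩ := by
        rw [conjPair_one]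
        exact h3
      have hmem : s.1 ∈ s.2.1 := by
        rw [h2]
        exact Subgroup.mem_zpowers _
      rw [etaFam_eq hη hconj1 hmem]
      have h4 : (1 : G) * s.1 * (1 : G)⁻¹ = s.1 := by group
      rw [h4, hηdef, etaOf_of_mem P (commSub P T) lam h1]
      have h5 : blockRank p s.2.2 = ℓs s.1 := by
        obtain ⟨u, ⟨Q, f⟩⟩ := s
        simp only at h1 h2 h3 ⊢
        subst h2
        exact hℓ u h1 f h3
      rw [h5]
      ring
  rw [hE] at hOC
  rw [hA] at hOC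
  have h6 : (Nat.card G : ℂ) * ((Nat.card T : ℂ) * (if lam = 1 then (Nat.card B : ℂ) else 0))
      = (Nat.card G : ℂ) * ∑ v : ↥P,
          (Nat.card {g : G // g ∈ T ∧ g * (v : G) * g⁻¹ = (v : G)} : ℂ)
          * ((lam (QuotientGroup.mk v) : ℂˣ) : ℂ) * (ℓs (v : G) : ℂ) := by
    rw [← hOC]
    ring
  exact mul_left_cancel₀ hG h6

end orb

end Cfsg.Agent.Lib.Helper6.Wat
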