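import Mathlib
import Cfsg.Agent.Lib.Helper6.WatOrb

/-!
Consequences of the star identity: the count of the characters of a block with abelian defect
group through the subsections of the defect group, and the comparison of subsection ranks along
an element fixed by the inertial group.
-/

set_option autoImplicit false
set_option linter.unusedSectionVars false
set_option maxHeartbeats 1600000

open Cfsg

namespace Cfsg.Agent.Lib.Helper6.Wat

open Cfsg.Agent.Lib.Helper6 Cfsg.Agent.Lib.Helper6.Star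
open scoped ComplexConjugate

section cor

variable {G : Type*} [Group G] [Fintype G] [DecidableEq G] {p : ℕ} [hp : Fact p.Prime]
  {M : Ideal Cfsg.AlgInt} {B : Set (IrrCharacter G)}

/-- an element of `[P, T]` fixed by the inertial group `T` is trivial -/
theorem eq_one_of_mem_commSub_of_fixed (hM : IsPModular p M) (P : Subgroup G)
    (e : Set (IrrCharacter (Subgroup.centralizer (P : Set G))))
    (hmax : IsMaximalBrauerPair p M B P e) (hab : ∀ x ∈ P, ∀ y ∈ P, x * y = y * x)
    (T : Subgroup G)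
    (hT : ∀ g : G, g ∈ T ↔ (g ∈ Subgroup.normalizer (P : Set G) ∧
      StabilizesBlock (Subgroup.centralizer (P : Set G)) e g))
    (w : ↥P) (hw : w ∈ commSub P T) (hfix : ∀ t ∈ T, t * (w : G) * t⁻¹ = (w : G)) : w = 1 := by
  classical
  have hTN : T ≤ Subgroup.normalizer (P : Set G) := fun t ht => ((hT t).mp ht).1
  have hPcomm : IsMulCommutative ↥P := ⟨⟨fun a b => Subtype.ext (hab a a.2 b b.2)⟩⟩
  obtain ⟨φ, hφdef⟩ : ∃ φ : ↥T →* MulAut ↥P,
      φ = (P.normalizerMonoidHom).comp (Subgroup.inclusion hTN) := ⟨_, rfl⟩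
  have hφ : ∀ (t : ↥T) (x : ↥P), ((φ t x : ↥P) : G) = (t : G) * (x : G) * (t : G)⁻¹ := by
    intro t x
    rw [hφdef]
    exact nAut_apply_coe P (t : G) (hTN t.2) x
  apply eq_one_of_mem_commutator_of_fixed hPcomm φ.range w
  · have hsub : {z : ↥P | ∃ (x : ↥P) (t : G), t ∈ T ∧
          (z : G) = (x : G)⁻¹ * (t * (x : G) * t⁻¹)}
        ⊆ {z : ↥P | ∃ (x : ↥P) (a : MulAut ↥P), a ∈ φ.range ∧ z = x⁻¹ * a x} := by
      rintro z ⟨x, t, ht, hz⟩
      refine ⟨x, φ ⟨t, ht⟩, ⟨⟨t, ht⟩, rfl⟩, ?_⟩
      apply Subtype.ext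
      rw [hz, Subgroup.coe_mul, Subgroup.coe_inv, hφ]
    exact Subgroup.closure_mono hsub hw
  · rintro a ⟨t, rfl⟩
    apply Subtype.ext
    rw [hφ]
    exact hfix t t.2
  · obtain ⟨k, hk⟩ := (IsPGroup.iff_orderOf.mp hmax.1.1.1) w
    rw [hk]
    apply Nat.Coprime.pow_right
    rw [Nat.coprime_comm, Nat.Prime.coprime_iff_not_dvd hp.out]
    have h1 := not_dvd_relIndex_of_maximal hM B P e hmax T hT
    have hsup : P ⊔ Subgroup.centralizer (P : Set G) = Subgroup.centralizer (P : Set G) := by
      apply sup_eq_right.mpr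
      intro a ha
      rw [Subgroup.mem_centralizer_iff]
      intro b hb
      exact hab b hb a ha
    rw [hsup] at h1
    have hker : φ.ker = (Subgroup.centralizer (P : Set G)).subgroupOf T := by
      ext t
      rw [MonoidHom.mem_ker, Subgroup.mem_subgroupOf, Subgroup.mem_centralizer_iff]
      constructor
      · intro ht x hx
        have h2 := hφ t ⟨x, hx⟩
        rw [ht, MulAut.one_apply] at h2
        have h3 : (t : G) * x * (t : G)⁻¹ = x := h2.symm
        calc x * (t : G) = ((t : G) * x * (t : G)⁻¹) * (t : G) := by rw [h3]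
          _ = (t : G) * x := by group
      · intro ht
        apply MulEquiv.ext
        intro x
        apply Subtype.ext
        rw [hφ, MulAut.one_apply]
        have h2 := ht (x : G) x.2
        rw [← h2]
        group
    have hcard : Nat.card φ.range = (Subgroup.centralizer (P : Set G)).relIndex T := by
      rw [← Subgroup.index_ker, hker]
      rfl
    rw [hcard]
    exact h1

/-- the number of characters of a block with abelian defect group, through the subsections -/
theorem card_mul_card_eq_finsum (hM : IsPModular p M) (P : Subgroup G)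
    (e : Set (IrrCharacter (Subgroup.centralizer (P : Set G))))
    (hmax : IsMaximalBrauerPair p M B P e) (hab : ∀ x ∈ P, ∀ y ∈ P, x * y = y * x)
    (T : Subgroup G)
    (hT : ∀ g : G, g ∈ T ↔ (g ∈ Subgroup.normalizer (P : Set G) ∧
      StabilizesBlock (Subgroup.centralizer (P : Set G)) e g))
    (ℓs : G → ℕ)
    (hℓ : ∀ v ∈ P, ∀ b : Set (IrrCharacter
        (Subgroup.centralizer ((Subgroup.zpowers v : Subgroup G) : Set G))),
      SubpairLE p M (Subgroup.zpowers v) b P e → blockRank p b = ℓs v) :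
    Nat.card T * Nat.card B
      = ∑ᶠ v : ↥P, Nat.card {g : G // g ∈ T ∧ g * (v : G) * g⁻¹ = (v : G)} * ℓs (v : G) := by
  classical
  haveI := commSub_normal P T hab
  have h := star_identity hM P e hmax hab T hT (1 : (↥P ⧸ commSub P T) →* ℂˣ) ℓs hℓ
  rw [if_pos rfl] at h
  rw [finsum_eq_sum_of_fintype]
  apply Nat.cast_injective (R := ℂ)
  rw [Nat.cast_mul, h, Nat.cast_sum]
  apply Finset.sum_congr rfl
  intro v _
  rw [MonoidHom.one_apply, Units.val_one, mul_one, Nat.cast_mul]

/-- comparison of the subsection ranks along an element fixed by the inertial group -/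
theorem rank_eq_of_fixed (hM : IsPModular p M) (P : Subgroup G)
    (e : Set (IrrCharacter (Subgroup.centralizer (P : Set G))))
    (hmax : IsMaximalBrauerPair p M B P e) (hab : ∀ x ∈ P, ∀ y ∈ P, x * y = y * x)
    (T : Subgroup G)
    (hT : ∀ g : G, g ∈ T ↔ (g ∈ Subgroup.normalizer (P : Set G) ∧
      StabilizesBlock (Subgroup.centralizer (P : Set G)) e g))
    (ℓs : G → ℕ)
    (hℓ : ∀ v ∈ P, ∀ b : Set (IrrCharacter
        (Subgroup.centralizer ((Subgroup.zpowers v : Subgroup G) : Set G))),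
      SubpairLE p M (Subgroup.zpowers v) b P e → blockRank p b = ℓs v)
    (u : G) (hu : u ∈ P) (huT : ∀ t ∈ T, t * u * t⁻¹ = u)
    (hstep : ∀ w ∈ P, (¬ ∀ t ∈ T, t * w * t⁻¹ = w) → ℓs (u * w) = ℓs w) : ℓs u = ℓs 1 := by
  classical
  haveI hNn := commSub_normal P T hab
  haveI : Fintype (↥P ⧸ commSub P T) := Fintype.ofFinite _
  have hA : IsMulCommutative (↥P ⧸ commSub P T) := by
    constructor
    constructor
    intro a b
    induction a using QuotientGroup.induction_on with
    | _ a =>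
      induction b using QuotientGroup.induction_on with
      | _ b =>
        rw [← QuotientGroup.mk_mul, ← QuotientGroup.mk_mul]
        congr 1
        exact Subtype.ext (hab a a.2 b b.2)
  obtain ⟨cnt, hcntdef⟩ : ∃ cnt : ↥P → ℕ,
      cnt = fun v : ↥P => Nat.card {g : G // g ∈ T ∧ g * (v : G) * g⁻¹ = (v : G)} := ⟨_, rfl⟩
  obtain ⟨F, hFdef⟩ : ∃ F : (↥P ⧸ commSub P T) → ℂ,
      F = fun a => ∑ v : ↥P, if a = QuotientGroup.mk v then (cnt v : ℂ) * (ℓs (v : G) : ℂ)
        else 0 := ⟨_, rfl⟩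
  have hfour : ∀ lam : (↥P ⧸ commSub P T) →* ℂˣ, lam ≠ 1 →
      ∑ a, F a * ((lam a : ℂˣ) : ℂ) = 0 := by
    intro lam hlam
    have h := star_identity hM P e hmax hab T hT lam ℓs hℓ
    rw [if_neg hlam, mul_zero] at h
    calc ∑ a, F a * ((lam a : ℂˣ) : ℂ)
        = ∑ a, ∑ v : ↥P, (if a = QuotientGroup.mk v then
            (cnt v : ℂ) * (ℓs (v : G) : ℂ) * ((lam a : ℂˣ) : ℂ) else 0) := by
          rw [hFdef]
          apply Finset.sum_congr rfl
          intro a _
          rw [Finset.sum_mul]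
          apply Finset.sum_congr rfl
          intro v _
          rw [ite_mul, zero_mul]
      _ = ∑ v : ↥P, ∑ a, (if a = QuotientGroup.mk v then
            (cnt v : ℂ) * (ℓs (v : G) : ℂ) * ((lam a : ℂˣ) : ℂ) else 0) := Finset.sum_comm
      _ = ∑ v : ↥P, (cnt v : ℂ) * (ℓs (v : G) : ℂ)
            * ((lam (QuotientGroup.mk v) : ℂˣ) : ℂ) := by
          apply Finset.sum_congr rfl
          intro v _
          rw [Finset.sum_ite_eq' Finset.univ (QuotientGroup.mk v : ↥P ⧸ commSub P T),
            if_pos (Finset.mem_univ _)]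
      _ = 0 := by
          rw [h]
          apply Finset.sum_congr rfl
          intro v _
          rw [hcntdef]
          ring
  obtain ⟨u₀, hu₀⟩ : ∃ u₀ : ↥P, u₀ = ⟨u, hu⟩ := ⟨_, rfl⟩
  have hu₀c : (u₀ : G) = u := by rw [hu₀]
  have hconst := const_of_fourier hA F hfour (QuotientGroup.mk u₀)
  have hFu : F (QuotientGroup.mk u₀)
      = ∑ w : ↥P, if w ∈ commSub P T then (cnt w : ℂ) * (ℓs (u * (w : G)) : ℂ) else 0 := by
    rw [hFdef]
    simp only
    rw [← Equiv.sum_comp (Equiv.mulLeft u₀)]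
    apply Finset.sum_congr rfl
    intro w _
    rw [Equiv.coe_mulLeft]
    have hiff : ((QuotientGroup.mk u₀ : ↥P ⧸ commSub P T) = QuotientGroup.mk (u₀ * w))
        ↔ w ∈ commSub P T := by
      rw [QuotientGroup.eq, inv_mul_cancel_left]
    by_cases hw : w ∈ commSub P T
    · rw [if_pos (hiff.mpr hw), if_pos hw]
      have hc : cnt (u₀ * w) = cnt w := by
        rw [hcntdef]
        apply Nat.card_congr
        apply Equiv.subtypeEquivRight
        intro g
        have h4 : g * (u * (w : G)) * g⁻¹ = (g * u * g⁻¹) * (g * (w : G) * g⁻¹) := by group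
        constructor
        · rintro ⟨h1, h2⟩
          refine ⟨h1, ?_⟩
          have h3 := huT g h1
          rw [Subgroup.coe_mul, hu₀c, h4, h3] at h2
          exact mul_left_cancel h2
        · rintro ⟨h1, h2⟩
          refine ⟨h1, ?_⟩
          have h3 := huT g h1
          rw [Subgroup.coe_mul, hu₀c, h4, h3, h2]
      rw [hc, Subgroup.coe_mul, hu₀c]
    · rw [if_neg (fun h => hw (hiff.mp h)), if_neg hw]
  have hF1 : F 1 = ∑ w : ↥P, if w ∈ commSub P T then (cnt w : ℂ) * (ℓs (w : G) : ℂ) else 0 := by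
    rw [hFdef]
    simp only
    apply Finset.sum_congr rfl
    intro w _
    have hiff : ((1 : ↥P ⧸ commSub P T) = QuotientGroup.mk w) ↔ w ∈ commSub P T := by
      rw [← QuotientGroup.mk_one, QuotientGroup.eq, inv_one, one_mul]
    by_cases hw : w ∈ commSub P T
    · rw [if_pos (hiff.mpr hw), if_pos hw]
    · rw [if_neg (fun h => hw (hiff.mp h)), if_neg hw]
  rw [hFu, hF1] at hconst
  have hD : ∑ w : ↥P, ((if w ∈ commSub P T then (cnt w : ℂ) * (ℓs (u * (w : G)) : ℂ) else 0)
      - (if w ∈ commSub P T then (cnt w : ℂ) * (ℓs (w : G) : ℂ) else 0)) = 0 := by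
    rw [Finset.sum_sub_distrib, hconst, sub_self]
  rw [Finset.sum_eq_single (1 : ↥P)] at hD
  · rw [if_pos (Subgroup.one_mem _), if_pos (Subgroup.one_mem _)] at hD
    simp only [Subgroup.coe_one, mul_one] at hD
    have hc1 : (cnt 1 : ℂ) ≠ 0 := by
      rw [hcntdef]
      simp only
      haveI : Nonempty {g : G // g ∈ T ∧ g * ((1 : ↥P) : G) * g⁻¹ = ((1 : ↥P) : G)} :=
        ⟨⟨1, T.one_mem, by simp⟩⟩
      exact_mod_cast (Nat.card_pos (α := {g : G // g ∈ T ∧
        g * ((1 : ↥P) : G) * g⁻¹ = ((1 : ↥P) : G)})).ne'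
    have h7 : (cnt 1 : ℂ) * ((ℓs u : ℂ) - (ℓs 1 : ℂ)) = 0 := by
      rw [mul_sub]
      exact hD
    have h8 := (mul_eq_zero.mp h7).resolve_left hc1
    exact_mod_cast sub_eq_zero.mp h8
  · intro w _ hw1
    by_cases hw : w ∈ commSub P T
    · rw [if_pos hw, if_pos hw]
      have hnf : ¬ ∀ t ∈ T, t * (w : G) * t⁻¹ = (w : G) := by
        intro hfix
        exact hw1 (eq_one_of_mem_commSub_of_fixed hM P e hmax hab T hT w hw hfix)
      rw [hstep (w : G) w.2 hnf, sub_self]
    · rw [if_neg hw, if_neg hw, sub_self]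
  · intro h
    exact absurd (Finset.mem_univ _) h

end cor

end Cfsg.Agent.Lib.Helper6.Wat
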