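import Mathlib
import Cfsg.Agent.Lib.Helper6.WatCor
import Cfsg.Agent.Lib.Helper6.BrIndIn
import Cfsg.Agent.Lib.Helper6.MajorFusion2
import Cfsg.Agent.Lib.Helper6.HKRelFM
import Cfsg.Agent.Lib.Helper6.KfTop2
import Cfsg.Agent.Lib.Helper6.BlkBrauer
import Cfsg.Agent.Lib.Helper6.BlkPairs

/-!
Blocks of intermediate subgroups induced from the root of a block with abelian defect group:
the rank function on subgroups, its compatibility with passing to a centralizer, and the
consequences of the star identity in this language.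
-/

set_option autoImplicit false
set_option linter.unusedSectionVars false
set_option maxHeartbeats 1600000

open Cfsg

namespace Cfsg.Agent.Lib.Helper6.Wat

open Cfsg.Agent.Lib.Helper6 Cfsg.Agent.Lib.Helper6.Star
open scoped ComplexConjugate

section rel

variable {G : Type*} [Group G] [Fintype G] [DecidableEq G] {p : ℕ} [hp : Fact p.Prime]
  {M : Ideal Cfsg.AlgInt}

/-- a subgroup of the group `L`, and the corresponding subgroup of the ambient group -/
noncomputable def relEquiv (L : Subgroup G) (H' : Subgroup ↥L) (H : Subgroup G)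
    (hmem : ∀ x : ↥L, x ∈ H' ↔ (x : G) ∈ H) (hHL : H ≤ L) : ↥H' ≃* ↥H where
  toFun a := ⟨((a : ↥L) : G), (hmem a).mp a.2⟩
  invFun b := ⟨⟨(b : G), hHL b.2⟩, (hmem _).mpr b.2⟩
  left_inv _ := rfl
  right_inv _ := rfl
  map_mul' _ _ := rfl

theorem relEquiv_apply_coe (L : Subgroup G) (H' : Subgroup ↥L) (H : Subgroup G)
    (hmem : ∀ x : ↥L, x ∈ H' ↔ (x : G) ∈ H) (hHL : H ≤ L) (a : ↥H') :
    ((relEquiv L H' H hmem hHL a : ↥H) : G) = ((a : ↥L) : G) := rfl

/-- block induction between subgroups of the group `L`, read in the ambient group -/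
theorem isInducedBlockIn_of_rel (L : Subgroup G) (H' K' : Subgroup ↥L) (H K : Subgroup G)
    (eH : ↥H' ≃* ↥H) (heH : ∀ a : ↥H', ((eH a : ↥H) : G) = ((a : ↥L) : G))
    (eK : ↥K' ≃* ↥K) (heK : ∀ a : ↥K', ((eK a : ↥K) : G) = ((a : ↥L) : G))
    {e : Set (IrrCharacter ↥K')} {f : Set (IrrCharacter ↥H')}
    (h : IsInducedBlockIn M H' K' e f) :
    IsInducedBlockIn M H K (mapIrr eK '' e) (mapIrr eH '' f) := by
  obtain ⟨h1, h2, h3⟩ := h
  refine ⟨isPBlock_mapIrr_image eK h1, isPBlock_mapIrr_image eH h2, ?_⟩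
  rintro _ ⟨ξ, hξ, rfl⟩ _ ⟨χ, hχ, rfl⟩ hh
  have h4 := h3 ξ hξ χ hχ (eH.symm hh)
  have a3 : (((eH.symm hh : ↥H') : ↥L) : G) = (hh : G) := by
    rw [← heH, eH.apply_symm_apply]
  have e1 : inducedCentralCharIn H K ((mapIrr eK ξ : IrrCharacter ↥K) : ↥K → ℂ) (hh : G)
      = inducedCentralCharIn H' K' (ξ : ↥K' → ℂ) (((eH.symm hh : ↥H') : ↥L)) := by
    unfold inducedCentralCharIn
    have himg : {k : ↥K | ∃ x : ↥H, (x : G) * (k : G) * (x : G)⁻¹ = (hh : G)}
        = eK '' {k' : ↥K' | ∃ x' : ↥H', ((x' : ↥L)) * ((k' : ↥L)) * ((x' : ↥L))⁻¹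
            = ((eH.symm hh : ↥H') : ↥L)} := by
      ext k
      constructor
      · rintro ⟨x, hx⟩
        refine ⟨eK.symm k, ⟨eH.symm x, ?_⟩, eK.apply_symm_apply k⟩
        apply Subtype.ext
        simp only [Subgroup.coe_mul, Subgroup.coe_inv]
        have a1 : (((eH.symm x : ↥H') : ↥L) : G) = (x : G) := by
          rw [← heH, eH.apply_symm_apply]
        have a2 : (((eK.symm k : ↥K') : ↥L) : G) = (k : G) := by
          rw [← heK, eK.apply_symm_apply]
        rw [a1, a2, a3, hx]
      · rintro ⟨k', ⟨x', hx'⟩, rfl⟩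
        refine ⟨eH x', ?_⟩
        rw [heH, heK, ← a3, ← hx']
        simp only [Subgroup.coe_mul, Subgroup.coe_inv]
    rw [himg, finsum_mem_image (eK.injective.injOn)]
    apply finsum_mem_congr rfl
    intro k' _
    rw [mapIrr_apply_apply, mapIrr_apply_one]
  have e2 : centralChar ((mapIrr eH χ : IrrCharacter ↥H) : ↥H → ℂ) hh
      = centralChar (χ : ↥H' → ℂ) (eH.symm hh) :=
    centralChar_comp_mulEquiv eH.symm (χ : ↥H' → ℂ) hh
  rw [e1, e2]
  exact h4

/-- for a maximal pair with abelian group, the pairs below it are induced (inside the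
centralizers) from the block of the maximal pair -/
theorem isInducedBlockIn_of_subpairLE (hM : IsPModular p M) (B : Set (IrrCharacter G))
    (P : Subgroup G) (e : Set (IrrCharacter (Subgroup.centralizer (P : Set G))))
    (hmax : IsMaximalBrauerPair p M B P e) (hab : ∀ x ∈ P, ∀ y ∈ P, x * y = y * x)
    (Q : Subgroup G) (f : Set (IrrCharacter (Subgroup.centralizer (Q : Set G))))
    (hle : SubpairLE p M Q f P e) :
    IsInducedBlockIn M (Subgroup.centralizer (Q : Set G)) (Subgroup.centralizer (P : Set G))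
      e f := by
  classical
  haveI : Fintype (Subgroup.centralizer (Q : Set G)) := Fintype.ofFinite _
  have hQP : Q ≤ P := le_of_chain ⟨Q, f⟩ ⟨P, e⟩ hle
  have hPL : P ≤ Subgroup.centralizer (Q : Set G) := by
    intro u hu
    rw [Subgroup.mem_centralizer_iff]
    intro q hq
    exact hab q (hQP hq) u hu
  have hCL : Subgroup.centralizer (P : Set G) ≤ Subgroup.centralizer (Q : Set G) :=
    Subgroup.centralizer_le hQP
  have hmaxL := isMaximalBrauerPair_rel_of_abelian hM B P e hmax hab Q f hle hPL hCL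
  haveI : Fintype (Subgroup.centralizer
      ((P.subgroupOf (Subgroup.centralizer (Q : Set G)) :
        Subgroup ↥(Subgroup.centralizer (Q : Set G))) :
        Set ↥(Subgroup.centralizer (Q : Set G)))) := Fintype.ofFinite _
  have hind := (isBrauerPairOf_iff_isInducedBlock hM _ hmaxL.1.1.1 _ f).mp hmaxL.1
  exact (isInducedBlockIn_iff (M := M) (Subgroup.centralizer (Q : Set G))
    (Subgroup.centralizer (P : Set G)) _
    (cE (Subgroup.centralizer (Q : Set G)) (P.subgroupOf (Subgroup.centralizer (Q : Set G)))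
      P (Subgroup.map_subgroupOf_eq_of_le hPL) hCL)
    (cE_apply_coe _ _ _ _ _) e f).mpr hind

/-- the rank of the block of `K` induced (inside `K`) from the root `c` on `C_G(P)` -/
noncomputable def rankAt (p : ℕ) (M : Ideal Cfsg.AlgInt) (P : Subgroup G)
    (c : Set (IrrCharacter (Subgroup.centralizer (P : Set G)))) (K : Subgroup G) : ℕ := by
  classical
  exact if h : ∃ b : Set (IrrCharacter K),
      IsInducedBlockIn M K (Subgroup.centralizer (P : Set G)) c b
    then blockRank p h.choose else 0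

theorem rankAt_eq (hM : IsPModular p M) {P : Subgroup G}
    {c : Set (IrrCharacter (Subgroup.centralizer (P : Set G)))} {K : Subgroup G}
    (hCK : Subgroup.centralizer (P : Set G) ≤ K) {b : Set (IrrCharacter K)}
    (hb : IsInducedBlockIn M K (Subgroup.centralizer (P : Set G)) c b) :
    rankAt p M P c K = blockRank p b := by
  classical
  have hex : ∃ b : Set (IrrCharacter K),
      IsInducedBlockIn M K (Subgroup.centralizer (P : Set G)) c b := ⟨b, hb⟩
  unfold rankAt
  rw [dif_pos hex, IsInducedBlockIn.unique hM K (Subgroup.centralizer (P : Set G)) hCK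
    hex.choose_spec hb]

theorem centralizer_subgroupOf_iff (L P : Subgroup G) (hPL : P ≤ L) (x : ↥L) :
    x ∈ Subgroup.centralizer ((P.subgroupOf L : Subgroup ↥L) : Set ↥L)
      ↔ (x : G) ∈ Subgroup.centralizer (P : Set G) := by
  rw [Subgroup.mem_centralizer_iff, Subgroup.mem_centralizer_iff]
  constructor
  · intro h q hq
    have h1 := h ⟨q, hPL hq⟩ (by rw [SetLike.mem_coe, Subgroup.mem_subgroupOf]; exact hq)
    exact congrArg (fun z : ↥L => (z : G)) h1
  · intro h q hq
    rw [SetLike.mem_coe, Subgroup.mem_subgroupOf] at hq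
    apply Subtype.ext
    exact h (q : G) hq

/-- the isomorphism between `C_L(P)` and `C_G(P)` when `P C_G(P) ≤ L` -/
noncomputable def phiL (L P : Subgroup G) (hPL : P ≤ L)
    (hCL : Subgroup.centralizer (P : Set G) ≤ L) :
    ↥(Subgroup.centralizer ((P.subgroupOf L : Subgroup ↥L) : Set ↥L))
      ≃* ↥(Subgroup.centralizer (P : Set G)) :=
  cE3 L (P.subgroupOf L) P (centralizer_subgroupOf_iff L P hPL) hCL

theorem phiL_apply_coe (L P : Subgroup G) (hPL : P ≤ L)
    (hCL : Subgroup.centralizer (P : Set G) ≤ L)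
    (a : ↥(Subgroup.centralizer ((P.subgroupOf L : Subgroup ↥L) : Set ↥L))) :
    ((phiL L P hPL hCL a : ↥(Subgroup.centralizer (P : Set G))) : G) = ((a : ↥L) : G) := rfl

/-- the rank function of the group `L`, with respect to the transported root, agrees with the
rank function of the ambient group -/
theorem rankAt_rel (hM : IsPModular p M) (P : Subgroup G)
    (c : Set (IrrCharacter (Subgroup.centralizer (P : Set G)))) (hc : IsPBlock M c)
    (hPp : IsPGroup p P) (hab : ∀ x ∈ P, ∀ y ∈ P, x * y = y * x)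
    (L : Subgroup G) (hPL : P ≤ L) (hCL : Subgroup.centralizer (P : Set G) ≤ L)
    (K' : Subgroup ↥L) (K : Subgroup G) (hK : ∀ x : ↥L, x ∈ K' ↔ (x : G) ∈ K) (hKL : K ≤ L)
    (hCK : Subgroup.centralizer (P : Set G) ≤ K) :
    rankAt p M (P.subgroupOf L) (mapIrr (phiL L P hPL hCL).symm '' c) K'
      = rankAt p M P c K := by
  classical
  haveI : Fintype ↥L := Fintype.ofFinite _
  have hPLp : IsPGroup p (P.subgroupOf L) := by
    rw [← Subgroup.comap_subtype]
    exact hPp.comap_subtype
  have hPLab : (P.subgroupOf L)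
      ≤ Subgroup.centralizer ((P.subgroupOf L : Subgroup ↥L) : Set ↥L) := by
    intro a ha
    rw [Subgroup.mem_subgroupOf] at ha
    rw [centralizer_subgroupOf_iff L P hPL, Subgroup.mem_centralizer_iff]
    intro q hq
    exact hab q hq a ha
  have hCK' : Subgroup.centralizer ((P.subgroupOf L : Subgroup ↥L) : Set ↥L) ≤ K' := by
    intro x hx
    rw [hK]
    exact hCK ((centralizer_subgroupOf_iff L P hPL x).mp hx)
  obtain ⟨b', hb'⟩ := exists_inducedIn_of_root hM (P.subgroupOf L) hPLp K'
    (Subgroup.centralizer ((P.subgroupOf L : Subgroup ↥L) : Set ↥L)) hPLab le_rfl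
    (Subgroup.centralizer_le_normalizer _) hCK' (mapIrr (phiL L P hPL hCL).symm '' c)
    (isPBlock_mapIrr_image _ hc)
  rw [rankAt_eq hM hCK' hb']
  have hGT := isInducedBlockIn_of_rel (M := M) L K'
    (Subgroup.centralizer ((P.subgroupOf L : Subgroup ↥L) : Set ↥L)) K
    (Subgroup.centralizer (P : Set G))
    (relEquiv L K' K hK hKL) (relEquiv_apply_coe L K' K hK hKL)
    (phiL L P hPL hCL) (phiL_apply_coe L P hPL hCL) hb'
  rw [mapIrr_symm_symm_image] at hGT
  rw [rankAt_eq hM hCK hGT, blockRank_mapIrr_image]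

end rel

end Cfsg.Agent.Lib.Helper6.Wat
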