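import Mathlib
import Cfsg.Agent.Lib.Helper6.WatRel

/-!
Watanabe's theorem: the setting of a block with abelian defect group `P`, a root `c` on `C_G(P)`
and the inertial group `T`; passing to a subgroup `L ≥ C_G(P)`.
-/

set_option autoImplicit false
set_option linter.unusedSectionVars false
set_option maxHeartbeats 1600000

open Cfsg

universe u

namespace Cfsg.Agent.Lib.Helper6.Wat

open Cfsg.Agent.Lib.Helper6 Cfsg.Agent.Lib.Helper6.Star
open scoped ComplexConjugate

/-- the rank statement of Watanabe's theorem for the group `Γ` -/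
def WatL (p : ℕ) [Fact p.Prime] (M : Ideal Cfsg.AlgInt) (Γ : Type u) [Group Γ] [Finite Γ] :
    Prop :=
  ∀ (B : Set (IrrCharacter Γ)) (_ : IsPBlock M B) (P : Subgroup Γ)
    (_ : IsDefectGroup p M B P) (_ : ∀ x ∈ P, ∀ y ∈ P, x * y = y * x)
    (c : Set (IrrCharacter (Subgroup.centralizer (P : Set Γ))))
    (_ : IsInducedBlock M (Subgroup.centralizer (P : Set Γ)) c B) (T : Subgroup Γ)
    (_ : ∀ g : Γ, g ∈ T ↔ (g ∈ Subgroup.normalizer (P : Set Γ) ∧
      StabilizesBlock (Subgroup.centralizer (P : Set Γ)) c g))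
    (u : Γ) (_ : u ∈ P) (_ : ∀ g ∈ T, g * u * g⁻¹ = u)
    (f : Set (IrrCharacter (Subgroup.centralizer ({u} : Set Γ))))
    (_ : IsInducedBlockIn M (Subgroup.centralizer ({u} : Set Γ))
      (Subgroup.centralizer (P : Set Γ)) c f),
    blockRank p B = blockRank p f

section shape

variable {G : Type u} [Group G] [Fintype G] [DecidableEq G] {p : ℕ} [hp : Fact p.Prime]
  {M : Ideal Cfsg.AlgInt}

theorem le_centralizer_of_abelian {P : Subgroup G} (hab : ∀ x ∈ P, ∀ y ∈ P, x * y = y * x)
    {Q : Subgroup G} (hQP : Q ≤ P) : P ≤ Subgroup.centralizer (Q : Set G) := by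
  intro a ha
  rw [Subgroup.mem_centralizer_iff]
  intro b hb
  exact hab b (hQP hb) a ha

/-- the defect group with the root is a maximal Brauer pair -/
theorem isMaximalBrauerPair_of_shape (hM : IsPModular p M) (B : Set (IrrCharacter G))
    (P : Subgroup G) (hPD : IsDefectGroup p M B P)
    (c : Set (IrrCharacter (Subgroup.centralizer (P : Set G))))
    (hc : IsInducedBlock M (Subgroup.centralizer (P : Set G)) c B) :
    IsMaximalBrauerPair p M B P c := by
  classical
  haveI : Fintype (Subgroup.centralizer (P : Set G)) := Fintype.ofFinite _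
  have hPp : IsPGroup p P := IsDefectGroup.isPGroup' hPD
  exact isMaximalBrauerPair_of_isDefectGroup hM B P c hPD
    ((isBrauerPairOf_iff_isInducedBlock hM P hPp c B).mpr hc)

theorem rank_spec (hM : IsPModular p M) (B : Set (IrrCharacter G)) (P : Subgroup G)
    (c : Set (IrrCharacter (Subgroup.centralizer (P : Set G))))
    (hmax : IsMaximalBrauerPair p M B P c) (hab : ∀ x ∈ P, ∀ y ∈ P, x * y = y * x) :
    ∀ v ∈ P, ∀ b : Set (IrrCharacter
        (Subgroup.centralizer ((Subgroup.zpowers v : Subgroup G) : Set G))),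
      SubpairLE p M (Subgroup.zpowers v) b P c →
        blockRank p b = rankAt p M P c
          (Subgroup.centralizer ((Subgroup.zpowers v : Subgroup G) : Set G)) := by
  intro v hv b hle
  have h := isInducedBlockIn_of_subpairLE hM B P c hmax hab (Subgroup.zpowers v) b hle
  have hzv : Subgroup.zpowers v ≤ P := by
    rw [Subgroup.zpowers_le]
    exact hv
  rw [rankAt_eq hM (Subgroup.centralizer_le hzv) h]

/-- the count of the characters through the ranks of the subsections -/
theorem card_mul_card_eq_finsum_rankAt (hM : IsPModular p M) (B : Set (IrrCharacter G))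
    (P : Subgroup G) (hPD : IsDefectGroup p M B P) (hab : ∀ x ∈ P, ∀ y ∈ P, x * y = y * x)
    (c : Set (IrrCharacter (Subgroup.centralizer (P : Set G))))
    (hc : IsInducedBlock M (Subgroup.centralizer (P : Set G)) c B) (T : Subgroup G)
    (hT : ∀ g : G, g ∈ T ↔ (g ∈ Subgroup.normalizer (P : Set G) ∧
      StabilizesBlock (Subgroup.centralizer (P : Set G)) c g)) :
    Nat.card T * Nat.card B
      = ∑ᶠ v : ↥P, Nat.card {g : G // g ∈ T ∧ g * (v : G) * g⁻¹ = (v : G)}
          * rankAt p M P c
            (Subgroup.centralizer ((Subgroup.zpowers (v : G) : Subgroup G) : Set G)) := by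
  have hmax := isMaximalBrauerPair_of_shape hM B P hPD c hc
  exact card_mul_card_eq_finsum hM P c hmax hab T hT
    (fun v => rankAt p M P c (Subgroup.centralizer ((Subgroup.zpowers v : Subgroup G) : Set G)))
    (rank_spec hM B P c hmax hab)

/-- comparison of the ranks along an element fixed by the inertial group -/
theorem rankAt_eq_of_fixed (hM : IsPModular p M) (B : Set (IrrCharacter G))
    (P : Subgroup G) (hPD : IsDefectGroup p M B P) (hab : ∀ x ∈ P, ∀ y ∈ P, x * y = y * x)
    (c : Set (IrrCharacter (Subgroup.centralizer (P : Set G))))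
    (hc : IsInducedBlock M (Subgroup.centralizer (P : Set G)) c B) (T : Subgroup G)
    (hT : ∀ g : G, g ∈ T ↔ (g ∈ Subgroup.normalizer (P : Set G) ∧
      StabilizesBlock (Subgroup.centralizer (P : Set G)) c g))
    (u : G) (hu : u ∈ P) (huT : ∀ t ∈ T, t * u * t⁻¹ = u)
    (hstep : ∀ w ∈ P, (¬ ∀ t ∈ T, t * w * t⁻¹ = w) →
      rankAt p M P c (Subgroup.centralizer ((Subgroup.zpowers (u * w) : Subgroup G) : Set G))
        = rankAt p M P c (Subgroup.centralizer ((Subgroup.zpowers w : Subgroup G) : Set G))) :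
    rankAt p M P c (Subgroup.centralizer ((Subgroup.zpowers u : Subgroup G) : Set G))
      = rankAt p M P c (Subgroup.centralizer ((Subgroup.zpowers (1 : G) : Subgroup G) : Set G)) := by
  have hmax := isMaximalBrauerPair_of_shape hM B P hPD c hc
  exact rank_eq_of_fixed hM P c hmax hab T hT
    (fun v => rankAt p M P c (Subgroup.centralizer ((Subgroup.zpowers v : Subgroup G) : Set G)))
    (rank_spec hM B P c hmax hab) u hu huT hstep

/-- the rank at a subgroup containing every element is the rank of the block -/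
theorem rankAt_of_forall_mem (hM : IsPModular p M) (B : Set (IrrCharacter G))
    (P : Subgroup G) (hPp : IsPGroup p P) (hab : ∀ x ∈ P, ∀ y ∈ P, x * y = y * x)
    (c : Set (IrrCharacter (Subgroup.centralizer (P : Set G))))
    (hc : IsInducedBlock M (Subgroup.centralizer (P : Set G)) c B) (K : Subgroup G)
    (hK : ∀ g : G, g ∈ K) : rankAt p M P c K = blockRank p B := by
  classical
  have hPC : P ≤ Subgroup.centralizer (P : Set G) := le_centralizer_of_abelian hab le_rfl
  have hCK : Subgroup.centralizer (P : Set G) ≤ K := fun g _ => hK g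
  obtain ⟨b₁, hb₁⟩ := exists_inducedIn_of_root hM P hPp K (Subgroup.centralizer (P : Set G))
    hPC le_rfl (Subgroup.centralizer_le_normalizer _) hCK c hc.1
  have h2 : IsInducedBlock M K b₁ B :=
    IsInducedBlockIn.trans_rev hM (Subgroup.centralizer (P : Set G)) K hCK hb₁ hc
  obtain ⟨e, he⟩ : ∃ e : ↥K ≃* G, ∀ h : ↥K, e h = (h : G) :=
    ⟨MulEquiv.ofBijective K.subtype ⟨Subtype.val_injective, fun g => ⟨⟨g, hK g⟩, rfl⟩⟩,
      fun h => rfl⟩
  have h3 := eq_of_isInducedBlock_of_forall_mem hM K hK e he B b₁ h2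
  rw [rankAt_eq hM hCK hb₁, h3, blockRank_mapIrr_image]

/-- the data of the setting, transported to a subgroup `L ≥ C_G(P)` with its block -/
theorem shape_rel (hM : IsPModular p M) (B : Set (IrrCharacter G))
    (P : Subgroup G) (hPD : IsDefectGroup p M B P) (hab : ∀ x ∈ P, ∀ y ∈ P, x * y = y * x)
    (c : Set (IrrCharacter (Subgroup.centralizer (P : Set G))))
    (hc : IsInducedBlock M (Subgroup.centralizer (P : Set G)) c B) (T : Subgroup G)
    (hT : ∀ g : G, g ∈ T ↔ (g ∈ Subgroup.normalizer (P : Set G) ∧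
      StabilizesBlock (Subgroup.centralizer (P : Set G)) c g))
    (L : Subgroup G) (hPL : P ≤ L) (hCL : Subgroup.centralizer (P : Set G) ≤ L)
    (hKdef : ∀ β : Set (IrrCharacter L), IsPBlock M β → InducedBlockDefined M L β)
    (bL : Set (IrrCharacter L))
    (hbL : IsInducedBlockIn M L (Subgroup.centralizer (P : Set G)) c bL) :
    IsDefectGroup p M bL (P.subgroupOf L) ∧
    (∀ x ∈ P.subgroupOf L, ∀ y ∈ P.subgroupOf L, x * y = y * x) ∧
    IsInducedBlock M (Subgroup.centralizer ((P.subgroupOf L : Subgroup ↥L) : Set ↥L))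
      (mapIrr (phiL L P hPL hCL).symm '' c) bL ∧
    (∀ g : ↥L, g ∈ T.subgroupOf L ↔
      (g ∈ Subgroup.normalizer ((P.subgroupOf L : Subgroup ↥L) : Set ↥L) ∧
        StabilizesBlock (Subgroup.centralizer ((P.subgroupOf L : Subgroup ↥L) : Set ↥L))
          (mapIrr (phiL L P hPL hCL).symm '' c) g)) := by
  classical
  haveI : Fintype ↥L := Fintype.ofFinite _
  have hPC : P ≤ Subgroup.centralizer (P : Set G) := le_centralizer_of_abelian hab le_rfl
  have hH : Subgroup.centralizer (P : Set G) = P ⊔ Subgroup.centralizer (P : Set G) :=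
    (sup_eq_right.mpr hPC).symm
  obtain ⟨-, hbLD⟩ := isDefectGroup_of_inducedIn hM B P hPD _ hH c hc L hCL hKdef bL hbL
  refine ⟨hbLD, ?_, ?_, ?_⟩
  · intro x hx y hy
    rw [Subgroup.mem_subgroupOf] at hx hy
    exact Subtype.ext (hab _ hx _ hy)
  · exact (isInducedBlockIn_iff (M := M) L (Subgroup.centralizer (P : Set G)) _
      (phiL L P hPL hCL) (phiL_apply_coe L P hPL hCL) c bL).mp hbL
  · intro g
    rw [Subgroup.mem_subgroupOf, hT]
    constructor
    · rintro ⟨h1, h2⟩
      refine ⟨?_, stabilizesBlock_rel3_symm L (P.subgroupOf L) P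
        (centralizer_subgroupOf_iff L P hPL) hCL c g h2⟩
      rw [Subgroup.mem_normalizer_iff]
      intro h
      rw [Subgroup.mem_subgroupOf, Subgroup.mem_subgroupOf]
      exact Subgroup.mem_normalizer_iff.mp h1 (h : G)
    · rintro ⟨h1, h2⟩
      have hgN : (g : G) ∈ Subgroup.normalizer (P : Set G) :=
        coe_mem_normalizer_of_rel L P hPL g h1
      refine ⟨hgN, ?_⟩
      have h3 := stabilizesBlock_rel3 L (P.subgroupOf L) P
        (centralizer_subgroupOf_iff L P hPL) hCL _ g
        (normalizer_le_normalizer_centralizer P hgN) h2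
      change StabilizesBlock _ (mapIrr (phiL L P hPL hCL) ''
        (mapIrr (phiL L P hPL hCL).symm '' c)) _ at h3
      rw [mapIrr_symm_symm_image] at h3
      exact h3

/-- descending to a subgroup `L ≥ C_G(P)`: if the rank statement holds for the group `L`, the
rank at `L` equals the rank at `L ∩ C_G(u)` for `u ∈ P` fixed by `T ∩ L` -/
theorem descend (hM : IsPModular p M) (B : Set (IrrCharacter G))
    (P : Subgroup G) (hPD : IsDefectGroup p M B P) (hab : ∀ x ∈ P, ∀ y ∈ P, x * y = y * x)
    (c : Set (IrrCharacter (Subgroup.centralizer (P : Set G))))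
    (hc : IsInducedBlock M (Subgroup.centralizer (P : Set G)) c B) (T : Subgroup G)
    (hT : ∀ g : G, g ∈ T ↔ (g ∈ Subgroup.normalizer (P : Set G) ∧
      StabilizesBlock (Subgroup.centralizer (P : Set G)) c g))
    (L : Subgroup G) (hPL : P ≤ L) (hCL : Subgroup.centralizer (P : Set G) ≤ L)
    (hKdef : ∀ β : Set (IrrCharacter L), IsPBlock M β → InducedBlockDefined M L β)
    (hIH : WatL p M ↥L) (u : G) (hu : u ∈ P) (hufix : ∀ t ∈ T, t ∈ L → t * u * t⁻¹ = u) :
    rankAt p M P c L = rankAt p M P c (L ⊓ Subgroup.centralizer ({u} : Set G)) := by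
  classical
  haveI : Fintype ↥L := Fintype.ofFinite _
  have hPp : IsPGroup p P := IsDefectGroup.isPGroup' hPD
  have hPC : P ≤ Subgroup.centralizer (P : Set G) := le_centralizer_of_abelian hab le_rfl
  obtain ⟨bL, hbL⟩ := exists_inducedIn_of_root hM P hPp L (Subgroup.centralizer (P : Set G))
    hPC le_rfl (Subgroup.centralizer_le_normalizer _) hCL c hc.1
  obtain ⟨hbLD, habL, hcL, hTL⟩ := shape_rel hM B P hPD hab c hc T hT L hPL hCL hKdef bL hbL
  obtain ⟨u', hu'def⟩ : ∃ u' : ↥L, u' = ⟨u, hPL hu⟩ := ⟨_, rfl⟩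
  have hu'c : (u' : G) = u := by rw [hu'def]
  have hu'P : u' ∈ P.subgroupOf L := by
    rw [Subgroup.mem_subgroupOf, hu'c]
    exact hu
  have hu'T : ∀ g ∈ T.subgroupOf L, g * u' * g⁻¹ = u' := by
    intro g hg
    rw [Subgroup.mem_subgroupOf] at hg
    apply Subtype.ext
    simp only [Subgroup.coe_mul, Subgroup.coe_inv]
    rw [hu'c]
    exact hufix (g : G) hg g.2
  have hPLp : IsPGroup p (P.subgroupOf L) := by
    rw [← Subgroup.comap_subtype]
    exact hPp.comap_subtype
  have hPLab : (P.subgroupOf L)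
      ≤ Subgroup.centralizer ((P.subgroupOf L : Subgroup ↥L) : Set ↥L) :=
    le_centralizer_of_abelian habL le_rfl
  have hCH' : Subgroup.centralizer ((P.subgroupOf L : Subgroup ↥L) : Set ↥L)
      ≤ Subgroup.centralizer ({u'} : Set ↥L) := by
    apply Subgroup.centralizer_le
    intro z hz
    rw [Set.mem_singleton_iff] at hz
    rw [hz]
    exact hu'P
  obtain ⟨f', hf'⟩ := exists_inducedIn_of_root hM (P.subgroupOf L) hPLp
    (Subgroup.centralizer ({u'} : Set ↥L))
    (Subgroup.centralizer ((P.subgroupOf L : Subgroup ↥L) : Set ↥L)) hPLab le_rfl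
    (Subgroup.centralizer_le_normalizer _) hCH' _ hcL.1
  have hmain := hIH bL hbL.2.1 (P.subgroupOf L) hbLD habL _ hcL (T.subgroupOf L) hTL u' hu'P
    hu'T f' hf'
  rw [rankAt_eq hM hCL hbL, hmain, ← rankAt_eq hM hCH' hf']
  apply rankAt_rel hM P c hc.1 hPp hab L hPL hCL (Subgroup.centralizer ({u'} : Set ↥L))
    (L ⊓ Subgroup.centralizer ({u} : Set G)) _ inf_le_left
  · apply le_inf hCL
    apply Subgroup.centralizer_le
    intro z hz
    rw [Set.mem_singleton_iff] at hz
    rw [hz]
    exact hu
  · intro x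
    rw [Subgroup.mem_inf, mem_centralizer_singleton_iff, mem_centralizer_singleton_iff]
    constructor
    · intro h
      have h2 := congrArg (fun z : ↥L => (z : G)) h
      simp only [Subgroup.coe_mul, hu'c] at h2
      exact ⟨x.2, h2⟩
    · rintro ⟨_, h⟩
      apply Subtype.ext
      simp only [Subgroup.coe_mul, hu'c]
      exact h

end shape

end Cfsg.Agent.Lib.Helper6.Wat
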