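import Mathlib
import Cfsg.Agent.Lib.Helper6.WatShape
import Cfsg.Agent.Lib.Helper6.BrFus2

/-!
Watanabe's theorem on blocks with abelian defect groups: the block of `C_G(u)`, for `u` in the
defect group fixed by the inertial group, has the same numbers of ordinary and of Brauer
characters as the block itself.
-/

set_option autoImplicit false
set_option linter.unusedSectionVars false
set_option maxHeartbeats 1600000

open Cfsg

universe u

namespace Cfsg.Agent.Lib.Helper6.Wat

open Cfsg.Agent.Lib.Helper6 Cfsg.Agent.Lib.Helper6.Star
open scoped ComplexConjugate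

section main

variable {p : ℕ} [hp : Fact p.Prime] {M : Ideal Cfsg.AlgInt}

theorem hKdef_centralizer_zpowers {G : Type u} [Group G] [Fintype G] [DecidableEq G]
    (hM : IsPModular p M) (v : G) (hv : IsPGroup p (Subgroup.zpowers v)) :
    ∀ β : Set (IrrCharacter (Subgroup.centralizer ((Subgroup.zpowers v : Subgroup G) : Set G))),
      IsPBlock M β → InducedBlockDefined M
        (Subgroup.centralizer ((Subgroup.zpowers v : Subgroup G) : Set G)) β := by
  classical
  haveI : Fintype (Subgroup.centralizer ((Subgroup.zpowers v : Subgroup G) : Set G)) :=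
    Fintype.ofFinite _
  intro β hβ
  apply inducedBlockDefined_of_centralizer_le (Subgroup.zpowers v) _ hM hv ?_ le_rfl
    (Subgroup.centralizer_le_normalizer _) β hβ
  rw [Subgroup.zpowers_le, centralizer_zpowers_eq, mem_centralizer_singleton_iff]

/-- **Watanabe's theorem, Brauer characters**, for all finite groups, by induction on the order -/
theorem watL_all (hM : IsPModular p M) :
    ∀ (n : ℕ) (Γ : Type u) [Group Γ] [Finite Γ], Nat.card Γ ≤ n → WatL p M Γ := by
  intro n
  induction n with
  | zero =>
    intro Γ _ _ h
    have := Nat.card_pos (α := Γ)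
    omega
  | succ n ih =>
    intro Γ _ _ hcard
    classical
    haveI : Fintype Γ := Fintype.ofFinite Γ
    intro B hB P hPD hab c hc T hT u hu huT f hf
    have hPp : IsPGroup p P := IsDefectGroup.isPGroup' hPD
    have hdesc : ∀ x ∈ P, (¬ ∀ t ∈ T, t * x * t⁻¹ = x) →
        rankAt p M P c (Subgroup.centralizer ((Subgroup.zpowers x : Subgroup Γ) : Set Γ))
          = rankAt p M P c (Subgroup.centralizer ((Subgroup.zpowers x : Subgroup Γ) : Set Γ)
              ⊓ Subgroup.centralizer ({u} : Set Γ)) := by
      intro x hx hxnf
      have hzx : Subgroup.zpowers x ≤ P := by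
        rw [Subgroup.zpowers_le]
        exact hx
      have hlt : Nat.card ↥(Subgroup.centralizer ((Subgroup.zpowers x : Subgroup Γ) : Set Γ))
          ≤ n := by
        push Not at hxnf
        obtain ⟨t, ht, htx⟩ := hxnf
        have hne : Subgroup.centralizer ((Subgroup.zpowers x : Subgroup Γ) : Set Γ) ≠ ⊤ := by
          intro htop
          apply htx
          have h1 : t ∈ Subgroup.centralizer ((Subgroup.zpowers x : Subgroup Γ) : Set Γ) := by
            rw [htop]
            exact Subgroup.mem_top t
          rw [centralizer_zpowers_eq, mem_centralizer_singleton_iff] at h1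
          rw [← h1]
          group
        have hlt' : Nat.card ↥(Subgroup.centralizer ((Subgroup.zpowers x : Subgroup Γ) : Set Γ))
            < Nat.card Γ := by
          by_contra hge
          push Not at hge
          exact hne (Subgroup.eq_top_of_card_eq _
            (le_antisymm (Subgroup.card_le_card_group _) hge))
        omega
      exact descend hM B P hPD hab c hc T hT _ (le_centralizer_of_abelian hab hzx)
        (Subgroup.centralizer_le hzx) (hKdef_centralizer_zpowers hM x (hPp.to_le hzx))
        (ih _ hlt) u hu (fun t ht _ => huT t ht)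
    have hstep : ∀ w ∈ P, (¬ ∀ t ∈ T, t * w * t⁻¹ = w) →
        rankAt p M P c
            (Subgroup.centralizer ((Subgroup.zpowers (u * w) : Subgroup Γ) : Set Γ))
          = rankAt p M P c
            (Subgroup.centralizer ((Subgroup.zpowers w : Subgroup Γ) : Set Γ)) := by
      intro w hw hnf
      have hw' : u * w ∈ P := P.mul_mem hu hw
      have hnf' : ¬ ∀ t ∈ T, t * (u * w) * t⁻¹ = u * w := by
        intro h
        apply hnf
        intro t ht
        have h1 := h t ht
        have h2 := huT t ht
        have h3 : t * (u * w) * t⁻¹ = (t * u * t⁻¹) * (t * w * t⁻¹) := by group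
        rw [h3, h2] at h1
        exact mul_left_cancel h1
      rw [hdesc w hw hnf, hdesc (u * w) hw' hnf']
      congr 1
      ext x
      rw [Subgroup.mem_inf, Subgroup.mem_inf, centralizer_zpowers_eq, centralizer_zpowers_eq,
        mem_centralizer_singleton_iff, mem_centralizer_singleton_iff,
        mem_centralizer_singleton_iff]
      constructor
      · rintro ⟨h1, h2⟩
        refine ⟨?_, h2⟩
        have h4 : u * (w * x) = u * (x * w) := by
          calc u * (w * x) = u * w * x := by group
            _ = x * (u * w) := h1
            _ = (x * u) * w := by group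
            _ = (u * x) * w := by rw [h2]
            _ = u * (x * w) := by group
        exact mul_left_cancel h4
      · rintro ⟨h1, h2⟩
        refine ⟨?_, h2⟩
        calc u * w * x = u * (w * x) := by group
          _ = u * (x * w) := by rw [h1]
          _ = (u * x) * w := by group
          _ = (x * u) * w := by rw [h2]
          _ = x * (u * w) := by group
    have hmain := rankAt_eq_of_fixed hM B P hPD hab c hc T hT u hu huT hstep
    have hCu : Subgroup.centralizer (P : Set Γ) ≤ Subgroup.centralizer ({u} : Set Γ) := by
      apply Subgroup.centralizer_le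
      intro z hz
      rw [Set.mem_singleton_iff] at hz
      rw [hz]
      exact hu
    have hall : ∀ g : Γ, g ∈ Subgroup.centralizer
        ((Subgroup.zpowers (1 : Γ) : Subgroup Γ) : Set Γ) := by
      intro g
      rw [centralizer_zpowers_eq, mem_centralizer_singleton_iff, one_mul, mul_one]
    rw [centralizer_zpowers_eq u, rankAt_eq hM hCu hf,
      rankAt_of_forall_mem hM B P hPp hab c hc _ hall] at hmain
    exact hmain.symm

/-- **Watanabe's theorem, ordinary characters** -/
theorem watK {G : Type u} [Group G] [Fintype G] [DecidableEq G] (hM : IsPModular p M)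
    (hL : ∀ (Γ : Type u) [Group Γ] [Finite Γ], WatL p M Γ)
    (B : Set (IrrCharacter G)) (hB : IsPBlock M B) (P : Subgroup G)
    (hPD : IsDefectGroup p M B P) (hab : ∀ x ∈ P, ∀ y ∈ P, x * y = y * x)
    (c : Set (IrrCharacter (Subgroup.centralizer (P : Set G))))
    (hc : IsInducedBlock M (Subgroup.centralizer (P : Set G)) c B) (T : Subgroup G)
    (hT : ∀ g : G, g ∈ T ↔ (g ∈ Subgroup.normalizer (P : Set G) ∧
      StabilizesBlock (Subgroup.centralizer (P : Set G)) c g))
    (u : G) (hu : u ∈ P) (huT : ∀ g ∈ T, g * u * g⁻¹ = u)
    (f : Set (IrrCharacter (Subgroup.centralizer ({u} : Set G))))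
    (hf : IsInducedBlockIn M (Subgroup.centralizer ({u} : Set G))
      (Subgroup.centralizer (P : Set G)) c f) :
    Nat.card B = Nat.card f := by
  classical
  haveI : Fintype ↥(Subgroup.centralizer ({u} : Set G)) := Fintype.ofFinite _
  have hPp : IsPGroup p P := IsDefectGroup.isPGroup' hPD
  have hzu : Subgroup.zpowers u ≤ P := by
    rw [Subgroup.zpowers_le]
    exact hu
  have hPH : P ≤ Subgroup.centralizer ({u} : Set G) := by
    intro a ha
    rw [mem_centralizer_singleton_iff]
    exact hab u hu a ha
  have hCH : Subgroup.centralizer (P : Set G) ≤ Subgroup.centralizer ({u} : Set G) := by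
    apply Subgroup.centralizer_le
    intro z hz
    rw [Set.mem_singleton_iff] at hz
    rw [hz]
    exact hu
  have hKdefH : ∀ β : Set (IrrCharacter (Subgroup.centralizer ({u} : Set G))),
      IsPBlock M β → InducedBlockDefined M (Subgroup.centralizer ({u} : Set G)) β :=
    fun β hβ => inducedBlockDefined_centralizer_singleton hM u (hPp.to_le hzu) β hβ
  have hTH : T ≤ Subgroup.centralizer ({u} : Set G) := by
    intro t ht
    rw [mem_centralizer_singleton_iff]
    have h1 := huT t ht
    calc u * t = (t * u * t⁻¹) * t := by rw [h1]
      _ = t * u := by group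
  obtain ⟨hfD, habH, hcH, hTHiff⟩ := shape_rel hM B P hPD hab c hc T hT
    (Subgroup.centralizer ({u} : Set G)) hPH hCH hKdefH f hf
  have h1 := card_mul_card_eq_finsum_rankAt hM B P hPD hab c hc T hT
  have h2 := card_mul_card_eq_finsum_rankAt hM f
    (P.subgroupOf (Subgroup.centralizer ({u} : Set G))) hfD habH _ hcH
    (T.subgroupOf (Subgroup.centralizer ({u} : Set G))) hTHiff
  have hcardT : Nat.card (T.subgroupOf (Subgroup.centralizer ({u} : Set G))) = Nat.card T :=
    card_subgroupOf_of_le hTH
  obtain ⟨F, hFdef⟩ : ∃ F : ↥P → ℕ,
      F = fun v : ↥P => Nat.card {g : G // g ∈ T ∧ g * (v : G) * g⁻¹ = (v : G)}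
        * rankAt p M P c
          (Subgroup.centralizer ((Subgroup.zpowers (v : G) : Subgroup G) : Set G)) := ⟨_, rfl⟩
  have h1' : Nat.card T * Nat.card B = ∑ᶠ v : ↥P, F v := by
    rw [hFdef]
    exact h1
  have h2' : Nat.card T * Nat.card f = ∑ᶠ v : ↥P, F v := by
    rw [← hcardT, h2, ← finsum_comp_equiv (Subgroup.subgroupOfEquivOfLe hPH).toEquiv]
    apply finsum_congr
    intro v'
    obtain ⟨v, hvdef⟩ : ∃ v : ↥P, v = (Subgroup.subgroupOfEquivOfLe hPH).toEquiv v' :=
      ⟨_, rfl⟩
    have hv : (v : G) = ((v' : ↥(Subgroup.centralizer ({u} : Set G))) : G) := by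
      rw [hvdef]
      rfl
    rw [← hvdef, hFdef]
    simp only
    have hzv : Subgroup.zpowers (v : G) ≤ P := by
      rw [Subgroup.zpowers_le]
      exact v.2
    congr 1
    · apply Nat.card_congr
      exact
        { toFun := fun a => ⟨((a.1 : ↥(Subgroup.centralizer ({u} : Set G))) : G),
            Subgroup.mem_subgroupOf.mp a.2.1, by
              have h3 := congrArg (fun z : ↥(Subgroup.centralizer ({u} : Set G)) => (z : G))
                a.2.2
              simp only [Subgroup.coe_mul, Subgroup.coe_inv] at h3
              rw [hv]
              exact h3⟩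
          invFun := fun b => ⟨⟨b.1, hTH b.2.1⟩, Subgroup.mem_subgroupOf.mpr b.2.1, by
              apply Subtype.ext
              simp only [Subgroup.coe_mul, Subgroup.coe_inv]
              rw [← hv]
              exact b.2.2⟩
          left_inv := fun a => rfl
          right_inv := fun b => rfl }
    · have hKmem : ∀ x : ↥(Subgroup.centralizer ({u} : Set G)),
          x ∈ Subgroup.centralizer ((Subgroup.zpowers
            (v' : ↥(Subgroup.centralizer ({u} : Set G))) :
              Subgroup ↥(Subgroup.centralizer ({u} : Set G))) :
              Set ↥(Subgroup.centralizer ({u} : Set G)))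
            ↔ (x : G) ∈ Subgroup.centralizer ({u} : Set G)
              ⊓ Subgroup.centralizer ((Subgroup.zpowers (v : G) : Subgroup G) : Set G) := by
        intro x
        rw [centralizer_zpowers_eq, mem_centralizer_singleton_iff, Subgroup.mem_inf,
          centralizer_zpowers_eq, mem_centralizer_singleton_iff (x := (v : G))]
        constructor
        · intro h
          have h3 := congrArg (fun z : ↥(Subgroup.centralizer ({u} : Set G)) => (z : G)) h
          simp only [Subgroup.coe_mul] at h3
          rw [hv]
          exact ⟨x.2, h3⟩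
        · rintro ⟨_, h⟩
          apply Subtype.ext
          simp only [Subgroup.coe_mul]
          rw [← hv]
          exact h
      have hCK : Subgroup.centralizer (P : Set G) ≤ Subgroup.centralizer ({u} : Set G)
          ⊓ Subgroup.centralizer ((Subgroup.zpowers (v : G) : Subgroup G) : Set G) :=
        le_inf hCH (Subgroup.centralizer_le hzv)
      rw [rankAt_rel hM P c hc.1 hPp hab (Subgroup.centralizer ({u} : Set G)) hPH hCH _ _
        hKmem inf_le_left hCK]
      rw [descend hM B P hPD hab c hc T hT
        (Subgroup.centralizer ((Subgroup.zpowers (v : G) : Subgroup G) : Set G))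
        (le_centralizer_of_abelian hab hzv) (Subgroup.centralizer_le hzv)
        (hKdef_centralizer_zpowers hM (v : G) (hPp.to_le hzv)) (hL _) u hu
        (fun t ht _ => huT t ht), inf_comm]
  have hpos : 0 < Nat.card T := Nat.card_pos
  exact Nat.eq_of_mul_eq_mul_left hpos (h1'.trans h2'.symm)

end main

end Cfsg.Agent.Lib.Helper6.Wat
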