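import Mathlib
import Cfsg.Agent.Lib.Helper6.WdD

/-! Ward's theorem, part E: general lemmas for the minimal configuration. -/

set_option autoImplicit false

namespace Cfsg.Agent.Lib.Helper6.Wd

open Cfsg.Agent.Lib.Helper8.FP4

open scoped commutatorElement

universe u

section Abs

variable {U K : Type*} [CommGroup U] [Finite U] [Group K] [Fintype K]

theorem ap_abs (ρ : K →* MulAut U) (β : MulAut U) {p : ℕ} (hp : 0 < p) (t : U)
    (htr : ∏ i ∈ Finset.range p, (β ^ i) t = 1) (hfix : ∀ k, ρ k t = t)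
    (hkill : ∀ i, 0 < i → i < p → nmHom ρ ((β ^ i) t) = 1)
    (hcop : (Fintype.card K).Coprime (Nat.card U)) : t = 1 := by
  obtain ⟨p', rfl⟩ : ∃ p', p = p' + 1 := ⟨p - 1, by omega⟩
  have h1 := congrArg (nmHom ρ) htr
  rw [map_prod, map_one, Finset.prod_range_succ'] at h1
  have h2 : ∏ k ∈ Finset.range p', nmHom ρ ((β ^ (k + 1)) t) = 1 := by
    apply Finset.prod_eq_one
    intro i hi
    exact hkill (i + 1) (Nat.succ_pos i) (by have := Finset.mem_range.mp hi; omega)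
  rw [h2, one_mul, pow_zero, MulAut.one_apply, nmHom_of_fixed ρ t hfix] at h1
  have h3 : orderOf t ∣ Fintype.card K := orderOf_dvd_of_pow_eq_one h1
  have h4 : orderOf t ∣ Nat.card U := orderOf_dvd_natCard t
  have h5 : orderOf t ∣ 1 := by
    have := Nat.dvd_gcd h3 h4
    rwa [Nat.Coprime.gcd_eq_one hcop] at this
  exact orderOf_eq_one_iff.mp (Nat.dvd_one.mp h5)

end Abs

section Alg

variable {X : Type u} [Group X]

theorem nat_aux (i j p : ℕ) (hp : 1 ≤ p) : i + j * (p - 1) + j = i + p * j := by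
  obtain ⟨k, rfl⟩ : ∃ k, p = k + 1 := ⟨p - 1, by omega⟩
  rw [Nat.add_sub_cancel]
  ring

theorem pow_eq_one_of_dvd' {p : ℕ} {σ : MulAut X} (h : σ ^ p = 1) {m : ℕ} (hd : p ∣ m) :
    σ ^ m = 1 := by
  obtain ⟨t, rfl⟩ := hd
  rw [pow_mul, h, one_pow]

theorem Hyp.b_rel {p : ℕ} [hp : Fact p.Prime] {a c : MulAut X} (h : Hyp p a c) (i j : ℕ) :
    a ^ i * c = a ^ (i + j * (p - 1)) * (a ^ j * c) := by
  have hp1 : 1 ≤ p := hp.out.one_lt.le
  rw [← mul_assoc, ← pow_add, nat_aux i j p hp1, pow_add, pow_mul, h.apow, one_pow, mul_one]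

theorem Inv.inv' [Finite X] {σ : MulAut X} {N : Subgroup X} (h : Inv σ N) : Inv σ⁻¹ N := by
  intro x hx
  obtain ⟨y, hy, rfl⟩ := h.exists_preimage hx
  rw [MulAut.inv_apply_self]
  exact hy

theorem inv_c_of [Finite X] {p : ℕ} [hp : Fact p.Prime] {a c : MulAut X} (h : Hyp p a c)
    {N : Subgroup X} {j : ℕ} (ha : Inv a N) (hb : Inv (a ^ j * c) N) : Inv c N := by
  have hp1 : 1 ≤ p := hp.out.one_lt.le
  have e : (a ^ j) ^ (p - 1) * (a ^ j * c) = c := by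
    rw [← mul_assoc, ← pow_succ, Nat.sub_add_cancel hp1, ← pow_mul, mul_comm j p, pow_mul,
      h.apow, one_pow, one_mul]
  have h1 : Inv ((a ^ j) ^ (p - 1) * (a ^ j * c)) N := Inv.mul (Inv.pow (Inv.pow ha j) (p - 1)) hb
  rwa [e] at h1

theorem inv_a_of_two [Finite X] {p : ℕ} [hp : Fact p.Prime] {a c : MulAut X} (h : Hyp p a c)
    {N : Subgroup X} {i j : ℕ} (hne : a ^ i * c ≠ a ^ j * c) (hi : Inv (a ^ i * c) N)
    (hj : Inv (a ^ j * c) N) : Inv a N := by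
  obtain ⟨m, hm⟩ : ∃ m, m = i + j * (p - 1) := ⟨_, rfl⟩
  have hrel : a ^ i * c = a ^ m * (a ^ j * c) := by rw [hm]; exact h.b_rel i j
  have hθ : Inv ((a ^ i * c) * (a ^ j * c)⁻¹) N := Inv.mul hi (Inv.inv' hj)
  have e : (a ^ i * c) * (a ^ j * c)⁻¹ = a ^ m := by
    rw [hrel, mul_inv_cancel_right]
  rw [e] at hθ
  have hnd : ¬ p ∣ m := by
    intro hd
    apply hne
    rw [hrel, pow_eq_one_of_dvd' h.apow hd, one_mul]
  exact inv_of_inv_pow h.apow hnd hθ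

theorem twist [Finite X] {p : ℕ} [hp : Fact p.Prime] {a c : MulAut X} (h : Hyp p a c)
    (N' : Subgroup X) (i j : ℕ) (y : X) (hy : a y = y) (hj : Inv (a ^ j * c) N')
    (hφ : ∀ g ∈ N', y * (a ^ i * c) g * y⁻¹ ∈ N') : Inv (a ^ i * c) N' := by
  obtain ⟨m, hm⟩ : ∃ m, m = i + j * (p - 1) := ⟨_, rfl⟩
  have hrel : a ^ i * c = a ^ m * (a ^ j * c) := by rw [hm]; exact h.b_rel i j
  have hφ' : Inv (MulAut.conj y * (a ^ i * c)) N' := by
    intro g hg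
    rw [MulAut.mul_apply, MulAut.conj_apply]
    exact hφ g hg
  have hθ : Inv ((MulAut.conj y * (a ^ i * c)) * (a ^ j * c)⁻¹) N' :=
    Inv.mul hφ' (Inv.inv' hj)
  have e : (MulAut.conj y * (a ^ i * c)) * (a ^ j * c)⁻¹ = MulAut.conj y * a ^ m := by
    rw [hrel, mul_assoc, mul_inv_cancel_right]
  have hcomm : Commute (MulAut.conj y) (a ^ m) := by
    apply MulEquiv.ext
    intro g
    simp only [MulAut.mul_apply, MulAut.conj_apply, map_mul, map_inv, pow_fix hy m]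
  have hpow : (MulAut.conj y * a ^ m) ^ (Nat.card X) = a ^ (m * Nat.card X) := by
    rw [hcomm.mul_pow, ← map_pow, pow_card_eq_one', map_one, one_mul, pow_mul]
  have hInv : Inv (a ^ (m * Nat.card X)) N' := by
    rw [← hpow, ← e]
    exact Inv.pow hθ _
  by_cases hd : p ∣ m
  · rw [hrel, pow_eq_one_of_dvd' h.apow hd, one_mul]
    exact hj
  · have hnd : ¬ p ∣ m * Nat.card X := by
      intro hdvd
      rcases (Nat.Prime.dvd_mul hp.out).mp hdvd with h1 | h1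
      · exact hd h1
      · exact h.cop h1
    have ha : Inv a N' := inv_of_inv_pow h.apow hnd hInv
    have hc : Inv c N' := inv_c_of h ha hj
    exact Inv.mul (Inv.pow ha i) hc

theorem Hyp.pair_of_ne {p : ℕ} [hp : Fact p.Prime] {a c : MulAut X} (h : Hyp p a c) (i j : ℕ)
    (hne : a ^ i * c ≠ a ^ j * c) : Hyp p (a ^ i * c) (a ^ j * c) where
  comm := by
    have hc1 : Commute a c := h.comm
    have h1 : Commute (a ^ i) (a ^ j) := (Commute.refl a).pow_pow i j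
    have h2 : Commute (a ^ i) c := hc1.pow_left i
    have h3 : Commute c (a ^ j) := (hc1.pow_left j).symm
    exact ((h1.mul_right h2).mul_left (h3.mul_right (Commute.refl c))).eq
  apow := h.bpow i
  cpow := h.bpow j
  cop := h.cop
  fpf := by
    intro g hi hj
    obtain ⟨m, hm⟩ : ∃ m, m = i + j * (p - 1) := ⟨_, rfl⟩
    have hrel : a ^ i * c = a ^ m * (a ^ j * c) := by rw [hm]; exact h.b_rel i j
    have h1 : (a ^ m) g = g := by
      have := hi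
      rw [hrel, MulAut.mul_apply, hj] at this
      exact this
    have hnd : ¬ p ∣ m := by
      intro hd
      apply hne
      rw [hrel, pow_eq_one_of_dvd' h.apow hd, one_mul]
    have hag : a g = g := fix_of_pow_fix h.apow hnd h1
    have hcg : c g = g := by
      have h2 : (a ^ i) (c g) = g := hi
      have h3 : (a ^ i) g = g := pow_fix hag i
      exact (a ^ i).injective (h2.trans h3.symm)
    exact h.fpf g hag hcg

theorem cent_sup_zpowers {N : Subgroup X} {g w : X}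
    (hw : w ∈ Subgroup.centralizer (N : Set X)) (hg : g * w = w * g) :
    w ∈ Subgroup.centralizer ((N ⊔ Subgroup.zpowers g : Subgroup X) : Set X) := by
  have hle : N ⊔ Subgroup.zpowers g ≤ Subgroup.centralizer ({w} : Set X) := by
    apply sup_le
    · intro n hn
      rw [Subgroup.mem_centralizer_iff]
      intro h hh
      rw [Set.mem_singleton_iff] at hh
      rw [hh]
      exact (Subgroup.mem_centralizer_iff.mp hw n hn).symm
    · rw [Subgroup.zpowers_le, Subgroup.mem_centralizer_iff]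
      intro h hh
      rw [Set.mem_singleton_iff] at hh
      rw [hh]
      exact hg.symm
  rw [Subgroup.mem_centralizer_iff]
  intro h hh
  have := Subgroup.mem_centralizer_iff.mp (hle hh) w (Set.mem_singleton w)
  exact this.symm

theorem mem_of_cent (V Z₀ N : Subgroup X) (hN : N ≤ Z₀)
    (hne : V ⊓ Subgroup.centralizer (N : Set X) ≠ ⊥)
    (hmax : ∀ N' : Subgroup X, N' ≤ Z₀ → N < N' → V ⊓ Subgroup.centralizer (N' : Set X) = ⊥)
    (g : X) (hg : g ∈ Z₀)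
    (hgc : ∀ w ∈ V ⊓ Subgroup.centralizer (N : Set X), g * w = w * g) : g ∈ N := by
  by_contra hgN
  have hlt : N < N ⊔ Subgroup.zpowers g := by
    refine lt_of_le_of_ne le_sup_left ?_
    intro heq
    apply hgN
    rw [heq]
    exact (le_sup_right : Subgroup.zpowers g ≤ _) (Subgroup.mem_zpowers g)
  have hle : N ⊔ Subgroup.zpowers g ≤ Z₀ := sup_le hN (by rw [Subgroup.zpowers_le]; exact hg)
  have h0 := hmax _ hle hlt
  apply hne
  rw [eq_bot_iff, ← h0]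
  intro w hw
  exact ⟨hw.1, cent_sup_zpowers hw.2 (hgc w hw)⟩

/-- elements of `Q` on which `S` acts trivially modulo `K` -/
def trivOn (Q S K : Subgroup X) (hK : ∀ g ∈ Q, ∀ k ∈ K, g * k * g⁻¹ ∈ K) : Subgroup X where
  carrier := {g | g ∈ Q ∧ ∀ x ∈ S, x * g * x⁻¹ * g⁻¹ ∈ K}
  one_mem' := ⟨Q.one_mem, fun x _ => by simp [K.one_mem]⟩
  mul_mem' := by
    rintro g h ⟨hg, hg'⟩ ⟨hh, hh'⟩
    refine ⟨Q.mul_mem hg hh, fun x hx => ?_⟩
    have e : x * (g * h) * x⁻¹ * (g * h)⁻¹ =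
        (x * g * x⁻¹ * g⁻¹) * (g * (x * h * x⁻¹ * h⁻¹) * g⁻¹) := by group
    rw [e]
    exact K.mul_mem (hg' x hx) (hK g hg _ (hh' x hx))
  inv_mem' := by
    rintro g ⟨hg, hg'⟩
    refine ⟨Q.inv_mem hg, fun x hx => ?_⟩
    have e : x * g⁻¹ * x⁻¹ * g⁻¹⁻¹ = g⁻¹ * (x * g * x⁻¹ * g⁻¹)⁻¹ * g⁻¹⁻¹ := by group
    rw [e]
    exact hK g⁻¹ (Q.inv_mem hg) _ (K.inv_mem (hg' x hx))

theorem mem_trivOn {Q S K : Subgroup X} {hK : ∀ g ∈ Q, ∀ k ∈ K, g * k * g⁻¹ ∈ K} {g : X} :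
    g ∈ trivOn Q S K hK ↔ g ∈ Q ∧ ∀ x ∈ S, x * g * x⁻¹ * g⁻¹ ∈ K := Iff.rfl

theorem le_trivOn_self {Q S K : Subgroup X} (hK : ∀ g ∈ Q, ∀ k ∈ K, g * k * g⁻¹ ∈ K)
    (hKQ : K ≤ Q) (hKS : ∀ x ∈ S, ∀ k ∈ K, x * k * x⁻¹ ∈ K) : K ≤ trivOn Q S K hK := by
  intro k hk
  exact ⟨hKQ hk, fun x hx => K.mul_mem (hKS x hx k hk) (K.inv_mem hk)⟩

theorem comm_le_of_triv (Q S K : Subgroup X)
    (h : ∀ x ∈ S, ∀ g ∈ Q, x * g * x⁻¹ * g⁻¹ ∈ K) : ⁅Q, S⁆ ≤ K := by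
  rw [Subgroup.commutator_le]
  intro g hg x hx
  have h1 := K.inv_mem (h x hx g hg)
  have e : ⁅g, x⁆ = (x * g * x⁻¹ * g⁻¹)⁻¹ := by
    rw [commutatorElement_def]
    group
  rw [e]
  exact h1

/-- elements of `Q` moved by `d` only inside `K` -/
def dTriv (Q K : Subgroup X) (d : MulAut X) (hK : ∀ g ∈ Q, ∀ k ∈ K, g * k * g⁻¹ ∈ K) :
    Subgroup X where
  carrier := {g | g ∈ Q ∧ g⁻¹ * d g ∈ K}
  one_mem' := ⟨Q.one_mem, by simp [K.one_mem]⟩
  mul_mem' := by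
    rintro g h ⟨hg, hg'⟩ ⟨hh, hh'⟩
    refine ⟨Q.mul_mem hg hh, ?_⟩
    have e : (g * h)⁻¹ * d (g * h) = (h⁻¹ * (g⁻¹ * d g) * h⁻¹⁻¹) * (h⁻¹ * d h) := by
      rw [map_mul]
      group
    rw [e]
    exact K.mul_mem (hK h⁻¹ (Q.inv_mem hh) _ hg') hh'
  inv_mem' := by
    rintro g ⟨hg, hg'⟩
    refine ⟨Q.inv_mem hg, ?_⟩
    have e : g⁻¹⁻¹ * d g⁻¹ = g * (g⁻¹ * d g)⁻¹ * g⁻¹ := by
      rw [map_inv]
      group
    rw [e]
    exact hK g hg _ (K.inv_mem hg')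

theorem mem_dTriv {Q K : Subgroup X} {d : MulAut X}
    {hK : ∀ g ∈ Q, ∀ k ∈ K, g * k * g⁻¹ ∈ K} {g : X} :
    g ∈ dTriv Q K d hK ↔ g ∈ Q ∧ g⁻¹ * d g ∈ K := Iff.rfl

theorem le_dTriv_self {Q K : Subgroup X} {d : MulAut X}
    (hK : ∀ g ∈ Q, ∀ k ∈ K, g * k * g⁻¹ ∈ K) (hKQ : K ≤ Q) (hd : Inv d K) :
    K ≤ dTriv Q K d hK := by
  intro k hk
  exact ⟨hKQ hk, K.mul_mem (K.inv_mem hk) (hd k hk)⟩

theorem fix_le_dTriv {Q K : Subgroup X} {d : MulAut X}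
    (hK : ∀ g ∈ Q, ∀ k ∈ K, g * k * g⁻¹ ∈ K) : Q ⊓ fix d ≤ dTriv Q K d hK := by
  intro g hg
  refine ⟨hg.1, ?_⟩
  rw [mem_fix.mp hg.2, inv_mul_cancel]
  exact K.one_mem

/-- if `d` acts trivially on `Q` modulo `K` and `S = [S, d]`, then `S` acts trivially on `Q`
modulo `K` -/
theorem triv_of_fpf (Q S K : Subgroup X) (d : MulAut X)
    (hKQ : ∀ g ∈ Q, ∀ k ∈ K, g * k * g⁻¹ ∈ K) (hKS : ∀ x ∈ S, ∀ k ∈ K, x * k * x⁻¹ ∈ K)
    (hSQ : ∀ x ∈ S, ∀ g ∈ Q, x * g * x⁻¹ ∈ Q) (hdS : Inv d S)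
    (hd : ∀ g ∈ Q, g⁻¹ * d g ∈ K) (hsurj : ∀ x ∈ S, ∃ z ∈ S, x = z⁻¹ * d z) :
    ∀ x ∈ S, ∀ g ∈ Q, x * g * x⁻¹ * g⁻¹ ∈ K := by
  intro x hx g hg
  obtain ⟨z, hz, rfl⟩ := hsurj x hx
  have hy : d z ∈ S := hdS z hz
  have e1 : d (z * g * z⁻¹) = d z * d g * (d z)⁻¹ := by
    rw [map_mul, map_mul, map_inv]
  have hk1 := hd g hg
  have hk3 := hd (z * g * z⁻¹) (hSQ z hz g hg)
  rw [e1] at hk3
  have hk1' := hKS (d z) hy _ hk1
  have hk2 : z * g⁻¹ * z⁻¹ * (d z * g * (d z)⁻¹) ∈ K := by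
    have h2 := K.mul_mem hk3 (K.inv_mem hk1')
    have e2 : (z * g * z⁻¹)⁻¹ * (d z * d g * (d z)⁻¹) * (d z * (g⁻¹ * d g) * (d z)⁻¹)⁻¹ =
        z * g⁻¹ * z⁻¹ * (d z * g * (d z)⁻¹) := by group
    rw [e2] at h2
    exact h2
  have hk4 := hKS z⁻¹ (S.inv_mem hz) _ hk2
  have hk5 := hKQ g hg _ hk4
  have e3 : g * (z⁻¹ * (z * g⁻¹ * z⁻¹ * (d z * g * (d z)⁻¹)) * z⁻¹⁻¹) * g⁻¹ =
      z⁻¹ * d z * g * (z⁻¹ * d z)⁻¹ * g⁻¹ := by group
  rw [e3] at hk5
  exact hk5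

theorem conj_mem_XN {V N : Subgroup X} (hVn : V.Normal) {g w : X}
    (hg : ∀ k ∈ N, g⁻¹ * k * g ∈ N) (hw : w ∈ V ⊓ Subgroup.centralizer (N : Set X)) :
    g * w * g⁻¹ ∈ V ⊓ Subgroup.centralizer (N : Set X) :=
  ⟨hVn.conj_mem w hw.1 g, conj_mem_centralizer hg hw.2⟩

end Alg

section APrime

variable {X : Type u} [Group X]

theorem aprime [Finite X] {p : ℕ} [hp : Fact p.Prime] (b : MulAut X) (hb : b ^ p = 1)
    (V Z₀ N : Subgroup X) (hVn : V.Normal) (hVc : ∀ u ∈ V, ∀ v ∈ V, u * v = v * u)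
    (hbV : Inv b V) (hbZ : Inv b Z₀) (hZc : ∀ u ∈ Z₀, ∀ v ∈ Z₀, u * v = v * u) (hN : N ≤ Z₀)
    (hmax : ∀ N' : Subgroup X, N' ≤ Z₀ → N < N' → V ⊓ Subgroup.centralizer (N' : Set X) = ⊥)
    (hcop : (Nat.card N).Coprime (Nat.card V)) (hnb : ¬ Inv b N) (g : X) (hbg : b g = g)
    (hgN : ∀ n ∈ N, g * n = n * g) (hN1 : ∀ v ∈ V, b v = v → g * v = v * g) :
    ∀ w ∈ V ⊓ Subgroup.centralizer (N : Set X), g * w = w * g := by
  intro w hw
  have := hVn
  letI : CommGroup ↥V :=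
    { (inferInstance : Group ↥V) with
      mul_comm := fun x y => Subtype.ext (hVc x x.2 y y.2) }
  haveI : Fintype ↥N := Fintype.ofFinite _
  obtain ⟨β, hβc⟩ : ∃ β : MulAut ↥V, ∀ (i : ℕ) (x : ↥V),
      (((β ^ i) x : ↥V) : X) = (b ^ i) (x : X) :=
    ⟨restrictAut b V hbV, fun i x => restrictAut_pow_apply_coe b V hbV i x⟩
  have hβ1 : ∀ x : ↥V, ((β x : ↥V) : X) = b (x : X) := by
    intro x
    have := hβc 1 x
    simpa using this
  have hβp : β ^ p = 1 := by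
    apply MulEquiv.ext
    intro x
    apply Subtype.ext
    rw [hβc, hb]
    rfl
  obtain ⟨ψ, hψc⟩ : ∃ ψ : MulAut ↥V, ∀ x : ↥V, ((ψ x : ↥V) : X) = g * x * g⁻¹ :=
    ⟨MulAut.conjNormal g, fun x => MulAut.conjNormal_apply g x⟩
  obtain ⟨ρ, hρc⟩ : ∃ ρ : ↥N →* MulAut ↥V, ∀ (k : ↥N) (x : ↥V),
      ((ρ k x : ↥V) : X) = k * x * (k : X)⁻¹ :=
    ⟨cj N V (fun k _ x hx => hVn.conj_mem x hx k), fun k x => rfl⟩
  -- the trace of `w`
  let w' : ↥V := ⟨w, hw.1⟩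
  have hTrfix := trace_range_fixed β hβp w'
  have hTrX : b ((∏ i ∈ Finset.range p, (β ^ i) w' : ↥V) : X) =
      ((∏ i ∈ Finset.range p, (β ^ i) w' : ↥V) : X) := by
    rw [← hβ1]
    exact congrArg Subtype.val hTrfix
  have hgTr := hN1 _ (∏ i ∈ Finset.range p, (β ^ i) w' : ↥V).2 hTrX
  have hψTr : ψ (∏ i ∈ Finset.range p, (β ^ i) w') = ∏ i ∈ Finset.range p, (β ^ i) w' := by
    apply Subtype.ext
    rw [hψc, hgTr, mul_inv_cancel_right]
  have hcommψβ : ∀ (i : ℕ) (x : ↥V), ψ ((β ^ i) x) = (β ^ i) (ψ x) := by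
    intro i x
    apply Subtype.ext
    rw [hψc, hβc, hβc, hψc, map_mul, map_mul, map_inv, pow_fix hbg i]
  have htr : ∏ i ∈ Finset.range p, (β ^ i) (ψ w' * w'⁻¹) = 1 := by
    have h1 : ∀ i ∈ Finset.range p, (β ^ i) (ψ w' * w'⁻¹) = ψ ((β ^ i) w') * ((β ^ i) w')⁻¹ := by
      intro i _
      rw [map_mul, map_inv, hcommψβ]
    rw [Finset.prod_congr rfl h1, Finset.prod_mul_distrib, Finset.prod_inv_distrib, ← map_prod,
      hψTr, mul_inv_cancel]
  have hwN : ∀ k : ↥N, (k : X) * w = w * k := fun k =>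
    Subgroup.mem_centralizer_iff.mp hw.2 k k.2
  have htc : ((ψ w' * w'⁻¹ : ↥V) : X) = g * w * g⁻¹ * w⁻¹ := by
    rw [Subgroup.coe_mul, Subgroup.coe_inv, hψc]
  have hcomm_t : ∀ k : ↥N, Commute (k : X) (g * w * g⁻¹ * w⁻¹) := by
    intro k
    have h1 : Commute (k : X) g := (hgN k k.2).symm
    have h2 : Commute (k : X) w := hwN k
    exact ((h1.mul_right h2).mul_right h1.inv_right).mul_right h2.inv_right
  have hfix : ∀ k : ↥N, ρ k (ψ w' * w'⁻¹) = ψ w' * w'⁻¹ := by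
    intro k
    apply Subtype.ext
    rw [hρc, htc, (hcomm_t k).eq, mul_inv_cancel_right]
  have hkill : ∀ i, 0 < i → i < p → nmHom ρ ((β ^ i) (ψ w' * w'⁻¹)) = 1 := by
    intro i hi hip
    have hnbi : ¬ Inv (b ^ i) N := fun hInv =>
      hnb (inv_of_inv_pow hb (Nat.not_dvd_of_pos_of_lt hi hip) hInv)
    have hlt : N < N ⊔ N.map (b ^ i).toMonoidHom := by
      refine lt_of_le_of_ne le_sup_left ?_
      intro heq
      apply hnbi
      intro n hn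
      rw [heq]
      exact (le_sup_right : N.map (b ^ i).toMonoidHom ≤ _) ⟨n, hn, rfl⟩
    have hle : N ⊔ N.map (b ^ i).toMonoidHom ≤ Z₀ := by
      apply sup_le hN
      rintro _ ⟨n, hn, rfl⟩
      exact Inv.pow hbZ i n (hN hn)
    have h0 := hmax _ hle hlt
    obtain ⟨u, hu⟩ : ∃ u : ↥V, u = nmHom ρ ((β ^ i) (ψ w' * w'⁻¹)) := ⟨_, rfl⟩
    rw [← hu]
    have hcent : N ⊔ N.map (b ^ i).toMonoidHom ≤ Subgroup.centralizer ({(u : X)} : Set X) := by
      apply sup_le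
      · intro n₀ hn₀
        rw [Subgroup.mem_centralizer_iff]
        intro h hh
        rw [Set.mem_singleton_iff] at hh
        rw [hh]
        have h1 : ρ ⟨n₀, hn₀⟩ u = u := by rw [hu]; exact nmHom_fixed ρ _ _
        have h2 := congrArg Subtype.val h1
        rw [hρc] at h2
        change n₀ * (u : X) * n₀⁻¹ = u at h2
        calc (u : X) * n₀ = (n₀ * u * n₀⁻¹) * n₀ := by rw [h2]
          _ = n₀ * u := by group
      · rintro _ ⟨n₁, hn₁, rfl⟩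
        rw [Subgroup.mem_centralizer_iff]
        intro h hh
        rw [Set.mem_singleton_iff] at hh
        rw [hh]
        change (u : X) * (b ^ i) n₁ = (b ^ i) n₁ * u
        -- conjugation by `m = b ^ i n₁`
        have hmZ : (b ^ i) n₁ ∈ Z₀ := Inv.pow hbZ i n₁ (hN hn₁)
        have hψm : ∀ k x, (MulAut.conjNormal ((b ^ i) n₁) : MulAut ↥V) (ρ k x) =
            ρ k ((MulAut.conjNormal ((b ^ i) n₁) : MulAut ↥V) x) := by
          intro k x
          apply Subtype.ext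
          rw [MulAut.conjNormal_apply, hρc, hρc, MulAut.conjNormal_apply]
          have h3 : Commute ((b ^ i) n₁) (k : X) := hZc _ hmZ _ (hN k.2)
          calc (b ^ i) n₁ * ((k : X) * x * (k : X)⁻¹) * ((b ^ i) n₁)⁻¹
              = ((b ^ i) n₁ * k) * x * ((k : X)⁻¹ * ((b ^ i) n₁)⁻¹) := by group
            _ = (k * (b ^ i) n₁) * x * (((b ^ i) n₁)⁻¹ * (k : X)⁻¹) := by
                rw [h3.eq, h3.inv_inv.eq.symm]
            _ = k * ((b ^ i) n₁ * x * ((b ^ i) n₁)⁻¹) * (k : X)⁻¹ := by group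
        have hfixt : (MulAut.conjNormal ((b ^ i) n₁) : MulAut ↥V) ((β ^ i) (ψ w' * w'⁻¹)) =
            (β ^ i) (ψ w' * w'⁻¹) := by
          apply Subtype.ext
          rw [MulAut.conjNormal_apply, hβc, ← map_inv, ← map_mul, ← map_mul]
          have h4 := congrArg Subtype.val (hfix ⟨n₁, hn₁⟩)
          rw [hρc] at h4
          change n₁ * ((ψ w' * w'⁻¹ : ↥V) : X) * n₁⁻¹ = _ at h4
          rw [h4]
        have h5 := nmHom_comm ρ (MulAut.conjNormal ((b ^ i) n₁) : MulAut ↥V) hψm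
          ((β ^ i) (ψ w' * w'⁻¹))
        rw [hfixt, ← hu] at h5
        have h6 := congrArg Subtype.val h5
        rw [MulAut.conjNormal_apply] at h6
        calc (u : X) * (b ^ i) n₁ = ((b ^ i) n₁ * u * ((b ^ i) n₁)⁻¹) * (b ^ i) n₁ := by rw [h6]
          _ = (b ^ i) n₁ * u := by group
    have hmem : (u : X) ∈ V ⊓ Subgroup.centralizer
        ((N ⊔ N.map (b ^ i).toMonoidHom : Subgroup X) : Set X) := by
      refine Subgroup.mem_inf.mpr ⟨u.2, ?_⟩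
      rw [Subgroup.mem_centralizer_iff]
      intro h hh
      have := Subgroup.mem_centralizer_iff.mp (hcent hh) (u : X) (Set.mem_singleton _)
      exact this.symm
    rw [h0, Subgroup.mem_bot] at hmem
    exact Subtype.ext hmem
  have hcop' : (Fintype.card ↥N).Coprime (Nat.card ↥V) := by
    rw [← Nat.card_eq_fintype_card]
    exact hcop
  have ht : ψ w' * w'⁻¹ = 1 := ap_abs ρ β hp.out.pos _ htr hfix hkill hcop'
  have h7 := congrArg Subtype.val ht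
  rw [htc] at h7
  change g * w * g⁻¹ * w⁻¹ = 1 at h7
  calc g * w = (g * w * g⁻¹ * w⁻¹) * (w * g) := by group
    _ = w * g := by rw [h7, one_mul]

end APrime

end Cfsg.Agent.Lib.Helper6.Wd
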