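import Mathlib
import Cfsg.Agent.Lib.Helper6.WdE

/-! Ward's theorem, part F: the minimal configuration, case `C_Q(S) ≠ 1`. -/

set_option autoImplicit false

namespace Cfsg.Agent.Lib.Helper6.Wd

open Cfsg.Agent.Lib.Helper8.FP4

open scoped commutatorElement

universe u

variable {X : Type u} [Group X]

theorem conj_eq_of_comm {g k : X} (h : g * k = k * g) : g⁻¹ * k * g = k := by
  rw [mul_assoc, ← h, inv_mul_cancel_left]

theorem conj_eq_of_comm' {g k : X} (h : g * k = k * g) : g * k * g⁻¹ = k := by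
  rw [h, mul_inv_cancel_right]

theorem lt_sup_zpowers {N : Subgroup X} {u : X} (hu : u ∉ N) : N < N ⊔ Subgroup.zpowers u := by
  refine lt_of_le_of_ne le_sup_left ?_
  intro heq
  apply hu
  rw [heq]
  exact (le_sup_right : Subgroup.zpowers u ≤ _) (Subgroup.mem_zpowers u)

/-- the fixed points of `N` on `V` -/
abbrev XN (V N : Subgroup X) : Subgroup X := V ⊓ Subgroup.centralizer (N : Set X)

/-- the kernel of `Q` on the fixed points of `N` on `V` -/
abbrev KN (V Q N : Subgroup X) : Subgroup X := Q ⊓ Subgroup.centralizer (XN V N : Set X)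

namespace Min

variable [Finite X] {p : ℕ} {a c : MulAut X} {r q s : ℕ} {V Q S : Subgroup X}
variable [hp : Fact p.Prime] [hr : Fact r.Prime] [hq : Fact q.Prime] [hs : Fact s.Prime]

theorem kill (M : Min p a c r q s V Q S) (d d' : MulAut X) (hpair : Hyp p d d')
    (U : Subgroup X) (hUV : U ≤ V) (hdU : Inv d U) (hdQ : Inv d Q)
    (hnorm : ∀ y ∈ Q, ∀ u ∈ U, y * u * y⁻¹ ∈ U) (hfix : ∀ u ∈ U, d u = u → u = 1) :
    ∀ y ∈ Q ⊓ fix d', ∀ u ∈ U, y * u = u * y := by
  have hcomm : d' * d = d * d' := hpair.comm.symm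
  apply frobU d hpair.apow U (Q ⊓ fix d') hdU (Inv.inf' hdQ (Inv.fix_of_comm hcomm))
    (fun u hu v hv => M.Vc u (hUV hu) v (hUV hv))
    (fun y hy u hu => hnorm y hy.1 u hu)
  · intro y hy i hi hip hyi
    have hnd : ¬ p ∣ i := Nat.not_dvd_of_pos_of_lt hi hip
    have h1 : d y = y := fix_of_pow_fix hpair.apow hnd hyi
    exact hpair.fpf y h1 (mem_fix.mp hy.2)
  · have h1 : (Nat.card ↥(Q ⊓ fix d')).Coprime (Nat.card V) := M.coprime_QV _ inf_le_left
    exact Nat.Coprime.coprime_dvd_right (Subgroup.card_dvd_of_le hUV) h1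
  · exact hfix

theorem not_le (M : Min p a c r q s V Q S) (K : Subgroup X)
    (h : ∀ x ∈ S, ∀ g ∈ Q, x * g * x⁻¹ * g⁻¹ ∈ K) : Q ≤ K :=
  M.Qgen.trans (comm_le_of_triv Q S K h)

theorem not_cent (M : Min p a c r q s V Q S) (h : ∀ x ∈ S, ∀ g ∈ Q, x * g = g * x) : False := by
  apply M.Qne
  rw [eq_bot_iff]
  apply M.not_le ⊥
  intro x hx g hg
  rw [Subgroup.mem_bot, h x hx g hg]
  group

theorem cV_Q (M : Min p a c r q s V Q S) : V ⊓ Subgroup.centralizer (Q : Set X) = ⊥ :=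
  M.cV_trivial Q le_rfl M.Qne M.Qa M.Qc
    (fun g hg k hk => Q.mul_mem (Q.mul_mem (Q.inv_mem hg) hk) hg)
    (fun x hx k hk => by
      have := M.SQ x⁻¹ (S.inv_mem hx) k hk
      rwa [inv_inv] at this)

theorem false_of_a_fpfV (M : Min p a c r q s V Q S) (hfix : ∀ v ∈ V, a v = v → v = 1) :
    False := by
  have hVn := M.Vn
  have hkill : ∀ j : ℕ, Q ⊓ fix (a ^ j * c) ≤ fix a := by
    intro j y hy
    have h1 := M.kill a (a ^ j * c) (M.hyp.pair_b' j) V le_rfl M.Va M.Qa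
      (fun y _ u hu => hVn.conj_mem u hu y) hfix y hy
    have h2 : y = 1 := M.faith y hy.1 h1
    rw [h2]
    exact (fix a).one_mem
  have hQ : Q ≤ fix a := M.Q_gen_fix (fix a) inf_le_right hkill
  apply M.not_cent
  intro x hx g hg
  exact M.N2 g hg (mem_fix.mp (hQ hg)) x hx

theorem false_of_b_fpfV (M : Min p a c r q s V Q S) (i : ℕ)
    (hfix : ∀ v ∈ V, (a ^ i * c) v = v → v = 1) : False := by
  have hVn := M.Vn
  have hnorm : ∀ y ∈ Q, ∀ u ∈ V, y * u * y⁻¹ ∈ V := fun y _ u hu => hVn.conj_mem u hu y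
  have hka : Q ⊓ fix a ≤ fix (a ^ i * c) := by
    intro y hy
    have h1 := M.kill (a ^ i * c) a (M.hyp.pair_b i) V le_rfl (M.bInvV i) (M.bInvQ i) hnorm
      hfix y hy
    rw [M.faith y hy.1 h1]
    exact Subgroup.one_mem _
  have hkb : ∀ j : ℕ, Q ⊓ fix (a ^ j * c) ≤ fix (a ^ i * c) := by
    intro j
    by_cases hij : a ^ i * c = a ^ j * c
    · rw [← hij]
      exact inf_le_right
    · intro y hy
      have h1 := M.kill (a ^ i * c) (a ^ j * c) (M.hyp.pair_of_ne i j hij) V le_rfl (M.bInvV i)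
        (M.bInvQ i) hnorm hfix y hy
      rw [M.faith y hy.1 h1]
      exact Subgroup.one_mem _
  have hQ : Q ≤ fix (a ^ i * c) := M.Q_gen_fix _ hka hkb
  have htriv := triv_of_fpf Q S ⊥ (a ^ i * c)
    (fun g _ k hk => by
      rw [Subgroup.mem_bot] at hk ⊢
      rw [hk]
      group)
    (fun x _ k hk => by
      rw [Subgroup.mem_bot] at hk ⊢
      rw [hk]
      group)
    M.SQ (M.bInvS i)
    (fun g hg => by rw [Subgroup.mem_bot, mem_fix.mp (hQ hg), inv_mul_cancel])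
    (M.S_surj i)
  apply M.Qne
  rw [eq_bot_iff]
  exact M.not_le ⊥ htriv

theorem false_of_Zs_ne_bot (M : Min p a c r q s V Q S) (hZ : Zs Q S ≠ ⊥) : False := by
  have hVn := M.Vn
  have hZQ : Zs Q S ≤ Q := Zs_le Q S
  have hZc : ∀ u ∈ Zs Q S, ∀ v ∈ Zs Q S, u * v = v * u :=
    fun u hu v hv => M.Zs_central u hu v (hZQ hv)
  obtain ⟨N, hNZ, hXN, hmax⟩ := exists_maxN V (Zs Q S) M.V_ne_bot
  have hNQ : N ≤ Q := hNZ.trans hZQ
  have hNcQ : ∀ n ∈ N, ∀ g ∈ Q, g * n = n * g := fun n hn g hg =>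
    (M.Zs_central n (hNZ hn) g hg).symm
  have hNcS : ∀ n ∈ N, ∀ x ∈ S, x * n = n * x := fun n hn x hx =>
    (mem_Zs.mp (hNZ hn)).2 x hx
  have hQN : ∀ g ∈ Q, ∀ k ∈ N, g⁻¹ * k * g ∈ N := by
    intro g hg k hk
    rw [conj_eq_of_comm (hNcQ k hk g hg)]
    exact hk
  have hSN : ∀ x ∈ S, ∀ k ∈ N, x⁻¹ * k * x ∈ N := by
    intro x hx k hk
    rw [conj_eq_of_comm (hNcS k hk x hx)]
    exact hk
  have hXQ : ∀ g ∈ Q, ∀ w ∈ XN V N, g * w * g⁻¹ ∈ XN V N :=
    fun g hg w hw => conj_mem_XN hVn (hQN g hg) hw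
  have hXQ' : ∀ g ∈ Q, ∀ w ∈ XN V N, g⁻¹ * w * g ∈ XN V N := by
    intro g hg w hw
    have := hXQ g⁻¹ (Q.inv_mem hg) w hw
    rwa [inv_inv] at this
  have hXS : ∀ x ∈ S, ∀ w ∈ XN V N, x * w * x⁻¹ ∈ XN V N :=
    fun x hx w hw => conj_mem_XN hVn (hSN x hx) hw
  have hXS' : ∀ x ∈ S, ∀ w ∈ XN V N, x⁻¹ * w * x ∈ XN V N := by
    intro x hx w hw
    have := hXS x⁻¹ (S.inv_mem hx) w hw
    rwa [inv_inv] at this
  have hKQ : ∀ g ∈ Q, ∀ k ∈ KN V Q N, g * k * g⁻¹ ∈ KN V Q N := fun g hg k hk =>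
    ⟨Q.mul_mem (Q.mul_mem hg hk.1) (Q.inv_mem hg), conj_mem_centralizer (hXQ' g hg) hk.2⟩
  have hKS : ∀ x ∈ S, ∀ k ∈ KN V Q N, x * k * x⁻¹ ∈ KN V Q N := fun x hx k hk =>
    ⟨M.SQ x hx k hk.1, conj_mem_centralizer (hXS' x hx) hk.2⟩
  have hKZ : ∀ g ∈ Zs Q S, g ∈ KN V Q N → g ∈ N := fun g hg hk =>
    mem_of_cent V (Zs Q S) N hNZ hXN hmax g hg
      (fun w hw => (Subgroup.mem_centralizer_iff.mp hk.2 w hw).symm)
  have hCZ : V ⊓ Subgroup.centralizer (Zs Q S : Set X) = ⊥ :=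
    M.cV_trivial (Zs Q S) hZQ hZ M.Zs_inv_a M.Zs_inv_c
      (fun g hg k hk => by
        rw [conj_eq_of_comm (M.Zs_central k hk g hg).symm]
        exact hk)
      (fun x hx k hk => by
        rw [conj_eq_of_comm ((mem_Zs.mp hk).2 x hx)]
        exact hk)
  have hNneZ : N ≠ Zs Q S := by
    intro h
    apply hXN
    rw [h]
    exact hCZ
  have hfinal : Q ≤ KN V Q N → False := by
    intro hQK
    apply hNneZ
    apply le_antisymm hNZ
    intro z hz
    exact hKZ z hz (hQK (hZQ hz))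
  have hA'a : ¬ Inv a N → Q ⊓ fix a ≤ KN V Q N := by
    intro hna g hg
    refine Subgroup.mem_inf.mpr ⟨hg.1, ?_⟩
    rw [Subgroup.mem_centralizer_iff]
    intro w hw
    have := aprime a M.hyp.apow V (Zs Q S) N hVn M.Vc M.Va M.Zs_inv_a hZc hNZ hmax
      (M.coprime_QV N hNQ) hna g (mem_fix.mp hg.2) (fun n hn => hNcQ n hn g hg.1)
      (fun v hv hav => M.N1a g hg.1 (mem_fix.mp hg.2) v hv hav) w hw
    exact this.symm
  have hA'b : ∀ i : ℕ, ¬ Inv (a ^ i * c) N → Q ⊓ fix (a ^ i * c) ≤ KN V Q N := by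
    intro i hnb g hg
    refine Subgroup.mem_inf.mpr ⟨hg.1, ?_⟩
    rw [Subgroup.mem_centralizer_iff]
    intro w hw
    have := aprime (a ^ i * c) (M.hyp.bpow i) V (Zs Q S) N hVn M.Vc (M.bInvV i)
      (Inv.mul (Inv.pow M.Zs_inv_a i) M.Zs_inv_c) hZc hNZ hmax
      (M.coprime_QV N hNQ) hnb g (mem_fix.mp hg.2) (fun n hn => hNcQ n hn g hg.1)
      (fun v hv hbv => M.N1b i g hg.1 (mem_fix.mp hg.2) v hv hbv) w hw
    exact this.symm
  by_cases ha : Inv a N
  · by_cases hb : ∃ i, Inv (a ^ i * c) N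
    · -- `N` is invariant, hence trivial
      obtain ⟨i, hi⟩ := hb
      have hc : Inv c N := inv_c_of M.hyp ha hi
      have hNbot : N = ⊥ := by
        by_contra hne
        exact hXN (M.cV_trivial N hNQ hne ha hc hQN hSN)
      have hZnil : Group.IsNilpotent ↥(Zs Q S) := (M.Qq.to_le hZQ).isNilpotent
      have hdir : Zs Q S ⊓ fix a ≠ ⊥ ∨ ∃ j, Zs Q S ⊓ fix (a ^ j * c) ≠ ⊥ := by
        by_contra hcon
        push Not at hcon
        apply hZ
        rw [eq_bot_iff]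
        exact gen_sub a c M.hyp.comm M.hyp.apow M.hyp.cpow M.hyp.cop (Zs Q S) M.Zs_inv_a
          M.Zs_inv_c hZnil ⊥ (le_of_eq hcon.1) (fun j => le_of_eq (hcon.2 j))
      have hz0 : ∀ z ∈ Zs Q S, z ≠ 1 → ∀ v ∈ V, z * v = v * z → v = 1 := by
        intro z hz hz1 v hv hzv
        have hzN : z ∉ N := by
          rw [hNbot, Subgroup.mem_bot]
          exact hz1
        have hlt : N < N ⊔ Subgroup.zpowers z := lt_sup_zpowers hzN
        have hle : N ⊔ Subgroup.zpowers z ≤ Zs Q S :=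
          sup_le hNZ (by rw [Subgroup.zpowers_le]; exact hz)
        have h0 := hmax _ hle hlt
        have hvN : v ∈ Subgroup.centralizer (N : Set X) := by
          rw [hNbot, Subgroup.mem_centralizer_iff]
          intro h hh
          rw [Subgroup.coe_bot, Set.mem_singleton_iff] at hh
          rw [hh, one_mul, mul_one]
        have hmem : v ∈ V ⊓ Subgroup.centralizer
            ((N ⊔ Subgroup.zpowers z : Subgroup X) : Set X) :=
          ⟨hv, cent_sup_zpowers hvN hzv⟩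
        rw [h0, Subgroup.mem_bot] at hmem
        exact hmem
      rcases hdir with hda | ⟨j, hdb⟩
      · obtain ⟨z, hz, hz1⟩ : ∃ z ∈ Zs Q S ⊓ fix a, z ≠ 1 := by
          by_contra hcon
          push Not at hcon
          exact hda ((Subgroup.eq_bot_iff_forall _).mpr hcon)
        apply M.false_of_a_fpfV
        intro v hv hav
        exact hz0 z hz.1 hz1 v hv (M.N1a z (hZQ hz.1) (mem_fix.mp hz.2) v hv hav)
      · obtain ⟨z, hz, hz1⟩ : ∃ z ∈ Zs Q S ⊓ fix (a ^ j * c), z ≠ 1 := by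
          by_contra hcon
          push Not at hcon
          exact hdb ((Subgroup.eq_bot_iff_forall _).mpr hcon)
        apply M.false_of_b_fpfV j
        intro v hv hbv
        exact hz0 z hz.1 hz1 v hv (M.N1b j z (hZQ hz.1) (mem_fix.mp hz.2) v hv hbv)
    · -- only `a` fixes `N`
      push Not at hb
      apply hfinal
      apply M.not_le
      have hT : Q ≤ trivOn Q S (KN V Q N) hKQ := by
        apply M.Q_gen_fix
        · intro g hg
          have hgZ := M.fixQ_le_Zs hg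
          refine ⟨hg.1, fun x hx => ?_⟩
          rw [M.S_conj_Zs x hx g hgZ, mul_inv_cancel]
          exact Subgroup.one_mem _
        · intro i
          exact (hA'b i (hb i)).trans (le_trivOn_self hKQ inf_le_left hKS)
      intro x hx g hg
      exact (hT hg).2 x hx
  · by_cases hb : ∃ i, Inv (a ^ i * c) N
    · -- only one `a ^ i * c` fixes `N`
      obtain ⟨i, hi⟩ := hb
      have hdK : Inv (a ^ i * c) (KN V Q N) :=
        Inv.inf' (M.bInvQ i) (Inv.centralizer (Inv.inf' (M.bInvV i) (Inv.centralizer hi)))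
      have hT : Q ≤ dTriv Q (KN V Q N) (a ^ i * c) hKQ := by
        apply M.Q_gen_fix
        · exact (hA'a ha).trans (le_dTriv_self hKQ inf_le_left hdK)
        · intro j
          by_cases hj : Inv (a ^ j * c) N
          · have heq : a ^ j * c = a ^ i * c := by
              by_contra hne
              exact ha (inv_a_of_two M.hyp hne hj hi)
            rw [heq]
            exact fix_le_dTriv hKQ
          · exact (hA'b j hj).trans (le_dTriv_self hKQ inf_le_left hdK)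
      apply hfinal
      apply M.not_le
      exact triv_of_fpf Q S (KN V Q N) (a ^ i * c) hKQ hKS M.SQ (M.bInvS i)
        (fun g hg => (hT hg).2) (M.S_surj i)
    · -- nothing fixes `N`
      push Not at hb
      apply hfinal
      exact M.Q_gen_fix _ (hA'a ha) (fun i => hA'b i (hb i))

end Min

end Cfsg.Agent.Lib.Helper6.Wd
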