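import Mathlib
import Cfsg.Agent.Lib.Helper6.WdF

/-! Ward's theorem, part G: the minimal configuration, case `C_Q(S) = 1`; the contradiction. -/

set_option autoImplicit false

namespace Cfsg.Agent.Lib.Helper6.Wd

open Cfsg.Agent.Lib.Helper8.FP4

open scoped commutatorElement

universe u

variable {X : Type u} [Group X]

/-- maximal subgroups of `Q` with nontrivial fixed points on `V` -/
def IsMaxN (V Q N : Subgroup X) : Prop :=
  N ≤ Q ∧ V ⊓ Subgroup.centralizer (N : Set X) ≠ ⊥ ∧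
    ∀ N' : Subgroup X, N' ≤ Q → N < N' → V ⊓ Subgroup.centralizer (N' : Set X) = ⊥

theorem cent_conj {N : Subgroup X} {x v : X} (hv : v ∈ Subgroup.centralizer (N : Set X)) :
    x * v * x⁻¹ ∈ Subgroup.centralizer
      ((N.map (MulAut.conj x).toMonoidHom : Subgroup X) : Set X) := by
  rw [Subgroup.mem_centralizer_iff]
  rintro _ ⟨n, hn, rfl⟩
  change x * n * x⁻¹ * (x * v * x⁻¹) = x * v * x⁻¹ * (x * n * x⁻¹)
  have h1 := Subgroup.mem_centralizer_iff.mp hv n hn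
  calc x * n * x⁻¹ * (x * v * x⁻¹) = x * (n * v) * x⁻¹ := by group
    _ = x * (v * n) * x⁻¹ := by rw [h1]
    _ = x * v * x⁻¹ * (x * n * x⁻¹) := by group

theorem IsMaxN.conj {V Q N : Subgroup X} (hVn : V.Normal) (x : X)
    (hxQ : ∀ g ∈ Q, x * g * x⁻¹ ∈ Q) (hxQ' : ∀ g ∈ Q, x⁻¹ * g * x ∈ Q) (h : IsMaxN V Q N) :
    IsMaxN V Q (N.map (MulAut.conj x).toMonoidHom) := by
  obtain ⟨hNQ, hXN, hmax⟩ := h
  refine ⟨?_, ?_, ?_⟩
  · rintro _ ⟨n, hn, rfl⟩
    exact hxQ n (hNQ hn)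
  · intro hbot
    apply hXN
    rw [eq_bot_iff]
    intro w hw
    have h1 : x * w * x⁻¹ ∈ V ⊓ Subgroup.centralizer
        ((N.map (MulAut.conj x).toMonoidHom : Subgroup X) : Set X) :=
      ⟨hVn.conj_mem w hw.1 x, cent_conj hw.2⟩
    rw [hbot, Subgroup.mem_bot] at h1
    rw [Subgroup.mem_bot]
    calc w = x⁻¹ * (x * w * x⁻¹) * x := by group
      _ = 1 := by rw [h1]; group
  · intro N'' hN''Q hlt
    have hle3 : N''.map (MulAut.conj x⁻¹).toMonoidHom ≤ Q := by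
      rintro _ ⟨n, hn, rfl⟩
      have := hxQ' n (hN''Q hn)
      change x⁻¹ * n * x⁻¹⁻¹ ∈ Q
      rwa [inv_inv]
    have hlt3 : N < N''.map (MulAut.conj x⁻¹).toMonoidHom := by
      apply lt_of_le_not_ge
      · intro n hn
        refine ⟨x * n * x⁻¹, hlt.le ⟨n, hn, rfl⟩, ?_⟩
        change x⁻¹ * (x * n * x⁻¹) * x⁻¹⁻¹ = n
        group
      · intro hge
        apply not_le_of_gt hlt
        intro h hh
        have h1 : x⁻¹ * h * x ∈ N := by
          apply hge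
          refine ⟨h, hh, ?_⟩
          change x⁻¹ * h * x⁻¹⁻¹ = x⁻¹ * h * x
          rw [inv_inv]
        refine ⟨x⁻¹ * h * x, h1, ?_⟩
        change x * (x⁻¹ * h * x) * x⁻¹ = h
        group
    have h0 := hmax _ hle3 hlt3
    rw [eq_bot_iff]
    intro v hv
    have h1 : x⁻¹ * v * x⁻¹⁻¹ ∈ V ⊓ Subgroup.centralizer
        ((N''.map (MulAut.conj x⁻¹).toMonoidHom : Subgroup X) : Set X) :=
      ⟨hVn.conj_mem v hv.1 x⁻¹, cent_conj hv.2⟩
    rw [h0, Subgroup.mem_bot, inv_inv] at h1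
    rw [Subgroup.mem_bot]
    calc v = x * (x⁻¹ * v * x) * x⁻¹ := by group
      _ = 1 := by rw [h1]; group

namespace Min

variable [Finite X] {p : ℕ} {a c : MulAut X} {r q s : ℕ} {V Q S : Subgroup X}
variable [hp : Fact p.Prime] [hr : Fact r.Prime] [hq : Fact q.Prime] [hs : Fact s.Prime]

theorem Q_comm (M : Min p a c r q s V Q S) (hZ : Zs Q S = ⊥) :
    ∀ u ∈ Q, ∀ v ∈ Q, u * v = v * u := by
  have h1 := M.comm_le_Zs
  rw [hZ, le_bot_iff, Subgroup.commutator_eq_bot_iff_le_centralizer] at h1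
  intro u hu v hv
  exact (Subgroup.mem_centralizer_iff.mp (h1 hu) v hv).symm

theorem Q_fix_a (M : Min p a c r q s V Q S) (hZ : Zs Q S = ⊥) : Q ⊓ fix a = ⊥ := by
  rw [eq_bot_iff]
  exact M.fixQ_le_Zs.trans (le_of_eq hZ)

theorem dirN (M : Min p a c r q s V Q S) (hZ : Zs Q S = ⊥) (N : Subgroup X)
    (hN : IsMaxN V Q N) :
    ∃ i : ℕ, Inv (a ^ i * c) N ∧ ∀ g ∈ Q, g⁻¹ * (a ^ i * c) g ∈ N := by
  obtain ⟨hNQ, hXN, hmax⟩ := hN
  have hVn := M.Vn
  have hQc := M.Q_comm hZ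
  have hQN : ∀ g ∈ Q, ∀ k ∈ N, g⁻¹ * k * g ∈ N := by
    intro g hg k hk
    rw [conj_eq_of_comm (hQc g hg k (hNQ hk))]
    exact hk
  have hNK : ∀ g ∈ Q, ∀ k ∈ N, g * k * g⁻¹ ∈ N := by
    intro g hg k hk
    rw [conj_eq_of_comm' (hQc g hg k (hNQ hk))]
    exact hk
  have hNneQ : N ≠ Q := by
    intro h
    apply hXN
    rw [h]
    exact M.cV_Q
  have hKN : ∀ g ∈ Q, (∀ w ∈ V ⊓ Subgroup.centralizer (N : Set X), g * w = w * g) → g ∈ N :=
    fun g hg h => mem_of_cent V Q N hNQ hXN hmax g hg h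
  have hex : ∃ i : ℕ, ¬ (Q ⊓ fix (a ^ i * c) ≤ N) := by
    by_contra hcon
    push Not at hcon
    apply hNneQ
    apply le_antisymm hNQ
    apply M.Q_gen_fix N _ hcon
    rw [M.Q_fix_a hZ]
    exact bot_le
  obtain ⟨i, hi⟩ := hex
  obtain ⟨u, hu, huN⟩ := SetLike.not_le_iff_exists.mp hi
  have hInv : Inv (a ^ i * c) N := by
    by_contra hnb
    apply hi
    intro g hg
    apply hKN g hg.1
    exact aprime (a ^ i * c) (M.hyp.bpow i) V Q N hVn M.Vc (M.bInvV i) (M.bInvQ i) hQc hNQ hmax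
      (M.coprime_QV N hNQ) hnb g (mem_fix.mp hg.2) (fun n hn => hQc g hg.1 n (hNQ hn))
      (fun v hv hbv => M.N1b i g hg.1 (mem_fix.mp hg.2) v hv hbv)
  have hInvX : Inv (a ^ i * c) (V ⊓ Subgroup.centralizer (N : Set X)) :=
    Inv.inf' (M.bInvV i) (Inv.centralizer hInv)
  have hfpfX : ∀ w ∈ V ⊓ Subgroup.centralizer (N : Set X), (a ^ i * c) w = w → w = 1 := by
    intro w hw hbw
    have huw : u * w = w * u := M.N1b i u hu.1 (mem_fix.mp hu.2) w hw.1 hbw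
    have hlt : N < N ⊔ Subgroup.zpowers u := lt_sup_zpowers huN
    have hle : N ⊔ Subgroup.zpowers u ≤ Q :=
      sup_le hNQ (by rw [Subgroup.zpowers_le]; exact hu.1)
    have h0 := hmax _ hle hlt
    have hmem : w ∈ V ⊓ Subgroup.centralizer
        ((N ⊔ Subgroup.zpowers u : Subgroup X) : Set X) :=
      ⟨hw.1, cent_sup_zpowers hw.2 huw⟩
    rw [h0, Subgroup.mem_bot] at hmem
    exact hmem
  have hnormX : ∀ y ∈ Q, ∀ w ∈ V ⊓ Subgroup.centralizer (N : Set X),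
      y * w * y⁻¹ ∈ V ⊓ Subgroup.centralizer (N : Set X) :=
    fun y hy w hw => conj_mem_XN hVn (hQN y hy) hw
  have hT : Q ≤ dTriv Q N (a ^ i * c) hNK := by
    apply M.Q_gen_fix
    · rw [M.Q_fix_a hZ]
      exact bot_le
    · intro j
      by_cases hij : a ^ i * c = a ^ j * c
      · rw [← hij]
        exact fix_le_dTriv hNK
      · refine le_trans ?_ (le_dTriv_self hNK hNQ hInv)
        intro y hy
        apply hKN y hy.1
        exact M.kill (a ^ i * c) (a ^ j * c) (M.hyp.pair_of_ne i j hij)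
          (V ⊓ Subgroup.centralizer (N : Set X)) inf_le_left hInvX (M.bInvQ i) hnormX hfpfX y hy
  exact ⟨i, hInv, fun g hg => (hT hg).2⟩

theorem false_of_Zs_eq_bot (M : Min p a c r q s V Q S) (hZ : Zs Q S = ⊥) : False := by
  have hVn := M.Vn
  have hQc := M.Q_comm hZ
  obtain ⟨N, hNQ, hXN, hmax⟩ := exists_maxN V Q M.V_ne_bot
  have hN : IsMaxN V Q N := ⟨hNQ, hXN, hmax⟩
  obtain ⟨i, hInv, hd⟩ := M.dirN hZ N hN
  have hcl2 : ∀ x ∈ S, Inv (a ^ i * c) (N.map (MulAut.conj x).toMonoidHom) := by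
    intro x hx
    have hN' : IsMaxN V Q (N.map (MulAut.conj x).toMonoidHom) :=
      hN.conj hVn x (fun g hg => M.SQ x hx g hg) (fun g hg => by
        have := M.SQ x⁻¹ (S.inv_mem hx) g hg
        rwa [inv_inv] at this)
    obtain ⟨j, hj, -⟩ := M.dirN hZ _ hN'
    have hbx : (a ^ i * c) x ∈ S := M.bInvS i x hx
    have hy : a (x * ((a ^ i * c) x)⁻¹) = x * ((a ^ i * c) x)⁻¹ := by
      have h1 : a x = x := M.Sfix hx
      have h2 : a ((a ^ i * c) x) = (a ^ i * c) x := M.Sfix hbx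
      rw [map_mul, map_inv, h1, h2]
    have hφ : ∀ g ∈ N.map (MulAut.conj x).toMonoidHom,
        x * ((a ^ i * c) x)⁻¹ * (a ^ i * c) g * (x * ((a ^ i * c) x)⁻¹)⁻¹ ∈
          N.map (MulAut.conj x).toMonoidHom := by
      rintro _ ⟨n, hn, rfl⟩
      refine ⟨(a ^ i * c) n, hInv n hn, ?_⟩
      change x * (a ^ i * c) n * x⁻¹ =
        x * ((a ^ i * c) x)⁻¹ * (a ^ i * c) (x * n * x⁻¹) * (x * ((a ^ i * c) x)⁻¹)⁻¹
      rw [map_mul, map_mul, map_inv]
      group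
    exact twist M.hyp _ i j _ hy hj hφ
  have hcl3 : ∀ w ∈ S, ∀ n ∈ N, w * n * w⁻¹ ∈ N := by
    intro w hw n hn
    obtain ⟨z, hz, rfl⟩ := M.S_surj i w hw
    obtain ⟨n', hn', rfl⟩ := hInv.exists_preimage hn
    have h1 := hcl2 z hz ((MulAut.conj z).toMonoidHom n') ⟨n', hn', rfl⟩
    obtain ⟨n₂, hn₂, h2⟩ := h1
    change z * n₂ * z⁻¹ = (a ^ i * c) (z * n' * z⁻¹) at h2
    rw [map_mul, map_mul, map_inv] at h2
    have h3 : z⁻¹ * (a ^ i * c) z * (a ^ i * c) n' * (z⁻¹ * (a ^ i * c) z)⁻¹ = n₂ := by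
      calc z⁻¹ * (a ^ i * c) z * (a ^ i * c) n' * (z⁻¹ * (a ^ i * c) z)⁻¹
          = z⁻¹ * ((a ^ i * c) z * (a ^ i * c) n' * ((a ^ i * c) z)⁻¹) * z := by group
        _ = z⁻¹ * (z * n₂ * z⁻¹) * z := by rw [h2]
        _ = n₂ := by group
    rw [h3]
    exact hn₂
  have hNK : ∀ g ∈ Q, ∀ k ∈ N, g * k * g⁻¹ ∈ N := by
    intro g hg k hk
    rw [conj_eq_of_comm' (hQc g hg k (hNQ hk))]
    exact hk
  have htriv := triv_of_fpf Q S N (a ^ i * c) hNK hcl3 M.SQ (M.bInvS i) hd (M.S_surj i)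
  have hQN : Q ≤ N := M.not_le N htriv
  apply hXN
  rw [le_antisymm hNQ hQN]
  exact M.cV_Q

/-- the minimal configuration does not exist -/
theorem false (M : Min p a c r q s V Q S) : False := by
  by_cases hZ : Zs Q S = ⊥
  · exact M.false_of_Zs_eq_bot hZ
  · exact M.false_of_Zs_ne_bot hZ

end Min

end Cfsg.Agent.Lib.Helper6.Wd
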