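import Mathlib
import Cfsg.Agent.Lib.Helper6.WdG

/-! Ward's theorem, part H: triples `(V, Q, S)` and their transfer to subgroups and quotients. -/

set_option autoImplicit false

namespace Cfsg.Agent.Lib.Helper6.Wd

open Cfsg.Agent.Lib.Helper8.FP4

open scoped commutatorElement

universe u

section Defs

variable {X : Type u} [Group X]

/-- a triple: normal abelian `r`-group `V`, `q`-group `Q`, `s`-group `S` normalizing `Q` -/
structure Trip (p : ℕ) (a c : MulAut X) (r q s : ℕ) (V Q S : Subgroup X) : Prop where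
  hyp : Hyp p a c
  Vn : V.Normal
  Vc : ∀ u ∈ V, ∀ v ∈ V, u * v = v * u
  Vr : IsPGroup r V
  Va : Inv a V
  Vc' : Inv c V
  Qq : IsPGroup q Q
  Qa : Inv a Q
  Qc : Inv c Q
  Ss : IsPGroup s S
  Sa : Inv a S
  Sc : Inv c S
  qr : q ≠ r
  qs : q ≠ s
  SQ : ∀ x ∈ S, ∀ g ∈ Q, x * g * x⁻¹ ∈ Q

/-- the conclusion: `[Q, S]` centralizes `V` -/
def Concl (V Q S : Subgroup X) : Prop :=
  ∀ g ∈ Q, ∀ x ∈ S, ∀ v ∈ V, ⁅g, x⁆ * v = v * ⁅g, x⁆

/-- the induction parameter -/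
noncomputable def size (V Q S : Subgroup X) : ℕ :=
  Nat.card X + Nat.card V + Nat.card Q + Nat.card S

theorem concl_iff (V Q S : Subgroup X) :
    Concl V Q S ↔ ⁅Q, S⁆ ≤ Subgroup.centralizer (V : Set X) := by
  rw [Subgroup.commutator_le]
  constructor
  · intro h g hg x hx
    rw [Subgroup.mem_centralizer_iff]
    intro v hv
    exact (h g hg x hx v hv).symm
  · intro h g hg x hx v hv
    exact (Subgroup.mem_centralizer_iff.mp (h g hg x hx) v hv).symm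

theorem Inv.sup' {σ : MulAut X} {H K : Subgroup X} (hH : Inv σ H) (hK : Inv σ K) :
    Inv σ (H ⊔ K) := by
  have h1 : H ⊔ K ≤ (H ⊔ K).comap σ.toMonoidHom := by
    apply sup_le
    · intro x hx
      exact Subgroup.mem_comap.mpr (Subgroup.mem_sup_left (hH x hx))
    · intro x hx
      exact Subgroup.mem_comap.mpr (Subgroup.mem_sup_right (hK x hx))
  intro x hx
  exact h1 hx

theorem card_lt_of_le_ne [Finite X] {H K : Subgroup X} (h : H ≤ K) (hne : H ≠ K) :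
    Nat.card H < Nat.card K := by
  by_contra hcon
  push Not at hcon
  exact hne (Subgroup.eq_of_le_of_card_ge h hcon)

theorem pow_mem_card [Finite X] {H : Subgroup X} {x : X} (hx : x ∈ H) : x ^ Nat.card H = 1 := by
  have h1 : (⟨x, hx⟩ : ↥H) ^ Nat.card H = 1 := pow_card_eq_one'
  have h2 := congrArg Subtype.val h1
  rw [Subgroup.coe_pow] at h2
  exact h2

theorem pow_of_stab {h v w : X} (e : h * v * h⁻¹ = w * v) (hhw : h * w = w * h) (k : ℕ)
    (hk : h ^ k = 1) : w ^ k = 1 := by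
  have key : ∀ k : ℕ, h ^ k * v * (h ^ k)⁻¹ = w ^ k * v := by
    intro k
    induction k with
    | zero => simp
    | succ k ih =>
      have hc : Commute h (w ^ k) := (show Commute h w from hhw).pow_right k
      calc h ^ (k + 1) * v * (h ^ (k + 1))⁻¹ = h * (h ^ k * v * (h ^ k)⁻¹) * h⁻¹ := by
            rw [pow_succ', mul_inv_rev]
            simp only [mul_assoc]
        _ = h * (w ^ k * v) * h⁻¹ := by rw [ih]
        _ = (h * w ^ k) * v * h⁻¹ := by simp only [mul_assoc]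
        _ = (w ^ k * h) * v * h⁻¹ := by rw [hc.eq]
        _ = w ^ k * (h * v * h⁻¹) := by simp only [mul_assoc]
        _ = w ^ k * (w * v) := by rw [e]
        _ = w ^ (k + 1) * v := by rw [pow_succ, mul_assoc]
  have h1 := key k
  rw [hk, one_mul, inv_one, mul_one] at h1
  have h2 : w ^ k * v = 1 * v := by
    rw [one_mul]
    exact h1.symm
  exact mul_right_cancel h2

end Defs

namespace Trip

variable {X : Type u} [Group X] [Finite X] {p : ℕ} [hp : Fact p.Prime] {a c : MulAut X}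
  {r q s : ℕ} {V Q S : Subgroup X}

theorem repair (T : Trip p a c r q s V Q S) (i : ℕ) : Trip p (a ^ i * c) a r q s V Q S where
  hyp := T.hyp.pair_b i
  Vn := T.Vn
  Vc := T.Vc
  Vr := T.Vr
  Va := Inv.mul (Inv.pow T.Va i) T.Vc'
  Vc' := T.Va
  Qq := T.Qq
  Qa := Inv.mul (Inv.pow T.Qa i) T.Qc
  Qc := T.Qa
  Ss := T.Ss
  Sa := Inv.mul (Inv.pow T.Sa i) T.Sc
  Sc := T.Sa
  qr := T.qr
  qs := T.qs
  SQ := T.SQ

theorem subS (T : Trip p a c r q s V Q S) (S₁ : Subgroup X) (hle : S₁ ≤ S) (ha : Inv a S₁)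
    (hc : Inv c S₁) : Trip p a c r q s V Q S₁ where
  hyp := T.hyp
  Vn := T.Vn
  Vc := T.Vc
  Vr := T.Vr
  Va := T.Va
  Vc' := T.Vc'
  Qq := T.Qq
  Qa := T.Qa
  Qc := T.Qc
  Ss := T.Ss.to_le hle
  Sa := ha
  Sc := hc
  qr := T.qr
  qs := T.qs
  SQ := fun x hx g hg => T.SQ x (hle hx) g hg

theorem subQ (T : Trip p a c r q s V Q S) (Q₁ : Subgroup X) (hle : Q₁ ≤ Q) (ha : Inv a Q₁)
    (hc : Inv c Q₁) (hS : ∀ x ∈ S, ∀ g ∈ Q₁, x * g * x⁻¹ ∈ Q₁) : Trip p a c r q s V Q₁ S where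
  hyp := T.hyp
  Vn := T.Vn
  Vc := T.Vc
  Vr := T.Vr
  Va := T.Va
  Vc' := T.Vc'
  Qq := T.Qq.to_le hle
  Qa := ha
  Qc := hc
  Ss := T.Ss
  Sa := T.Sa
  Sc := T.Sc
  qr := T.qr
  qs := T.qs
  SQ := hS

theorem subV (T : Trip p a c r q s V Q S) (V₁ : Subgroup X) (hle : V₁ ≤ V) (hn : V₁.Normal)
    (ha : Inv a V₁) (hc : Inv c V₁) : Trip p a c r q s V₁ Q S where
  hyp := T.hyp
  Vn := hn
  Vc := fun u hu v hv => T.Vc u (hle hu) v (hle hv)
  Vr := T.Vr.to_le hle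
  Va := ha
  Vc' := hc
  Qq := T.Qq
  Qa := T.Qa
  Qc := T.Qc
  Ss := T.Ss
  Sa := T.Sa
  Sc := T.Sc
  qr := T.qr
  qs := T.qs
  SQ := T.SQ

theorem sub (T : Trip p a c r q s V Q S) (H : Subgroup X) (hHa : Inv a H) (hHc : Inv c H) :
    Trip p (restrictAut a H hHa) (restrictAut c H hHc) r q s (V.subgroupOf H)
      (Q.subgroupOf H) (S.subgroupOf H) where
  hyp := T.hyp.restrict H hHa hHc
  Vn := by
    haveI := T.Vn
    infer_instance
  Vc := fun u hu v hv => Subtype.ext (T.Vc u hu v hv)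
  Vr := T.Vr.comap_of_injective H.subtype H.subtype_injective
  Va := fun x hx => T.Va x hx
  Vc' := fun x hx => T.Vc' x hx
  Qq := T.Qq.comap_of_injective H.subtype H.subtype_injective
  Qa := fun x hx => T.Qa x hx
  Qc := fun x hx => T.Qc x hx
  Ss := T.Ss.comap_of_injective H.subtype H.subtype_injective
  Sa := fun x hx => T.Sa x hx
  Sc := fun x hx => T.Sc x hx
  qr := T.qr
  qs := T.qs
  SQ := fun x hx g hg => T.SQ x hx g hg

theorem quot (T : Trip p a c r q s V Q S) (N : Subgroup X) [N.Normal] (hNa : Inv a N)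
    (hNc : Inv c N) :
    Trip p (quotAut a N hNa) (quotAut c N hNc) r q s (V.map (QuotientGroup.mk' N))
      (Q.map (QuotientGroup.mk' N)) (S.map (QuotientGroup.mk' N)) where
  hyp := T.hyp.quot N hNa hNc
  Vn := T.Vn.map _ (QuotientGroup.mk'_surjective N)
  Vc := by
    rintro _ ⟨u, hu, rfl⟩ _ ⟨v, hv, rfl⟩
    rw [← map_mul, ← map_mul, T.Vc u hu v hv]
  Vr := T.Vr.map _
  Va := by
    rintro _ ⟨v, hv, rfl⟩
    exact ⟨a v, T.Va v hv, rfl⟩
  Vc' := by
    rintro _ ⟨v, hv, rfl⟩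
    exact ⟨c v, T.Vc' v hv, rfl⟩
  Qq := T.Qq.map _
  Qa := by
    rintro _ ⟨v, hv, rfl⟩
    exact ⟨a v, T.Qa v hv, rfl⟩
  Qc := by
    rintro _ ⟨v, hv, rfl⟩
    exact ⟨c v, T.Qc v hv, rfl⟩
  Ss := T.Ss.map _
  Sa := by
    rintro _ ⟨v, hv, rfl⟩
    exact ⟨a v, T.Sa v hv, rfl⟩
  Sc := by
    rintro _ ⟨v, hv, rfl⟩
    exact ⟨c v, T.Sc v hv, rfl⟩
  qr := T.qr
  qs := T.qs
  SQ := by
    rintro _ ⟨x, hx, rfl⟩ _ ⟨g, hg, rfl⟩
    exact ⟨x * g * x⁻¹, T.SQ x hx g hg, by rw [map_mul, map_mul, map_inv]⟩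

end Trip

section Transfer

variable {X : Type u} [Group X]

theorem concl_of_sub {V Q S : Subgroup X} (H : Subgroup X) (hV : V ≤ H) (hQ : Q ≤ H)
    (hS : S ≤ H) (h : Concl (V.subgroupOf H) (Q.subgroupOf H) (S.subgroupOf H)) :
    Concl V Q S := by
  intro g hg x hx v hv
  have h1 := h ⟨g, hQ hg⟩ hg ⟨x, hS hx⟩ hx ⟨v, hV hv⟩ hv
  have h2 := congrArg Subtype.val h1
  simpa [commutatorElement_def] using h2

theorem concl_quot {V Q S : Subgroup X} (N : Subgroup X) [N.Normal]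
    (h : Concl (V.map (QuotientGroup.mk' N)) (Q.map (QuotientGroup.mk' N))
      (S.map (QuotientGroup.mk' N))) :
    ∀ g ∈ Q, ∀ x ∈ S, ∀ v ∈ V, ⁅⁅g, x⁆, v⁆ ∈ N := by
  intro g hg x hx v hv
  have h1 := h _ ⟨g, hg, rfl⟩ _ ⟨x, hx, rfl⟩ _ ⟨v, hv, rfl⟩
  rw [← map_commutatorElement] at h1
  have h2 : (QuotientGroup.mk' N) ⁅⁅g, x⁆, v⁆ = 1 := by
    rw [map_commutatorElement, commutatorElement_eq_one_iff_mul_comm]
    exact h1
  exact (QuotientGroup.eq_one_iff _).mp h2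

theorem size_sub_lt [Finite X] (V Q S H : Subgroup X) (hH : H ≠ ⊤) (hV : V ≤ H) (hQ : Q ≤ H)
    (hS : S ≤ H) :
    size (V.subgroupOf H) (Q.subgroupOf H) (S.subgroupOf H) < size V Q S := by
  unfold size
  have h1 : Nat.card ↥H < Nat.card X := by
    refine lt_of_le_of_ne (Subgroup.card_le_card_group H) ?_
    intro h
    exact hH ((Subgroup.card_eq_iff_eq_top H).mp h)
  have h2 : Nat.card ↥(V.subgroupOf H) = Nat.card V :=
    Nat.card_congr (Subgroup.subgroupOfEquivOfLe hV).toEquiv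
  have h3 : Nat.card ↥(Q.subgroupOf H) = Nat.card Q :=
    Nat.card_congr (Subgroup.subgroupOfEquivOfLe hQ).toEquiv
  have h4 : Nat.card ↥(S.subgroupOf H) = Nat.card S :=
    Nat.card_congr (Subgroup.subgroupOfEquivOfLe hS).toEquiv
  omega

theorem size_quot_lt [Finite X] (V Q S N : Subgroup X) [N.Normal] (hN : N ≠ ⊥) :
    size (V.map (QuotientGroup.mk' N)) (Q.map (QuotientGroup.mk' N))
      (S.map (QuotientGroup.mk' N)) < size V Q S := by
  unfold size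
  have h1 : Nat.card (X ⧸ N) < Nat.card X := card_quot_lt' N hN
  have h2 : Nat.card ↥(V.map (QuotientGroup.mk' N)) ≤ Nat.card V :=
    Nat.le_of_dvd Nat.card_pos (V.card_map_dvd _)
  have h3 : Nat.card ↥(Q.map (QuotientGroup.mk' N)) ≤ Nat.card Q :=
    Nat.le_of_dvd Nat.card_pos (Q.card_map_dvd _)
  have h4 : Nat.card ↥(S.map (QuotientGroup.mk' N)) ≤ Nat.card S :=
    Nat.le_of_dvd Nat.card_pos (S.card_map_dvd _)
  omega

end Transfer

end Cfsg.Agent.Lib.Helper6.Wd
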