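import Mathlib
import Cfsg.Agent.Lib.Helper6.WdH
import Cfsg.Agent.Lib.Helper1.Coprime

/-! Ward's theorem, part I: `[Q, S]` centralizes `V`, by induction. -/

set_option autoImplicit false

namespace Cfsg.Agent.Lib.Helper6.Wd

open Cfsg.Agent.Lib.Helper8.FP4

open scoped commutatorElement

universe u

/-- the induction hypothesis -/
def IHyp (n : ℕ) : Prop :=
  ∀ (X : Type u) [Group X] [Finite X] (p : ℕ) [Fact p.Prime] (a c : MulAut X) (r q s : ℕ)
    [Fact r.Prime] [Fact q.Prime] [Fact s.Prime] (V Q S : Subgroup X),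
    Trip p a c r q s V Q S → size V Q S < n → Concl V Q S

section Step

variable {X : Type u} [Group X]

/-- elements of `S` acting trivially on `Q` modulo the centralizer of `V` -/
def actKer (V Q S : Subgroup X) [hV : V.Normal] : Subgroup X where
  carrier := {x | x ∈ S ∧ ∀ g ∈ Q, ⁅g, x⁆ ∈ Subgroup.centralizer (V : Set X)}
  one_mem' := ⟨S.one_mem, fun g _ => by
    rw [commutatorElement_one_right]
    exact Subgroup.one_mem _⟩
  mul_mem' := by
    rintro x y ⟨hx, hx'⟩ ⟨hy, hy'⟩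
    refine ⟨S.mul_mem hx hy, fun g hg => ?_⟩
    have e : ⁅g, x * y⁆ = ⁅g, x⁆ * (x * ⁅g, y⁆ * x⁻¹) := by
      simp only [commutatorElement_def]
      group
    rw [e]
    exact Subgroup.mul_mem _ (hx' g hg)
      ((inferInstance : (Subgroup.centralizer (V : Set X)).Normal).conj_mem _ (hy' g hg) x)
  inv_mem' := by
    rintro x ⟨hx, hx'⟩
    refine ⟨S.inv_mem hx, fun g hg => ?_⟩
    have e : ⁅g, x⁻¹⁆ = x⁻¹ * ⁅g, x⁆⁻¹ * x⁻¹⁻¹ := by
      simp only [commutatorElement_def]
      group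
    rw [e]
    exact (inferInstance : (Subgroup.centralizer (V : Set X)).Normal).conj_mem _
      (Subgroup.inv_mem _ (hx' g hg)) x⁻¹

theorem comm_mem_of_norm {Q₁ S : Subgroup X} (h : ∀ x ∈ S, ∀ g ∈ Q₁, x * g * x⁻¹ ∈ Q₁)
    {g x : X} (hg : g ∈ Q₁) (hx : x ∈ S) : ⁅g, x⁆ ∈ Q₁ := by
  have e : ⁅g, x⁆ = g * (x * g⁻¹ * x⁻¹) := by
    rw [commutatorElement_def]
    group
  rw [e]
  exact Q₁.mul_mem hg (h x hx g⁻¹ (Q₁.inv_mem hg))

variable [Finite X] {p : ℕ} [hp : Fact p.Prime] {a c : MulAut X} {r q s : ℕ}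
  [hr : Fact r.Prime] [hq : Fact q.Prime] [hs : Fact s.Prime] {V Q S : Subgroup X}

theorem tl_core (IH : IHyp.{u} (size V Q S)) (T : Trip p a c r q s V Q S) (hS : S ≤ fix a)
    (hX : V ⊔ Q ⊔ S = ⊤) : Concl V Q S := by
  by_contra hcon
  have hVn := T.Vn
  haveI := hVn
  have hSQ' : S ≤ Subgroup.normalizer (Q : Set X) := Subgroup.le_normalizer_iff.mpr T.SQ
  have hcopSQ : (Nat.card S).Coprime (Nat.card Q) :=
    IsPGroup.coprime_card_of_ne s q T.qs.symm S Q T.Ss T.Qq
  have hcopQV : (Nat.card Q).Coprime (Nat.card V) :=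
    IsPGroup.coprime_card_of_ne q r T.qr Q V T.Qq T.Vr
  have hQV : Q ⊓ V = ⊥ := disjoint_iff.mp (IsPGroup.disjoint_of_ne q r T.qr Q V T.Qq T.Vr)
  have hQne : Q ≠ ⊥ := by
    intro hQ
    apply hcon
    intro g hg x hx v hv
    rw [hQ, Subgroup.mem_bot] at hg
    rw [hg, commutatorElement_one_left, one_mul, mul_one]
  have hQgen : Q ≤ ⁅Q, S⁆ := by
    by_contra hQ
    have hle : ⁅Q, S⁆ ≤ Q := by
      rw [Subgroup.commutator_le]
      intro g hg x hx
      exact comm_mem_of_norm T.SQ hg hx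
    have hne : ⁅Q, S⁆ ≠ Q := fun h => hQ (le_of_eq h.symm)
    have hconj : ∀ x ∈ S, ∀ g ∈ ⁅Q, S⁆, x * g * x⁻¹ ∈ ⁅Q, S⁆ := by
      intro x hx g hg
      have h1 : (⁅Q, S⁆).map (MulAut.conj x).toMonoidHom ≤ ⁅Q, S⁆ := by
        rw [Subgroup.map_commutator]
        apply Subgroup.commutator_mono
        · rintro _ ⟨y, hy, rfl⟩
          exact T.SQ x hx y hy
        · rintro _ ⟨y, hy, rfl⟩
          exact S.mul_mem (S.mul_mem hx hy) (S.inv_mem hx)
      exact h1 ⟨g, hg, rfl⟩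
    have T₁ := T.subQ ⁅Q, S⁆ hle (Inv.commutator T.Qa T.Sa) (Inv.commutator T.Qc T.Sc) hconj
    have hsz : size V ⁅Q, S⁆ S < size V Q S := by
      unfold size
      have := card_lt_of_le_ne hle hne
      omega
    have h1 := IH X p a c r q s V ⁅Q, S⁆ S T₁ hsz
    rw [concl_iff] at h1 hcon
    haveI : Group.IsNilpotent ↥Q := T.Qq.isNilpotent
    rw [Cfsg.Agent.Lib.Helper1.coprime_commutator_commutator S Q hSQ' hcopSQ
      (Or.inr inferInstance)] at h1
    exact hcon h1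
  have hC0 : Q ⊓ Subgroup.centralizer (V : Set X) = ⊥ := by
    by_contra hne
    obtain ⟨C₀, hC₀⟩ : ∃ C₀ : Subgroup X, C₀ = Q ⊓ Subgroup.centralizer (V : Set X) := ⟨_, rfl⟩
    have hCn : C₀.Normal := by
      rw [← Subgroup.normalizer_eq_top_iff, eq_top_iff, ← hX]
      refine sup_le (sup_le ?_ ?_) ?_
      · rw [Subgroup.le_normalizer_iff]
        intro v hv k hk
        rw [hC₀] at hk ⊢
        have h1 := Subgroup.mem_centralizer_iff.mp hk.2 v hv
        rw [h1, mul_inv_cancel_right]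
        exact hk
      · rw [Subgroup.le_normalizer_iff]
        intro g hg k hk
        rw [hC₀] at hk ⊢
        exact ⟨Q.mul_mem (Q.mul_mem hg hk.1) (Q.inv_mem hg),
          (inferInstance : (Subgroup.centralizer (V : Set X)).Normal).conj_mem k hk.2 g⟩
      · rw [Subgroup.le_normalizer_iff]
        intro x hx k hk
        rw [hC₀] at hk ⊢
        exact ⟨T.SQ x hx k hk.1,
          (inferInstance : (Subgroup.centralizer (V : Set X)).Normal).conj_mem k hk.2 x⟩
    have hCa : Inv a C₀ := by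
      rw [hC₀]
      exact Inv.inf' T.Qa (Inv.centralizer T.Va)
    have hCc : Inv c C₀ := by
      rw [hC₀]
      exact Inv.inf' T.Qc (Inv.centralizer T.Vc')
    have hCne : C₀ ≠ ⊥ := by
      rw [hC₀]
      exact hne
    haveI := hCn
    have T₂ := T.quot C₀ hCa hCc
    have hsz := size_quot_lt V Q S C₀ hCne
    have h2 := concl_quot C₀ (IH _ p _ _ r q s _ _ _ T₂ hsz)
    apply hcon
    intro g hg x hx v hv
    have h3 := h2 g hg x hx v hv
    have h4 : ⁅⁅g, x⁆, v⁆ ∈ V := by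
      rw [commutatorElement_def ⁅g, x⁆ v]
      exact V.mul_mem (hVn.conj_mem v hv _) (V.inv_mem hv)
    rw [hC₀] at h3
    have h5 : ⁅⁅g, x⁆, v⁆ ∈ Q ⊓ V := ⟨h3.1, h4⟩
    rw [hQV, Subgroup.mem_bot] at h5
    exact commutatorElement_eq_one_iff_mul_comm.mp h5
  have hfaith : ∀ g ∈ Q, (∀ v ∈ V, g * v = v * g) → g = 1 := by
    intro g hg h
    have h1 : g ∈ Q ⊓ Subgroup.centralizer (V : Set X) := by
      refine Subgroup.mem_inf.mpr ⟨hg, ?_⟩
      rw [Subgroup.mem_centralizer_iff]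
      intro v hv
      exact (h v hv).symm
    rw [hC0, Subgroup.mem_bot] at h1
    exact h1
  have hQmin : ∀ Q₁ : Subgroup X, Q₁ ≤ Q → Inv a Q₁ → Inv c Q₁ →
      (∀ x ∈ S, ∀ g ∈ Q₁, x * g * x⁻¹ ∈ Q₁) → Q₁ ≠ Q → ∀ x ∈ S, ∀ g ∈ Q₁, x * g = g * x := by
    intro Q₁ hle ha hc hconj hne x hx g hg
    have T₁ := T.subQ Q₁ hle ha hc hconj
    have hsz : size V Q₁ S < size V Q S := by
      unfold size
      have := card_lt_of_le_ne hle hne
      omega
    have h1 := IH X p a c r q s V Q₁ S T₁ hsz g hg x hx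
    have hmem : ⁅g, x⁆ ∈ Q₁ := comm_mem_of_norm hconj hg hx
    have h2 : ⁅g, x⁆ = 1 := hfaith _ (hle hmem) h1
    exact (commutatorElement_eq_one_iff_mul_comm.mp h2).symm
  have hVmin : ∀ V₁ : Subgroup X, V₁ ≤ V → Inv a V₁ → Inv c V₁ →
      (∀ g ∈ Q, ∀ v ∈ V₁, g * v * g⁻¹ ∈ V₁) → (∀ x ∈ S, ∀ v ∈ V₁, x * v * x⁻¹ ∈ V₁) →
      V₁ = ⊥ ∨ V₁ = V := by
    intro V₁ hle ha hc hQ1 hS1
    by_contra hcon2
    push Not at hcon2
    obtain ⟨hne1, hne2⟩ := hcon2
    have hV1n : V₁.Normal := by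
      rw [← Subgroup.normalizer_eq_top_iff, eq_top_iff, ← hX]
      refine sup_le (sup_le ?_ ?_) ?_
      · rw [Subgroup.le_normalizer_iff]
        intro v hv k hk
        rw [conj_eq_of_comm' (T.Vc v hv k (hle hk))]
        exact hk
      · exact Subgroup.le_normalizer_iff.mpr hQ1
      · exact Subgroup.le_normalizer_iff.mpr hS1
    have T₁ := T.subV V₁ hle hV1n ha hc
    have hsz1 : size V₁ Q S < size V Q S := by
      unfold size
      have := card_lt_of_le_ne hle hne2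
      omega
    have h1 := IH X p a c r q s V₁ Q S T₁ hsz1
    haveI := hV1n
    have T₂ := T.quot V₁ ha hc
    have hsz2 := size_quot_lt V Q S V₁ hne1
    have h2 := concl_quot V₁ (IH _ p _ _ r q s _ _ _ T₂ hsz2)
    apply hcon
    intro g hg x hx v hv
    have hw := h2 g hg x hx v hv
    have hhw := h1 g hg x hx _ hw
    have hhQ : ⁅g, x⁆ ∈ Q := comm_mem_of_norm T.SQ hg hx
    have e : ⁅g, x⁆ * v * ⁅g, x⁆⁻¹ = ⁅⁅g, x⁆, v⁆ * v := by
      rw [commutatorElement_def ⁅g, x⁆ v]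
      group
    have hk : ⁅g, x⁆ ^ Nat.card Q = 1 := pow_mem_card hhQ
    have hwk : ⁅⁅g, x⁆, v⁆ ^ Nat.card Q = 1 := pow_of_stab e hhw _ hk
    have hwV : ⁅⁅g, x⁆, v⁆ ^ Nat.card V = 1 := pow_mem_card (hle hw)
    have h3 : orderOf ⁅⁅g, x⁆, v⁆ ∣ 1 := by
      have := Nat.dvd_gcd (orderOf_dvd_of_pow_eq_one hwk) (orderOf_dvd_of_pow_eq_one hwV)
      rwa [Nat.Coprime.gcd_eq_one hcopQV] at this
    have h4 : ⁅⁅g, x⁆, v⁆ = 1 := orderOf_eq_one_iff.mp (Nat.dvd_one.mp h3)
    exact commutatorElement_eq_one_iff_mul_comm.mp h4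
  have M : Min p a c r q s V Q S :=
    { hyp := T.hyp, Vn := T.Vn, Vc := T.Vc, Vr := T.Vr, Va := T.Va, Vc' := T.Vc', Qq := T.Qq,
      Qa := T.Qa, Qc := T.Qc, Ss := T.Ss, Sa := T.Sa, Sc := T.Sc, qr := T.qr, qs := T.qs,
      SQ := T.SQ, Sfix := hS, Qgen := hQgen, faith := hfaith, Qmin := hQmin, Vmin := hVmin,
      Qne := hQne }
  exact M.false

theorem tl_step (IH : IHyp.{u} (size V Q S)) (T : Trip p a c r q s V Q S) : Concl V Q S := by
  by_cases hX : V ⊔ Q ⊔ S = ⊤
  swap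
  · have hHa : Inv a (V ⊔ Q ⊔ S) := Inv.sup' (Inv.sup' T.Va T.Qa) T.Sa
    have hHc : Inv c (V ⊔ Q ⊔ S) := Inv.sup' (Inv.sup' T.Vc' T.Qc) T.Sc
    have hV : V ≤ V ⊔ Q ⊔ S := le_sup_of_le_left le_sup_left
    have hQ : Q ≤ V ⊔ Q ⊔ S := le_sup_of_le_left le_sup_right
    have hS : S ≤ V ⊔ Q ⊔ S := le_sup_right
    have T' := T.sub (V ⊔ Q ⊔ S) hHa hHc
    have hsz := size_sub_lt V Q S (V ⊔ Q ⊔ S) hX hV hQ hS
    exact concl_of_sub _ hV hQ hS (IH _ p _ _ r q s _ _ _ T' hsz)
  · by_contra hcon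
    haveI := T.Vn
    have hc1 : Commute a c := T.hyp.comm
    by_cases h1 : S ⊓ fix a ≤ actKer V Q S
    · by_cases h2 : ∀ i : ℕ, S ⊓ fix (a ^ i * c) ≤ actKer V Q S
      · apply hcon
        have hS := gen_sub a c T.hyp.comm T.hyp.apow T.hyp.cpow T.hyp.cop S T.Sa T.Sc
          T.Ss.isNilpotent (actKer V Q S) h1 h2
        intro g hg x hx v hv
        exact (Subgroup.mem_centralizer_iff.mp ((hS hx).2 g hg) v hv).symm
      · push Not at h2
        obtain ⟨i, hi⟩ := h2
        have hSb : S ≤ fix (a ^ i * c) := by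
          by_contra hnle
          apply hi
          have hne : S ⊓ fix (a ^ i * c) ≠ S := by
            intro h
            apply hnle
            rw [← h]
            exact inf_le_right
          have hcc : (a ^ i * c) * c = c * (a ^ i * c) :=
            ((hc1.pow_left i).mul_left (Commute.refl c)).eq
          have T₁ := T.subS (S ⊓ fix (a ^ i * c)) inf_le_left
            (Inv.inf' T.Sa (Inv.fix_of_comm (T.hyp.bcomm i)))
            (Inv.inf' T.Sc (Inv.fix_of_comm hcc))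
          have hsz : size V Q (S ⊓ fix (a ^ i * c)) < size V Q S := by
            unfold size
            have := card_lt_of_le_ne (inf_le_left : S ⊓ fix (a ^ i * c) ≤ S) hne
            omega
          have h3 := IH X p a c r q s V Q _ T₁ hsz
          intro x hx
          refine ⟨hx.1, fun g hg => ?_⟩
          rw [Subgroup.mem_centralizer_iff]
          intro v hv
          exact (h3 g hg x hx v hv).symm
        exact hcon (tl_core IH (T.repair i) hSb hX)
    · have hSa : S ≤ fix a := by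
        by_contra hnle
        apply h1
        have hne : S ⊓ fix a ≠ S := by
          intro h
          apply hnle
          rw [← h]
          exact inf_le_right
        have T₁ := T.subS (S ⊓ fix a) inf_le_left
          (Inv.inf' T.Sa (Inv.fix_of_comm rfl))
          (Inv.inf' T.Sc (Inv.fix_of_comm T.hyp.comm))
        have hsz : size V Q (S ⊓ fix a) < size V Q S := by
          unfold size
          have := card_lt_of_le_ne (inf_le_left : S ⊓ fix a ≤ S) hne
          omega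
        have h3 := IH X p a c r q s V Q _ T₁ hsz
        intro x hx
        refine ⟨hx.1, fun g hg => ?_⟩
        rw [Subgroup.mem_centralizer_iff]
        intro v hv
        exact (h3 g hg x hx v hv).symm
      exact hcon (tl_core IH T hSa hX)

end Step

theorem tl_all : ∀ n : ℕ, IHyp.{u} n := by
  intro n
  induction n using Nat.strong_induction_on with
  | _ n ih =>
    intro X _ _ p _ a c r q s _ _ _ V Q S T hsz
    exact tl_step (ih (size V Q S) hsz) T

/-- the triple lemma -/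
theorem TL {X : Type u} [Group X] [Finite X] {p : ℕ} [Fact p.Prime] {a c : MulAut X}
    {r q s : ℕ} [Fact r.Prime] [Fact q.Prime] [Fact s.Prime] {V Q S : Subgroup X}
    (T : Trip p a c r q s V Q S) : Concl V Q S :=
  tl_all (size V Q S + 1) X p a c r q s V Q S T (Nat.lt_succ_self _)

end Cfsg.Agent.Lib.Helper6.Wd
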