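import Mathlib
import Cfsg.Agent.Lib.Helper6.WdI
import Cfsg.Agent.Lib.Helper1.Fitting

/-! Ward's theorem, part J: minimal invariant normal subgroups; a nilpotency criterion. -/

set_option autoImplicit false

namespace Cfsg.Agent.Lib.Helper6.Wd

open Cfsg.Agent.Lib.Helper8.FP4

open scoped commutatorElement

universe u

section Gen

variable {X : Type u} [Group X]

theorem Inv.normalizer [Finite X] {σ : MulAut X} {Q : Subgroup X} (h : Inv σ Q) :
    Inv σ (Subgroup.normalizer (Q : Set X)) := by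
  intro g hg
  rw [Subgroup.mem_normalizer_iff] at hg ⊢
  intro y
  obtain ⟨y', rfl⟩ : ∃ y', σ y' = y := σ.surjective y
  rw [Inv.apply_mem_iff h, ← map_inv, ← map_mul, ← map_mul, Inv.apply_mem_iff h]
  exact hg y'

theorem exists_min_inv2 [Finite X] (a c : MulAut X) (hne : (⊤ : Subgroup X) ≠ ⊥) :
    ∃ V : Subgroup X, V.Normal ∧ Inv a V ∧ Inv c V ∧ V ≠ ⊥ ∧
      ∀ M : Subgroup X, M.Normal → Inv a M → Inv c M → M ≠ ⊥ → M ≤ V → M = V := by
  obtain ⟨V, hV⟩ := exists_minimal_of_wellFoundedLT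
    (fun V : Subgroup X => V.Normal ∧ Inv a V ∧ Inv c V ∧ V ≠ ⊥)
    ⟨⊤, inferInstance, Inv.top a, Inv.top c, hne⟩
  refine ⟨V, hV.prop.1, hV.prop.2.1, hV.prop.2.2.1, hV.prop.2.2.2, ?_⟩
  intro M hMn hMa hMc hMne hle
  exact le_antisymm hle (hV.le_of_le ⟨hMn, hMa, hMc, hMne⟩ hle)

theorem min_comm [Finite X] (hX : Group.IsSolvable X) {a c : MulAut X} {V : Subgroup X}
    (hVn : V.Normal) (hVa : Inv a V) (hVc : Inv c V) (hne : V ≠ ⊥)
    (hmin : ∀ M : Subgroup X, M.Normal → Inv a M → Inv c M → M ≠ ⊥ → M ≤ V → M = V) :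
    ∀ u ∈ V, ∀ v ∈ V, u * v = v * u := by
  haveI := hVn
  haveI := hX
  have hle : ⁅V, V⁆ ≤ V := Subgroup.commutator_le_right V V
  have hne' : ⁅V, V⁆ ≠ V := by
    intro heq
    haveI : Nontrivial ↥V := (Subgroup.nontrivial_iff_ne_bot V).mpr hne
    have h1 : _root_.commutator ↥V < ⊤ := IsSolvable.commutator_lt_top_of_nontrivial ↥V
    have h2 : (_root_.commutator ↥V).map V.subtype = ⁅V, V⁆ := by
      rw [commutator_def, Subgroup.map_commutator, ← MonoidHom.range_eq_map,
        Subgroup.range_subtype]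
    have h3 : (_root_.commutator ↥V).map V.subtype = (⊤ : Subgroup ↥V).map V.subtype := by
      rw [h2, heq, ← MonoidHom.range_eq_map, Subgroup.range_subtype]
    have h4 := Subgroup.map_injective (Subgroup.subtype_injective V) h3
    exact (ne_of_lt h1) h4
  have hbot : ⁅V, V⁆ = ⊥ := by
    by_contra hnb
    exact hne' (hmin ⁅V, V⁆ inferInstance (Inv.commutator hVa hVa) (Inv.commutator hVc hVc)
      hnb hle)
  rw [Subgroup.commutator_eq_bot_iff_le_centralizer] at hbot
  intro u hu v hv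
  exact (Subgroup.mem_centralizer_iff.mp (hbot hu) v hv).symm

theorem min_pgroup [Finite X] {a c : MulAut X} {V : Subgroup X}
    (hVn : V.Normal) (hVa : Inv a V) (hVc : Inv c V) (hne : V ≠ ⊥)
    (hmin : ∀ M : Subgroup X, M.Normal → Inv a M → Inv c M → M ≠ ⊥ → M ≤ V → M = V)
    (hVab : ∀ u ∈ V, ∀ v ∈ V, u * v = v * u) : ∃ r : ℕ, r.Prime ∧ IsPGroup r V := by
  have hcard : Nat.card V ≠ 1 := by
    rw [Ne, Subgroup.card_eq_one]
    exact hne
  obtain ⟨r, hr, hrd⟩ := Nat.exists_prime_and_dvd hcard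
  haveI := Fact.mk hr
  refine ⟨r, hr, ?_⟩
  obtain ⟨Ω, hΩ⟩ : ∃ Ω : Subgroup X, ∀ v, v ∈ Ω ↔ v ∈ V ∧ v ^ r = 1 :=
    ⟨{  carrier := {v | v ∈ V ∧ v ^ r = 1}
        one_mem' := ⟨V.one_mem, one_pow r⟩
        mul_mem' := by
          rintro u v ⟨hu, hu'⟩ ⟨hv, hv'⟩
          refine ⟨V.mul_mem hu hv, ?_⟩
          have hc : Commute u v := hVab u hu v hv
          rw [hc.mul_pow, hu', hv', one_mul]
        inv_mem' := by
          rintro u ⟨hu, hu'⟩
          exact ⟨V.inv_mem hu, by rw [inv_pow, hu', inv_one]⟩ }, fun v => Iff.rfl⟩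
  have hΩn : Ω.Normal := ⟨fun v hv g => by
    rw [hΩ] at hv ⊢
    exact ⟨hVn.conj_mem v hv.1 g, by rw [conj_pow, hv.2, mul_one, mul_inv_cancel]⟩⟩
  have hΩa : Inv a Ω := fun v hv => by
    rw [hΩ] at hv ⊢
    exact ⟨hVa v hv.1, by rw [← map_pow, hv.2, map_one]⟩
  have hΩc : Inv c Ω := fun v hv => by
    rw [hΩ] at hv ⊢
    exact ⟨hVc v hv.1, by rw [← map_pow, hv.2, map_one]⟩
  have hΩne : Ω ≠ ⊥ := by
    obtain ⟨x, hx⟩ := exists_prime_orderOf_dvd_card' r hrd
    intro hbot
    have h1 : (x : X) ∈ Ω := by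
      rw [hΩ]
      refine ⟨x.2, ?_⟩
      have h2 := pow_orderOf_eq_one x
      rw [hx] at h2
      have h3 := congrArg Subtype.val h2
      rw [Subgroup.coe_pow] at h3
      exact h3
    rw [hbot, Subgroup.mem_bot] at h1
    have h4 : x = 1 := Subtype.ext h1
    rw [h4, orderOf_one] at hx
    exact hr.one_lt.ne hx
  have hΩV := hmin Ω hΩn hΩa hΩc hΩne (fun v hv => ((hΩ v).mp hv).1)
  intro v
  refine ⟨1, ?_⟩
  have h1 : (v : X) ∈ Ω := by
    rw [hΩV]
    exact v.2
  rw [pow_one]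
  apply Subtype.ext
  rw [Subgroup.coe_pow]
  exact ((hΩ _).mp h1).2

end Gen

section Nil

variable {Y : Type u} [Group Y] [Finite Y]

/-- a nilpotency criterion -/
theorem nil_of_sylow_cent (M : Subgroup Y) [hMn : M.Normal] (hMnil : Group.IsNilpotent ↥M)
    (k : ℕ) (hk : (⊤ : Subgroup Y).lowerCentralSeries k ≤ M)
    (hsp : ∀ (t q : ℕ) [Fact t.Prime] [Fact q.Prime], t ≠ q → ∀ T : Sylow t Y, ∀ m ∈ M,
      (∃ e : ℕ, m ^ q ^ e = 1) → ∀ x ∈ (T : Subgroup Y), x * m = m * x) :
    Group.IsNilpotent Y := by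
  have hquot : Group.IsNilpotent (Y ⧸ M) := by
    rw [Subgroup.nilpotent_iff_lowerCentralSeries]
    refine ⟨k, ?_⟩
    have h1 := Subgroup.map_lowerCentralSeries (S := (⊤ : Subgroup Y)) (QuotientGroup.mk' M) k
    rw [Subgroup.map_top_of_surjective _ (QuotientGroup.mk'_surjective M)] at h1
    rw [← h1, Subgroup.map_eq_bot_iff, QuotientGroup.ker_mk']
    exact hk
  apply ((Group.isNilpotent_of_finite_tfae (G := Y)).out 0 3 rfl rfl).mpr
  intro t ht T
  haveI := hquot
  have hT'n : ((T.mapSurjective (QuotientGroup.mk'_surjective M) : Sylow t (Y ⧸ M)) :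
      Subgroup (Y ⧸ M)).Normal := inferInstance
  have hL : ((T : Subgroup Y) ⊔ M).Normal := by
    have h1 := hT'n.comap (QuotientGroup.mk' M)
    rw [Sylow.coe_mapSurjective, Subgroup.comap_map_eq, QuotientGroup.ker_mk'] at h1
    exact h1
  haveI := hL
  have hfr := Sylow.normalizer_sup_eq_top' T (le_sup_left : (T : Subgroup Y) ≤ (T : Subgroup Y) ⊔ M)
  have hMle : M ≤ Subgroup.normalizer ((T : Subgroup Y) : Set Y) := by
    have htop : (Subgroup.normalizer ((T : Subgroup Y) : Set Y)).subgroupOf M = ⊤ := by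
      apply Cfsg.Agent.Lib.Helper1.eq_top_of_forall_sylow_le
      intro q hq
      obtain ⟨P⟩ : Nonempty (Sylow q ↥M) := inferInstance
      refine ⟨P, ?_⟩
      intro y hy
      rw [Subgroup.mem_subgroupOf]
      have hyq : ∃ e : ℕ, (y : Y) ^ q ^ e = 1 := by
        obtain ⟨e, he⟩ := P.2 ⟨y, hy⟩
        refine ⟨e, ?_⟩
        have h2 := congrArg Subtype.val (congrArg Subtype.val he)
        simpa using h2
      by_cases htq : t = q
      · subst htq
        haveI : (P : Subgroup ↥M).Normal := inferInstance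
        haveI : (P : Subgroup ↥M).Characteristic := Sylow.characteristic_of_normal P inferInstance
        have hOn : ((P : Subgroup ↥M).map M.subtype).Normal := inferInstance
        have hOp : IsPGroup t ↥((P : Subgroup ↥M).map M.subtype) := P.2.map _
        haveI := hOn
        have hsup : IsPGroup t ↥((T : Subgroup Y) ⊔ (P : Subgroup ↥M).map M.subtype) :=
          T.2.to_sup_of_normal_right hOp
        have heq := T.is_maximal' hsup le_sup_left
        have hyT : (y : Y) ∈ (T : Subgroup Y) := by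
          rw [← heq]
          exact Subgroup.mem_sup_right ⟨y, hy, rfl⟩
        exact Subgroup.le_normalizer hyT
      · have hcomm := hsp t q htq T (y : Y) y.2 hyq
        apply Subgroup.centralizer_le_normalizer
        rw [Subgroup.mem_centralizer_iff]
        intro x hx
        exact hcomm x hx
    intro m hm
    have h1 : (⟨m, hm⟩ : ↥M) ∈ (Subgroup.normalizer ((T : Subgroup Y) : Set Y)).subgroupOf M := by
      rw [htop]
      trivial
    exact h1
  rw [← Subgroup.normalizer_eq_top_iff, eq_top_iff, ← hfr]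
  exact sup_le le_rfl (sup_le Subgroup.le_normalizer hMle)

end Nil

end Cfsg.Agent.Lib.Helper6.Wd
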