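import Mathlib
import Cfsg.Agent.Lib.Helper6.WdJ

/-! Ward's theorem, part K: lifting from the quotient by the centralizer of a minimal normal
subgroup; that quotient is nilpotent. -/

set_option autoImplicit false

namespace Cfsg.Agent.Lib.Helper6.Wd

open Cfsg.Agent.Lib.Helper8.FP4

open scoped commutatorElement

universe u

section Lift

variable {G : Type u} [Group G] [Finite G] {p : ℕ} [hp : Fact p.Prime] {a c : MulAut G}

theorem inv_comap_quot {σ : MulAut G} (C : Subgroup G) [hCn : C.Normal] (hC : Inv σ C)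
    {O : Subgroup (G ⧸ C)} (hO : Inv (quotAut σ C hC) O) :
    Inv σ (O.comap (QuotientGroup.mk' C)) := by
  intro y hy
  rw [Subgroup.mem_comap] at hy ⊢
  exact hO _ hy

theorem lift_qpart (h : Hyp p a c) (C : Subgroup G) [hCn : C.Normal] (hCa : Inv a C)
    (hCc : Inv c C) (q : ℕ) [hq : Fact q.Prime] (O : Subgroup (G ⧸ C)) [hOn : O.Normal]
    (hOa : Inv (quotAut a C hCa) O) (hOc : Inv (quotAut c C hCc) O) (hOq : IsPGroup q O) :
    ∃ Q : Subgroup G, IsPGroup q Q ∧ Inv a Q ∧ Inv c Q ∧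
      (∀ o ∈ O, ∃ g ∈ Q, (QuotientGroup.mk' C) g = o) ∧
      Subgroup.normalizer (Q : Set G) ⊔ C = ⊤ := by
  have hYn : (O.comap (QuotientGroup.mk' C)).Normal := hOn.comap _
  have hYa : Inv a (O.comap (QuotientGroup.mk' C)) := inv_comap_quot C hCa hOa
  have hYc : Inv c (O.comap (QuotientGroup.mk' C)) := inv_comap_quot C hCc hOc
  obtain ⟨SY, hSa, hSc⟩ := exists_inv_sylow_sub h (O.comap (QuotientGroup.mk' C)) hYa hYc q
  have hf : Function.Surjective ((QuotientGroup.mk' C).subgroupComap O) :=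
    MonoidHom.subgroupComap_surjective_of_surjective _ _ (QuotientGroup.mk'_surjective C)
  have htop : ((SY.mapSurjective hf : Sylow q ↥O) : Subgroup ↥O) = ⊤ := by
    have hO' : IsPGroup q ↥(⊤ : Subgroup ↥O) := hOq.to_subgroup ⊤
    exact ((SY.mapSurjective hf).is_maximal' hO' le_top).symm
  have hsurj : ∀ o ∈ O, ∃ g ∈ (SY : Subgroup ↥(O.comap (QuotientGroup.mk' C))).map
      (O.comap (QuotientGroup.mk' C)).subtype, (QuotientGroup.mk' C) g = o := by
    intro o ho
    have h1 : (⟨o, ho⟩ : ↥O) ∈ ((SY.mapSurjective hf : Sylow q ↥O) : Subgroup ↥O) := by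
      rw [htop]
      exact Subgroup.mem_top _
    rw [Sylow.coe_mapSurjective] at h1
    obtain ⟨y, hy, hfy⟩ := h1
    exact ⟨(y : G), ⟨y, hy, rfl⟩, congrArg Subtype.val hfy⟩
  refine ⟨_, SY.2.map _, hSa, hSc, hsurj, ?_⟩
  haveI := hYn
  have hfr := Sylow.normalizer_sup_eq_top SY
  have hYle : O.comap (QuotientGroup.mk' C) ≤
      (SY : Subgroup ↥(O.comap (QuotientGroup.mk' C))).map
        (O.comap (QuotientGroup.mk' C)).subtype ⊔ C := by
    intro y hy
    obtain ⟨g, hg, hgy⟩ := hsurj _ (Subgroup.mem_comap.mp hy)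
    rw [QuotientGroup.mk'_apply, QuotientGroup.mk'_apply] at hgy
    have h2 : g⁻¹ * y ∈ C := QuotientGroup.eq.mp hgy
    have e : y = g * (g⁻¹ * y) := by group
    rw [e]
    exact Subgroup.mul_mem_sup hg h2
  rw [eq_top_iff, ← hfr]
  apply sup_le le_sup_left
  exact hYle.trans (sup_le (Subgroup.le_normalizer.trans le_sup_left) le_sup_right)

theorem sylow_image (h : Hyp p a c) (C : Subgroup G) [hCn : C.Normal] (Q : Subgroup G)
    (hQa : Inv a Q) (hQc : Inv c Q) (hfr : Subgroup.normalizer (Q : Set G) ⊔ C = ⊤) (t : ℕ)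
    [ht : Fact t.Prime] :
    ∃ T : Subgroup G, IsPGroup t T ∧ Inv a T ∧ Inv c T ∧
      T ≤ Subgroup.normalizer (Q : Set G) ∧
      ∃ T₀ : Sylow t (G ⧸ C), ∀ x' ∈ (T₀ : Subgroup (G ⧸ C)),
        ∃ x ∈ T, (QuotientGroup.mk' C) x = x' := by
  have hHa : Inv a (Subgroup.normalizer (Q : Set G)) := Inv.normalizer hQa
  have hHc : Inv c (Subgroup.normalizer (Q : Set G)) := Inv.normalizer hQc
  obtain ⟨SH, hSa, hSc⟩ := exists_inv_sylow_sub h (Subgroup.normalizer (Q : Set G)) hHa hHc t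
  have hf : Function.Surjective
      ((QuotientGroup.mk' C).comp (Subgroup.normalizer (Q : Set G)).subtype) := by
    intro y
    obtain ⟨g, rfl⟩ := QuotientGroup.mk'_surjective C y
    have hg0 : g ∈ (Subgroup.normalizer (Q : Set G) ⊔ C : Subgroup G) := by
      rw [hfr]
      exact Subgroup.mem_top g
    have hg : g ∈ ((Subgroup.normalizer (Q : Set G) ⊔ C : Subgroup G) : Set G) := hg0
    rw [Subgroup.mul_normal] at hg
    obtain ⟨n, hn, c', hc', rfl⟩ := Set.mem_mul.mp hg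
    refine ⟨⟨n, hn⟩, ?_⟩
    change (QuotientGroup.mk' C) n = (QuotientGroup.mk' C) (n * c')
    rw [QuotientGroup.mk'_apply, QuotientGroup.mk'_apply, QuotientGroup.eq, inv_mul_cancel_left]
    exact hc'
  refine ⟨(SH : Subgroup ↥(Subgroup.normalizer (Q : Set G))).map
      (Subgroup.normalizer (Q : Set G)).subtype, SH.2.map _, hSa, hSc,
    Subgroup.map_subtype_le _, SH.mapSurjective hf, ?_⟩
  intro x' hx'
  rw [Sylow.coe_mapSurjective] at hx'
  obtain ⟨y, hy, hfy⟩ := hx'
  exact ⟨(y : G), ⟨y, hy, rfl⟩, hfy⟩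

theorem spade_ne (h : Hyp p a c) {r : ℕ} [hr : Fact r.Prime] (V : Subgroup G) [hVn : V.Normal]
    (hVab : ∀ u ∈ V, ∀ v ∈ V, u * v = v * u) (hVr : IsPGroup r V) (hVa : Inv a V)
    (hVc : Inv c V) (q t : ℕ) [hq : Fact q.Prime] [ht : Fact t.Prime] (hqr : q ≠ r)
    (hqt : q ≠ t) (O : Subgroup (G ⧸ Subgroup.centralizer (V : Set G))) [hOn : O.Normal]
    (hOa : Inv (quotAut a (Subgroup.centralizer (V : Set G)) (Inv.centralizer hVa)) O)
    (hOc : Inv (quotAut c (Subgroup.centralizer (V : Set G)) (Inv.centralizer hVc)) O)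
    (hOq : IsPGroup q O) (T' : Sylow t (G ⧸ Subgroup.centralizer (V : Set G))) :
    ∀ m ∈ O, ∀ x ∈ (T' : Subgroup (G ⧸ Subgroup.centralizer (V : Set G))),
      x * m = m * x := by
  obtain ⟨Q, hQq, hQa, hQc, hQsurj, hfr⟩ := lift_qpart h (Subgroup.centralizer (V : Set G))
    (Inv.centralizer hVa) (Inv.centralizer hVc) q O hOa hOc hOq
  obtain ⟨T, hTt, hTa, hTc, hTle, T₀, hT₀⟩ :=
    sylow_image h (Subgroup.centralizer (V : Set G)) Q hQa hQc hfr t
  have hTQ : ∀ x ∈ T, ∀ g ∈ Q, x * g * x⁻¹ ∈ Q := Subgroup.le_normalizer_iff.mp hTle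
  have Tr : Trip p a c r q t V Q T :=
    { hyp := h, Vn := hVn, Vc := hVab, Vr := hVr, Va := hVa, Vc' := hVc, Qq := hQq, Qa := hQa,
      Qc := hQc, Ss := hTt, Sa := hTa, Sc := hTc, qr := hqr, qs := hqt, SQ := hTQ }
  have hconcl := TL Tr
  obtain ⟨g', hg'⟩ := MulAction.exists_smul_eq (G ⧸ Subgroup.centralizer (V : Set G)) T₀ T'
  intro m hm x hx
  rw [← hg', mem_conj_sylow] at hx
  obtain ⟨x₀, hx₀, hπx⟩ := hT₀ _ hx
  have hm' : g'⁻¹ * m * g' ∈ O := by
    have := hOn.conj_mem m hm g'⁻¹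
    rwa [inv_inv] at this
  obtain ⟨g₀, hg₀, hπg⟩ := hQsurj _ hm'
  have hc := hconcl g₀ hg₀ x₀ hx₀
  have hmemC : ⁅g₀, x₀⁆ ∈ Subgroup.centralizer (V : Set G) := by
    rw [Subgroup.mem_centralizer_iff]
    intro v hv
    exact (hc v hv).symm
  have h1 : (QuotientGroup.mk' (Subgroup.centralizer (V : Set G))) ⁅g₀, x₀⁆ = 1 :=
    (QuotientGroup.eq_one_iff _).mpr hmemC
  rw [map_commutatorElement, hπg, hπx, commutatorElement_eq_one_iff_mul_comm] at h1
  have h2 : g'⁻¹ * (m * x) * g' = g'⁻¹ * (x * m) * g' := by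
    calc g'⁻¹ * (m * x) * g' = (g'⁻¹ * m * g') * (g'⁻¹ * x * g') := by group
      _ = (g'⁻¹ * x * g') * (g'⁻¹ * m * g') := h1
      _ = g'⁻¹ * (x * m) * g' := by group
  exact (mul_left_cancel (mul_right_cancel h2)).symm

theorem pgroup_fixed {r : ℕ} [hr : Fact r.Prime] (R₀ V : Subgroup G) [hVn : V.Normal]
    (hR₀ : IsPGroup r R₀) (hVr : IsPGroup r V) (hVne : V ≠ ⊥) :
    ∃ v ∈ V, v ≠ 1 ∧ ∀ g ∈ R₀, g * v = v * g := by
  letI : MulAction ↥R₀ ↥V :=
    MulAction.compHom ↥V ((MulAut.conjNormal : G →* MulAut ↥V).comp R₀.subtype)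
  have hsmul : ∀ (g : ↥R₀) (v : ↥V), ((g • v : ↥V) : G) = g * v * (g : G)⁻¹ := fun g v => rfl
  have hcard : r ∣ Nat.card ↥V := by
    haveI : Nontrivial ↥V := (Subgroup.nontrivial_iff_ne_bot V).mpr hVne
    obtain ⟨n, hn0, hn⟩ := (hVr.nontrivial_iff_card).mp inferInstance
    rw [hn]
    exact dvd_pow_self r hn0.ne'
  have h1 : (1 : ↥V) ∈ MulAction.fixedPoints ↥R₀ ↥V := by
    intro g
    apply Subtype.ext
    rw [hsmul]
    simp
  obtain ⟨b, hb, hne⟩ := hR₀.exists_fixed_point_of_prime_dvd_card_of_fixed_point ↥V hcard h1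
  refine ⟨b, b.2, fun hb1 => hne (Subtype.ext hb1.symm), fun g hg => ?_⟩
  have h2 := congrArg Subtype.val (MulAction.mem_fixedPoints.mp hb ⟨g, hg⟩)
  rw [hsmul] at h2
  calc g * b = (g * b * g⁻¹) * g := by group
    _ = b * g := by rw [h2]

theorem r_part_trivial (h : Hyp p a c) {r : ℕ} [hr : Fact r.Prime] (V : Subgroup G)
    [hVn : V.Normal] (hVr : IsPGroup r V) (hVa : Inv a V) (hVc : Inv c V) (hVne : V ≠ ⊥)
    (hmin : ∀ M : Subgroup G, M.Normal → Inv a M → Inv c M → M ≠ ⊥ → M ≤ V → M = V)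
    (O : Subgroup (G ⧸ Subgroup.centralizer (V : Set G))) [hOn : O.Normal]
    (hOa : Inv (quotAut a (Subgroup.centralizer (V : Set G)) (Inv.centralizer hVa)) O)
    (hOc : Inv (quotAut c (Subgroup.centralizer (V : Set G)) (Inv.centralizer hVc)) O)
    (hOr : IsPGroup r O) : O = ⊥ := by
  obtain ⟨R₀, hR₀p, -, -, hsurj, -⟩ := lift_qpart h (Subgroup.centralizer (V : Set G))
    (Inv.centralizer hVa) (Inv.centralizer hVc) r O hOa hOc hOr
  obtain ⟨v, hvV, hv1, hvfix⟩ := pgroup_fixed R₀ V hR₀p hVr hVne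
  have hRn : (O.comap (QuotientGroup.mk' (Subgroup.centralizer (V : Set G)))).Normal :=
    hOn.comap _
  have hRa : Inv a (O.comap (QuotientGroup.mk' (Subgroup.centralizer (V : Set G)))) :=
    inv_comap_quot _ (Inv.centralizer hVa) hOa
  have hRc : Inv c (O.comap (QuotientGroup.mk' (Subgroup.centralizer (V : Set G)))) :=
    inv_comap_quot _ (Inv.centralizer hVc) hOc
  have hvR : v ∈ Subgroup.centralizer
      ((O.comap (QuotientGroup.mk' (Subgroup.centralizer (V : Set G))) : Subgroup G) :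
        Set G) := by
    rw [Subgroup.mem_centralizer_iff]
    intro y hy
    obtain ⟨g, hg, hgy⟩ := hsurj _ (Subgroup.mem_comap.mp hy)
    rw [QuotientGroup.mk'_apply, QuotientGroup.mk'_apply] at hgy
    have hc : g⁻¹ * y ∈ Subgroup.centralizer (V : Set G) := QuotientGroup.eq.mp hgy
    have h1 := hvfix g hg
    have h2 : (g⁻¹ * y) * v = v * (g⁻¹ * y) :=
      (Subgroup.mem_centralizer_iff.mp hc v hvV).symm
    calc y * v = g * ((g⁻¹ * y) * v) := by group
      _ = g * (v * (g⁻¹ * y)) := by rw [h2]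
      _ = (g * v) * (g⁻¹ * y) := by group
      _ = (v * g) * (g⁻¹ * y) := by rw [h1]
      _ = v * y := by group
  haveI := hRn
  have hWn : (V ⊓ Subgroup.centralizer
      ((O.comap (QuotientGroup.mk' (Subgroup.centralizer (V : Set G))) : Subgroup G) :
        Set G)).Normal := inferInstance
  have hWne : V ⊓ Subgroup.centralizer
      ((O.comap (QuotientGroup.mk' (Subgroup.centralizer (V : Set G))) : Subgroup G) :
        Set G) ≠ ⊥ := by
    intro hbot
    have h3 : v ∈ V ⊓ Subgroup.centralizer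
        ((O.comap (QuotientGroup.mk' (Subgroup.centralizer (V : Set G))) : Subgroup G) :
          Set G) := ⟨hvV, hvR⟩
    rw [hbot, Subgroup.mem_bot] at h3
    exact hv1 h3
  have hW := hmin _ hWn (Inv.inf' hVa (Inv.centralizer hRa)) (Inv.inf' hVc (Inv.centralizer hRc))
    hWne inf_le_left
  rw [eq_bot_iff]
  intro o ho
  obtain ⟨y, rfl⟩ := QuotientGroup.mk'_surjective _ o
  have hy : y ∈ O.comap (QuotientGroup.mk' (Subgroup.centralizer (V : Set G))) := ho
  have hyC : y ∈ Subgroup.centralizer (V : Set G) := by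
    rw [Subgroup.mem_centralizer_iff]
    intro u hu
    have hu' : u ∈ V ⊓ Subgroup.centralizer
        ((O.comap (QuotientGroup.mk' (Subgroup.centralizer (V : Set G))) : Subgroup G) :
          Set G) := by
      rw [hW]
      exact hu
    exact (Subgroup.mem_centralizer_iff.mp hu'.2 y hy).symm
  rw [Subgroup.mem_bot]
  exact (QuotientGroup.eq_one_iff y).mpr hyC

theorem quot_cent_nilpotent (h : Hyp p a c) {r : ℕ} [hr : Fact r.Prime] (V : Subgroup G)
    [hVn : V.Normal] (hVab : ∀ u ∈ V, ∀ v ∈ V, u * v = v * u) (hVr : IsPGroup r V)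
    (hVa : Inv a V) (hVc : Inv c V) (hVne : V ≠ ⊥)
    (hmin : ∀ M : Subgroup G, M.Normal → Inv a M → Inv c M → M ≠ ⊥ → M ≤ V → M = V)
    (N : Subgroup G) [hNn : N.Normal] (hNa : Inv a N) (hNc : Inv c N) (k : ℕ)
    (hk : N.lowerCentralSeries k ≤ V) (k' : ℕ)
    (hk' : (⊤ : Subgroup G).lowerCentralSeries k' ≤ N) :
    Group.IsNilpotent (G ⧸ Subgroup.centralizer (V : Set G)) := by
  have hCa : Inv a (Subgroup.centralizer (V : Set G)) := Inv.centralizer hVa
  have hCc : Inv c (Subgroup.centralizer (V : Set G)) := Inv.centralizer hVc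
  have hVC : V ≤ Subgroup.centralizer (V : Set G) := by
    intro v hv
    rw [Subgroup.mem_centralizer_iff]
    intro u hu
    exact hVab u hu v hv
  have hMn : (N.map (QuotientGroup.mk' (Subgroup.centralizer (V : Set G)))).Normal :=
    hNn.map _ (QuotientGroup.mk'_surjective _)
  haveI := hMn
  have hMnil : Group.IsNilpotent
      ↥(N.map (QuotientGroup.mk' (Subgroup.centralizer (V : Set G)))) := by
    rw [Subgroup.isNilpotent_iff_lowerCentralSeries]
    refine ⟨k, ?_⟩
    rw [← Subgroup.map_lowerCentralSeries, Subgroup.map_eq_bot_iff, QuotientGroup.ker_mk']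
    exact hk.trans hVC
  have hk'' : (⊤ : Subgroup (G ⧸ Subgroup.centralizer (V : Set G))).lowerCentralSeries k' ≤
      N.map (QuotientGroup.mk' (Subgroup.centralizer (V : Set G))) := by
    have h1 := Subgroup.map_lowerCentralSeries (S := (⊤ : Subgroup G))
      (QuotientGroup.mk' (Subgroup.centralizer (V : Set G))) k'
    rw [Subgroup.map_top_of_surjective _ (QuotientGroup.mk'_surjective _)] at h1
    rw [← h1]
    exact Subgroup.map_mono hk'
  have hMa : Inv (quotAut a (Subgroup.centralizer (V : Set G)) hCa)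
      (N.map (QuotientGroup.mk' (Subgroup.centralizer (V : Set G)))) := by
    rintro _ ⟨n, hn, rfl⟩
    exact ⟨a n, hNa n hn, rfl⟩
  have hMc : Inv (quotAut c (Subgroup.centralizer (V : Set G)) hCc)
      (N.map (QuotientGroup.mk' (Subgroup.centralizer (V : Set G)))) := by
    rintro _ ⟨n, hn, rfl⟩
    exact ⟨c n, hNc n hn, rfl⟩
  apply nil_of_sylow_cent (N.map (QuotientGroup.mk' (Subgroup.centralizer (V : Set G)))) hMnil
    k' hk''
  intro t q ht hq htq T m hm hmq x hx
  by_cases hqd : q ∣ Nat.card ↥(N.map (QuotientGroup.mk' (Subgroup.centralizer (V : Set G))))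
  · obtain ⟨O, -, hOle, hOq, hOchar⟩ := exists_qpart
      (N.map (QuotientGroup.mk' (Subgroup.centralizer (V : Set G)))) hMnil q hqd
    have hmO : m ∈ O := (hOchar m).mpr ⟨hm, hmq⟩
    have hOn : O.Normal := ⟨fun y hy g => by
      rw [hOchar] at hy ⊢
      obtain ⟨e, he⟩ := hy.2
      exact ⟨hMn.conj_mem y hy.1 g, e, by rw [conj_pow, he, mul_one, mul_inv_cancel]⟩⟩
    have hOa : Inv (quotAut a (Subgroup.centralizer (V : Set G)) hCa) O := fun y hy => by
      rw [hOchar] at hy ⊢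
      obtain ⟨e, he⟩ := hy.2
      exact ⟨hMa y hy.1, e, by rw [← map_pow, he, map_one]⟩
    have hOc : Inv (quotAut c (Subgroup.centralizer (V : Set G)) hCc) O := fun y hy => by
      rw [hOchar] at hy ⊢
      obtain ⟨e, he⟩ := hy.2
      exact ⟨hMc y hy.1, e, by rw [← map_pow, he, map_one]⟩
    haveI := hOn
    by_cases hqr : q = r
    · subst hqr
      have h0 := r_part_trivial h V hVr hVa hVc hVne hmin O hOa hOc hOq
      rw [h0, Subgroup.mem_bot] at hmO
      rw [hmO, mul_one, one_mul]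
    · exact spade_ne h V hVab hVr hVa hVc q t hqr (Ne.symm htq) O hOa hOc hOq T m hmO x hx
  · have hm1 : m = 1 := by
      obtain ⟨e, he⟩ := hmq
      have h1 : orderOf m ∣ q ^ e := orderOf_dvd_of_pow_eq_one he
      have h2 : orderOf m ∣
          Nat.card ↥(N.map (QuotientGroup.mk' (Subgroup.centralizer (V : Set G)))) := by
        have h3 := orderOf_dvd_natCard
          (⟨m, hm⟩ : ↥(N.map (QuotientGroup.mk' (Subgroup.centralizer (V : Set G)))))
        rwa [Subgroup.orderOf_mk] at h3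
      have hcop : (q ^ e).Coprime
          (Nat.card ↥(N.map (QuotientGroup.mk' (Subgroup.centralizer (V : Set G))))) :=
        Nat.Coprime.pow_left e ((Nat.Prime.coprime_iff_not_dvd hq.out).mpr hqd)
      exact orderOf_eq_one_iff.mp (Nat.eq_one_of_dvd_coprimes hcop h1 h2)
    rw [hm1, mul_one, one_mul]

end Lift

end Cfsg.Agent.Lib.Helper6.Wd
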