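import Mathlib
import Cfsg.Agent.Lib.Helper6.WdK

/-! Ward's theorem, part L: the main induction. -/

set_option autoImplicit false

namespace Cfsg.Agent.Lib.Helper6.Wd

open Cfsg.Agent.Lib.Helper8.FP4

open scoped commutatorElement

universe u

/-- Fitting height at most two, with an invariant middle term -/
def P2 {G : Type u} [Group G] (a c : MulAut G) : Prop :=
  ∃ N : Subgroup G, N.Normal ∧ Inv a N ∧ Inv c N ∧ (∃ k : ℕ, N.lowerCentralSeries k = ⊥) ∧
    ∃ k : ℕ, (⊤ : Subgroup G).lowerCentralSeries k ≤ N

theorem mt_aux : ∀ (n : ℕ) (G : Type u) [Group G] [Finite G], Nat.card G = n →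
    Group.IsSolvable G → ∀ (p : ℕ) [Fact p.Prime] (a c : MulAut G), Hyp p a c → P2 a c := by
  intro n
  induction n using Nat.strong_induction_on with
  | _ n ih =>
    intro G _ _ hcard hsol p _ a c h
    by_cases htriv : (⊤ : Subgroup G) = ⊥
    · refine ⟨⊥, inferInstance, Inv.bot a, Inv.bot c, ⟨0, rfl⟩, ⟨0, ?_⟩⟩
      rw [Subgroup.lowerCentralSeries_zero, htriv]
    · obtain ⟨V, hVn, hVa, hVc, hVne, hmin⟩ := exists_min_inv2 a c htriv
      have hVab := min_comm hsol hVn hVa hVc hVne hmin
      obtain ⟨r, hr, hVr⟩ := min_pgroup hVn hVa hVc hVne hmin hVab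
      haveI := Fact.mk hr
      haveI := hVn
      haveI := hsol
      have hlt : Nat.card (G ⧸ V) < n := by
        rw [← hcard]
        exact card_quot_lt' V hVne
      obtain ⟨N', hN'n, hN'a, hN'c, ⟨k, hk⟩, ⟨k', hk'⟩⟩ := ih _ hlt (G ⧸ V) rfl inferInstance p
        (quotAut a V hVa) (quotAut c V hVc) (h.quot V hVa hVc)
      have hNn : (N'.comap (QuotientGroup.mk' V)).Normal := hN'n.comap _
      have hNa : Inv a (N'.comap (QuotientGroup.mk' V)) := inv_comap_quot V hVa hN'a
      have hNc : Inv c (N'.comap (QuotientGroup.mk' V)) := inv_comap_quot V hVc hN'c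
      have hk1 : (N'.comap (QuotientGroup.mk' V)).lowerCentralSeries k ≤ V := by
        have h1 := Subgroup.map_lowerCentralSeries (S := N'.comap (QuotientGroup.mk' V))
          (QuotientGroup.mk' V) k
        rw [Subgroup.map_comap_eq_self_of_surjective (QuotientGroup.mk'_surjective V), hk] at h1
        rwa [Subgroup.map_eq_bot_iff, QuotientGroup.ker_mk'] at h1
      have hk2 : (⊤ : Subgroup G).lowerCentralSeries k' ≤ N'.comap (QuotientGroup.mk' V) := by
        rw [← Subgroup.map_le_iff_le_comap, Subgroup.map_lowerCentralSeries,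
          Subgroup.map_top_of_surjective _ (QuotientGroup.mk'_surjective V)]
        exact hk'
      haveI := hNn
      have hnil := quot_cent_nilpotent h V hVab hVr hVa hVc hVne hmin
        (N'.comap (QuotientGroup.mk' V)) hNa hNc k hk1 k' hk2
      obtain ⟨k'', hk''⟩ := Subgroup.nilpotent_iff_lowerCentralSeries.mp hnil
      have hk3 : (⊤ : Subgroup G).lowerCentralSeries k'' ≤ Subgroup.centralizer (V : Set G) := by
        have h1 := Subgroup.map_lowerCentralSeries (S := (⊤ : Subgroup G))
          (QuotientGroup.mk' (Subgroup.centralizer (V : Set G))) k''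
        rw [Subgroup.map_top_of_surjective _ (QuotientGroup.mk'_surjective _), hk''] at h1
        rwa [Subgroup.map_eq_bot_iff, QuotientGroup.ker_mk'] at h1
      refine ⟨N'.comap (QuotientGroup.mk' V) ⊓ Subgroup.centralizer (V : Set G), inferInstance,
        Inv.inf' hNa (Inv.centralizer hVa), Inv.inf' hNc (Inv.centralizer hVc),
        ⟨k + 1, ?_⟩, ⟨max k' k'', ?_⟩⟩
      · rw [Subgroup.lowerCentralSeries_succ, eq_bot_iff]
        have h1 : (N'.comap (QuotientGroup.mk' V) ⊓
            Subgroup.centralizer (V : Set G)).lowerCentralSeries k ≤ V :=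
          (Subgroup.lowerCentralSeries_mono k inf_le_left).trans hk1
        have h2 : ⁅V, Subgroup.centralizer (V : Set G)⁆ = ⊥ := by
          rw [Subgroup.commutator_eq_bot_iff_le_centralizer]
          exact Subgroup.le_centralizer_iff.mp le_rfl
        rw [← h2]
        exact Subgroup.commutator_mono h1 inf_le_right
      · apply le_inf
        · exact (Subgroup.lowerCentralSeries_antitone _ (le_max_left k' k'')).trans hk2
        · exact (Subgroup.lowerCentralSeries_antitone _ (le_max_right k' k'')).trans hk3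

/-- the main theorem for a pair of commuting automorphisms -/
theorem main_pair {G : Type u} [Group G] [Finite G] (hG : Group.IsSolvable G) {p : ℕ}
    [Fact p.Prime] {a c : MulAut G} (h : Hyp p a c) : P2 a c :=
  mt_aux (Nat.card G) G rfl hG p a c h

end Cfsg.Agent.Lib.Helper6.Wd
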