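import Mathlib
import Cfsg.Prelude.Def_Transfer
import Cfsg.Agent.Lib.Helper6.WdL

/-! Ward's theorem, part M: the statement for an elementary abelian group of order `p ^ 2`. -/

set_option autoImplicit false

namespace Cfsg.Agent.Lib.Helper6.Wd

open Cfsg.Agent.Lib.Helper8.FP4

universe u

theorem exists_pair {G : Type u} [Group G] [Finite G] {p : ℕ} (hp : p.Prime)
    (A : Subgroup (MulAut G)) (hA : Cfsg.IsElementaryAbelian p A) (hcard : Nat.card A = p ^ 2) :
    ∃ a ∈ A, ∃ c ∈ A, Subgroup.zpowers a ⊔ Subgroup.zpowers c = A := by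
  haveI := Fact.mk hp
  haveI : Finite (MulAut G) := finite_mulAut G
  have hp2 : p < p ^ 2 := by
    have := hp.one_lt
    nlinarith
  have hne : A ≠ ⊥ := by
    rw [← Subgroup.one_lt_card_iff_ne_bot (H := A), hcard]
    exact lt_trans hp.one_lt hp2
  obtain ⟨a, ha, ha1⟩ : ∃ a ∈ A, a ≠ 1 := by
    by_contra hcon
    push Not at hcon
    exact hne ((Subgroup.eq_bot_iff_forall _).mpr hcon)
  have hza : Subgroup.zpowers a ≤ A := by
    rw [Subgroup.zpowers_le]
    exact ha
  have hcza : Nat.card (Subgroup.zpowers a) = p := by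
    rw [Nat.card_zpowers]
    have h1 : orderOf a ∣ p := orderOf_dvd_of_pow_eq_one (hA.2 a ha)
    rcases (Nat.dvd_prime hp).mp h1 with h2 | h2
    · exact absurd (orderOf_eq_one_iff.mp h2) ha1
    · exact h2
  obtain ⟨c, hc, hca⟩ : ∃ c ∈ A, c ∉ Subgroup.zpowers a := by
    by_contra hcon
    push Not at hcon
    have hle : A ≤ Subgroup.zpowers a := fun x hx => hcon x hx
    have := Subgroup.card_le_of_le hle
    rw [hcard, hcza] at this
    omega
  refine ⟨a, ha, c, hc, ?_⟩
  have hzc : Subgroup.zpowers c ≤ A := by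
    rw [Subgroup.zpowers_le]
    exact hc
  have hBA : Subgroup.zpowers a ⊔ Subgroup.zpowers c ≤ A := sup_le hza hzc
  have hdvd : Nat.card ↥(Subgroup.zpowers a ⊔ Subgroup.zpowers c) ∣ p ^ 2 := by
    rw [← hcard]
    exact Subgroup.card_dvd_of_le hBA
  have hlt : p < Nat.card ↥(Subgroup.zpowers a ⊔ Subgroup.zpowers c) := by
    rw [← hcza]
    apply card_lt_of_le_ne le_sup_left
    intro heq
    apply hca
    rw [heq]
    exact (le_sup_right : Subgroup.zpowers c ≤ _) (Subgroup.mem_zpowers c)
  obtain ⟨i, hi, hci⟩ := (Nat.dvd_prime_pow hp).mp hdvd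
  have hi2 : i = 2 := by
    interval_cases i
    · rw [hci, pow_zero] at hlt
      have := hp.one_lt
      omega
    · rw [hci, pow_one] at hlt
      omega
    · rfl
  rw [hi2] at hci
  apply Subgroup.eq_of_le_of_card_ge hBA
  rw [hci, hcard]

theorem ward {G : Type u} [Group G] [Finite G] (hG : Group.IsSolvable G) {p : ℕ} (hp : p.Prime)
    (A : Subgroup (MulAut G)) (hA : Cfsg.IsElementaryAbelian p A) (hcard : Nat.card A = p ^ 2)
    (hfpf : ∀ g : G, (∀ a ∈ A, a g = g) → g = 1) :
    ∃ F : Fin (2 + 1) → Subgroup G, F 0 = ⊥ ∧ F (Fin.last 2) = ⊤ ∧ Monotone F ∧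
      (∀ i, (F i).Normal) ∧
      ∀ i : Fin 2, ∃ k : ℕ, (F i.succ).lowerCentralSeries k ≤ F i.castSucc := by
  haveI := Fact.mk hp
  obtain ⟨a, ha, c, hc, hAeq⟩ := exists_pair hp A hA hcard
  have hcop : ¬ p ∣ Nat.card G := by
    have hAp : IsPGroup p ↥A := IsPGroup.of_card hcard
    have hmod := hAp.card_modEq_card_fixedPoints G
    have hfix : MulAction.fixedPoints ↥A G = {1} := by
      ext g
      rw [MulAction.mem_fixedPoints, Set.mem_singleton_iff]
      constructor
      · intro hg
        apply hfpf g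
        intro b hb
        exact hg ⟨b, hb⟩
      · intro hg b
        rw [hg]
        exact map_one (b : MulAut G)
    rw [hfix] at hmod
    have h1 : Nat.card ({1} : Set G) = 1 := by simp
    rw [h1] at hmod
    intro hd
    have h0 : Nat.card G ≡ 0 [MOD p] := (Nat.modEq_zero_iff_dvd).mpr hd
    have h2 := h0.symm.trans hmod
    unfold Nat.ModEq at h2
    rw [Nat.zero_mod, Nat.mod_eq_of_lt hp.one_lt] at h2
    exact absurd h2 (by norm_num)
  have hyp : Hyp p a c :=
    { comm := by
        have := (hA.1).is_comm.comm (⟨a, ha⟩ : ↥A) ⟨c, hc⟩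
        exact congrArg Subtype.val this
      apow := hA.2 a ha
      cpow := hA.2 c hc
      cop := hcop
      fpf := by
        intro g hag hcg
        apply hfpf g
        intro b hb
        have hle : Subgroup.zpowers a ⊔ Subgroup.zpowers c ≤
            MulAction.stabilizer (MulAut G) g := by
          apply sup_le
          · rw [Subgroup.zpowers_le, MulAction.mem_stabilizer_iff]
            exact hag
          · rw [Subgroup.zpowers_le, MulAction.mem_stabilizer_iff]
            exact hcg
        rw [← hAeq] at hb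
        exact MulAction.mem_stabilizer_iff.mp (hle hb) }
  obtain ⟨N, hNn, -, -, ⟨k, hk⟩, ⟨k', hk'⟩⟩ := main_pair hG hyp
  refine ⟨![⊥, N, ⊤], rfl, rfl, ?_, ?_, ?_⟩
  · rw [Fin.monotone_iff_le_succ]
    intro i
    fin_cases i
    · exact bot_le
    · exact le_top
  · intro i
    fin_cases i
    · exact (inferInstance : (⊥ : Subgroup G).Normal)
    · exact hNn
    · exact (inferInstance : (⊤ : Subgroup G).Normal)
  · intro i
    fin_cases i
    · exact ⟨k, le_of_eq hk⟩
    · exact ⟨k', hk'⟩

end Cfsg.Agent.Lib.Helper6.Wd
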