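import Cfsg.Agent.Lib.Helper8.ZJI0
import Cfsg.Agent.Lib.Helper6.ZJIb

/-!
# S2756 PIECE A (verbatim forms of helper8's farm-out): `two_part`, `exists_inverted`,
`inv_lift`, `inv_lift'`, `concl_of_normal`
-/

set_option autoImplicit false
open scoped Pointwise commutatorElement
universe u v

namespace Cfsg.Agent.Lib.Helper6.ZJIA

open Cfsg.Agent.Lib.Helper8.ZJI Cfsg.Agent.Lib.Helper6.ZJI

variable {G : Type u} [Group G] [Finite G] {q : ℕ} [hq : Fact q.Prime]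

theorem two_part {s x : G} (hodd : Odd (orderOf x)) (h : s * x * s⁻¹ = x⁻¹) :
    ∃ s' ∈ Subgroup.zpowers s, (∃ k : ℕ, orderOf s' = 2 ^ k) ∧ s' * x * s'⁻¹ = x⁻¹ :=
  exists_two_elt_inverting h

theorem exists_inverted (Q : Subgroup G) {s : G} (hs : ∃ k : ℕ, orderOf s = 2 ^ k)
    (hn : ∀ y ∈ Q, s * y * s⁻¹ ∈ Q) {y₀ : G} (hy₀ : y₀ ∈ Q) (hne : s * y₀ * s⁻¹ ≠ y₀) :
    ∃ s' ∈ Subgroup.zpowers s, ∃ y ∈ Q, y ≠ 1 ∧ s' * y * s'⁻¹ = y⁻¹ := by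
  classical
  obtain ⟨k, hk⟩ := hs
  have hex : ∃ j : ℕ, ∀ d ∈ Q, s ^ (2 ^ j) * d * (s ^ (2 ^ j))⁻¹ = d := by
    refine ⟨k, fun d _ => ?_⟩
    rw [← hk, pow_orderOf_eq_one]; group
  have hj0 : Nat.find hex ≠ 0 := by
    intro h0
    have := Nat.find_spec hex
    rw [h0] at this
    apply hne
    have h1 := this y₀ hy₀
    simpa using h1
  obtain ⟨j, hj⟩ := Nat.exists_eq_succ_of_ne_zero hj0
  have hjspec := Nat.find_spec hex
  rw [hj] at hjspec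
  have hjmin : ¬ ∀ d ∈ Q, s ^ (2 ^ j) * d * (s ^ (2 ^ j))⁻¹ = d :=
    Nat.find_min hex (by rw [hj]; exact Nat.lt_succ_self j)
  obtain ⟨u, hu⟩ : ∃ u, u = s ^ (2 ^ j) := ⟨_, rfl⟩
  have huu : u * u = s ^ (2 ^ (j + 1)) := by
    rw [hu, ← pow_add, pow_succ, mul_two]
  have hu2 : ∀ d ∈ Q, u * u * d * (u * u)⁻¹ = d := by
    intro d hd; rw [huu]; exact hjspec d hd
  have hnu : ∀ d ∈ Q, u * d * u⁻¹ ∈ Q := hu ▸ pow_conj_mem Q hn (2 ^ j)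
  rw [← hu] at hjmin
  obtain ⟨y1, hy1⟩ := not_forall.mp hjmin
  obtain ⟨hy1Q, hy1ne⟩ := Classical.not_imp.mp hy1
  refine ⟨u, hu ▸ Subgroup.npow_mem_zpowers s _, y1 * (u * y1 * u⁻¹)⁻¹,
    Q.mul_mem hy1Q (Q.inv_mem (hnu y1 hy1Q)), ?_, ?_⟩
  · intro h1
    apply hy1ne
    have := mul_inv_eq_one.mp h1
    exact this.symm
  · have e1 : u * (y1 * (u * y1 * u⁻¹)⁻¹) * u⁻¹ =
        u * y1 * u⁻¹ * (u * u * y1 * (u * u)⁻¹)⁻¹ := by group
    rw [e1, hu2 y1 hy1Q]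
    group

theorem inv_lift (hq2 : q ≠ 2) (L : Subgroup G) [L.Normal] (x s : G) (hx : x ∉ L)
    (hxq : ∃ k : ℕ, orderOf (QuotientGroup.mk' L x) = q ^ k) (hinv : s * x * s⁻¹ * x ∈ L) :
    ∃ y s' : G, y ∈ L ⊔ Subgroup.closure {x, s} ∧ s' ∈ L ⊔ Subgroup.closure {x, s} ∧ y ∉ L ∧
      (∃ k : ℕ, orderOf y = q ^ k) ∧ s' * y * s'⁻¹ = y⁻¹ := by
  obtain ⟨H, hH⟩ : ∃ H : Subgroup G, H = L ⊔ Subgroup.closure {x, s} := ⟨_, rfl⟩
  rw [← hH]
  have hxH : x ∈ H := hH ▸ (le_sup_right : Subgroup.closure {x, s} ≤ _)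
    (Subgroup.subset_closure (by simp))
  have hsH : s ∈ H := hH ▸ (le_sup_right : Subgroup.closure {x, s} ≤ _)
    (Subgroup.subset_closure (by simp))
  obtain ⟨k, hk⟩ := hxq
  have hxpow : x ^ (q ^ k) ∈ L := by
    have h1 : (QuotientGroup.mk' L x) ^ (q ^ k) = 1 := by rw [← hk, pow_orderOf_eq_one]
    rw [← map_pow] at h1
    exact (QuotientGroup.eq_one_iff _).mp h1
  have hL'n : (L.subgroupOf H).Normal := Subgroup.normal_subgroupOf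
  have key : ∃ xb sb : ↥H ⧸ L.subgroupOf H, xb ≠ 1 ∧ (∃ k : ℕ, orderOf xb = q ^ k) ∧
      sb * xb * sb⁻¹ = xb⁻¹ := by
    refine ⟨((⟨x, hxH⟩ : H) : ↥H ⧸ L.subgroupOf H), ((⟨s, hsH⟩ : H) : ↥H ⧸ L.subgroupOf H),
      ?_, ?_, ?_⟩
    · intro h1
      have := (QuotientGroup.eq_one_iff _).mp h1
      rw [Subgroup.mem_subgroupOf] at this
      exact hx this
    · have h1 : (((⟨x, hxH⟩ : H) : ↥H ⧸ L.subgroupOf H)) ^ (q ^ k) = 1 := by
        rw [← QuotientGroup.mk_pow]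
        apply (QuotientGroup.eq_one_iff _).mpr
        rw [Subgroup.mem_subgroupOf]
        simpa using hxpow
      obtain ⟨j, -, hj⟩ := (Nat.dvd_prime_pow hq.out).mp (orderOf_dvd_of_pow_eq_one h1)
      exact ⟨j, hj⟩
    · have h1 : (((⟨s, hsH⟩ : H) * ⟨x, hxH⟩ * (⟨s, hsH⟩ : H)⁻¹ * ⟨x, hxH⟩ : H) :
          ↥H ⧸ L.subgroupOf H) = 1 := by
        apply (QuotientGroup.eq_one_iff _).mpr
        rw [Subgroup.mem_subgroupOf]
        simpa using hinv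
      rw [QuotientGroup.mk_mul, QuotientGroup.mk_mul, QuotientGroup.mk_mul,
        QuotientGroup.mk_inv] at h1
      exact eq_inv_of_mul_eq_one_left h1
  obtain ⟨y, s', hyL, ⟨k', hk'⟩, -, hys⟩ :=
    exists_inverted_not_mem_of_quotient hq2 (L.subgroupOf H) key
  refine ⟨(y : G), (s' : G), y.2, s'.2, ?_, ⟨k', ?_⟩, ?_⟩
  · intro h1
    apply hyL
    rw [Subgroup.mem_subgroupOf]; exact h1
  · rw [← hk']; exact Subgroup.orderOf_coe y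
  · have := congrArg Subtype.val hys
    simpa using this

theorem inv_lift' (hq2 : q ≠ 2) (L : Subgroup G) [L.Normal] (h : Inv q (G ⧸ L)) :
    ∃ y s : G, y ∉ L ∧ (∃ k : ℕ, orderOf y = q ^ k) ∧ s * y * s⁻¹ = y⁻¹ := by
  obtain ⟨y, s, hy, hyq, -, hys⟩ := exists_inverted_not_mem_of_quotient hq2 L h
  exact ⟨y, s, hy, hyq, hys⟩

theorem concl_of_normal (hinv : Inv q G) (T : Sylow q G) (hn : (ZJ (T : Subgroup G)).Normal) :
    Concl q T := by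
  obtain ⟨x, s, hx1, ⟨k, hk⟩, hxs⟩ := hinv
  have hzq : IsPGroup q (Subgroup.zpowers x) := by
    apply IsPGroup.of_card (n := k)
    rw [Nat.card_zpowers, hk]
  obtain ⟨T', hT'⟩ := hzq.exists_le_sylow
  obtain ⟨g, hg⟩ := MulAction.exists_smul_eq G T' T
  have hxT' : x ∈ (T' : Subgroup G) := hT' (Subgroup.mem_zpowers x)
  have hgx : g * x * g⁻¹ ∈ (T : Subgroup G) := by
    rw [← hg, Sylow.coe_subgroup_smul]
    have := Subgroup.smul_mem_pointwise_smul x (MulAut.conj g) _ hxT'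
    rwa [MulAut.smul_def, MulAut.conj_apply] at this
  refine ⟨g * x * g⁻¹, hgx, ?_, g * s * g⁻¹, ?_, ?_⟩
  · intro h1
    apply hx1
    have : x = g⁻¹ * (g * x * g⁻¹) * g := by group
    rw [this, h1]; group
  · rw [Subgroup.normalizer_eq_top_iff.mpr hn]; exact Subgroup.mem_top _
  · calc g * s * g⁻¹ * (g * x * g⁻¹) * (g * s * g⁻¹)⁻¹ = g * (s * x * s⁻¹) * g⁻¹ := by group
      _ = (g * x * g⁻¹)⁻¹ := by rw [hxs]; group

end Cfsg.Agent.Lib.Helper6.ZJIA
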