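import Cfsg.Agent.Lib.Helper8.ZJI0
import Cfsg.Agent.Lib.Helper7.ZJI_SQ

/-!
# S2756 PIECE F2 (verbatim form `sq`), from helper7's `exists_two_elt_of_quadratic'`
-/

set_option autoImplicit false
open scoped Pointwise commutatorElement
universe u v

namespace Cfsg.Agent.Lib.Helper6.ZJIF

open Cfsg.Agent.Lib.Helper8.ZJI

variable {G : Type u} [Group G] [Finite G] {q : ℕ} [hq : Fact q.Prime]

theorem sq (hq2 : q ≠ 2) (B : Subgroup G) [B.Normal] (hB : IsPGroup q B)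
    (hninv : ¬ Inv q (G ⧸ KK q B)) (a : G)
    (hquad : ⁅⁅B, Subgroup.zpowers a⁆, Subgroup.zpowers a⁆ = ⊥) (ha : a ∉ KK q B) :
    ∃ t : G, (∃ k : ℕ, orderOf t = 2 ^ k) ∧ t ∉ KK q B ∧ t * a * t⁻¹ * a⁻¹ ∈ KK q B := by
  have hquad' : ∀ b ∈ B, ⁅⁅b, a⁆, a⁆ = 1 := by
    intro b hb
    have h1 : ⁅b, a⁆ ∈ ⁅B, Subgroup.zpowers a⁆ :=
      Subgroup.commutator_mem_commutator hb (Subgroup.mem_zpowers a)
    have h2 : ⁅⁅b, a⁆, a⁆ ∈ ⁅⁅B, Subgroup.zpowers a⁆, Subgroup.zpowers a⁆ :=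
      Subgroup.commutator_mem_commutator h1 (Subgroup.mem_zpowers a)
    rw [hquad, Subgroup.mem_bot] at h2
    exact h2
  obtain ⟨t, ht2, htK, hta⟩ :=
    Cfsg.Agent.Lib.Helper7.ZJI.exists_two_elt_of_quadratic' hq2 B hB (KK q B) rfl hninv a hquad' ha
  refine ⟨t, ht2, htK, ?_⟩
  rw [commutatorElement_def] at hta
  exact hta

end Cfsg.Agent.Lib.Helper6.ZJIF
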