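import Mathlib
import Cfsg.Prelude.Def_PLocal
import Cfsg.Agent.S0199
import Cfsg.Agent.Lib.Helper1.PCore
import Cfsg.Agent.Lib.Helper1.ZJ11
import Cfsg.Agent.Lib.Helper6.ZJIb

set_option autoImplicit false

/-!
# S2756: the outer reduction to THEOREM_q

`result_of_theoremq`: the statement of S2756 follows from: for every odd prime `q` and Sylow
`q`-subgroup `T`, if some nontrivial `q`-element is inverted then some nontrivial element of `T`
is inverted by an element of `N_G(ZJ(T))`.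
-/

namespace Cfsg.Agent.Lib.Helper6.ZJI

variable {G : Type*} [Group G]


/-- a nontrivial element of 2-power order has a power of order 2 -/
theorem exists_pow_orderOf_two {s : G} {k : ℕ} (hk : orderOf s = 2 ^ k) (hs1 : s ≠ 1) :
    ∃ j : ℕ, orderOf (s ^ j) = 2 := by
  rcases Nat.eq_zero_or_pos k with h0 | h0
  · exfalso
    rw [h0, pow_zero, orderOf_eq_one_iff] at hk
    exact hs1 hk
  · refine ⟨2 ^ (k - 1), ?_⟩
    have h2 : (2 : ℕ) ^ k = 2 * 2 ^ (k - 1) := by
      rw [← pow_succ']; congr 1; omega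
    exact orderOf_pow_of_eq_mul (hk.trans h2) (by positivity)

/-- in a group with a normal Sylow `2`-subgroup no nontrivial element of odd order is inverted -/
theorem eq_one_of_inverted_of_normal_sylow [Finite G] (P : Sylow 2 G) (hP : (P : Subgroup G).Normal)
    {x g : G} (hx : Odd (orderOf x)) (h : g * x * g⁻¹ = x⁻¹) : x = 1 := by
  obtain ⟨t, -, ⟨k, hk⟩, ht⟩ := exists_two_elt_inverting h
  have htP : t ∈ (P : Subgroup G) := by
    have h1 : IsPGroup 2 (Subgroup.zpowers t) := by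
      apply IsPGroup.of_card (n := k)
      rw [Nat.card_zpowers, hk]
    obtain ⟨P', hP'⟩ := h1.exists_le_sylow
    obtain ⟨g', hg'⟩ := MulAction.exists_smul_eq G P P'
    have := hP
    rw [Sylow.smul_eq_of_normal] at hg'
    rw [hg']
    exact hP' (Subgroup.mem_zpowers t)
  have h2 : x⁻¹ * x⁻¹ ∈ (P : Subgroup G) := by
    have e : x⁻¹ * x⁻¹ = t * (x * t⁻¹ * x⁻¹) := by
      rw [← ht]; group
    rw [e]
    exact Subgroup.mul_mem _ htP (hP.conj_mem _ (Subgroup.inv_mem _ htP) x)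
  have h3 : x ^ 2 ∈ (P : Subgroup G) := by
    have : x ^ 2 = (x⁻¹ * x⁻¹)⁻¹ := by rw [pow_two, mul_inv_rev, inv_inv]
    rw [this]; exact Subgroup.inv_mem _ h2
  obtain ⟨j, hj⟩ := (IsPGroup.iff_orderOf.mp P.2) ⟨x ^ 2, h3⟩
  rw [Subgroup.orderOf_mk] at hj
  have h4 : Odd (orderOf (x ^ 2)) := hx.of_dvd_nat (orderOf_pow_dvd 2)
  have h5 : orderOf (x ^ 2) = 1 := by
    rcases Nat.eq_zero_or_pos j with h0 | h0
    · rw [hj, h0, pow_zero]
    · exfalso
      rw [hj] at h4
      have : Even (2 ^ j) := (Nat.even_pow.mpr ⟨even_two, h0.ne'⟩)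
      exact (Nat.not_odd_iff_even.mpr this) h4
  have h6 : x ^ 2 = 1 := orderOf_eq_one_iff.mp h5
  have h7 : orderOf x ∣ 2 := orderOf_dvd_of_pow_eq_one h6
  have h8 : orderOf x = 1 := by
    rcases (Nat.dvd_prime Nat.prime_two).mp h7 with h | h
    · exact h
    · rw [h] at hx; exact absurd hx (by decide)
  exact orderOf_eq_one_iff.mp h8



/-- two involutions whose product has `2`-power order generate a `2`-group -/
theorem isPGroup_sup_zpowers_of_invol {t t' : G} (ht : orderOf t = 2) (ht' : orderOf t' = 2)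
    {k : ℕ} (hk : orderOf (t * t') = 2 ^ k) :
    IsPGroup 2 ↥(Subgroup.zpowers t ⊔ Subgroup.zpowers t') := by
  have htt : t * t = 1 := by rw [← pow_two, ← ht, pow_orderOf_eq_one]
  have htt' : t' * t' = 1 := by rw [← pow_two, ← ht', pow_orderOf_eq_one]
  have hti : t⁻¹ = t := inv_eq_of_mul_eq_one_right htt
  have hti' : t'⁻¹ = t' := inv_eq_of_mul_eq_one_right htt'
  have h1 : IsPGroup 2 (Subgroup.zpowers t) := by
    apply IsPGroup.of_card (n := 1); rw [Nat.card_zpowers, ht, pow_one]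
  have h2 : IsPGroup 2 (Subgroup.zpowers (t * t')) := by
    apply IsPGroup.of_card (n := k); rw [Nat.card_zpowers, hk]
  have hinv : t * (t * t') * t⁻¹ = (t * t')⁻¹ := by
    rw [mul_inv_rev, hti, hti']
    calc t * (t * t') * t = (t * t) * t' * t := by group
      _ = t' * t := by rw [htt, one_mul]
  have hnorm : Subgroup.zpowers t ≤ Subgroup.normalizer (Subgroup.zpowers (t * t') : Set G) := by
    rw [Subgroup.zpowers_le, Subgroup.mem_normalizer_iff]
    intro h
    have key : ∀ y : G, y ∈ Subgroup.zpowers (t * t') → t * y * t⁻¹ ∈ Subgroup.zpowers (t * t') := by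
      intro y hy
      obtain ⟨z, rfl⟩ := Subgroup.mem_zpowers_iff.mp hy
      rw [← conj_zpow, hinv, inv_zpow]
      exact Subgroup.inv_mem _ (Subgroup.zpow_mem_zpowers _ z)
    refine ⟨key h, fun hh => ?_⟩
    have := key _ hh
    rw [hti] at this
    have e : t * (t * h * t) * t = h := by
      calc t * (t * h * t) * t = (t * t) * h * (t * t) := by group
        _ = h := by rw [htt, one_mul, mul_one]
    rwa [e] at this
  have h3 := IsPGroup.to_sup_of_normal_right' h1 h2 hnorm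
  apply h3.to_le
  apply sup_le le_sup_left
  rw [Subgroup.zpowers_le]
  have hmem : t⁻¹ * (t * t') ∈ Subgroup.zpowers t ⊔ Subgroup.zpowers (t * t') :=
    Subgroup.mul_mem _
      (le_sup_left (a := Subgroup.zpowers t) (Subgroup.inv_mem _ (Subgroup.mem_zpowers t)))
      (le_sup_right (a := Subgroup.zpowers t) (Subgroup.mem_zpowers (t * t')))
  have e : t⁻¹ * (t * t') = t' := by group
  rwa [e] at hmem

/-- a positive number which is not a power of `2` has an odd prime factor -/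
theorem exists_odd_prime_dvd {n : ℕ} (hn : n ≠ 0) (h : ∀ k : ℕ, n ≠ 2 ^ k) :
    ∃ q : ℕ, q.Prime ∧ q ≠ 2 ∧ q ∣ n := by
  by_contra hcon
  apply h n.primeFactorsList.length
  apply Nat.eq_prime_pow_of_unique_prime_dvd hn
  intro d hd hdn
  by_contra hd2
  exact hcon ⟨d, hd, hd2, hdn⟩



/-- an involution inverts its product with another involution -/
theorem invol_conj_mul {t t' : G} (ht : orderOf t = 2) (ht' : orderOf t' = 2) :
    t * (t * t') * t⁻¹ = (t * t')⁻¹ := by
  have htt : t * t = 1 := by rw [← pow_two, ← ht, pow_orderOf_eq_one]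
  have htt' : t' * t' = 1 := by rw [← pow_two, ← ht', pow_orderOf_eq_one]
  have hti : t⁻¹ = t := inv_eq_of_mul_eq_one_right htt
  have hti' : t'⁻¹ = t' := inv_eq_of_mul_eq_one_right htt'
  rw [mul_inv_rev, hti, hti']
  calc t * (t * t') * t = (t * t) * t' * t := by group
    _ = t' * t := by rw [htt, one_mul]

/-- a finite group without normal Sylow `2`-subgroup has a nontrivial element of odd prime power
order (for some odd prime `q`) inverted by some element -/
theorem exists_inverted_of_not_two_closed [Finite G]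
    (h : ¬ ∀ P : Sylow 2 G, (P : Subgroup G).Normal) :
    ∃ q : ℕ, q.Prime ∧ q ≠ 2 ∧
      ∃ x s : G, x ≠ 1 ∧ (∃ k : ℕ, orderOf x = q ^ k) ∧ s * x * s⁻¹ = x⁻¹ := by
  classical
  obtain ⟨P, hP⟩ := not_forall.mp h
  obtain ⟨O, hOn, hO2, hOP', hOmax⟩ : ∃ O : Subgroup G, O.Normal ∧ IsPGroup 2 O ∧
      (∀ P : Sylow 2 G, O ≤ P) ∧ ∀ N : Subgroup G, N.Normal → IsPGroup 2 N → N ≤ O :=
    ⟨Cfsg.pCore 2 G, Cfsg.Agent.Lib.Helper1.pCore_normal 2,
      Cfsg.Agent.Lib.Helper1.pCore_isPGroup 2,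
      fun P => Cfsg.Agent.Lib.Helper1.pCore_le_sylow 2 P,
      fun N hN h2 => Cfsg.Agent.Lib.Helper1.le_pCore hN h2⟩
  have hOP : O ≤ P := hOP' P
  obtain ⟨z, hzP, hzO⟩ : ∃ z ∈ (P : Subgroup G), z ∉ O := by
    by_contra hcon
    apply hP
    have : (P : Subgroup G) = O := by
      apply le_antisymm _ hOP
      intro z hz
      by_contra hzO
      exact hcon ⟨z, hz, hzO⟩
    rw [this]; exact hOn
  obtain ⟨π, hπ⟩ : ∃ π : G →* G ⧸ O, π = QuotientGroup.mk' O := ⟨_, rfl⟩
  have hker : ∀ g : G, π g = 1 ↔ g ∈ O := by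
    intro g; rw [hπ]; exact QuotientGroup.eq_one_iff g
  have hπsurj : Function.Surjective π := hπ ▸ QuotientGroup.mk'_surjective O
  have hzb1 : π z ≠ 1 := fun h1 => hzO ((hker z).mp h1)
  obtain ⟨kz, hkz⟩ := (IsPGroup.iff_orderOf.mp P.2) ⟨z, hzP⟩
  rw [Subgroup.orderOf_mk] at hkz
  obtain ⟨j, -, hj⟩ := (Nat.dvd_prime_pow Nat.prime_two).mp (hkz ▸ orderOf_map_dvd π z)
  obtain ⟨j', htb⟩ := exists_pow_orderOf_two hj hzb1
  obtain ⟨tb, htbdef⟩ : ∃ tb, tb = (π z) ^ j' := ⟨_, rfl⟩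
  rw [← htbdef] at htb
  have htb1 : tb ≠ 1 := by
    intro h1; rw [h1, orderOf_one] at htb; exact absurd htb (by decide)
  -- Baer-Suzuki
  have hBS : ∃ g : G ⧸ O, ¬ IsPGroup 2
      ↥(Subgroup.zpowers tb ⊔ (Subgroup.zpowers tb).map (MulAut.conj g).toMonoidHom) := by
    by_contra hcon
    have hall : ∀ g : G ⧸ O, IsPGroup 2
        ↥(Subgroup.zpowers tb ⊔ (Subgroup.zpowers tb).map (MulAut.conj g).toMonoidHom) := by
      intro g
      by_contra hg
      exact hcon ⟨g, hg⟩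
    have hX : IsPGroup 2 (Subgroup.zpowers tb) := by
      apply IsPGroup.of_card (n := 1); rw [Nat.card_zpowers, htb, pow_one]
    obtain ⟨N, hNn, hN2, hXN⟩ := Cfsg.Agent.S0199.result (Subgroup.zpowers tb) hX hall
    have hcomap2 : IsPGroup 2 (N.comap π) := by
      apply hN2.comap_of_ker_isPGroup
      have : π.ker = O := by rw [hπ]; exact QuotientGroup.ker_mk' O
      rw [this]; exact hO2
    have hcomapn : (N.comap π).Normal := hNn.comap π
    have hle : N.comap π ≤ O := hOmax _ hcomapn hcomap2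
    obtain ⟨g, hg⟩ := hπsurj tb
    have hgN : g ∈ N.comap π := by
      rw [Subgroup.mem_comap, hg]; exact hXN (Subgroup.mem_zpowers tb)
    exact htb1 (hg ▸ (hker g).mpr (hle hgN))
  obtain ⟨g, hg⟩ := hBS
  obtain ⟨t', ht'def⟩ : ∃ t', t' = g * tb * g⁻¹ := ⟨_, rfl⟩
  have hmapz : (Subgroup.zpowers tb).map (MulAut.conj g).toMonoidHom = Subgroup.zpowers t' := by
    rw [MonoidHom.map_zpowers, ht'def]; rfl
  rw [hmapz] at hg
  have ht' : orderOf t' = 2 := by
    rw [ht'def, ← htb]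
    exact orderOf_injective (MulAut.conj g).toMonoidHom (MulAut.conj g).injective tb
  have hnot : ∀ k : ℕ, orderOf (tb * t') ≠ 2 ^ k :=
    fun k hk => hg (isPGroup_sup_zpowers_of_invol htb ht' hk)
  obtain ⟨q, hqp, hq2, hqdvd⟩ := exists_odd_prime_dvd (orderOf_pos (tb * t')).ne' hnot
  have : Fact q.Prime := ⟨hqp⟩
  have hxord : orderOf ((tb * t') ^ (orderOf (tb * t') / q)) = q :=
    orderOf_pow_orderOf_div (orderOf_pos (tb * t')).ne' hqdvd
  have hxinv : tb * (tb * t') ^ (orderOf (tb * t') / q) * tb⁻¹ =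
      ((tb * t') ^ (orderOf (tb * t') / q))⁻¹ := by
    rw [← conj_pow, invol_conj_mul htb ht', inv_pow]
  have hx1 : (tb * t') ^ (orderOf (tb * t') / q) ≠ 1 := by
    intro h1
    rw [h1, orderOf_one] at hxord
    exact hqp.one_lt.ne hxord
  obtain ⟨y, s, hyO, hyq, -, hys⟩ := exists_inverted_not_mem_of_quotient hq2 O
    ⟨_, tb, hx1, ⟨1, by rw [hxord, pow_one]⟩, hxinv⟩
  refine ⟨q, hqp, hq2, y, s, ?_, hyq, hys⟩
  rintro rfl
  exact hyO O.one_mem



/-- in a group with normal Sylow `2`-subgroups, the Sylow `2`-subgroups of any subgroup are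
normal -/
theorem sylow_two_normal_of_subgroup {G : Type*} [Group G] [Finite G]
    (h : ∀ P : Sylow 2 G, (P : Subgroup G).Normal) (H : Subgroup G) (P : Sylow 2 H) :
    (P : Subgroup H).Normal := by
  obtain ⟨P0⟩ : Nonempty (Sylow 2 G) := inferInstance
  have hP0 := h P0
  have hle : (P : Subgroup H) ≤ (P0 : Subgroup G).subgroupOf H := by
    intro t ht
    rw [Subgroup.mem_subgroupOf]
    have h1 : IsPGroup 2 ((P : Subgroup H).map H.subtype) := P.2.map _
    obtain ⟨P', hP'⟩ := h1.exists_le_sylow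
    obtain ⟨g', hg'⟩ := MulAction.exists_smul_eq G P0 P'
    rw [Sylow.smul_eq_of_normal] at hg'
    rw [hg']
    exact hP' ⟨t, ht, rfl⟩
  have h2 : IsPGroup 2 ((P0 : Subgroup G).subgroupOf H) := P0.2.comap_subtype
  have h3 := P.is_maximal' h2 hle
  rw [← h3]
  exact Subgroup.normal_subgroupOf

/-- The reduction of S2756 to THEOREM_q. -/
theorem result_of_theoremq {G : Type*} [Group G] [Finite G]
    (hT : ∀ (q : ℕ) [Fact q.Prime], q ≠ 2 → ∀ T : Sylow q G,
      (∃ x s : G, x ≠ 1 ∧ (∃ k : ℕ, orderOf x = q ^ k) ∧ s * x * s⁻¹ = x⁻¹) →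
      ∃ y ∈ (T : Subgroup G), y ≠ 1 ∧
        ∃ n ∈ Subgroup.normalizer (Cfsg.centerThompsonAOf (T : Subgroup G) : Set G),
          n * y * n⁻¹ = y⁻¹) :
    ((∀ P : Sylow 2 G, (P : Subgroup G).Normal) ↔ ∀ (q : ℕ) [Fact q.Prime], q ≠ 2 → q ∣ Nat.card G → ∀ T : Sylow q G, ∀ P : Sylow 2 ↥(Subgroup.normalizer (Cfsg.centerThompsonAOf (T : Subgroup G) : Set G)), (P : Subgroup ↥(Subgroup.normalizer (Cfsg.centerThompsonAOf (T : Subgroup G) : Set G))).Normal) ∧ ((∀ P : Sylow 2 G, (P : Subgroup G).Normal) ↔ ∀ (q : ℕ) [Fact q.Prime], q ≠ 2 → ∀ T : Sylow q G, ∀ x ∈ (T : Subgroup G), x ≠ 1 → ∀ g ∈ Subgroup.normalizer (Cfsg.centerThompsonAOf (T : Subgroup G) : Set G), g * x * g⁻¹ ≠ x⁻¹) := by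
  have key : (¬ ∀ P : Sylow 2 G, (P : Subgroup G).Normal) →
      ∃ q : ℕ, ∃ _ : Fact q.Prime, q ≠ 2 ∧ ∃ T : Sylow q G, ∃ y ∈ (T : Subgroup G), y ≠ 1 ∧
        ∃ n ∈ Subgroup.normalizer (Cfsg.centerThompsonAOf (T : Subgroup G) : Set G),
          n * y * n⁻¹ = y⁻¹ := by
    intro h
    obtain ⟨q, hqp, hq2, hinv⟩ := exists_inverted_of_not_two_closed h
    have hq : Fact q.Prime := ⟨hqp⟩
    obtain ⟨T⟩ : Nonempty (Sylow q G) := inferInstance
    obtain ⟨y, hyT, hy1, n, hn, hny⟩ := hT q hq2 T hinv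
    exact ⟨q, hq, hq2, T, y, hyT, hy1, n, hn, hny⟩
  refine ⟨⟨?_, ?_⟩, ⟨?_, ?_⟩⟩
  · intro hall q _ _ _ T P
    exact sylow_two_normal_of_subgroup hall _ P
  · intro hb
    by_contra h
    obtain ⟨q, hq, hq2, T, y, hyT, hy1, n, hn, hny⟩ := key h
    have hodd : Odd (orderOf y) := odd_orderOf_of_isPGroup hq2 T.2 hyT
    have hdvd : q ∣ Nat.card G := by
      obtain ⟨k, hk⟩ := orderOf_mem_isPGroup T.2 hyT
      have hk0 : k ≠ 0 := by
        rintro rfl
        rw [pow_zero, orderOf_eq_one_iff] at hk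
        exact hy1 hk
      have h1 : q ∣ orderOf y := by
        rw [hk]; exact dvd_pow_self q hk0
      exact h1.trans (orderOf_dvd_natCard y)
    have hTN : (T : Subgroup G) ≤
        Subgroup.normalizer (Cfsg.centerThompsonAOf (T : Subgroup G) : Set G) :=
      Subgroup.le_normalizer.trans
        (Cfsg.Agent.Lib.Helper1.ZJ.normalizer_le_normalizer_centerThompsonAOf (T : Subgroup G))
    have hbN := hb q hq2 hdvd T
    obtain ⟨P0⟩ : Nonempty (Sylow 2
      ↥(Subgroup.normalizer (Cfsg.centerThompsonAOf (T : Subgroup G) : Set G))) := inferInstance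
    have h1 : (⟨y, hTN hyT⟩ :
        ↥(Subgroup.normalizer (Cfsg.centerThompsonAOf (T : Subgroup G) : Set G))) = 1 := by
      apply eq_one_of_inverted_of_normal_sylow P0 (hbN P0) (g := ⟨n, hn⟩)
      · rw [Subgroup.orderOf_mk]; exact hodd
      · apply Subtype.ext
        simpa using hny
    exact hy1 (congrArg Subtype.val h1)
  · intro hall q _ hq2 T x hxT hx1 g _ hgx
    obtain ⟨P0⟩ : Nonempty (Sylow 2 G) := inferInstance
    exact hx1 (eq_one_of_inverted_of_normal_sylow P0 (hall P0)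
      (odd_orderOf_of_isPGroup hq2 T.2 hxT) hgx)
  · intro hc
    by_contra h
    obtain ⟨q, hq, hq2, T, y, hyT, hy1, n, hn, hny⟩ := key h
    exact hc q hq2 T y hyT hy1 n hn hny

end Cfsg.Agent.Lib.Helper6.ZJI
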