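import Mathlib
import Cfsg.Agent.Lib.Helper6.ZassInv
import Cfsg.Agent.Lib.Helper6.DegreeDvd

set_option autoImplicit false

/-!
Zassenhaus groups of odd degree with two point stabiliser of odd order `e`: at least `e` conjugacy
classes avoid the kernel of the point stabiliser (counting products of two involutions).
-/

namespace Cfsg.Agent.Lib.Helper6.Zs

open Cfsg MulAction
open Cfsg.Agent.Lib.Helper6

section
variable {G : Type*} [Group G] [Fintype G]

open Classical in
lemma card_centralizer_eq_filter (g : G) :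
    Nat.card (Subgroup.centralizer ({g} : Set G))
      = (Finset.univ.filter (fun y : G => y * g = g * y)).card := by
  rw [← Fintype.card_subtype, ← Nat.card_eq_fintype_card]
  exact Nat.card_congr (Equiv.subtypeEquivRight (fun y => Subgroup.mem_centralizer_singleton_iff))

lemma card_centralizer_conj (g x : G) :
    Nat.card (Subgroup.centralizer ({x * g * x⁻¹} : Set G))
      = Nat.card (Subgroup.centralizer ({g} : Set G)) := by
  classical
  rw [card_centralizer_eq_filter, card_centralizer_eq_filter]
  apply Finset.card_bij (fun y _ => x⁻¹ * y * x)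
  · intro y hy
    simp only [Finset.mem_filter, Finset.mem_univ, true_and] at hy ⊢
    calc (x⁻¹ * y * x) * g = x⁻¹ * (y * (x * g * x⁻¹)) * x := by group
      _ = x⁻¹ * ((x * g * x⁻¹) * y) * x := by rw [hy]
      _ = g * (x⁻¹ * y * x) := by group
  · intro y _ y' _ hyy
    exact mul_left_cancel (mul_right_cancel hyy)
  · intro y hy
    simp only [Finset.mem_filter, Finset.mem_univ, true_and] at hy
    refine ⟨x * y * x⁻¹, ?_, by group⟩
    simp only [Finset.mem_filter, Finset.mem_univ, true_and]
    calc x * y * x⁻¹ * (x * g * x⁻¹) = x * (y * g) * x⁻¹ := by group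
      _ = x * (g * y) * x⁻¹ := by rw [hy]
      _ = x * g * x⁻¹ * (x * y * x⁻¹) := by group

end

section
variable {G Ω : Type*} [Group G] [Fintype G] [MulAction G Ω] [Fintype Ω]

open Classical in
theorem ZD.card_le_classes (h : ZD G Ω) (hnodd : Odd (Fintype.card Ω)) {a b : Ω} (hab : a ≠ b)
    {H : Subgroup G} (hK : KD a H) (hex : ∃ x : G, orderOf x = 2) :
    Nat.card ↥(stabilizer G a ⊓ stabilizer G b : Subgroup G)
      ≤ Nat.card {C : ConjClasses G // ∀ g : G, ConjClasses.mk g = C → g ∉ H} := by
  have hba := hab.symm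
  have hn := h.card_gt
  obtain ⟨n, hn_def⟩ : ∃ n, n = Fintype.card Ω := ⟨_, rfl⟩
  obtain ⟨e, he⟩ : ∃ e, e = Nat.card ↥(stabilizer G a ⊓ stabilizer G b : Subgroup G) := ⟨_, rfl⟩
  obtain ⟨Inv, hInv⟩ : ∃ Inv : Finset G, Inv = Finset.univ.filter (fun x : G => orderOf x = 2) :=
    ⟨_, rfl⟩
  have hmInv : ∀ x, x ∈ Inv ↔ orderOf x = 2 := by
    intro x; rw [hInv]; simp
  have hInvcard : Inv.card = e * n := by
    rw [hInv, he, hn_def]; exact h.card_involutions hnodd hab hex
  have hInvfix : ∀ c : Ω, (Inv.filter (fun x => x • c = c)).card = e := by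
    intro c
    rw [hInv, Finset.filter_filter, he]
    exact h.card_inv_fix hnodd hab hex c
  have he1 : 1 < e := by rw [he]; exact h.one_lt_card_two hab
  rw [← he]
  rw [← hn_def] at hn
  obtain ⟨P, hP⟩ : ∃ P : Finset (G × G), P = (Inv ×ˢ Inv).filter
      (fun p => ¬ ∃ c : Ω, p.1 • c = c ∧ p.2 • c = c) := ⟨_, rfl⟩
  have hPcard : P.card = e * n * (e * n - e) := by
    rw [hP, Finset.card_filter, Finset.sum_product]
    have h1 : ∀ z ∈ Inv,
        ∑ z' ∈ Inv, (if ¬ ∃ c : Ω, z • c = c ∧ z' • c = c then 1 else 0) = e * n - e := by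
      intro z hz
      have hzo := (hmInv z).1 hz
      have hfx := h.fx_involution hnodd hzo
      unfold fx at hfx
      obtain ⟨c, hc⟩ := Finset.card_eq_one.1 hfx
      have hzc : z • c = c := by
        have h1 : c ∈ Finset.univ.filter (fun c : Ω => z • c = c) := by
          rw [hc]; exact Finset.mem_singleton_self c
        simpa using h1
      have hzu : ∀ c' : Ω, z • c' = c' → c' = c := by
        intro c' hc'
        have h1 : c' ∈ Finset.univ.filter (fun c : Ω => z • c = c) := by simp [hc']
        rw [hc] at h1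
        exact Finset.mem_singleton.1 h1
      have h2 : ∀ z' : G, (∃ c' : Ω, z • c' = c' ∧ z' • c' = c') ↔ z' • c = c := by
        intro z'
        constructor
        · rintro ⟨c', h1, h2⟩
          rw [← hzu c' h1]; exact h2
        · intro h'
          exact ⟨c, hzc, h'⟩
      simp_rw [h2]
      rw [← Finset.card_filter]
      have h3 := Finset.card_filter_add_card_filter_not (s := Inv) (fun z' : G => z' • c = c)
      rw [hInvfix c, hInvcard] at h3
      omega
    rw [Finset.sum_congr rfl h1, Finset.sum_const, hInvcard, smul_eq_mul]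
  obtain ⟨f, hf⟩ : ∃ f : G → ℕ, f = fun g => if (∀ x : G, x * g * x⁻¹ ∉ H)
      then Nat.card (Subgroup.centralizer ({g} : Set G)) else 0 := ⟨_, rfl⟩
  have hfib : ∀ g : G, (P.filter (fun p => p.1 * p.2 = g)).card ≤ f g := by
    intro g
    by_cases hne : (P.filter (fun p => p.1 * p.2 = g)).Nonempty
    · obtain ⟨p₀, hp₀⟩ := hne
      rw [Finset.mem_filter, hP, Finset.mem_filter, Finset.mem_product] at hp₀
      obtain ⟨⟨⟨hz₀, hz₀'⟩, hnc₀⟩, hprod₀⟩ := hp₀
      -- facts for pairs of involutions with product `g`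
      have hpair : ∀ z z' : G, z ∈ Inv → z' ∈ Inv → z * z' = g →
          (z * g = g⁻¹ * z ∧ z' * g = g⁻¹ * z') := by
        intro z z' hz hz' hzz
        have hz2 := mul_self_of_orderOf_two ((hmInv z).1 hz)
        have hz'2 := mul_self_of_orderOf_two ((hmInv z').1 hz')
        have hginv : g⁻¹ = z' * z := by
          rw [← hzz, mul_inv_rev, inv_of_orderOf_two ((hmInv z).1 hz),
            inv_of_orderOf_two ((hmInv z').1 hz')]
        constructor
        · rw [hginv, ← hzz]
          calc z * (z * z') = (z * z) * z' := by group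
            _ = z' * (z * z) := by rw [hz2]; group
            _ = z' * z * z := by group
        · rw [hginv, ← hzz]
          exact (mul_assoc z' z z').symm
      obtain ⟨hz₀g, hz₀'g⟩ := hpair p₀.1 p₀.2 hz₀ hz₀' hprod₀
      have hgX : ∀ x : G, x * g * x⁻¹ ∉ H := by
        intro x hxH
        have hg1 : g ≠ 1 := by
          intro hg1
          apply hnc₀
          have hz₀o := (hmInv _).1 hz₀
          have h1 : p₀.2 = p₀.1 := by
            have h2 : p₀.1 * p₀.2 = p₀.1 * p₀.1 := by
              rw [hprod₀, hg1, mul_self_of_orderOf_two hz₀o]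
            exact mul_left_cancel h2
          have hfx := h.fx_involution hnodd hz₀o
          unfold fx at hfx
          obtain ⟨c, hc⟩ := Finset.card_eq_one.1 hfx
          have hzc : p₀.1 • c = c := by
            have h1 : c ∈ Finset.univ.filter (fun c : Ω => p₀.1 • c = c) := by
              rw [hc]; exact Finset.mem_singleton_self c
            simpa using h1
          exact ⟨c, hzc, by rw [h1]; exact hzc⟩
        have hg'1 : x * g * x⁻¹ ≠ 1 := by
          intro h'
          apply hg1
          have : g = x⁻¹ * (x * g * x⁻¹) * x := by group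
          rw [this, h']; group
        -- `g` fixes exactly `x⁻¹ • a`
        have hgf : g • (x⁻¹ • a) = x⁻¹ • a := by
          have h1 := hK.fixa hxH
          rw [mul_smul, mul_smul] at h1
          have h2 := congrArg (fun t => x⁻¹ • t) h1
          simp only [inv_smul_smul] at h2
          exact h2
        have hgu : ∀ c : Ω, g • c = c → c = x⁻¹ • a := by
          intro c hc
          have h1 : (x * g * x⁻¹) • (x • c) = x • c := by
            rw [mul_smul, mul_smul, inv_smul_smul, hc]
          have h2 := hK.fix _ hxH hg'1 _ h1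
          rw [← h2, inv_smul_smul]
        have hfixes : ∀ z : G, z * g = g⁻¹ * z → z • (x⁻¹ • a) = x⁻¹ • a := by
          intro z hzg
          apply hgu
          have h1 : g⁻¹ • (z • (x⁻¹ • a)) = z • (x⁻¹ • a) := by
            rw [← mul_smul, ← hzg, mul_smul, hgf]
          have h2 := congrArg (fun t => g • t) h1
          simp only [smul_inv_smul] at h2
          exact h2.symm
        exact hnc₀ ⟨x⁻¹ • a, hfixes _ hz₀g, hfixes _ hz₀'g⟩
      rw [hf]
      simp only
      rw [if_pos hgX, card_centralizer_eq_filter]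
      apply Finset.card_le_card_of_injOn (fun p => p₀.1⁻¹ * p.1)
      · intro p hp
        have hp' := Finset.mem_coe.1 hp
        rw [Finset.mem_filter, hP, Finset.mem_filter, Finset.mem_product] at hp'
        obtain ⟨⟨⟨hz, hz'⟩, -⟩, hprod⟩ := hp'
        obtain ⟨hzg, -⟩ := hpair p.1 p.2 hz hz' hprod
        simp only [Finset.coe_filter, Finset.mem_univ, true_and, Set.mem_setOf_eq]
        have h1 : g * p₀.1⁻¹ = p₀.1⁻¹ * g⁻¹ := by
          calc g * p₀.1⁻¹ = p₀.1⁻¹ * (p₀.1 * g) * p₀.1⁻¹ := by group
            _ = p₀.1⁻¹ * (g⁻¹ * p₀.1) * p₀.1⁻¹ := by rw [hz₀g]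
            _ = p₀.1⁻¹ * g⁻¹ := by group
        calc (p₀.1⁻¹ * p.1) * g = p₀.1⁻¹ * (p.1 * g) := by group
          _ = p₀.1⁻¹ * (g⁻¹ * p.1) := by rw [hzg]
          _ = (p₀.1⁻¹ * g⁻¹) * p.1 := by group
          _ = (g * p₀.1⁻¹) * p.1 := by rw [h1]
          _ = g * (p₀.1⁻¹ * p.1) := by group
      · intro p hp q hq hpq
        have hp' := Finset.mem_coe.1 hp
        have hq' := Finset.mem_coe.1 hq
        rw [Finset.mem_filter] at hp' hq'
        have h1 : p.1 = q.1 := mul_left_cancel hpq
        have h2 : p.2 = q.2 := by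
          have h3 : p.1 * p.2 = p.1 * q.2 := by rw [hp'.2, h1, hq'.2]
          exact mul_left_cancel h3
        exact Prod.ext h1 h2
    · rw [Finset.not_nonempty_iff_eq_empty] at hne
      rw [hne, Finset.card_empty]
      exact Nat.zero_le _
  have hsumf : ∑ g : G, f g = Nat.card G
      * Nat.card {C : ConjClasses G // ∀ g : G, ConjClasses.mk g = C → g ∉ H} := by
    haveI : Fintype (ConjClasses G) := Fintype.ofFinite _
    obtain ⟨F, hF⟩ : ∃ F : G → ℂ, F = fun g => (f g : ℂ) := ⟨_, rfl⟩
    have hFcf : Cfsg.IsClassFunction G F := by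
      intro g x
      rw [hF, hf]
      simp only
      have hiff : (∀ y : G, y * (x * g * x⁻¹) * y⁻¹ ∉ H) ↔ (∀ y : G, y * g * y⁻¹ ∉ H) := by
        constructor
        · intro h' y
          have h1 := h' (y * x⁻¹)
          have h2 : y * x⁻¹ * (x * g * x⁻¹) * (y * x⁻¹)⁻¹ = y * g * y⁻¹ := by group
          rwa [h2] at h1
        · intro h' y
          have h1 := h' (y * x)
          have h2 : y * x * g * (y * x)⁻¹ = y * (x * g * x⁻¹) * y⁻¹ := by group
          rwa [h2] at h1
      by_cases hc : ∀ y : G, y * g * y⁻¹ ∉ H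
      · rw [if_pos hc, if_pos (hiff.2 hc), card_centralizer_conj]
      · rw [if_neg hc, if_neg (fun h' => hc (hiff.1 h'))]
    have h1 := sum_eq_sum_conjClasses F hFcf
    have h2 : ∀ c : ConjClasses G,
        ((Subgroup.centralizer ({Quotient.out c} : Set G)).index : ℂ) * F (Quotient.out c)
        = if (∀ g : G, ConjClasses.mk g = c → g ∉ H) then (Nat.card G : ℂ) else 0 := by
      intro c
      rw [hF, hf]
      simp only
      have hout : ConjClasses.mk (Quotient.out c) = c := Quotient.out_eq c
      have hiff : (∀ x : G, x * Quotient.out c * x⁻¹ ∉ H)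
          ↔ (∀ g : G, ConjClasses.mk g = c → g ∉ H) := by
        constructor
        · intro h' g hg
          have h3 : IsConj (Quotient.out c) g := by
            rw [← ConjClasses.mk_eq_mk_iff_isConj, hg]; exact hout
          obtain ⟨x, hx⟩ := isConj_iff.1 h3
          rw [← hx]; exact h' x
        · intro h' x
          apply h'
          have h3 : ConjClasses.mk (x * Quotient.out c * x⁻¹) = ConjClasses.mk (Quotient.out c) :=
            ConjClasses.mk_eq_mk_iff_isConj.2 (isConj_iff.2 ⟨x⁻¹, by group⟩)
          rw [h3]; exact hout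
      by_cases hc : ∀ g : G, ConjClasses.mk g = c → g ∉ H
      · rw [if_pos hc, if_pos (hiff.2 hc), ← Nat.cast_mul, Subgroup.index_mul_card]
      · rw [if_neg hc, if_neg (fun h' => hc (hiff.1 h'))]
        simp
    rw [Finset.sum_congr rfl (fun c _ => h2 c), Finset.sum_ite, Finset.sum_const_zero, add_zero,
      Finset.sum_const, nsmul_eq_mul] at h1
    have h3 : ∑ g, F g = ((∑ g, f g : ℕ) : ℂ) := by
      rw [hF]; push_cast; rfl
    rw [h3] at h1
    have h4 : (∑ g, f g : ℕ) = (Finset.univ.filter
        (fun c : ConjClasses G => ∀ g : G, ConjClasses.mk g = c → g ∉ H)).card * Nat.card G := by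
      exact_mod_cast h1
    rw [h4, mul_comm]
    congr 1
    rw [← Fintype.card_subtype, Nat.card_eq_fintype_card]
  -- assemble
  have hPsum : P.card = ∑ g : G, (P.filter (fun p => p.1 * p.2 = g)).card :=
    Finset.card_eq_sum_card_fiberwise (f := fun p : G × G => p.1 * p.2) (t := Finset.univ)
      (fun p _ => Finset.mem_univ _)
  have hle : P.card ≤ ∑ g : G, f g := by
    rw [hPsum]
    exact Finset.sum_le_sum (fun g _ => hfib g)
  rw [hPcard, hsumf] at hle
  have hG : Nat.card G = e * (n * n - n) := by
    rw [he, hn_def]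
    exact (h.card_two_mul hab).symm
  rw [hG] at hle
  obtain ⟨k, hk⟩ : ∃ k, k = Nat.card
      {C : ConjClasses G // ∀ g : G, ConjClasses.mk g = C → g ∉ H} := ⟨_, rfl⟩
  rw [← hk] at hle ⊢
  obtain ⟨m, hm⟩ : ∃ m, n = m + 1 := ⟨n - 1, by omega⟩
  have h5 : e * n - e = e * m := by
    rw [hm]
    have : e * (m + 1) = e * m + e := by ring
    omega
  have h6 : n * n - n = n * m := by
    rw [hm]
    have : (m + 1) * (m + 1) = (m + 1) * m + (m + 1) := by ring
    omega
  rw [h5, h6] at hle
  have hpos : 0 < e * n * m := by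
    have : 0 < m := by omega
    have : 0 < n := by omega
    have : 0 < e := by omega
    positivity
  have h7 : e * n * m * e ≤ e * n * m * k := by
    calc e * n * m * e = e * n * (e * m) := by ring
      _ ≤ e * (n * m) * k := hle
      _ = e * n * m * k := by ring
  exact Nat.le_of_mul_le_mul_left h7 hpos

end

end Cfsg.Agent.Lib.Helper6.Zs
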