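import Mathlib
import Cfsg.Agent.Lib.Helper7.ZfDefs
import Cfsg.Agent.Lib.Helper5.KleinPairs
import Cfsg.Agent.Lib.Helper5.S4Rec

/-! Zassenhaus' theorem on perfect fixed-point-free groups, part T: transport of the two
"quaternion pair" statements from `G` to the quotient `Γ = G / ⟨t⟩` by the central involution.
File A: basic facts about the covering `q : G → Γ`. -/

set_option autoImplicit false
set_option maxHeartbeats 1000000

namespace Cfsg.Agent.Lib.Helper6.ZfT

open Cfsg.Agent.Lib.Helper7 Cfsg.Agent.Lib.Helper5.KleinPairs Cfsg.Agent.Lib.Helper5.S4Rec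

/-- a central extension of `Γ` by `{1, t}` with a unique involution and in which commuting
elements of order four generate the same subgroup -/
structure Cover {G Γ : Type*} [Group G] [Group Γ] (q : G →* Γ) (t : G) : Prop where
  surj : Function.Surjective q
  ne : t ≠ 1
  sq : t * t = 1
  ker : ∀ g : G, q g = 1 ↔ g = 1 ∨ g = t
  inv : ∀ s : G, s * s = 1 → s = 1 ∨ s = t
  cen : ∀ g : G, g * t = t * g
  c4 : ∀ u v : G, orderOf u = 4 → orderOf v = 4 → u * v = v * u → v = u ∨ v = u⁻¹

namespace Cover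

variable {G Γ : Type*} [Group G] [Group Γ] {q : G →* Γ} {t : G} (h : Cover q t)

include h

theorem map_t : q t = 1 := (h.ker t).mpr (Or.inr rfl)

theorem eq_or {a b : G} (hab : q a = q b) : a = b ∨ a = t * b := by
  have h1 : q (a * b⁻¹) = 1 := by rw [map_mul, map_inv, hab, mul_inv_cancel]
  rcases (h.ker _).mp h1 with h2 | h2
  · left; exact mul_inv_eq_one.mp h2
  · right; exact mul_inv_eq_iff_eq_mul.mp h2

/-- a lift of an involution has order four and square `t` -/
theorem four {a : G} (ha1 : q a ≠ 1) (ha2 : q a * q a = 1) : orderOf a = 4 ∧ a * a = t := by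
  haveI : Fact (Nat.Prime 2) := ⟨Nat.prime_two⟩
  have h1 : q (a * a) = 1 := by rw [map_mul, ha2]
  have hsq : a * a = t := by
    rcases (h.ker _).mp h1 with h2 | h2
    · exfalso
      rcases h.inv a h2 with h3 | h3
      · apply ha1; rw [h3, map_one]
      · apply ha1; rw [h3, h.map_t]
    · exact h2
  refine ⟨?_, hsq⟩
  have e1 : ¬ a ^ 2 ^ 1 = 1 := by
    rw [pow_one, pow_two, hsq]; exact h.ne
  have e2 : a ^ 2 ^ (1 + 1) = 1 := by
    have e3 : a ^ 2 ^ (1 + 1) = (a * a) * (a * a) := by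
      rw [show (2 : ℕ) ^ (1 + 1) = 2 + 2 from rfl, pow_add, pow_two]
    rw [e3, hsq, h.sq]
  exact orderOf_eq_prime_pow e1 e2

/-- an element of order four has square `t` -/
theorem sq_of_four {u : G} (hu : orderOf u = 4) : u * u = t := by
  have h4 : u ^ 4 = 1 := by rw [← hu]; exact pow_orderOf_eq_one u
  have h2 : (u * u) * (u * u) = 1 := by
    calc (u * u) * (u * u) = u ^ 4 := by
          rw [show (4 : ℕ) = 2 + 2 from rfl, pow_add, pow_two]
      _ = 1 := h4
  rcases h.inv _ h2 with h3 | h3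
  · exfalso
    have : orderOf u ∣ 2 := orderOf_dvd_of_pow_eq_one (by rw [pow_two]; exact h3)
    rw [hu] at this
    omega
  · exact h3

theorem inv_eq {a : G} (hsq : a * a = t) : a⁻¹ = t * a :=
  inv_eq_of_mul_eq_one_left (by rw [mul_assoc, hsq, h.sq])

theorem invol_of_sq {a : G} (ha : a * a = t) : q a ≠ 1 ∧ q a * q a = 1 := by
  constructor
  · intro e
    rcases (h.ker a).mp e with r | r
    · rw [r, one_mul] at ha; exact h.ne ha.symm
    · rw [r, h.sq] at ha; exact h.ne ha.symm
  · rw [← map_mul, ha, h.map_t]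

theorem conj_sq {a : G} (x : G) (ha : a * a = t) : (x * a * x⁻¹) * (x * a * x⁻¹) = t := by
  calc (x * a * x⁻¹) * (x * a * x⁻¹) = x * (a * a) * x⁻¹ := by group
    _ = t := by rw [ha, h.cen x, mul_assoc, mul_inv_cancel, mul_one]

/-- lifts of two distinct commuting involutions: one inverts the other -/
theorem conj_inv {a b : G} (ha1 : q a ≠ 1) (ha2 : q a * q a = 1) (hb1 : q b ≠ 1)
    (hb2 : q b * q b = 1) (hne : q a ≠ q b) (hcomm : q a * q b = q b * q a) :
    b * a * b⁻¹ = a⁻¹ := by
  obtain ⟨hao, hasq⟩ := h.four ha1 ha2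
  obtain ⟨hbo, hbsq⟩ := h.four hb1 hb2
  have h1 : q (b * a * b⁻¹) = q a := by
    rw [map_mul, map_mul, map_inv, ← hcomm, mul_assoc, mul_inv_cancel, mul_one]
  rcases h.eq_or h1 with h2 | h2
  · exfalso
    have h3 : a * b = b * a := by
      calc a * b = (b * a * b⁻¹) * b := by rw [h2]
        _ = b * a := by group
    rcases h.c4 a b hao hbo h3 with h4 | h4
    · exact hne (by rw [h4])
    · apply hne
      rw [h4, map_inv]
      exact (inv_eq_of_mul_eq_one_left ha2).symm
  · rw [h2, h.inv_eq hasq]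

/-- there is no fourth involution commuting with a four-group -/
theorem no_fourth {a b d : G} (ha1 : q a ≠ 1) (ha2 : q a * q a = 1) (hb1 : q b ≠ 1)
    (hb2 : q b * q b = 1) (hd1 : q d ≠ 1) (hd2 : q d * q d = 1) (hab : q a ≠ q b)
    (cab : q a * q b = q b * q a) (cad : q a * q d = q d * q a) (cbd : q b * q d = q d * q b)
    (hda : q d ≠ q a) (hdb : q d ≠ q b) (hdab : q d ≠ q a * q b) : False := by
  have r1 : b * a * b⁻¹ = a⁻¹ := h.conj_inv ha1 ha2 hb1 hb2 hab cab
  have r2 : d * a * d⁻¹ = a⁻¹ := h.conj_inv ha1 ha2 hd1 hd2 (Ne.symm hda) cad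
  have r3 : d * b * d⁻¹ = b⁻¹ := h.conj_inv hb1 hb2 hd1 hd2 (Ne.symm hdb) cbd
  have hbi : (q b)⁻¹ = q b := inv_eq_of_mul_eq_one_left hb2
  have hab1 : q (a * b) ≠ 1 := by
    rw [map_mul]
    intro e
    apply hab
    rw [← hbi]
    exact eq_inv_of_mul_eq_one_left e
  have hab2 : q (a * b) * q (a * b) = 1 := by
    rw [map_mul]
    calc q a * q b * (q a * q b) = q a * (q b * q a) * q b := by group
      _ = q a * (q a * q b) * q b := by rw [cab]
      _ = (q a * q a) * (q b * q b) := by group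
      _ = 1 := by rw [ha2, hb2, one_mul]
  have hne4 : q (a * b) ≠ q d := by rw [map_mul]; exact Ne.symm hdab
  have c4' : q (a * b) * q d = q d * q (a * b) := by
    rw [map_mul]
    calc q a * q b * q d = q a * (q b * q d) := by group
      _ = q a * (q d * q b) := by rw [cbd]
      _ = (q a * q d) * q b := by group
      _ = (q d * q a) * q b := by rw [cad]
      _ = q d * (q a * q b) := by group
  have r4 : d * (a * b) * d⁻¹ = (a * b)⁻¹ := h.conj_inv hab1 hab2 hd1 hd2 hne4 c4'
  have h5 : (a * b)⁻¹ = a⁻¹ * b⁻¹ := by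
    calc (a * b)⁻¹ = d * (a * b) * d⁻¹ := r4.symm
      _ = (d * a * d⁻¹) * (d * b * d⁻¹) := by group
      _ = a⁻¹ * b⁻¹ := by rw [r2, r3]
  have h6 : a * b = b * a := by
    have := congrArg (fun g => g⁻¹) h5
    simpa using this
  have h7 : a = a⁻¹ := by
    calc a = a * b * b⁻¹ := by group
      _ = b * a * b⁻¹ := by rw [h6]
      _ = a⁻¹ := r1
  have h8 : a * a = 1 := by
    calc a * a = a * a⁻¹ := by rw [← h7]
      _ = 1 := mul_inv_cancel a
  have h9 := (h.four ha1 ha2).2
  rw [h8] at h9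
  exact h.ne h9.symm

/-- lifting elements of order three -/
theorem exists_lift_three (g : Γ) (hg : orderOf g = 3) : ∃ x : G, q x = g ∧ orderOf x = 3 := by
  haveI : Fact (Nat.Prime 3) := ⟨Nat.prime_three⟩
  obtain ⟨x₀, hx₀⟩ := h.surj g
  have hg3 : g ^ 3 = 1 := by rw [← hg]; exact pow_orderOf_eq_one g
  have hg1 : g ≠ 1 := by
    intro e; rw [e, orderOf_one] at hg; omega
  have h1 : q (x₀ ^ 3) = 1 := by rw [map_pow, hx₀, hg3]
  rcases (h.ker _).mp h1 with h2 | h2
  · refine ⟨x₀, hx₀, orderOf_eq_prime h2 ?_⟩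
    intro e; apply hg1; rw [← hx₀, e, map_one]
  · refine ⟨t * x₀, by rw [map_mul, h.map_t, one_mul, hx₀], orderOf_eq_prime ?_ ?_⟩
    · have hc : Commute t x₀ := (h.cen x₀).symm
      rw [hc.mul_pow, h2, pow_succ, pow_two, h.sq, one_mul, h.sq]
    · intro e
      apply hg1
      rw [← hx₀]
      have := congrArg q e
      rwa [map_mul, h.map_t, one_mul, map_one] at this

/-- the image of an element of order three has order three -/
theorem orderOf_map_three {x : G} (hx : orderOf x = 3) : orderOf (q x) = 3 := by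
  haveI : Fact (Nat.Prime 3) := ⟨Nat.prime_three⟩
  apply orderOf_eq_prime
  · rw [← map_pow, ← hx, pow_orderOf_eq_one, map_one]
  · intro e
    have h2 : x * x = 1 := by
      rcases (h.ker x).mp e with r | r
      · rw [r, one_mul]
      · rw [r, h.sq]
    have : orderOf x ∣ 2 := orderOf_dvd_of_pow_eq_one (by rw [pow_two]; exact h2)
    rw [hx] at this
    omega

end Cover

/-- an automorphism of order three of a four-group which acts nontrivially moves every
involution -/
theorem klein_moves {Γ : Type*} [Group Γ] [Finite Γ] (U : Subgroup Γ) (hU : IsKleinFour U)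
    (x : Γ) (hx3 : x * x * x = 1) (hxN : x ∈ Subgroup.normalizer (U : Set Γ)) (a : Γ)
    (haU : a ∈ U) (hxa : x * a * x⁻¹ ≠ a) (z : Γ) (hzU : z ∈ U) (hz1 : z ≠ 1) :
    x * z * x⁻¹ ≠ z := by
  intro hcz
  have hN := Subgroup.mem_normalizer_iff.mp hxN
  obtain ⟨b, hbU, hb1, hbz⟩ : ∃ b ∈ U, b ≠ 1 ∧ b ≠ z := by
    by_contra hcon
    push Not at hcon
    have hsub : ((U : Subgroup Γ) : Set Γ) ⊆ ({1, z} : Set Γ) := by
      intro b hb
      by_cases hb1 : b = 1
      · left; exact hb1
      · right; exact hcon b hb hb1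
    have hle : Nat.card U ≤ 2 := by
      have h1 : Nat.card U = Set.ncard ((U : Subgroup Γ) : Set Γ) := rfl
      rw [h1]
      calc Set.ncard ((U : Subgroup Γ) : Set Γ) ≤ ({1, z} : Set Γ).ncard :=
            Set.ncard_le_ncard hsub (Set.toFinite _)
        _ ≤ ({z} : Set Γ).ncard + 1 := Set.ncard_insert_le 1 {z}
        _ = 2 := by rw [Set.ncard_singleton]
    rw [hU.card_four] at hle
    omega
  have hzz := sq_of_mem U hU z hzU
  have hbb := sq_of_mem U hU b hbU
  have hbz' : b * z = z * b := comm_of_mem U hU b z hbU hzU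
  have hkv := kv_eq U hU z b hzU hbU hzz hbb hbz' hz1 hb1 (Ne.symm hbz)
  have hcb : x * b * x⁻¹ ∈ U := (hN b).mp hbU
  rw [← hkv, mem_kv] at hcb
  have hcmul : ∀ g k : Γ, x * (g * k) * x⁻¹ = (x * g * x⁻¹) * (x * k * x⁻¹) := by
    intro g k; group
  have hc3 : ∀ g : Γ, x * (x * (x * g * x⁻¹) * x⁻¹) * x⁻¹ = g := by
    intro g
    calc x * (x * (x * g * x⁻¹) * x⁻¹) * x⁻¹ = (x * x * x) * g * (x * x * x)⁻¹ := by group
      _ = g := by rw [hx3]; group
  rcases hcb with h1 | h1 | h1 | h1
  · apply hb1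
    have e1 := hc3 b
    rw [h1] at e1
    rw [← e1]; group
  · apply hbz
    have e1 := hc3 b
    rw [h1, hcz, hcz] at e1
    exact e1.symm
  · rw [← hkv, mem_kv] at haU
    rcases haU with e | e | e | e
    · apply hxa; rw [e]; group
    · apply hxa; rw [e]; exact hcz
    · apply hxa; rw [e]; exact h1
    · apply hxa; rw [e, hcmul z b, hcz, h1]
  · have e1 := hc3 b
    rw [h1, hcmul z b, hcz, h1, show z * (z * b) = b by rw [← mul_assoc, hzz, one_mul]] at e1
    have e2 : z * b = b := h1.symm.trans e1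
    apply hz1
    calc z = (z * b) * b⁻¹ := by group
      _ = b * b⁻¹ := by rw [e2]
      _ = 1 := mul_inv_cancel b

end Cfsg.Agent.Lib.Helper6.ZfT
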