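import Mathlib
import Cfsg.Agent.Lib.Helper6.ZfTA

/-! Zassenhaus' theorem on perfect fixed-point-free groups, part T, file B: existence and
uniqueness of special four-groups in `Γ = G / ⟨t⟩`. -/

set_option autoImplicit false
set_option maxHeartbeats 1000000

namespace Cfsg.Agent.Lib.Helper6.ZfT

open Cfsg.Agent.Lib.Helper7 Cfsg.Agent.Lib.Helper5.KleinPairs Cfsg.Agent.Lib.Helper5.S4Rec

variable {G Γ : Type*} [Group G] [Group Γ] {q : G →* Γ} {t : G}

/-- existence of special four-groups -/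
theorem exE (h : Cover q t)
    (exq : ∀ x y : G, orderOf x = 3 → orderOf y = 3 →
      Subgroup.zpowers x ≠ Subgroup.zpowers y →
      ∃ u x₁ : G, orderOf u = 4 ∧ orderOf x₁ = 3 ∧
        (x₁ * u * x₁⁻¹) * u * (x₁ * u * x₁⁻¹)⁻¹ = u⁻¹)
    (x y : Γ) (hx : orderOf x = 3) (hy : orderOf y = 3)
    (hxy : Subgroup.zpowers x ≠ Subgroup.zpowers y) : ∃ U : Subgroup Γ, Zf.Special U := by
  obtain ⟨x', hqx, hx'⟩ := h.exists_lift_three x hx
  obtain ⟨y', hqy, hy'⟩ := h.exists_lift_three y hy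
  have hne : Subgroup.zpowers x' ≠ Subgroup.zpowers y' := by
    intro heq
    apply hxy
    have := congrArg (Subgroup.map q) heq
    rwa [MonoidHom.map_zpowers, MonoidHom.map_zpowers, hqx, hqy] at this
  obtain ⟨u, x₁, hu, hx₁, hrel⟩ := exq x' y' hx' hy' hne
  obtain ⟨v, hv⟩ : ∃ v : G, v = x₁ * u * x₁⁻¹ := ⟨_, rfl⟩
  obtain ⟨w, hw⟩ : ∃ w : G, w = x₁ * v * x₁⁻¹ := ⟨_, rfl⟩
  rw [← hv] at hrel
  have hx₁3 : x₁ * x₁ * x₁ = 1 := by
    have := pow_orderOf_eq_one x₁
    rw [hx₁, pow_succ, pow_two] at this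
    exact this
  have hxw : x₁ * w * x₁⁻¹ = u := by
    rw [hw, hv]
    calc x₁ * (x₁ * (x₁ * u * x₁⁻¹) * x₁⁻¹) * x₁⁻¹
        = (x₁ * x₁ * x₁) * u * (x₁ * x₁ * x₁)⁻¹ := by group
      _ = u := by rw [hx₁3]; group
  -- squares
  have hu2 : u * u = t := h.sq_of_four hu
  have hv2 : v * v = t := by rw [hv]; exact h.conj_sq x₁ hu2
  have hw2 : w * w = t := by rw [hw]; exact h.conj_sq x₁ hv2
  obtain ⟨hA1, hA2⟩ := h.invol_of_sq hu2
  obtain ⟨hB1, hB2⟩ := h.invol_of_sq hv2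
  obtain ⟨hC1, hC2⟩ := h.invol_of_sq hw2
  -- the images
  obtain ⟨X, hX⟩ : ∃ X : Γ, X = q x₁ := ⟨_, rfl⟩
  have hqv : q v = X * q u * X⁻¹ := by rw [hv, map_mul, map_mul, map_inv, hX]
  have hqw : q w = X * q v * X⁻¹ := by rw [hw, map_mul, map_mul, map_inv, hX]
  have hqu : q u = X * q w * X⁻¹ := by rw [← hxw, map_mul, map_mul, map_inv, hX]
  have hXo : orderOf X = 3 := by rw [hX]; exact h.orderOf_map_three hx₁
  have hX3 : X * X * X = 1 := by
    have := pow_orderOf_eq_one X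
    rw [hXo, pow_succ, pow_two] at this
    exact this
  have hAi : (q u)⁻¹ = q u := inv_eq_of_mul_eq_one_left hA2
  -- commutation
  have cAB : q u * q v = q v * q u := by
    have h1 : q v * q u * (q v)⁻¹ = q u := by
      rw [← map_inv, ← map_mul, ← map_mul, hrel, map_inv, hAi]
    exact (mul_inv_eq_iff_eq_mul.mp h1).symm
  have cBC : q v * q w = q w * q v := by
    calc q v * q w = (X * q u * X⁻¹) * (X * q v * X⁻¹) := by rw [← hqv, ← hqw]
      _ = X * (q u * q v) * X⁻¹ := by group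
      _ = X * (q v * q u) * X⁻¹ := by rw [cAB]
      _ = (X * q v * X⁻¹) * (X * q u * X⁻¹) := by group
      _ = q w * q v := by rw [← hqv, ← hqw]
  have cCA : q w * q u = q u * q w := by
    calc q w * q u = (X * q v * X⁻¹) * (X * q w * X⁻¹) := by rw [← hqw, ← hqu]
      _ = X * (q v * q w) * X⁻¹ := by group
      _ = X * (q w * q v) * X⁻¹ := by rw [cBC]
      _ = (X * q w * X⁻¹) * (X * q v * X⁻¹) := by group
      _ = q u * q w := by rw [← hqw, ← hqu]
  -- `q u ≠ q v`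
  have hAB : q u ≠ q v := by
    intro e
    have h1 : v * u * v⁻¹ = u := by
      rcases h.eq_or e.symm with e1 | e1
      · rw [e1]; group
      · rw [e1]
        calc t * u * u * (t * u)⁻¹ = t * u * t⁻¹ := by group
          _ = u * t * t⁻¹ := by rw [← h.cen u]
          _ = u := by group
    rw [h1] at hrel
    have h2 : u * u = 1 := by
      calc u * u = u * u⁻¹ := by rw [← hrel]
        _ = 1 := mul_inv_cancel u
    rw [h2] at hu2
    exact h.ne hu2.symm
  -- `q w = q u * q v`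
  have hCAB : q w = q u * q v := by
    by_contra hne3
    by_cases hCA : q w = q u
    · apply hAB
      have e1 := hqu
      rw [hCA, ← hqv] at e1
      exact e1
    · by_cases hCB : q w = q v
      · apply hAB
        have e1 : X * q v * X⁻¹ = X * q u * X⁻¹ := by rw [← hqw, ← hqv, hCB]
        have e2 : q v = q u := by simpa using e1
        exact e2.symm
      · exact h.no_fourth hA1 hA2 hB1 hB2 hC1 hC2 hAB cAB cCA.symm cBC hCA hCB hne3
  -- the four-group
  have hBA : q v * q u = q u * q v := cAB.symm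
  refine ⟨kv (q u) (q v) hA2 hB2 hBA, isKleinFour_kv _ _ hA2 hB2 hBA hA1 hB1 hAB, X, hXo, ?_,
    q u, left_mem_kv _ _ hA2 hB2 hBA, ?_⟩
  · have hfwd : ∀ g ∈ kv (q u) (q v) hA2 hB2 hBA, X * g * X⁻¹ ∈ kv (q u) (q v) hA2 hB2 hBA := by
      intro g hg
      rw [mem_kv] at hg ⊢
      rcases hg with e | e | e | e
      · left; rw [e]; group
      · right; right; left; rw [e, hqv]
      · right; right; right; rw [e, ← hqw, hCAB]
      · right; left
        rw [e]
        calc X * (q u * q v) * X⁻¹ = (X * q u * X⁻¹) * (X * q v * X⁻¹) := by group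
          _ = q v * q w := by rw [← hqv, ← hqw]
          _ = q v * (q u * q v) := by rw [hCAB]
          _ = (q v * q u) * q v := by group
          _ = (q u * q v) * q v := by rw [hBA]
          _ = q u * (q v * q v) := by group
          _ = q u := by rw [hB2, mul_one]
    rw [Subgroup.mem_normalizer_iff]
    intro g
    constructor
    · exact hfwd g
    · intro hg
      have h1 := hfwd _ (hfwd _ hg)
      have h2 : X * (X * (X * g * X⁻¹) * X⁻¹) * X⁻¹ = g := by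
        calc X * (X * (X * g * X⁻¹) * X⁻¹) * X⁻¹ = (X * X * X) * g * (X * X * X)⁻¹ := by group
          _ = g := by rw [hX3]; group
      rw [h2] at h1
      exact h1
  · rw [← hqv]
    exact hAB.symm

/-- data of a special four-group through a given involution, lifted to `G` -/
theorem special_data [Finite Γ] (h : Cover q t) (U : Subgroup Γ) (hK : IsKleinFour U) (X : Γ)
    (hX : orderOf X = 3) (hXN : X ∈ Subgroup.normalizer (U : Set Γ)) (a : Γ) (haU : a ∈ U)
    (hXa : X * a * X⁻¹ ≠ a) (z : Γ) (hz1 : z ≠ 1) (hzU : z ∈ U) (u x : G) (hqu : q u = z)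
    (hqx : q x = X) :
    (x * u * x⁻¹) * u * (x * u * x⁻¹)⁻¹ = u⁻¹ ∧ q (x * u * x⁻¹) ∈ U ∧
      ∀ V : Subgroup Γ, z ∈ V → q (x * u * x⁻¹) ∈ V → U ≤ V := by
  have hX3 : X * X * X = 1 := by
    have := pow_orderOf_eq_one X
    rw [hX, pow_succ, pow_two] at this
    exact this
  have hzz : z * z = 1 := sq_of_mem U hK z hzU
  have hBU : X * z * X⁻¹ ∈ U := (Subgroup.mem_normalizer_iff.mp hXN z).mp hzU
  have hBz : X * z * X⁻¹ ≠ z := klein_moves U hK X hX3 hXN a haU hXa z hzU hz1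
  have hB1 : X * z * X⁻¹ ≠ 1 := by
    intro e
    exact hz1 (conj_eq_one_iff.mp e)
  have hB2 := sq_of_mem U hK _ hBU
  have hcomm : z * (X * z * X⁻¹) = (X * z * X⁻¹) * z := comm_of_mem U hK _ _ hzU hBU
  have hqv : q (x * u * x⁻¹) = X * z * X⁻¹ := by
    rw [map_mul, map_mul, map_inv, hqx, hqu]
  have hA1 : q u ≠ 1 := by rw [hqu]; exact hz1
  have hA2 : q u * q u = 1 := by rw [hqu]; exact hzz
  refine ⟨?_, ?_, ?_⟩
  · apply h.conj_inv hA1 hA2
    · rw [hqv]; exact hB1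
    · rw [hqv]; exact hB2
    · rw [hqv, hqu]; exact Ne.symm hBz
    · rw [hqv, hqu]; exact hcomm
  · rw [hqv]; exact hBU
  · intro V hzV hvV
    rw [hqv] at hvV
    have hkv := kv_eq U hK z (X * z * X⁻¹) hzU hBU hzz hB2 hcomm.symm hz1 hB1 (Ne.symm hBz)
    intro g hg
    rw [← hkv, mem_kv] at hg
    rcases hg with e | e | e | e
    · rw [e]; exact one_mem V
    · rw [e]; exact hzV
    · rw [e]; exact hvV
    · rw [e]; exact mul_mem hzV hvV

/-- uniqueness of special four-groups through an involution -/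
theorem uniq [Finite Γ] (h : Cover q t)
    (unq : ∀ u x x' : G, orderOf u = 4 → orderOf x = 3 → orderOf x' = 3 →
      (x * u * x⁻¹) * u * (x * u * x⁻¹)⁻¹ = u⁻¹ →
      (x' * u * x'⁻¹) * u * (x' * u * x'⁻¹)⁻¹ = u⁻¹ →
      x' * u * x'⁻¹ ∈ Subgroup.closure ({u, x * u * x⁻¹} : Set G))
    (U U' : Subgroup Γ) (hU : Zf.Special U) (hU' : Zf.Special U')
    (hz : ∃ z : Γ, z ≠ 1 ∧ z ∈ U ∧ z ∈ U') : U = U' := by
  obtain ⟨z, hz1, hzU, hzU'⟩ := hz
  obtain ⟨hK, X, hX, hXN, a, haU, hXa⟩ := hU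
  obtain ⟨hK', X', hX', hXN', a', haU', hXa'⟩ := hU'
  obtain ⟨u, hqu⟩ := h.surj z
  obtain ⟨x, hqx, hxo⟩ := h.exists_lift_three X hX
  obtain ⟨x', hqx', hxo'⟩ := h.exists_lift_three X' hX'
  have hzz : z * z = 1 := sq_of_mem U hK z hzU
  have hA1 : q u ≠ 1 := by rw [hqu]; exact hz1
  have hA2 : q u * q u = 1 := by rw [hqu]; exact hzz
  obtain ⟨huo, -⟩ := h.four hA1 hA2
  obtain ⟨hrel, hvU, -⟩ := special_data h U hK X hX hXN a haU hXa z hz1 hzU u x hqu hqx
  obtain ⟨hrel', -, hle'⟩ :=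
    special_data h U' hK' X' hX' hXN' a' haU' hXa' z hz1 hzU' u x' hqu hqx'
  have hmem := unq u x x' huo hxo hxo' hrel hrel'
  have hcl : Subgroup.closure ({u, x * u * x⁻¹} : Set G) ≤ U.comap q := by
    rw [Subgroup.closure_le]
    intro g hg
    rcases hg with e | e
    · rw [e]
      change q u ∈ U
      rw [hqu]; exact hzU
    · rw [Set.mem_singleton_iff] at e
      rw [e]
      exact hvU
  have hv'U : q (x' * u * x'⁻¹) ∈ U := hcl hmem
  have hle : U' ≤ U := hle' U hzU hv'U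
  have heq : U' = U := by
    apply Subgroup.eq_of_le_of_card_ge hle
    rw [hK.card_four, hK'.card_four]
  exact heq.symm

/-- Part T: transport of the two statements on quaternion pairs to `Γ`. -/
theorem transport {G Γ : Type*} [Group G] [Finite G] [Group Γ] (q : G →* Γ)
    (hq : Function.Surjective q) (t : G) (ht : t ≠ 1) (htt : t * t = 1)
    (hker : ∀ g : G, q g = 1 ↔ g = 1 ∨ g = t) (hinv : ∀ s : G, s * s = 1 → s = 1 ∨ s = t)
    (hcen : ∀ g : G, g * t = t * g)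
    (hc4 : ∀ u v : G, orderOf u = 4 → orderOf v = 4 → u * v = v * u → v = u ∨ v = u⁻¹)
    (exq : ∀ x y : G, orderOf x = 3 → orderOf y = 3 →
      Subgroup.zpowers x ≠ Subgroup.zpowers y →
      ∃ u x₁ : G, orderOf u = 4 ∧ orderOf x₁ = 3 ∧
        (x₁ * u * x₁⁻¹) * u * (x₁ * u * x₁⁻¹)⁻¹ = u⁻¹)
    (unq : ∀ u x x' : G, orderOf u = 4 → orderOf x = 3 → orderOf x' = 3 →
      (x * u * x⁻¹) * u * (x * u * x⁻¹)⁻¹ = u⁻¹ →
      (x' * u * x'⁻¹) * u * (x' * u * x'⁻¹)⁻¹ = u⁻¹ →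
      x' * u * x'⁻¹ ∈ Subgroup.closure ({u, x * u * x⁻¹} : Set G)) :
    (∀ x y : Γ, orderOf x = 3 → orderOf y = 3 → Subgroup.zpowers x ≠ Subgroup.zpowers y →
      ∃ U : Subgroup Γ, Zf.Special U) ∧
    (∀ U U' : Subgroup Γ, Zf.Special U → Zf.Special U' →
      (∃ z : Γ, z ≠ 1 ∧ z ∈ U ∧ z ∈ U') → U = U') := by
  have h : Cover q t := ⟨hq, ht, htt, hker, hinv, hcen, hc4⟩
  haveI : Finite Γ := Finite.of_surjective q hq
  exact ⟨fun x y hx hy hxy => exE h exq x y hx hy hxy,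
    fun U U' hU hU' hz => uniq h unq U U' hU hU' hz⟩

end Cfsg.Agent.Lib.Helper6.ZfT
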